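import Cfsg.Agent.Lib.FusionSystem.Saturated
import Cfsg.Agent.Lib.LocalEven.SylowIn
/-
The fusion system of a finite group on a Sylow subgroup: maps, automizers, Sylow conditions, saturation.
-/
set_option autoImplicit false

namespace CfsgLib.Fsys

open Cfsg
open Cfsg.FusionSystem (centralizerIn normalizerIn extender)
open CfsgLib.LocalEven.SylowIn (IsSylowIn)
open scoped Pointwise

variable {G : Type*} [Group G] {S : Subgroup G} {P Q : Subgroup G}

theorem group_mem_hom {φ : P →* G} :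
    φ ∈ (groupFusionSystem S).Hom P ↔
      P ≤ S ∧ (∀ x : P, φ x ∈ S) ∧ ∃ g : G, ∀ x : P, φ x = g * (x : G) * g⁻¹ := Iff.rfl

theorem fn_group_iff {f : G → G} :
    Fn (groupFusionSystem S) P f ↔
      P ≤ S ∧ (∀ x ∈ P, f x ∈ S) ∧ ∃ g : G, ∀ x ∈ P, f x = g * x * g⁻¹ := by
  constructor
  · rintro ⟨φ, ⟨hP, hφS, g, hg⟩, hφf⟩
    exact ⟨hP, fun x hx => hφf ⟨x, hx⟩ ▸ hφS ⟨x, hx⟩, g, fun x hx => (hφf ⟨x, hx⟩).symm.trans (hg ⟨x, hx⟩)⟩
  · rintro ⟨hP, hf, g, hg⟩
    exact ⟨conjHom P g, ⟨hP, fun x => show g * (x : G) * g⁻¹ ∈ S from hg x x.2 ▸ hf x x.2, g, fun x => rfl⟩,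
      fun x => (hg x x.2).symm⟩

theorem fn_group_conj (hP : P ≤ S) (g : G) (h : ∀ x ∈ P, g * x * g⁻¹ ∈ S) :
    Fn (groupFusionSystem S) P (fun x => g * x * g⁻¹) :=
  fn_group_iff.2 ⟨hP, h, g, fun _ _ => rfl⟩

theorem img_conj (P : Subgroup G) (g : G) :
    img (fun x => g * x * g⁻¹) P = P.map (MulAut.conj g).toMonoidHom := by
  refine le_antisymm (img_le fun x hx => ⟨x, hx, rfl⟩) ?_
  rintro _ ⟨x, hx, rfl⟩
  exact mem_img_of_mem (f := fun x => g * x * g⁻¹) hx

theorem group_isConj_iff : (groupFusionSystem S).IsConj P Q ↔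
    P ≤ S ∧ Q ≤ S ∧ ∃ g : G, P.map (MulAut.conj g).toMonoidHom = Q := by
  constructor
  · intro h
    refine ⟨isConj_le_left h, isConj_le_right h, ?_⟩
    obtain ⟨f, hf, rfl⟩ := isConj_iff.1 h
    obtain ⟨-, -, g, hg⟩ := fn_group_iff.1 hf
    exact ⟨g, ((img_congr hg).trans (img_conj P g)).symm⟩
  · rintro ⟨hP, hQ, g, rfl⟩
    exact isConj_iff.2 ⟨_, fn_group_conj hP g fun x hx => hQ ⟨x, hx, rfl⟩, img_conj P g⟩

theorem group_autGroup (hP : P ≤ S) :
    (groupFusionSystem S).autGroup P = autInducedBy ⊤ P := by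
  ext α
  rw [mem_autGroup hP, mem_autInducedBy, group_mem_hom]
  exact ⟨fun ⟨_, _, g, hg⟩ => ⟨g, trivial, hg⟩, fun ⟨g, _, hg⟩ => ⟨hP, fun x => hP (α x).2, g, hg⟩⟩

theorem autInducedBy_top (P : Subgroup G) :
    autInducedBy ⊤ P = (P.normalizerMonoidHom).range := by
  rw [autInducedBy_eq_map, MonoidHom.range_eq_map, Subgroup.top_subgroupOf]

theorem exists_sylow_iff {A K : Subgroup G} {p : ℕ} (hA : A ≤ K) :
    (∃ R : Sylow p K, (R : Subgroup K) = A.subgroupOf K) ↔ IsSylowIn p A K := by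
  constructor
  · rintro ⟨R, hR⟩
    have := IsSylowIn.of_map_subtype R
    rwa [hR, Subgroup.map_subgroupOf_eq_of_le hA] at this
  · exact fun h => ⟨h.toSylow, rfl⟩

theorem centralizerIn_le_centralizer : centralizerIn S P ≤ Subgroup.centralizer (P : Set G) :=
  inf_le_right

theorem normalizerIn_le_normalizer : normalizerIn S P ≤ Subgroup.normalizer (P : Set G) :=
  inf_le_right

variable [Finite G] {p : ℕ} [Fact p.Prime]

theorem sylow_conjugate_into {A K B : Subgroup G} (hA : IsSylowIn p A K) (hB : B ≤ K)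
    (hBp : IsPGroup p B) : ∃ k ∈ K, B.map (MulAut.conj k).toMonoidHom ≤ A := by
  obtain ⟨T, hT, hBT⟩ := CfsgLib.LocalEven.SylowIn.exists_isSylowIn K hB hBp
  obtain ⟨k, hk, rfl⟩ := hT.conjugate hA
  exact ⟨k, hk, Subgroup.map_mono hBT⟩

theorem sylow_card_ge {A K B : Subgroup G} (hA : IsSylowIn p A K) (hB : B ≤ K)
    (hBp : IsPGroup p B) : Nat.card B ≤ Nat.card A := by
  obtain ⟨k, hk, h⟩ := sylow_conjugate_into hA hB hBp
  rw [← Subgroup.card_map_of_injective (f := (MulAut.conj k).toMonoidHom) (MulAut.conj k).injective]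
  exact Subgroup.card_le_of_le h

/-- A Sylow subgroup meets a normalized subgroup in a Sylow subgroup. -/
theorem isSylowIn_inf {A K N : Subgroup G} (hA : IsSylowIn p A K) (hN : N ≤ K)
    (hKN : K ≤ Subgroup.normalizer (N : Set G)) : IsSylowIn p (A ⊓ N) N := by
  refine ⟨inf_le_right, hA.2.1.to_le inf_le_left, fun U hU hUp hle => ?_⟩
  obtain ⟨k, hk, hkU⟩ := sylow_conjugate_into hA (hU.trans hN) hUp
  have h : U.map (MulAut.conj k).toMonoidHom ≤ A ⊓ N :=
    le_inf hkU fun _ ⟨x, hx, e⟩ => e ▸ (Subgroup.mem_normalizer_iff.1 (hKN hk) x).1 (hU hx)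
  refine (Subgroup.eq_of_le_of_card_ge hle ?_).symm
  rw [← Subgroup.card_map_of_injective (K := U) (f := (MulAut.conj k).toMonoidHom) (MulAut.conj k).injective]
  exact Subgroup.card_le_of_le h

variable (T : Sylow p G)

theorem isPGroup_normalizerIn : IsPGroup p (normalizerIn (T : Subgroup G) P) := T.2.to_le inf_le_left

theorem isPGroup_centralizerIn : IsPGroup p (centralizerIn (T : Subgroup G) P) := T.2.to_le inf_le_left

/-- Every subgroup has a conjugate whose normalizer in `S` is a Sylow subgroup of its normalizer. -/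
theorem exists_conj_sylow_normalizer (hP : P ≤ T) :
    ∃ g : G, P.map (MulAut.conj g).toMonoidHom ≤ T ∧
      IsSylowIn p (normalizerIn (T : Subgroup G) (P.map (MulAut.conj g).toMonoidHom))
        (Subgroup.normalizer ((P.map (MulAut.conj g).toMonoidHom : Subgroup G) : Set G)) := by
  obtain ⟨R, hR, hPR⟩ := CfsgLib.LocalEven.SylowIn.exists_isSylowIn
    (Subgroup.normalizer (P : Set G)) Subgroup.le_normalizer (T.2.to_le hP)
  obtain ⟨T', hRT'⟩ := hR.2.1.exists_le_sylow
  obtain ⟨g, hg⟩ := MulAction.exists_smul_eq G T' T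
  have hRg : R.map (MulAut.conj g).toMonoidHom ≤ T := hg ▸ (Subgroup.map_mono hRT')
  refine ⟨g, (Subgroup.map_mono hPR).trans hRg, ?_⟩
  have h := hR.map_conj g
  rw [← CfsgLib.LocalEven.SylowIn.normalizer_map_conj] at h
  have e := h.2.2 _ normalizerIn_le_normalizer (isPGroup_normalizerIn T) (le_inf hRg h.1)
  rwa [e]

theorem card_normalizer_of_conj {g : G} :
    Nat.card (Subgroup.normalizer ((P.map (MulAut.conj g).toMonoidHom : Subgroup G) : Set G)) =
      Nat.card (Subgroup.normalizer (P : Set G)) := by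
  rw [CfsgLib.LocalEven.SylowIn.normalizer_map_conj]
  exact Subgroup.card_map_of_injective (MulAut.conj g).injective

theorem group_fullyNormalized_iff (hP : P ≤ T) :
    (groupFusionSystem (T : Subgroup G)).IsFullyNormalized P ↔
      IsSylowIn p (normalizerIn (T : Subgroup G) P) (Subgroup.normalizer (P : Set G)) := by
  constructor
  · intro h
    obtain ⟨g, hg, hgR⟩ := exists_conj_sylow_normalizer T hP
    have hcard := h.2 _ (group_isConj_iff.2 ⟨hP, hg, g, rfl⟩)
    refine ⟨normalizerIn_le_normalizer, isPGroup_normalizerIn T, fun U hU hUp hle => ?_⟩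
    refine (Subgroup.eq_of_le_of_card_ge hle (le_trans ?_ hcard)).symm
    rw [← Subgroup.card_map_of_injective (K := U) (f := (MulAut.conj g).toMonoidHom) (MulAut.conj g).injective]
    refine sylow_card_ge hgR ?_ (hUp.map _)
    rw [CfsgLib.LocalEven.SylowIn.normalizer_map_conj]
    exact Subgroup.map_mono hU
  · intro h
    refine ⟨hP, fun Q hQ => ?_⟩
    obtain ⟨-, -, g, rfl⟩ := group_isConj_iff.1 hQ
    have := (h.map_conj g)
    rw [← CfsgLib.LocalEven.SylowIn.normalizer_map_conj] at this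
    refine (sylow_card_ge this normalizerIn_le_normalizer (isPGroup_normalizerIn T)).trans ?_
    rw [Subgroup.card_map_of_injective (MulAut.conj g).injective]

theorem centralizer_normal_in_normalizer (P : Subgroup G) :
    Subgroup.normalizer (P : Set G) ≤ Subgroup.normalizer ((Subgroup.centralizer (P : Set G) : Subgroup G) : Set G) := by
  refine CfsgLib.LocalEven.SylowIn.le_normalizer_of_map_conj fun g hg => ?_
  have h : ∀ k : G, k ∈ Subgroup.normalizer (P : Set G) →
      (Subgroup.centralizer (P : Set G)).map (MulAut.conj k).toMonoidHom ≤ Subgroup.centralizer (P : Set G) := by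
    rintro k hk _ ⟨c, hc, rfl⟩ x hx
    have := hc _ ((mem_normalizer_iff'.1 hk).2 x hx)
    show x * (k * c * k⁻¹) = k * c * k⁻¹ * x
    calc x * (k * c * k⁻¹) = k * (k⁻¹ * x * k * c) * k⁻¹ := by group
      _ = k * (c * (k⁻¹ * x * k)) * k⁻¹ := by rw [this]
      _ = k * c * k⁻¹ * x := by group
  exact le_antisymm (h g hg) fun c hc => ⟨g⁻¹ * c * g,
    by simpa using h g⁻¹ (Subgroup.inv_mem _ hg) ⟨c, hc, rfl⟩, by simp [mul_assoc]⟩

theorem centralizerIn_eq_inf : centralizerIn (T : Subgroup G) P =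
    normalizerIn (T : Subgroup G) P ⊓ Subgroup.centralizer (P : Set G) :=
  le_antisymm (le_inf centralizerIn_le_normalizerIn centralizerIn_le_centralizer)
    (inf_le_inf inf_le_left le_rfl)

theorem sylow_centralizer_of_normalizer
    (h : IsSylowIn p (normalizerIn (T : Subgroup G) P) (Subgroup.normalizer (P : Set G))) :
    IsSylowIn p (centralizerIn (T : Subgroup G) P) (Subgroup.centralizer (P : Set G)) := by
  rw [centralizerIn_eq_inf]
  exact isSylowIn_inf h (Subgroup.centralizer_le_normalizer _) (centralizer_normal_in_normalizer P)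

theorem centralizer_map_conj' (P : Subgroup G) (g : G) :
    Subgroup.centralizer ((P.map (MulAut.conj g).toMonoidHom : Subgroup G) : Set G) =
      (Subgroup.centralizer (P : Set G)).map (MulAut.conj g).toMonoidHom := by
  rw [Subgroup.coe_map]
  apply le_antisymm
  · intro x hx
    refine ⟨g⁻¹ * x * g, fun y hy => ?_, by simp [mul_assoc]⟩
    have := hx _ ⟨y, hy, rfl⟩
    simp only [MulEquiv.coe_toMonoidHom, MulAut.conj_apply] at this
    calc y * (g⁻¹ * x * g) = g⁻¹ * (g * y * g⁻¹ * x) * g := by group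
      _ = g⁻¹ * (x * (g * y * g⁻¹)) * g := by rw [this]
      _ = g⁻¹ * x * g * y := by group
  · rintro _ ⟨c, hc, rfl⟩ _ ⟨y, hy, rfl⟩
    have e := congrArg (fun z => g * z * g⁻¹) (hc y hy)
    simpa [mul_assoc] using e

theorem group_fullyCentralized_iff (hP : P ≤ T) :
    (groupFusionSystem (T : Subgroup G)).IsFullyCentralized P ↔
      IsSylowIn p (centralizerIn (T : Subgroup G) P) (Subgroup.centralizer (P : Set G)) := by
  constructor
  · intro h
    obtain ⟨g, hg, hgR⟩ := exists_conj_sylow_normalizer T hP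
    have hC := sylow_centralizer_of_normalizer T hgR
    have hcard := h.2 _ (group_isConj_iff.2 ⟨hP, hg, g, rfl⟩)
    refine ⟨centralizerIn_le_centralizer, isPGroup_centralizerIn T, fun U hU hUp hle => ?_⟩
    refine (Subgroup.eq_of_le_of_card_ge hle (le_trans ?_ hcard)).symm
    rw [← Subgroup.card_map_of_injective (K := U) (f := (MulAut.conj g).toMonoidHom) (MulAut.conj g).injective]
    refine sylow_card_ge hC ?_ (hUp.map _)
    rw [centralizer_map_conj']
    exact Subgroup.map_mono hU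
  · intro h
    refine ⟨hP, fun Q hQ => ?_⟩
    obtain ⟨-, -, g, rfl⟩ := group_isConj_iff.1 hQ
    have := (h.map_conj g)
    rw [← centralizer_map_conj'] at this
    refine (sylow_card_ge this centralizerIn_le_centralizer (isPGroup_centralizerIn T)).trans ?_
    rw [Subgroup.card_map_of_injective (MulAut.conj g).injective]

theorem autInducedBy_sylow (hR : IsSylowIn p (normalizerIn (T : Subgroup G) P) (Subgroup.normalizer (P : Set G))) :
    ∃ R : Sylow p (autInducedBy ⊤ P),
      (R : Subgroup (autInducedBy ⊤ P)) =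
        (autInducedBy (T : Subgroup G) P).subgroupOf (autInducedBy ⊤ P) := by
  rw [autInducedBy_top]
  refine ⟨hR.toSylow.mapSurjective (MonoidHom.rangeRestrict_surjective _), ?_⟩
  rw [autInducedBy_eq_map]
  refine Subgroup.map_injective (Subgroup.subtype_injective _) ?_
  rw [Subgroup.map_subgroupOf_eq_of_le (Subgroup.map_le_range _ _)]
  show (((normalizerIn (T : Subgroup G) P).subgroupOf (Subgroup.normalizer (P : Set G))).map
    P.normalizerMonoidHom.rangeRestrict).map (Subgroup.subtype _) = _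
  rw [Subgroup.map_map, MonoidHom.subtype_comp_rangeRestrict]
  congr 1
  exact Subgroup.inf_subgroupOf_right _ _

theorem exists_centralizer_conj_le (hQ : Q ≤ T)
    (hR : IsSylowIn p (normalizerIn (T : Subgroup G) Q) (Subgroup.normalizer (Q : Set G)))
    {B : Subgroup G} (hBp : IsPGroup p B)
    (hB : B ≤ normalizerIn (T : Subgroup G) Q ⊔ Subgroup.centralizer (Q : Set G)) :
    ∃ c ∈ Subgroup.centralizer (Q : Set G),
      B.map (MulAut.conj c).toMonoidHom ≤ normalizerIn (T : Subgroup G) Q := by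
  let M := normalizerIn (T : Subgroup G) Q ⊔ Subgroup.centralizer (Q : Set G)
  have hM : M ≤ Subgroup.normalizer (Q : Set G) :=
    sup_le normalizerIn_le_normalizer (Subgroup.centralizer_le_normalizer _)
  have hRM : IsSylowIn p (normalizerIn (T : Subgroup G) Q) M :=
    ⟨le_sup_left, hR.2.1, fun U hU hUp hle => hR.2.2 U (hU.trans hM) hUp hle⟩
  obtain ⟨m, hm, hmB⟩ := sylow_conjugate_into hRM hB hBp
  have hm' : m ∈ ((normalizerIn (T : Subgroup G) Q : Subgroup G) : Set G) *
      ((Subgroup.centralizer (Q : Set G) : Subgroup G) : Set G) := by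
    rw [← Subgroup.coe_mul_of_left_le_normalizer_right]
    · exact hm
    · exact normalizerIn_le_normalizer.trans (centralizer_normal_in_normalizer Q)
  obtain ⟨s, hs, c, hc, rfl⟩ := hm'
  refine ⟨c, hc, ?_⟩
  rintro _ ⟨b, hb, rfl⟩
  have hmem := hmB ⟨b, hb, rfl⟩
  have := Subgroup.mul_mem _ (Subgroup.mul_mem _ (Subgroup.inv_mem _ hs) hmem) hs
  simpa [mul_assoc] using this

theorem group_receptive (hQ : Q ≤ T)
    (hR : IsSylowIn p (normalizerIn (T : Subgroup G) Q) (Subgroup.normalizer (Q : Set G))) :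
    (groupFusionSystem (T : Subgroup G)).IsReceptive Q := by
  refine receptive_of_extend hQ fun P f hf hfi => ?_
  obtain ⟨hP, hfS, g, hg⟩ := fn_group_iff.1 hf
  let N : Subgroup G := Subgroup.closure {n | InExt (T : Subgroup G) P f n}
  have hNT : N ≤ (T : Subgroup G) := (Subgroup.closure_le _).2 fun n hn => hn.1
  have hB : N.map (MulAut.conj g).toMonoidHom ≤
      normalizerIn (T : Subgroup G) Q ⊔ Subgroup.centralizer (Q : Set G) := by
    rw [Subgroup.map_le_iff_le_comap, Subgroup.closure_le]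
    rintro n ⟨hnT, hnP, h, hh, hx⟩
    have hhQ : h ∈ normalizerIn (T : Subgroup G) Q := by
      refine ⟨hh, mem_normalizer_of_map_le fun y hy => ?_⟩
      obtain ⟨x, hxP, rfl⟩ := hf.mem_img.1 (hfi.ge hy)
      rw [← hx x hxP]
      exact hfi.le (mem_img_of_mem ((mem_normalizer_iff'.1 hnP).1 x hxP))
    have hc : h⁻¹ * (g * n * g⁻¹) ∈ Subgroup.centralizer (Q : Set G) := fun y hy => by
      obtain ⟨x, hxP, rfl⟩ := hf.mem_img.1 (hfi.ge hy)
      have e := hx x hxP
      rw [hg _ ((mem_normalizer_iff'.1 hnP).1 x hxP), hg x hxP] at e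
      rw [hg x hxP]
      calc g * x * g⁻¹ * (h⁻¹ * (g * n * g⁻¹))
          = h⁻¹ * (h * (g * x * g⁻¹) * h⁻¹) * (g * n * g⁻¹) := by group
        _ = h⁻¹ * (g * (n * x * n⁻¹) * g⁻¹) * (g * n * g⁻¹) := by rw [e]
        _ = h⁻¹ * (g * n * g⁻¹) * (g * x * g⁻¹) := by group
    show g * n * g⁻¹ ∈ (normalizerIn (T : Subgroup G) Q ⊔ Subgroup.centralizer (Q : Set G) : Subgroup G)
    have := Subgroup.mul_mem (normalizerIn (T : Subgroup G) Q ⊔ Subgroup.centralizer (Q : Set G) : Subgroup G)
      (Subgroup.mem_sup_left hhQ) (Subgroup.mem_sup_right hc)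
    simpa using this
  obtain ⟨c, hc, hcB⟩ := exists_centralizer_conj_le T hQ hR ((T.2.to_le hNT).map _) hB
  refine ⟨fun x => (c * g) * x * (c * g)⁻¹, fun M hM => ?_, fun x hx => ?_⟩
  · have hMN : M ≤ N := fun x hx => Subgroup.subset_closure (hM x hx)
    refine fn_group_conj (fun x hx => (hM x hx).1) _ fun x hx => ?_
    have h : c * (g * x * g⁻¹) * c⁻¹ ∈ (T : Subgroup G) :=
      (hcB ⟨g * x * g⁻¹, ⟨x, hMN hx, rfl⟩, rfl⟩).1
    simpa [mul_assoc] using h
  · have e : g * x * g⁻¹ * c = c * (g * x * g⁻¹) := hc _ (hfi.le (hg x hx ▸ mem_img_of_mem hx))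
    rw [hg x hx]
    calc c * g * x * (c * g)⁻¹ = c * (g * x * g⁻¹) * c⁻¹ := by group
      _ = g * x * g⁻¹ * c * c⁻¹ := by rw [e]
      _ = g * x * g⁻¹ := by group

/-- The fusion system of a finite group on a Sylow subgroup is saturated. -/
theorem group_isSaturated : (groupFusionSystem (T : Subgroup G)).IsSaturated p := by
  intro P hP
  obtain ⟨g, hg, hR⟩ := exists_conj_sylow_normalizer T hP
  refine ⟨_, group_isConj_iff.2 ⟨hP, hg, g, rfl⟩, ⟨hg, ?_⟩, group_receptive T hg hR⟩
  rw [group_autGroup hg]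
  exact autInducedBy_sylow T hR

end CfsgLib.Fsys
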