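import Mathlib
import Cfsg.Prelude.Def_EvenType
import Cfsg.Agent.Lib.Solvable.Cores
/-
Strongly p-embedded subgroups, as defined through the 1-generated p-core.
-/
set_option autoImplicit false

namespace CfsgLib.Fsys

open Cfsg Pointwise

variable {X : Type*} [Group X] [Finite X] {p : ℕ} [Fact p.Prime]

theorem not_pRankLE_zero_iff {Q : Type*} [Group Q] [Finite Q] (hQ : IsPGroup p Q) :
    ¬ PRankLE p 0 Q ↔ Nontrivial Q := by
  constructor
  · intro h
    by_contra hn
    rw [not_nontrivial_iff_subsingleton] at hn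
    exact h fun A _ _ => by simp
  · intro hn h
    obtain ⟨x, hx⟩ := exists_prime_orderOf_dvd_card' (G := Q) p (hQ.nontrivial_iff_card.1 hn |>.elim
      fun k hk => hk.2 ▸ dvd_pow_self p hk.1.ne')
    have hc : IsMulCommutative (Subgroup.zpowers x) := inferInstance
    have := h (Subgroup.zpowers x) hc fun a ha => by
      obtain ⟨k, rfl⟩ := Subgroup.mem_zpowers_iff.1 ha
      rw [← zpow_natCast, ← zpow_mul, mul_comm, zpow_mul, zpow_natCast, ← hx, pow_orderOf_eq_one,
        one_zpow]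
    rw [Nat.card_zpowers, hx, pow_zero] at this
    exact absurd this (Fact.out : p.Prime).one_lt.not_ge

theorem kGeneratedCore_one_le_iff {T Y : Subgroup X} (hT : IsPGroup p T) :
    kGeneratedCore p 1 T ≤ Y ↔
      ∀ Q ≤ T, Q ≠ ⊥ → Subgroup.normalizer (Q : Set X) ≤ Y := by
  unfold kGeneratedCore
  rw [iSup_le_iff]
  constructor
  · intro h Q hQ hne
    exact h ⟨Q, hQ, (not_pRankLE_zero_iff (hT.to_le hQ)).2 ((Subgroup.nontrivial_iff_ne_bot _).2 hne)⟩
  · rintro h ⟨Q, hQ, hr⟩
    exact h Q hQ ((Subgroup.nontrivial_iff_ne_bot _).1 ((not_pRankLE_zero_iff (hT.to_le hQ)).1 hr))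

theorem exists_mem_inf_normalizer_not_mem {T D : Subgroup X} (hT : IsPGroup p T) (hD : D < T) :
    D < T ⊓ Subgroup.normalizer (D : Set X) := by
  have hnc := normalizerCondition_of_isNilpotent (h := hT.isNilpotent)
  have hlt : D.subgroupOf T < ⊤ := by
    rw [lt_top_iff_ne_top, Ne, Subgroup.subgroupOf_eq_top]
    exact hD.not_ge
  obtain ⟨x, hxN, hxD⟩ := SetLike.exists_of_lt (hnc _ hlt)
  refine lt_of_le_of_ne (le_inf hD.le Subgroup.le_normalizer) fun e => hxD ?_
  show (x : X) ∈ D
  rw [e]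
  refine ⟨x.2, Subgroup.mem_normalizer_iff.2 fun y => ?_⟩
  constructor
  · intro hy
    exact ((Subgroup.mem_normalizer_iff.1 hxN) ⟨y, hD.le hy⟩).1 hy
  · intro hy
    have hyT : y ∈ T := by
      have := T.mul_mem (T.mul_mem (T.inv_mem x.2) (hD.le hy)) x.2
      simpa [mul_assoc] using this
    exact ((Subgroup.mem_normalizer_iff.1 hxN) ⟨y, hyT⟩).2 hy

theorem card_lt_of_lt {A B : Subgroup X} (h : A < B) : Nat.card A < Nat.card B := by
  simpa only [SetLike.coe_sort_coe] using Set.Finite.card_lt_card (Set.toFinite (B : Set X)) h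

theorem sylow_coe_smul (g : X) (T : Sylow p X) :
    ((g • T : Sylow p X) : Subgroup X) = (T : Subgroup X).map (MulAut.conj g).toMonoidHom := rfl

/-- If `Y` contains the normalizers of the nontrivial subgroups of the Sylow subgroup `T`, an element
`g` with `T ∩ gTg⁻¹ ≠ 1` lies in `Y`. -/
theorem mem_of_inf_smul_ne_bot {Y : Subgroup X} (T : Sylow p X)
    (h : ∀ Q ≤ (T : Subgroup X), Q ≠ ⊥ → Subgroup.normalizer (Q : Set X) ≤ Y) {g : X}
    (hg : (T : Subgroup X) ⊓ (g • T : Sylow p X) ≠ ⊥) : g ∈ Y := by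
  have key : ∀ (n : ℕ) (T' : Sylow p X),
      Nat.card (T : Subgroup X) - Nat.card ((T : Subgroup X) ⊓ T' : Subgroup X) = n →
      (T : Subgroup X) ⊓ T' ≠ ⊥ → ∃ y ∈ Y, y • T = T' := by
    intro n
    induction n using Nat.strong_induction_on with
    | _ n ih =>
      intro T' hn hne
      by_cases hTT : (T : Subgroup X) ≤ T'
      · exact ⟨1, Y.one_mem, by rw [one_smul]; exact (Sylow.ext (T.3 T'.2 hTT)).symm⟩
      obtain ⟨D, hD⟩ : ∃ D, D = (T : Subgroup X) ⊓ T' := ⟨_, rfl⟩
      rw [← hD] at hn hne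
      have hDT : D < T := hD ▸ inf_lt_left.2 hTT
      have hDT' : D < T' := by
        refine lt_of_le_of_ne (hD ▸ inf_le_right) fun e => hTT ?_
        have hle : (T' : Subgroup X) ≤ T := e ▸ (hD ▸ inf_le_left)
        exact (T'.3 T.2 hle).le
      have h1 := exists_mem_inf_normalizer_not_mem T.2 hDT
      have h2 := exists_mem_inf_normalizer_not_mem T'.2 hDT'
      let N := Subgroup.normalizer (D : Set X)
      obtain ⟨U, hU⟩ := ((T.2.to_le (inf_le_left : (T : Subgroup X) ⊓ N ≤ T)).comap_of_injective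
        N.subtype (Subgroup.subtype_injective _)).exists_le_sylow
      obtain ⟨U₁, hU₁⟩ := ((T'.2.to_le (inf_le_left : (T' : Subgroup X) ⊓ N ≤ T')).comap_of_injective
        N.subtype (Subgroup.subtype_injective _)).exists_le_sylow
      obtain ⟨m, hm⟩ := MulAction.exists_smul_eq N U₁ U
      obtain ⟨U', hU'⟩ := (U.2.map N.subtype).exists_le_sylow
      have hlt : ∀ V : Subgroup X, D < V → D ≤ (T : Subgroup X) →
          Nat.card (T : Subgroup X) - Nat.card V < n ∨ n = 0 := by
        intro V hV _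
        have := Set.Finite.card_lt_card (Set.toFinite (V : Set X)) hV
        simp only [SetLike.coe_sort_coe] at this
        omega
      have hn0 : n ≠ 0 := by
        have := Set.Finite.card_lt_card (Set.toFinite ((T : Subgroup X) : Set X)) hDT
        simp only [SetLike.coe_sort_coe] at this
        omega
      have hTU : (T : Subgroup X) ⊓ N ≤ (T : Subgroup X) ⊓ U' :=
        le_inf inf_le_left fun x hx => hU' ⟨⟨x, hx.2⟩, hU hx, rfl⟩
      have hV : D < (T : Subgroup X) ⊓ U' := h1.trans_le hTU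
      have hcard : ∀ V : Subgroup X, D < V → Nat.card (T : Subgroup X) - Nat.card V < n :=
        fun V hV => (hlt V hV hDT.le).resolve_right hn0
      obtain ⟨y, hy, hyT⟩ := ih _ (hcard _ hV) U' rfl (ne_bot_of_gt hV)
      have hsub : ((T' : Subgroup X) ⊓ N).map (MulAut.conj (m : X)).toMonoidHom ≤
          (U' : Subgroup X) ⊓ ((m : X) • T' : Sylow p X) := by
        rintro _ ⟨x, hx, rfl⟩
        refine ⟨hU' ⟨MulAut.conj m ⟨x, hx.2⟩, ?_, rfl⟩, ⟨x, hx.1, rfl⟩⟩
        rw [← hm]
        exact ⟨⟨x, hx.2⟩, hU₁ hx, rfl⟩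
      let T'' : Sylow p X := (y⁻¹ * (m : X)) • T'
      have hsub2 : ((T' : Subgroup X) ⊓ N).map (MulAut.conj (y⁻¹ * (m : X))).toMonoidHom ≤
          (T : Subgroup X) ⊓ T'' := by
        rintro _ ⟨x, hx, rfl⟩
        refine ⟨?_, ⟨x, hx.1, rfl⟩⟩
        have hxU := (hsub ⟨x, hx, rfl⟩).1
        rw [← hyT] at hxU
        obtain ⟨t, ht, e⟩ := hxU
        have e' : (MulAut.conj (y⁻¹ * (m : X))) x = t := by
          have e1 : y * t * y⁻¹ = (m : X) * x * (m : X)⁻¹ := e
          rw [MulAut.conj_apply, show t = y⁻¹ * (y * t * y⁻¹) * y by group, e1]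
          group
        exact e'.symm ▸ ht
      have hmap : Nat.card D <
          Nat.card (((T' : Subgroup X) ⊓ N).map (MulAut.conj (y⁻¹ * (m : X))).toMonoidHom) := by
        rw [Subgroup.card_map_of_injective (MulEquiv.injective _)]
        exact card_lt_of_lt h2
      have hT'' : Nat.card (T : Subgroup X) - Nat.card ((T : Subgroup X) ⊓ T'' : Subgroup X) < n := by
        have := hmap.trans_le (Subgroup.card_le_of_le hsub2)
        have := Set.Finite.card_lt_card (Set.toFinite ((T : Subgroup X) : Set X)) hDT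
        simp only [SetLike.coe_sort_coe] at this
        omega
      have hne'' : (T : Subgroup X) ⊓ T'' ≠ ⊥ := fun e => by
        have := hmap.trans_le (Subgroup.card_le_of_le hsub2)
        rw [e, Subgroup.card_bot] at this
        have := Nat.card_pos (α := D)
        omega
      obtain ⟨z, hz, hzT⟩ := ih _ hT'' T'' rfl hne''
      have hmY : (m : X) ∈ Y := h D hDT.le hne m.2
      refine ⟨(m : X)⁻¹ * y * z, Y.mul_mem (Y.mul_mem (Y.inv_mem hmY) hy) hz, ?_⟩
      rw [mul_smul, hzT, ← mul_smul]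
      simp [mul_assoc]
  obtain ⟨y, hy, hyT⟩ := key _ (g • T) rfl hg
  have hnorm : y⁻¹ * g ∈ Subgroup.normalizer ((T : Subgroup X) : Set X) := by
    refine Sylow.smul_eq_iff_mem_normalizer.1 ?_
    rw [mul_smul, ← hyT, ← mul_smul, inv_mul_cancel, one_smul]
  have hTne : (T : Subgroup X) ≠ ⊥ := fun e => hg (by rw [e, bot_inf_eq])
  simpa using Y.mul_mem hy (h T le_rfl hTne hnorm)

theorem pCore_eq_bot_of_stronglyPEmbedded {Y : Subgroup X} (h : IsStronglyPEmbedded p Y) :
    pCore p X = ⊥ := by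
  obtain ⟨-, hY, T, hT⟩ := h
  by_contra hne
  have := (kGeneratedCore_one_le_iff T.2).1 hT (pCore p X)
    (CfsgLib.Solvable.Cores.pCore_le_sylow T) hne
  rw [Subgroup.normalizer_eq_top] at this
  exact hY (top_le_iff.1 this)

end CfsgLib.Fsys
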