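import Cfsg.Agent.Lib.FusionSystem.Saturated
import Cfsg.Agent.Lib.FusionSystem.StronglyEmbedded
/-
Essential subgroups and Alperin's fusion theorem for saturated fusion systems.
-/
set_option autoImplicit false

namespace CfsgLib.Fsys

open Cfsg
open Cfsg.FusionSystem (centralizerIn normalizerIn extender)

variable {Ω : Type*} [Group Ω] {S : Subgroup Ω} [Finite S] {F : FusionSystem S} {P Q R : Subgroup Ω}
variable {p : ℕ} [Fact p.Prime]

theorem lt_normalizerIn (hS : IsPGroup p S) (hP : P < S) : P < normalizerIn S P := by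
  have hnc := normalizerCondition_of_isNilpotent (h := hS.isNilpotent)
  have hlt : P.subgroupOf S < ⊤ := by
    rw [lt_top_iff_ne_top, Ne, Subgroup.subgroupOf_eq_top]
    exact hP.not_ge
  obtain ⟨n, hnN, hnP⟩ := SetLike.exists_of_lt (hnc _ hlt)
  have := finite_of_le_base hP.le
  refine lt_of_le_of_ne (le_normalizerIn hP.le) fun e => hnP ?_
  show (n : Ω) ∈ P
  rw [e]
  exact ⟨n.2, mem_normalizer_of_map_le fun x hx =>
    ((Subgroup.mem_normalizer_iff.1 hnN) ⟨x, hP.le hx⟩).1 hx⟩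

theorem exists_mem_normalizer_not_mem (hS : IsPGroup p S) (hQ : Q ≤ S) (hPQ : P < Q) :
    ∃ n ∈ Q, n ∈ normalizerIn S P ∧ n ∉ P := by
  have := finite_of_le_base hQ
  obtain ⟨n, hn, hnP⟩ := SetLike.exists_of_lt (lt_normalizerIn (hS.to_le hQ) hPQ)
  exact ⟨n, hn.1, ⟨hQ hn.1, hn.2⟩, hnP⟩

theorem card_lt_card_sub (hQ : Q ≤ S) (h : P < Q) :
    Nat.card S - Nat.card Q < Nat.card S - Nat.card P := by
  have := finite_of_le_base hQ
  have h1 : Nat.card P < Nat.card Q := by
    simpa only [SetLike.coe_sort_coe] using Set.Finite.card_lt_card (Set.toFinite (Q : Set Ω)) h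
  have h2 := Subgroup.card_le_of_le hQ
  omega

/-- Induction downwards on subgroups of `S`. -/
theorem induction_down {C : Subgroup Ω → Prop} (P : Subgroup Ω) (hP : P ≤ S)
    (h : ∀ P ≤ S, (∀ Q ≤ S, Nat.card P < Nat.card Q → C Q) → C P) : C P := by
  induction hn : Nat.card S - Nat.card P using Nat.strong_induction_on generalizing P with
  | _ n ih =>
    refine h P hP fun Q hQ hlt => ih _ ?_ Q hQ rfl
    have := Subgroup.card_le_of_le hQ
    omega

/-- `α` extends to a map of `F` with strictly larger source. -/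
def ExtAut (F : FusionSystem S) (P : Subgroup Ω) (α : MulAut P) : Prop :=
  ∃ (Q : Subgroup Ω) (g : Ω → Ω), P < Q ∧ Fn F Q g ∧ ∀ x : P, g x = (α x : P)

omit [Finite S] in
theorem setOf_extAut : {α : MulAut P | ∃ (Q : Subgroup Ω) (hPQ : P < Q) (φ : Q →* Ω), φ ∈ F.Hom Q ∧
      ∀ x : P, φ (Subgroup.inclusion hPQ.le x) = α x} = {α | ExtAut F P α} := by
  ext α
  constructor
  · rintro ⟨Q, hPQ, φ, hφ, h⟩
    exact ⟨Q, _, hPQ, fn_ofHom hφ, fun x => (ofHom_apply φ (hPQ.le x.2)).trans (h x)⟩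
  · rintro ⟨Q, g, hPQ, ⟨φ, hφ, hφg⟩, h⟩
    exact ⟨Q, hPQ, φ, hφ, fun x => (hφg _).trans (h x)⟩

omit [Finite S] in
theorem ExtAut.mem {α : MulAut P} (h : ExtAut F P α) : α ∈ F.autGroup P := by
  obtain ⟨Q, g, hPQ, hg, hα⟩ := h
  exact (mem_autGroup (hPQ.le.trans hg.le)).2 (mem_hom_of_fn (hg.mono hPQ.le) fun x => (hα x).symm)

/-- The subgroup of `Aut_F(P)` generated by the extendable automorphisms. -/
def extClosure (F : FusionSystem S) (P : Subgroup Ω) : Subgroup (MulAut P) :=
  Subgroup.closure {α | ExtAut F P α}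

omit [Finite S] in
theorem extClosure_le : extClosure F P ≤ F.autGroup P :=
  (Subgroup.closure_le _).2 fun _ h => h.mem

omit [Finite S] in
theorem inn_le_autInducedBy (hP : P ≤ S) : Inn P ≤ autInducedBy S P := by
  rintro _ ⟨q, rfl⟩
  exact mem_autInducedBy.2 ⟨q, hP q.2, fun x => rfl⟩

omit [Finite S] in
theorem inn_le_autGroup (hP : P ≤ S) : Inn P ≤ F.autGroup P :=
  (inn_le_autInducedBy hP).trans (autInducedBy_le_autGroup hP)

omit [Finite S] in
theorem inn_normal_aut : ((Inn P).subgroupOf (F.autGroup P)).Normal :=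
  (innNormal P).comap _

theorem autInducedBy_le_extClosure (hS : IsPGroup p S) (hP : P < S) :
    autInducedBy S P ≤ extClosure F P := fun α hα => by
  obtain ⟨g, hg, hgα⟩ := mem_autInducedBy.1 hα
  exact Subgroup.subset_closure ⟨_, _, lt_normalizerIn hS hP, fn_conj normalizerIn_le hg,
    fun x => (hgα x).symm⟩

omit [Finite S] in
theorem extAut_of_receptive (hr : F.IsReceptive P) {α : MulAut P} (hα : α ∈ F.autGroup P) {n : Ω}
    (hn : n ∈ normalizerIn S P) (hnP : n ∉ P)
    (hconj : α * conjAut P hn.2 * α⁻¹ ∈ autInducedBy S P) : ExtAut F P α := by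
  obtain ⟨N, g, hg, hPN, hN, hge⟩ :=
    receptive_extend hr ((mem_autGroup_iff_fn hr.1).1 hα) (img_autFn α)
  refine ⟨N, g, lt_of_le_of_ne hPN fun e => hnP ?_, hg, fun x => (hge x x.2).trans (autFn_coe α x)⟩
  rw [e, hN]
  obtain ⟨s, hs, hsx⟩ := mem_autInducedBy.1 hconj
  refine ⟨hn.1, hn.2, s, hs, fun x hx => ?_⟩
  lift x to P using hx
  have h := hsx (α x)
  simp only [MulAut.mul_apply, MulAut.inv_apply_self] at h
  rw [← conjAut_coe hn.2 x, autFn_coe, autFn_coe]
  exact h

theorem isCentric_of_fullyCentralized (hU : F.IsFullyCentralized P)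
    (hC : centralizerIn S P ≤ P) : F.IsCentric P := by
  refine ⟨hU.1, fun Q hQ => ?_⟩
  obtain ⟨f, hf, rfl⟩ := isConj_iff.1 hQ
  have h : img f (centralizerIn S P) = centralizerIn S (img f P) :=
    img_eq_of_card_le centralizerIn_le (hf.mono hC)
      (fun n hn => hf.map_centralizer le_rfl rfl (hC hn) hn) (hU.2 _ hQ)
  exact h.ge.trans (img_mono hC)

section

variable (hS : IsPGroup p S) (hF : F.IsSaturated p)
include hS hF

omit hS hF in
theorem centralizer_le_of_centric (hc : F.IsCentric P) : centralizerIn S P ≤ P :=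
  hc.2 P (isConj_refl hc.1)

theorem extClosure_eq_of_not_centric (hP : F.IsFullyNormalized P) (hc : ¬ F.IsCentric P) :
    extClosure F P = F.autGroup P := by
  have hfc := (fullyNormalized_good hS hF hP).2
  obtain ⟨n, hn, hnP⟩ := SetLike.not_le_iff_exists.1 (fun h => hc (isCentric_of_fullyCentralized hfc h))
  refine le_antisymm extClosure_le fun α hα => Subgroup.subset_closure ?_
  refine extAut_of_receptive (fullyCentralized_receptive hS hF hfc) hα
    (centralizerIn_le_normalizerIn hn) hnP ?_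
  have h1 : conjAut P (centralizerIn_le_normalizerIn hn).2 = 1 := MulEquiv.ext fun x => Subtype.ext <| by
    rw [conjAut_coe, ← (mem_centralizerIn.1 hn).2 x x.2]
    simp
  rw [h1]
  simpa using Subgroup.one_mem (autInducedBy S P)

omit hS hF in
theorem conjAut_mem_inn_iff (hc : centralizerIn S P ≤ P) {n : Ω} (hn : n ∈ normalizerIn S P)
    (hPS : P ≤ S) : conjAut P hn.2 ∈ Inn P ↔ n ∈ P := by
  constructor
  · rintro ⟨q, hq⟩
    have hm : (q : Ω)⁻¹ * n ∈ centralizerIn S P := by
      refine mem_centralizerIn.2 ⟨S.mul_mem (S.inv_mem (hPS q.2)) hn.1, fun x hx => ?_⟩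
      have h : (q : Ω) * x * (q : Ω)⁻¹ = n * x * n⁻¹ :=
        congrArg (fun α : MulAut P => ((α ⟨x, hx⟩ : P) : Ω)) hq
      calc x * ((q : Ω)⁻¹ * n) = (q : Ω)⁻¹ * ((q : Ω) * x * (q : Ω)⁻¹) * n := by group
        _ = (q : Ω)⁻¹ * (n * x * n⁻¹) * n := by rw [h]
        _ = (q : Ω)⁻¹ * n * x := by group
    simpa using P.mul_mem q.2 (hc hm)
  · intro hnP
    exact ⟨⟨n, hnP⟩, MulEquiv.ext fun x => rfl⟩

/-- The key structural facts about `Out_F(P)` for a fully normalized centric subgroup. -/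
theorem outSylow (hPS : P < S) (hP : F.IsFullyNormalized P) (hc : F.IsCentric P)
    [((Inn P).subgroupOf (F.autGroup P)).Normal] :
    ∃ T : Sylow p (F.autGroup P ⧸ (Inn P).subgroupOf (F.autGroup P)),
      (T : Subgroup (F.autGroup P ⧸ (Inn P).subgroupOf (F.autGroup P))) ≠ ⊥ ∧
      (∀ a : F.autGroup P, QuotientGroup.mk' ((Inn P).subgroupOf (F.autGroup P)) a ∈
        (T : Subgroup (F.autGroup P ⧸ (Inn P).subgroupOf (F.autGroup P))) ↔
        (a : MulAut P) ∈ autInducedBy S P) := by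
  have := finite_of_le_base hP.1
  obtain ⟨hPS', R, hR⟩ := (fullyNormalized_good hS hF hP).1
  let π := QuotientGroup.mk' ((Inn P).subgroupOf (F.autGroup P))
  refine ⟨R.mapSurjective (f := π) (QuotientGroup.mk'_surjective _), ?_, fun a => ?_⟩
  · intro e
    obtain ⟨n, hn, hnP⟩ := SetLike.exists_of_lt (lt_normalizerIn hS hPS)
    have hmem : (⟨conjAut P hn.2, autInducedBy_le_autGroup hPS.le (conjAut_mem_autInducedBy hn.2 hn.1)⟩ :
        F.autGroup P) ∈ (R : Subgroup (F.autGroup P)) := by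
      rw [hR]
      exact conjAut_mem_autInducedBy hn.2 hn.1
    have h1 : π ⟨_, autInducedBy_le_autGroup hPS.le (conjAut_mem_autInducedBy hn.2 hn.1)⟩ = 1 := by
      rw [← Subgroup.mem_bot, ← e]
      exact ⟨_, hmem, rfl⟩
    exact hnP ((conjAut_mem_inn_iff (centralizer_le_of_centric hc) hn hPS.le).1
      ((QuotientGroup.eq_one_iff (⟨conjAut P hn.2, autInducedBy_le_autGroup hPS.le (conjAut_mem_autInducedBy hn.2 hn.1)⟩ : F.autGroup P)).1 h1))
  · show π a ∈ (R : Subgroup (F.autGroup P)).map π ↔ _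
    rw [hR]
    constructor
    · rintro ⟨b, hb, e⟩
      have hb' : (b : MulAut P) ∈ autInducedBy S P := hb
      have hq := QuotientGroup.eq.1 e
      have := (autInducedBy S P).mul_mem hb' (inn_le_autInducedBy hPS.le hq)
      simpa using this
    · exact fun h => ⟨a, h, rfl⟩

theorem extClosure_isStronglyPEmbedded (hPS : P < S) (hP : F.IsFullyNormalized P)
    (hc : F.IsCentric P) [((Inn P).subgroupOf (F.autGroup P)).Normal]
    (hne : extClosure F P ≠ F.autGroup P) :
    IsStronglyPEmbedded p (((extClosure F P).subgroupOf (F.autGroup P)).map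
      (QuotientGroup.mk' ((Inn P).subgroupOf (F.autGroup P)))) := by
  have := finite_of_le_base hP.1
  obtain ⟨T, hT, hTmem⟩ := outSylow hS hF hPS hP hc
  have hr := fullyNormalized_receptive hS hF hP
  let π := QuotientGroup.mk' ((Inn P).subgroupOf (F.autGroup P))
  have hker : π.ker ≤ (extClosure F P).subgroupOf (F.autGroup P) := by
    rw [QuotientGroup.ker_mk']
    exact fun a ha => autInducedBy_le_extClosure hS hPS (inn_le_autInducedBy hPS.le ha)
  refine ⟨?_, fun e => hne ?_, T, ?_⟩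
  · obtain ⟨k, hk, hcard⟩ := T.2.nontrivial_iff_card.1 ((Subgroup.nontrivial_iff_ne_bot _).2 hT)
    exact (dvd_pow_self p hk.ne').trans (hcard ▸ Subgroup.card_subgroup_dvd_card (T : Subgroup (F.autGroup P ⧸ (Inn P).subgroupOf (F.autGroup P))))
  · refine le_antisymm extClosure_le fun a ha => ?_
    have := congrArg (Subgroup.comap π) e
    rw [Subgroup.comap_map_eq, sup_eq_left.2 hker, Subgroup.comap_top] at this
    exact this.ge (x := ⟨a, ha⟩) trivial
  · rw [kGeneratedCore_one_le_iff T.2]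
    intro Q hQ hQne g hg
    obtain ⟨a, rfl⟩ := QuotientGroup.mk'_surjective _ g
    refine ⟨a, ?_, rfl⟩
    obtain ⟨⟨q, hq⟩, hq1⟩ := Subgroup.ne_bot_iff_exists_ne_one.1 hQne
    obtain ⟨b, rfl⟩ := QuotientGroup.mk'_surjective _ q
    have hb : (b : MulAut P) ∈ autInducedBy S P := (hTmem b).1 (hQ hq)
    obtain ⟨n, hn, hnb⟩ := mem_autInducedBy.1 hb
    have hnN : n ∈ normalizerIn S P := ⟨hn, mem_normalizer_of_autEq hnb⟩
    have hbeq : conjAut P hnN.2 = (b : MulAut P) := MulEquiv.ext fun x => Subtype.ext (hnb x).symm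
    refine Subgroup.subset_closure (extAut_of_receptive hr a.2 hnN (fun hnP => hq1 (Subtype.ext ?_)) ?_)
    · exact (QuotientGroup.eq_one_iff b).2 (show (b : MulAut P) ∈ Inn P from
        hbeq ▸ (conjAut_mem_inn_iff (centralizer_le_of_centric hc) hnN hPS.le).2 hnP)
    · rw [hbeq]
      refine (hTmem (a * b * a⁻¹)).1 (hQ ?_)
      rw [map_mul, map_mul, map_inv]
      exact (Subgroup.mem_normalizer_iff.1 hg _).1 hq

theorem extClosure_ne_of_essential (hPS : P < S) (hess : F.IsEssential p P) :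
    extClosure F P ≠ F.autGroup P := by
  obtain ⟨hc, hP, hN, Y, hdvd, hY, T', hT'⟩ := hess
  have := finite_of_le_base hP.1
  obtain ⟨T, hT, hTmem⟩ := outSylow hS hF hPS hP hc
  let π := QuotientGroup.mk' ((Inn P).subgroupOf (F.autGroup P))
  obtain ⟨c, hcT⟩ := MulAction.exists_smul_eq (F.autGroup P ⧸ (Inn P).subgroupOf (F.autGroup P)) T T'
  have h1 := (kGeneratedCore_one_le_iff T'.2).1 hT'
  have key : ∀ Q : Subgroup (F.autGroup P ⧸ (Inn P).subgroupOf (F.autGroup P)),
      Q ≤ (T : Subgroup (F.autGroup P ⧸ (Inn P).subgroupOf (F.autGroup P))) → Q ≠ ⊥ →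
      Subgroup.normalizer (Q : Set (F.autGroup P ⧸ (Inn P).subgroupOf (F.autGroup P))) ≤
        Y.comap (MulAut.conj c).toMonoidHom := by
    intro Q hQ hQne g hg
    refine h1 (Q.map (MulAut.conj c).toMonoidHom) ?_ ?_ ?_
    · rw [← hcT]
      exact Subgroup.map_mono hQ
    · rwa [Ne, Subgroup.map_eq_bot_iff_of_injective _ (MulEquiv.injective _)]
    · exact Subgroup.le_normalizer_map _ ⟨g, hg, rfl⟩
  intro e
  apply hY
  have hle : extClosure F P ≤ ((Y.comap (MulAut.conj c).toMonoidHom).comap π).map (F.autGroup P).subtype := by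
    refine (Subgroup.closure_le _).2 fun α hα => ?_
    refine ⟨⟨α, hα.mem⟩, ?_, rfl⟩
    obtain ⟨Q, g, hPQ, hg, hgα⟩ := hα
    obtain ⟨n, hnQ, hn, hnP⟩ := exists_mem_normalizer_not_mem hS hg.le hPQ
    have hgi : img g P = P := by
      rw [img_congr (g := autFn α) fun x hx => (hgα ⟨x, hx⟩).trans (autFn_coe α ⟨x, hx⟩).symm, img_autFn]
    have hgn : g n ∈ normalizerIn S P := hg.map_normalizer hPQ.le hgi hnQ hn.2
    have hc1 : α * conjAut P hn.2 * α⁻¹ = conjAut P hgn.2 := by
      rw [mul_inv_eq_iff_eq_mul]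
      refine MulEquiv.ext fun x => Subtype.ext ?_
      simp only [MulAut.mul_apply, conjAut_coe]
      rw [← hgα, ← hgα, conjAut_coe, hg.map_conj hnQ (hPQ.le x.2)]
    let αA : F.autGroup P := ⟨α, ExtAut.mem ⟨Q, g, hPQ, hg, hgα⟩⟩
    let cA : F.autGroup P :=
      ⟨conjAut P hn.2, autInducedBy_le_autGroup hPS.le (conjAut_mem_autInducedBy hn.2 hn.1)⟩
    show π αA ∈ Y.comap (MulAut.conj c).toMonoidHom
    refine mem_of_inf_smul_ne_bot T key fun hbot => ?_
    have hcm : π cA ∈ (T : Subgroup (F.autGroup P ⧸ (Inn P).subgroupOf (F.autGroup P))) :=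
      (hTmem cA).2 (conjAut_mem_autInducedBy hn.2 hn.1)
    have hmem : π (αA * cA * αA⁻¹) ∈ (T : Subgroup (F.autGroup P ⧸ (Inn P).subgroupOf (F.autGroup P))) ⊓
        (π αA • T : Sylow p (F.autGroup P ⧸ (Inn P).subgroupOf (F.autGroup P))) := by
      refine ⟨(hTmem _).2 ?_, ⟨π cA, hcm, by simp⟩⟩
      show α * conjAut P hn.2 * α⁻¹ ∈ _
      rw [hc1]
      exact conjAut_mem_autInducedBy hgn.2 hgn.1
    rw [hbot, Subgroup.mem_bot, map_mul, map_mul, map_inv, conj_eq_one_iff] at hmem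
    exact hnP ((conjAut_mem_inn_iff (centralizer_le_of_centric hc) hn hPS.le).1
      ((QuotientGroup.eq_one_iff cA).1 hmem))
  rw [eq_top_iff]
  intro g _
  obtain ⟨g', rfl⟩ := (MulAut.conj c).surjective g
  obtain ⟨a, rfl⟩ := QuotientGroup.mk'_surjective _ g'
  have ha : (a : MulAut P) ∈ extClosure F P := e.ge a.2
  obtain ⟨b, hb, hba⟩ := hle ha
  obtain rfl : b = a := Subtype.ext hba
  exact hb

/-- A non-essential fully normalized proper subgroup has all its automorphisms generated by extendable ones. -/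
theorem extClosure_eq_or_essential (hPS : P < S) (hP : F.IsFullyNormalized P) :
    extClosure F P = F.autGroup P ∨ F.IsEssential p P := by
  by_cases hc : F.IsCentric P
  · have := inn_normal_aut (F := F) (P := P)
    by_cases h : extClosure F P = F.autGroup P
    · exact Or.inl h
    · exact Or.inr ⟨hc, hP, this, _, extClosure_isStronglyPEmbedded hS hF hPS hP hc h⟩
  · exact Or.inl (extClosure_eq_of_not_centric hS hF hP hc)

/-- `F ≤ E` follows by downward induction once it holds on automorphisms of fully normalized subgroups. -/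
theorem le_of_automizers (E : FusionSystem S) (hES : F.autGroup S ≤ E.autGroup S)
    (hE : ∀ P : Subgroup Ω, P < S → F.IsFullyNormalized P →
      (∀ R : Subgroup Ω, ∀ g : Ω → Ω, Nat.card P < Nat.card R → Fn F R g → Fn E R g) →
      F.autGroup P ≤ E.autGroup P) : F ≤ E := by
  suffices h : ∀ P : Subgroup Ω, P ≤ S → ∀ f : Ω → Ω, Fn F P f → Fn E P f by
    intro P φ hφ
    exact mem_hom_iff.2 (h P (fn_ofHom hφ).le _ (fn_ofHom hφ))
  intro P hP
  refine induction_down (C := fun P => ∀ f : Ω → Ω, Fn F P f → Fn E P f) P hP ?_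
  intro P hP ih f hf
  rcases eq_or_lt_of_le hP with rfl | hPS
  · obtain ⟨α, hα, hαf⟩ := exists_aut_of_fn hf (hf.img_eq_self fun x hx => hf.mem hx)
    exact ((mem_autGroup_iff_fn le_rfl).1 (hES hα)).congr fun x hx => by
      rw [← hαf ⟨x, hx⟩]
      exact autFn_coe α ⟨x, hx⟩
  have hbig : ∀ Q : Subgroup Ω, Q < S → Nat.card P ≤ Nat.card Q →
      ∀ g : Ω → Ω, Fn F (normalizerIn S Q) g → Fn E (normalizerIn S Q) g := by
    intro Q hQ hc g hg
    refine ih _ normalizerIn_le (hc.trans_lt ?_) g hg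
    have := finite_of_le_base (normalizerIn_le : normalizerIn S Q ≤ S)
    simpa only [SetLike.coe_sort_coe] using
      Set.Finite.card_lt_card (Set.toFinite (normalizerIn S Q : Set Ω)) (lt_normalizerIn hS hQ)
  obtain ⟨P', hPP', hP'⟩ := exists_fullyNormalized (F := F) hP
  obtain ⟨hA, hfc⟩ := fullyNormalized_good hS hF hP'
  have hr := fullyCentralized_receptive hS hF hfc
  have hP'S : P' < S := lt_of_le_of_ne hP'.1 fun e => hPS.ne
    (eq_of_le_of_card le_rfl hP (by rw [← e]; exact (isConj_card hPP').le))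
  have hQS : img f P < S := lt_of_le_of_ne hf.img_le_base fun e => hPS.ne
    (eq_of_le_of_card le_rfl hP (e ▸ hf.card_img.le))
  obtain ⟨hp, hhp, -, hhpi⟩ := exists_normalizer_map hS hA hr hPP'
  obtain ⟨hq, hhq, -, hhqi⟩ :=
    exists_normalizer_map hS hA hr (isConj_trans (isConj_symm (isConj_of_fn hf)) hPP')
  have hpP := hhp.mono (le_normalizerIn hP)
  have hqQ := hhq.mono (le_normalizerIn hf.img_le_base)
  have hpE : Fn E P hp := (hbig P hPS le_rfl _ hhp).mono (le_normalizerIn hP)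
  have hqE : Fn E (img f P) hq :=
    (hbig _ hQS hf.card_img.ge _ hhq).mono (le_normalizerIn hf.img_le_base)
  have hautP' : F.autGroup P' ≤ E.autGroup P' :=
    hE P' hP'S hP' fun R g hlt hg => ih R hg.le ((isConj_card hPP').symm.trans_lt hlt) g hg
  obtain ⟨hp', hhp', hp'f, hp'i⟩ := hpP.exists_inv
  obtain ⟨hq', hhq', hq'f, -⟩ := hqE.exists_inv
  rw [hhpi] at hhp' hp'i
  rw [hhqi] at hhq'
  have hb1 : Fn F P' (hq ∘ (f ∘ hp')) :=
    (hhp'.comp hf fun x hx => hp'i.le (mem_img_of_mem hx)).comp hqQ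
      fun x hx => mem_img_of_mem (hp'i.le (mem_img_of_mem hx))
  have hb2 : ∀ x ∈ P', (hq ∘ (f ∘ hp')) x ∈ P' := fun x hx =>
    hhqi.le (mem_img_of_mem (mem_img_of_mem (hp'i.le (mem_img_of_mem hx))))
  obtain ⟨β, hβ, hβx⟩ := exists_aut_of_fn hb1 (hb1.img_eq_self hb2)
  have hβE := (mem_autGroup_iff_fn hP'S.le).1 (hautP' hβ)
  have hP'mem : ∀ x ∈ P, hp x ∈ P' := fun x hx => hhpi.le (mem_img_of_mem hx)
  refine ((hpE.comp hβE hP'mem).comp hhq' fun x hx => autFn_mem β (hP'mem x hx)).congr fun x hx => ?_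
  show hq' (autFn β (hp x)) = f x
  rw [show hp x = (((⟨hp x, hP'mem x hx⟩ : P')) : Ω) from rfl, autFn_coe, hβx]
  show hq' (hq (f (hp' (hp x)))) = f x
  rw [hp'f x hx, hq'f _ (mem_img_of_mem hx)]

/-- Alperin's theorem. -/
theorem alperin (E : FusionSystem S) (hES : F.autGroup S ≤ E.autGroup S)
    (hE : ∀ P : Subgroup Ω, P < S → F.IsEssential p P → F.autGroup P ≤ E.autGroup P) : F ≤ E := by
  refine le_of_automizers hS hF E hES fun P hPS hP hbig => ?_
  rcases extClosure_eq_or_essential hS hF hPS hP with h | h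
  · rw [← h]
    refine (Subgroup.closure_le _).2 fun α hα => ?_
    obtain ⟨Q, g, hPQ, hg, hgα⟩ := hα
    have hgE : Fn E Q g := hbig Q g (by
      have := finite_of_le_base hg.le
      simpa only [SetLike.coe_sort_coe] using Set.Finite.card_lt_card (Set.toFinite (Q : Set Ω)) hPQ) hg
    exact (mem_autGroup hPS.le).2 (mem_hom_of_fn (hgE.mono hPQ.le) fun x => (hgα x).symm)
  · exact hE P hPS h

end

end CfsgLib.Fsys
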