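import Cfsg.Agent.Lib.FusionSystem.Factor
import Cfsg.Agent.S5083
/-
Subsystems cut out by predicates, generating families, the hyperfocal and focal subgroups, a saturation criterion.
-/
set_option autoImplicit false

namespace CfsgLib.Fsys

open Cfsg
open Cfsg.FusionSystem (centralizerIn normalizerIn extender)
open scoped commutatorElement

variable {Ω : Type*} [Group Ω] {S : Subgroup Ω} {F : FusionSystem S} {P Q R T : Subgroup Ω}

/-- The subsystem of the maps of `F` satisfying a predicate closed under the operations. -/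
def predSystem (F : FusionSystem S) (C : Subgroup Ω → (Ω → Ω) → Prop)
    (hcongr : ∀ P f g, (∀ x ∈ P, f x = g x) → Fn F P f → C P f → C P g)
    (hconj : ∀ P, P ≤ S → ∀ s ∈ S, C P (fun x => s * x * s⁻¹))
    (hcomp : ∀ P R f g, Fn F P f → Fn F R g → (∀ x ∈ P, f x ∈ R) → C P f → C R g → C P (g ∘ f))
    (hinv : ∀ P f g, Fn F P f → Fn F (img f P) g → (∀ x ∈ P, g (f x) = x) → C P f → C (img f P) g) :
    FusionSystem S where
  Hom P := {φ | φ ∈ F.Hom P ∧ C P (ofHom φ)}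
  le_of_mem h := F.le_of_mem h.1
  injective_of_mem h := F.injective_of_mem h.1
  conj_mem := fun {P s} hP hs => ⟨F.conj_mem hP hs,
    hcongr P _ _ (fun x hx => (ofHom_apply (conjHom P s) hx).symm) (fn_conj hP hs) (hconj P hP s hs)⟩
  comp_mem := fun {P R φ ψ} hφ hψ h => by
    have hm : ∀ x ∈ P, ofHom φ x ∈ R := fun x hx => (ofHom_apply φ hx).symm ▸ h ⟨x, hx⟩
    refine ⟨F.comp_mem hφ.1 hψ.1 h, hcongr P _ _ (fun x hx => ?_)
      ((fn_ofHom hφ.1).comp (fn_ofHom hψ.1) hm) (hcomp P R _ _ (fn_ofHom hφ.1) (fn_ofHom hψ.1) hm hφ.2 hψ.2)⟩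
    rw [ofHom_apply _ hx]
    show ofHom ψ (ofHom φ x) = ψ ⟨φ ⟨x, hx⟩, h _⟩
    rw [ofHom_apply φ hx]
    exact ofHom_apply ψ (h _)
  inv_mem := fun {P φ} hφ => by
    obtain ⟨ψ, hψ, hψφ⟩ := F.inv_mem hφ.1
    have he : φ.range = img (ofHom φ) P := Fn.range_eq_img fun x => (ofHom_coe φ x).symm
    refine ⟨ψ, ⟨hψ, ?_⟩, hψφ⟩
    have h2 := hinv P (ofHom φ) (ofHom ψ) (fn_ofHom hφ.1) (he ▸ fn_ofHom hψ) (fun x hx => by
      rw [ofHom_apply φ hx, ofHom_apply ψ ⟨⟨x, hx⟩, rfl⟩]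
      exact hψφ ⟨x, hx⟩) hφ.2
    rwa [← he] at h2

theorem fn_predSystem {C : Subgroup Ω → (Ω → Ω) → Prop} {hcongr hconj hcomp hinv} {f : Ω → Ω} :
    Fn (predSystem F C hcongr hconj hcomp hinv) P f ↔ Fn F P f ∧ C P f := by
  constructor
  · rintro ⟨φ, ⟨hφ, hC⟩, hf⟩
    exact ⟨⟨φ, hφ, hf⟩, hcongr _ _ _ (fun x hx => (ofHom_apply φ hx).trans (hf ⟨x, hx⟩)) (fn_ofHom hφ) hC⟩
  · rintro ⟨⟨φ, hφ, hf⟩, hC⟩
    exact ⟨φ, ⟨hφ, hcongr _ _ _ (fun x hx => ((ofHom_apply φ hx).trans (hf ⟨x, hx⟩)).symm) ⟨φ, hφ, hf⟩ hC⟩, hf⟩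

theorem fn_of_le {E : FusionSystem S} (h : F ≤ E) {f : Ω → Ω} (hf : Fn F P f) : Fn E P f :=
  let ⟨φ, hφ, hφf⟩ := hf
  ⟨φ, h P hφ, hφf⟩

section Finite

variable [Finite S] {p : ℕ} [Fact p.Prime]

theorem fullyAutomized_top (hF : F.IsSaturated p) : F.IsFullyAutomized p S := by
  obtain ⟨Q, hQ, hA, -⟩ := hF S le_rfl
  obtain rfl : Q = S := eq_of_le_of_card le_rfl hA.1 (isConj_card hQ).ge
  exact hA

variable (hS : IsPGroup p S) (hF : F.IsSaturated p)
include hS hF

/-- At a fully automized subgroup every automorphism is an element of `O^p` times an inner one. -/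
theorem exists_residual_decomp (hA : F.IsFullyAutomized p P) {α : MulAut P} (hα : α ∈ F.autGroup P) :
    ∃ β : F.autGroup P, β ∈ pResidual p (F.autGroup P) ∧ ∃ γ ∈ autInducedBy S P, α = β * γ := by
  have := finite_of_le_base hA.1
  obtain ⟨-, T, hT⟩ := hA
  have htop : (⟨α, hα⟩ : F.autGroup P) ∈
      ((pResidual p (F.autGroup P) ⊔ (T : Subgroup (F.autGroup P)) : Subgroup _) : Set (F.autGroup P)) := by
    rw [CfsgLib.Fusion.Basic.pResidual_sup_sylow T]
    exact Subgroup.mem_top _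
  rw [Subgroup.normal_mul] at htop
  obtain ⟨β, hβ, γ, hγ, e⟩ := htop
  have hγ' : γ ∈ (T : Subgroup (F.autGroup P)) := hγ
  rw [hT] at hγ'
  exact ⟨β, hβ, (γ : MulAut P), hγ', (congrArg Subtype.val e).symm⟩

/-- An essential subgroup is proper. -/
theorem essential_lt (h : F.IsEssential p P) : P < S := by
  refine lt_of_le_of_ne h.1.1 fun e => ?_
  subst e
  obtain ⟨-, -, hN, Y, hdvd, -⟩ := h
  obtain ⟨-, T, hT⟩ := fullyAutomized_top hF
  have hle : (T : Subgroup (F.autGroup P)) ≤ (Inn P).subgroupOf (F.autGroup P) := by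
    rw [hT]
    intro a ha
    obtain ⟨g, hg, hga⟩ := mem_autInducedBy.1 (show (a : MulAut P) ∈ autInducedBy P P from ha)
    exact ⟨⟨g, hg⟩, MulEquiv.ext fun x => Subtype.ext (hga x).symm⟩
  exact T.not_dvd_index (hdvd.trans
    ((Subgroup.index_eq_card ((Inn P).subgroupOf (F.autGroup P))).symm.dvd.trans (Subgroup.index_dvd_of_le hle)))

/-- Leaving out the class of an essential subgroup does not generate. -/
theorem exists_omit (hQ : F.IsEssential p Q) :
    ∃ E : FusionSystem S, (∀ R : Subgroup Ω, R ≤ S → ¬ F.IsConj Q R → F.autGroup R ≤ E.autGroup R) ∧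
      ¬ F ≤ E := by
  classical
  have hQS := essential_lt hS hF hQ
  have hne := extClosure_ne_of_essential hS hF hQS hQ
  obtain ⟨hA, hfc⟩ := fullyNormalized_good hS hF hQ.2.1
  have hr := fullyCentralized_receptive hS hF hfc
  let h : Subgroup Ω → Ω → Ω := fun R =>
    if hR : F.IsConj R Q then (exists_normalizer_map hS hA hr hR).choose else id
  have hh : ∀ R, F.IsConj R Q → Fn F (normalizerIn S R) (h R) ∧
      (∀ n ∈ normalizerIn S R, h R n ∈ normalizerIn S Q) ∧ img (h R) R = Q := by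
    intro R hR
    simp only [h, dif_pos hR]
    exact (exists_normalizer_map hS hA hr hR).choose_spec
  have hhm : ∀ R, F.IsConj R Q → ∀ x ∈ R, h R x ∈ Q := fun R hR x hx =>
    (hh R hR).2.2.le (mem_img_of_mem hx)
  let C : Subgroup Ω → (Ω → Ω) → Prop := fun P f => ∀ R, R ≤ P → F.IsConj R Q →
    ∃ a ∈ extClosure F Q, ∀ x ∈ R, autFn a (h R x) = h (img f R) (f x)
  have himg : ∀ {P f}, Fn F P f → ∀ {R}, R ≤ P → F.IsConj R Q → F.IsConj (img f R) Q :=
    fun hf _ hR hRQ => isConj_trans (isConj_symm (isConj_of_fn (hf.mono hR))) hRQ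
  have key : ∀ {M f}, Fn F M f → ∀ {R}, R < M → F.IsConj R Q →
      ∃ a ∈ extClosure F Q, ∀ x ∈ R, autFn a (h R x) = h (img f R) (f x) := by
    intro M f hf R hRM hRQ
    obtain ⟨n, hnM, hn, hnR⟩ := exists_mem_normalizer_not_mem hS hf.le hRM
    obtain ⟨h1, -, h1i⟩ := hh R hRQ
    obtain ⟨h2, h2m, h2i⟩ := hh _ (himg hf hRM.le hRQ)
    have hRS : R ≤ S := hRM.le.trans hf.le
    have h1' := h1.mono (inf_le_right : M ⊓ normalizerIn S R ≤ normalizerIn S R)
    obtain ⟨k, hk, hk1, hki⟩ := h1'.exists_inv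
    have hRN : R ≤ M ⊓ normalizerIn S R := le_inf hRM.le (le_normalizerIn hRS)
    have hkm : ∀ y ∈ img (h R) (M ⊓ normalizerIn S R), k y ∈ M ⊓ normalizerIn S R :=
      fun y hy => hki.le (mem_img_of_mem hy)
    have hcomp : Fn F (img (h R) (M ⊓ normalizerIn S R)) (h (img f R) ∘ (f ∘ k)) :=
      (hk.comp hf fun y hy => (hkm y hy).1).comp h2 fun y hy =>
        hf.map_normalizer hRM.le rfl (hkm y hy).1 (hkm y hy).2.2
    have hQM : Q < img (h R) (M ⊓ normalizerIn S R) := by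
      refine lt_of_le_of_ne (h1i.ge.trans (img_mono hRN)) fun e => hnR ?_
      have hm : h R n ∈ Q := e.ge (mem_img_of_mem ⟨hnM, hn⟩)
      rw [← h1i] at hm
      exact (h1'.map_mem_iff hRN ⟨hnM, hn⟩).1 hm
    have hi : img (h (img f R) ∘ (f ∘ k)) Q = Q := by
      refine (hcomp.mono hQM.le).img_eq_self fun y hy => ?_
      obtain ⟨x, hx, rfl⟩ := (h1'.mono hRN).mem_img.1 (h1i.ge hy)
      exact hhm _ (himg hf hRM.le hRQ) _ (mem_img_of_mem (by rw [hk1 x (hRN hx)]; exact hx))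
    obtain ⟨a, -, ha⟩ := exists_aut_of_fn (hcomp.mono hQM.le) hi
    refine ⟨a, Subgroup.subset_closure ⟨_, _, hQM, hcomp, fun x => (ha x).symm⟩, fun x hx => ?_⟩
    refine (autFn_coe a ⟨h R x, hhm R hRQ x hx⟩).trans ((ha _).trans ?_)
    show h (img f R) (f (k (h R x))) = _
    rw [hk1 x (hRN hx)]
  refine ⟨predSystem F C ?_ ?_ ?_ ?_, fun R hR hnc α hα => ?_, fun hle => hne ?_⟩
  · intro P f g he _ hC R hR hRQ
    obtain ⟨a, ha, hax⟩ := hC R hR hRQ
    refine ⟨a, ha, fun x hx => ?_⟩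
    rw [hax x hx, he x (hR hx), img_congr fun y hy => he y (hR hy)]
  · intro P hP s hs R hR hRQ
    have hRS : R < S := lt_of_le_of_ne (hR.trans hP) fun e => hQS.ne
      (eq_of_le_of_card le_rfl hQS.le (by rw [isConj_card hRQ, e]))
    exact key (fn_conj le_rfl hs) hRS hRQ
  · intro P M f g hf hg hm hCf hCg R hR hRQ
    obtain ⟨a, ha, hax⟩ := hCf R hR hRQ
    obtain ⟨b, hb, hbx⟩ := hCg _ (img_le fun x hx => hm x (hR hx)) (himg hf hR hRQ)
    refine ⟨b * a, Subgroup.mul_mem _ hb ha, fun x hx => ?_⟩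
    rw [(hf.mono hR).img_comp, autFn_mul _ _ (hhm R hRQ x hx), hax x hx,
      hbx _ (mem_img_of_mem hx)]
    rfl
  · intro P f g hf hg hgf hC R hR hRQ
    have hgi : ∀ x ∈ R, g x ∈ P ∧ f (g x) = x := fun x hx => by
      obtain ⟨y, hy, rfl⟩ := hf.mem_img.1 (hR hx)
      rw [hgf y hy]
      exact ⟨hy, rfl⟩
    have hRP : img g R ≤ P := img_le fun x hx => (hgi x hx).1
    have hfR : img f (img g R) = R := by
      rw [← (hg.mono hR).img_comp]
      exact (img_congr (g := id) fun x hx => (hgi x hx).2).trans (img_id R)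
    obtain ⟨a, ha, hax⟩ := hC _ hRP (himg hg hR hRQ)
    refine ⟨a⁻¹, Subgroup.inv_mem _ ha, fun x hx => ?_⟩
    have h2 := hax (g x) (mem_img_of_mem hx)
    rw [hfR, (hgi x hx).2] at h2
    rw [← h2, autFn_inv_apply]
    exact hhm _ (himg hg hR hRQ) _ (mem_img_of_mem hx)
  · refine (mem_autGroup_iff_fn hR).2 (fn_predSystem.2 ⟨(mem_autGroup_iff_fn hR).1 hα, fun R' hR' hRQ => ?_⟩)
    exact key ((mem_autGroup_iff_fn hR).1 hα) (lt_of_le_of_ne hR' fun e => hnc (e ▸ isConj_symm hRQ)) hRQ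
  · refine le_antisymm extClosure_le fun α hα => ?_
    obtain ⟨-, hC⟩ := fn_predSystem.1 (fn_of_le hle ((mem_autGroup_iff_fn hQS.le).1 hα))
    have hrefl : F.IsConj Q Q := isConj_refl hQS.le
    obtain ⟨a, ha, hax⟩ := hC Q le_rfl hrefl
    obtain ⟨h1, -, h1i⟩ := hh Q hrefl
    have hlt : Q < normalizerIn S Q := lt_normalizerIn hS hQS
    obtain ⟨c, -, hcx⟩ := exists_aut_of_fn (h1.mono (le_normalizerIn hQS.le)) h1i
    have hc : c ∈ extClosure F Q :=
      Subgroup.subset_closure ⟨_, _, hlt, h1, fun x => (hcx x).symm⟩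
    have : c * α = a * c := MulEquiv.ext fun x => Subtype.ext <| by
      have h2 := hax x x.2
      rw [img_autFn, autFn_coe, ← hcx, ← hcx, autFn_coe] at h2
      exact h2.symm
    rw [eq_inv_mul_of_mul_eq this]
    exact Subgroup.mul_mem _ (Subgroup.inv_mem _ hc) (Subgroup.mul_mem _ ha hc)

/-- The intersection of two conjugation-closed generating families is generating. -/
theorem generating_inter (𝒬₁ 𝒬₂ : Set (Subgroup Ω))
    (h₁ : ∀ R ∈ 𝒬₁, ∀ R' : Subgroup Ω, F.IsConj R R' → R' ∈ 𝒬₁)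
    (h₂ : ∀ R ∈ 𝒬₂, ∀ R' : Subgroup Ω, F.IsConj R R' → R' ∈ 𝒬₂)
    (hg₁ : ∀ E : FusionSystem S, (∀ R ∈ 𝒬₁, F.autGroup R ≤ E.autGroup R) → F ≤ E)
    (hg₂ : ∀ E : FusionSystem S, (∀ R ∈ 𝒬₂, F.autGroup R ≤ E.autGroup R) → F ≤ E)
    (E : FusionSystem S) (hE : ∀ R ∈ 𝒬₁ ∩ 𝒬₂, F.autGroup R ≤ E.autGroup R) : F ≤ E := by
  classical
  have hbot : ∀ (E : FusionSystem S) R, ¬ R ≤ S → F.autGroup R ≤ E.autGroup R := by
    intro E R hR
    refine (Subgroup.closure_le _).2 fun α hα => absurd (F.le_of_mem hα).1 hR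
  have hall : ∀ 𝒬 : Set (Subgroup Ω), (∀ R ∈ 𝒬, ∀ R' : Subgroup Ω, F.IsConj R R' → R' ∈ 𝒬) →
      (∀ E : FusionSystem S, (∀ R ∈ 𝒬, F.autGroup R ≤ E.autGroup R) → F ≤ E) →
      ∀ P, F.IsEssential p P → P ∈ 𝒬 := by
    intro 𝒬 hc hg P hP
    by_contra hn
    obtain ⟨E', hE', hnle⟩ := exists_omit hS hF hP
    refine hnle (hg E' fun R hR => ?_)
    by_cases hRS : R ≤ S
    · exact hE' R hRS fun hPR => hn (hc R hR P (isConj_symm hPR))
    · exact hbot E' R hRS
  have htop : ∀ 𝒬 : Set (Subgroup Ω),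
      (∀ E : FusionSystem S, (∀ R ∈ 𝒬, F.autGroup R ≤ E.autGroup R) → F ≤ E) →
      S ∈ 𝒬 ∨ F.autGroup S ≤ autInducedBy S S := by
    intro 𝒬 hg
    refine or_iff_not_imp_left.2 fun hn α hα => ?_
    let C : Subgroup Ω → (Ω → Ω) → Prop := fun P f => P = S → ∃ s ∈ S, ∀ x ∈ S, f x = s * x * s⁻¹
    have hC : F ≤ predSystem F C (fun P f g he _ h hP => by
          obtain ⟨s, hs, hsx⟩ := h hP
          exact ⟨s, hs, fun x hx => (he x (hP.ge hx)).symm.trans (hsx x hx)⟩)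
        (fun P _ s hs _ => ⟨s, hs, fun x _ => rfl⟩)
        (fun P R f g hf hg hm h h' hP => by
          subst hP
          have hR : R = P := le_antisymm hg.le
            ((hf.img_eq_self fun x hx => hf.mem hx).ge.trans (img_le hm))
          obtain ⟨s, hs, hsx⟩ := h rfl
          obtain ⟨t, ht, htx⟩ := h' hR
          refine ⟨t * s, P.mul_mem ht hs, fun x hx => ?_⟩
          show g (f x) = _
          rw [htx _ (hf.mem hx), hsx x hx]
          group)
        (fun P f g hf _ hgf h hP => by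
          have hPS : P = S := eq_of_le_of_card le_rfl hf.le (by rw [← hf.card_img, hP])
          obtain ⟨s, hs, hsx⟩ := h hPS
          refine ⟨s⁻¹, S.inv_mem hs, fun x hx => ?_⟩
          obtain ⟨y, hy, rfl⟩ := hf.mem_img.1 (hP.ge hx)
          rw [hgf y hy, hsx y (hPS ▸ hy)]
          group) := by
      refine hg _ fun R hR β hβ => ?_
      by_cases hRS : R ≤ S
      · exact (mem_autGroup_iff_fn hRS).2 (fn_predSystem.2 ⟨(mem_autGroup_iff_fn hRS).1 hβ,
          fun e => absurd (e ▸ hR) hn⟩)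
      · exact hbot _ R hRS hβ
    obtain ⟨-, h2⟩ := fn_predSystem.1 (fn_of_le hC ((mem_autGroup_iff_fn le_rfl).1 hα))
    obtain ⟨s, hs, hsx⟩ := h2 rfl
    exact mem_autInducedBy.2 ⟨s, hs, fun x => (autFn_coe α x).symm.trans (hsx x x.2)⟩
  refine alperin hS hF E ?_ fun P _ hP => hE P ⟨hall 𝒬₁ h₁ hg₁ P hP, hall 𝒬₂ h₂ hg₂ P hP⟩
  rcases htop 𝒬₁ hg₁ with h | h
  · rcases htop 𝒬₂ hg₂ with h' | h'
    · exact hE S ⟨h, h'⟩
    · exact h'.trans (autInducedBy_le_autGroup le_rfl)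
  · exact h.trans (autInducedBy_le_autGroup le_rfl)

omit hF in
/-- The hyperfocal subgroup is invariant under conjugation by `S`. -/
theorem hyperfocal_conj {s x : Ω} (hs : s ∈ S) (hx : x ∈ F.hyperfocalSubgroup p) :
    s * x * s⁻¹ ∈ F.hyperfocalSubgroup p := by
  induction hx using Subgroup.closure_induction with
  | mem z hz =>
    obtain ⟨P, α, y, hP, hα, rfl⟩ := hz
    have := finite_of_le_base hP
    obtain ⟨e, he, hmap⟩ := exists_transport (F := F) hP (fn_conj hP hs) rfl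
    let Φ : F.autGroup P →* F.autGroup (img (fun x => s * x * s⁻¹) P) :=
      ((MulAut.congr e).toMonoidHom.comp (F.autGroup P).subtype).codRestrict _
        fun a => hmap ▸ ⟨a, a.2, rfl⟩
    refine Subgroup.subset_closure ⟨_, Φ α, e y, (fn_conj (F := F) hP hs).img_le_base,
      CfsgLib.Fusion.Basic.map_pResidual_le Φ ⟨α, hα, rfl⟩, ?_⟩
    show _ = ((e y : _) : Ω)⁻¹ * (((MulAut.congr e) (α : MulAut P)) (e y) : _)
    simp [MulAut.congr, he]
    group
  | one => simp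
  | mul a b _ _ ha hb =>
    have := Subgroup.mul_mem _ ha hb
    simpa [mul_assoc] using this
  | inv a _ ha =>
    have := Subgroup.inv_mem _ ha
    simpa [mul_assoc] using this

theorem hyperfocal_stronglyClosed : F.StronglyClosed (F.hyperfocalSubgroup p) := by
  have hHS : F.hyperfocalSubgroup p ≤ S := (Subgroup.closure_le _).2 fun _ ⟨P, a, x, hP, _, e⟩ =>
    e ▸ S.mul_mem (S.inv_mem (hP x.2)) (hP ((a : MulAut P) x).2)
  let C : Subgroup Ω → (Ω → Ω) → Prop := fun P f =>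
    ∀ x ∈ P, x ∈ F.hyperfocalSubgroup p ↔ f x ∈ F.hyperfocalSubgroup p
  have hconj : ∀ s ∈ S, ∀ x, x ∈ F.hyperfocalSubgroup p ↔ s * x * s⁻¹ ∈ F.hyperfocalSubgroup p := by
    intro s hs x
    refine ⟨hyperfocal_conj hS hs, fun h => ?_⟩
    simpa [mul_assoc] using hyperfocal_conj hS (S.inv_mem hs) h
  let E := predSystem F C (fun P f g he _ h x hx => he x hx ▸ h x hx) (fun P _ s hs x _ => hconj s hs x)
    (fun P R f g hf hg hm h h' x hx => (h x hx).trans (h' _ (hm x hx)))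
    (fun P f g hf hg hgf h y hy => by
      obtain ⟨x, hx, rfl⟩ := hf.mem_img.1 hy
      rw [hgf x hx]
      exact (h x hx).symm)
  have hstep : ∀ P, F.IsFullyAutomized p P → F.autGroup P ≤ E.autGroup P := by
    intro P hA α hα
    obtain ⟨β, hβ, γ, hγ, rfl⟩ := exists_residual_decomp hS hF hA hα
    refine Subgroup.mul_mem _ ((mem_autGroup_iff_fn hA.1).2 (fn_predSystem.2
      ⟨(mem_autGroup_iff_fn hA.1).1 β.2, fun x hx => ?_⟩)) ?_
    · lift x to P using hx
      have hg : (x : Ω)⁻¹ * ((β : MulAut P) x : P) ∈ F.hyperfocalSubgroup p :=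
        Subgroup.subset_closure ⟨P, β, x, hA.1, hβ, rfl⟩
      rw [autFn_coe]
      refine ⟨fun h => ?_, fun h => ?_⟩
      · simpa using (F.hyperfocalSubgroup p).mul_mem h hg
      · simpa using (F.hyperfocalSubgroup p).mul_mem h ((F.hyperfocalSubgroup p).inv_mem hg)
    · exact autInducedBy_le_autGroup hA.1 hγ
  have hle : F ≤ E := le_of_automizers hS hF E (hstep S (fullyAutomized_top hF))
    fun P _ hP _ => hstep P (fullyNormalized_good hS hF hP).1
  exact stronglyClosed_iff_fn.2 ⟨hHS,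
    fun P f hf x hx hxH => ((fn_predSystem.1 (fn_of_le hle hf)).2 x hx).1 hxH⟩

theorem focal_eq_hyperfocal_sup : F.focalSubgroup = F.hyperfocalSubgroup p ⊔ ⁅S, S⁆ := by
  let C : Subgroup Ω → (Ω → Ω) → Prop := fun P f =>
    ∀ x ∈ P, x⁻¹ * f x ∈ F.hyperfocalSubgroup p ⊔ ⁅S, S⁆
  have hc : ∀ s ∈ S, ∀ x ∈ S, x⁻¹ * (s * x * s⁻¹) ∈ F.hyperfocalSubgroup p ⊔ ⁅S, S⁆ := by
    intro s hs x hx
    have := Subgroup.commutator_mem_commutator (S.inv_mem hx) hs
    simp only [commutatorElement_def, inv_inv, mul_assoc] at this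
    simpa only [mul_assoc] using Subgroup.mem_sup_right this
  let E := predSystem F C (fun P f g he _ h x hx => he x hx ▸ h x hx)
    (fun P hP s hs x hx => hc s hs x (hP hx))
    (fun P R f g hf hg hm h h' x hx => by
      simpa [mul_assoc] using Subgroup.mul_mem _ (h x hx) (h' _ (hm x hx)))
    (fun P f g hf hg hgf h y hy => by
      obtain ⟨x, hx, rfl⟩ := hf.mem_img.1 hy
      rw [hgf x hx]
      simpa using Subgroup.inv_mem _ (h x hx))
  have hstep : ∀ P, F.IsFullyAutomized p P → F.autGroup P ≤ E.autGroup P := by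
    intro P hA α hα
    obtain ⟨β, hβ, γ, hγ, rfl⟩ := exists_residual_decomp hS hF hA hα
    refine Subgroup.mul_mem _ ((mem_autGroup_iff_fn hA.1).2 (fn_predSystem.2
      ⟨(mem_autGroup_iff_fn hA.1).1 β.2, fun x hx => ?_⟩)) (autInducedBy_le_autGroup hA.1 hγ)
    lift x to P using hx
    rw [autFn_coe]
    exact Subgroup.mem_sup_left (Subgroup.subset_closure ⟨P, β, x, hA.1, hβ, rfl⟩)
  have hle : F ≤ E := le_of_automizers hS hF E (hstep S (fullyAutomized_top hF))
    fun P _ hP _ => hstep P (fullyNormalized_good hS hF hP).1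
  refine le_antisymm ((Subgroup.closure_le _).2 ?_)
    (sup_le ((Subgroup.closure_le _).2 ?_) (Subgroup.commutator_le.2 fun a ha b hb => ?_))
  · rintro _ ⟨P, φ, x, hφ, rfl⟩
    have := (fn_predSystem.1 (fn_of_le hle (fn_ofHom hφ))).2 x x.2
    rwa [ofHom_coe] at this
  · rintro _ ⟨P, α, x, hP, -, rfl⟩
    exact Subgroup.subset_closure ⟨P, P.subtype.comp (α : MulAut P).toMonoidHom, x,
      (mem_autGroup hP).1 α.2, rfl⟩
  · refine Subgroup.subset_closure ⟨S, conjHom S b, ⟨a⁻¹, S.inv_mem ha⟩, F.conj_mem le_rfl hb, ?_⟩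
    show ⁅a, b⁆ = a⁻¹⁻¹ * (b * a⁻¹ * b⁻¹)
    simp only [commutatorElement_def, inv_inv, mul_assoc]

/-- A hyperfocal element acts on a strongly closed subgroup through `O^p` and inner automorphisms. -/
theorem hyperfocal_acts (hT : F.StronglyClosed T) {x : Ω} (hx : x ∈ F.hyperfocalSubgroup p) :
    ∃ α ∈ ((pResidual p (F.autGroup T)).map (F.autGroup T).subtype ⊔ Inn T : Subgroup (MulAut T)),
      ∀ t : T, ((α t : T) : Ω) = x * (t : Ω) * x⁻¹ := by
  have := finite_of_le_base hT.1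
  let c : S →* MulAut T :=
    T.normalizerMonoidHom.comp (Subgroup.inclusion (sc_le_normalizer hT))
  have hcv : ∀ (s : S) (t : T), ((c s t : T) : Ω) = s * (t : Ω) * (s : Ω)⁻¹ := fun s t => rfl
  have hcA : ∀ s : S, c s ∈ F.autGroup T := fun s =>
    autInducedBy_le_autGroup hT.1 (mem_autInducedBy.2 ⟨s, s.2, hcv s⟩)
  let L : Subgroup (MulAut T) := (pResidual p (F.autGroup T)).map (F.autGroup T).subtype ⊔ Inn T
  let L' : Subgroup (F.autGroup T) := pResidual p (F.autGroup T) ⊔ (Inn T).subgroupOf (F.autGroup T)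
  have hL : ∀ a ∈ L', (a : MulAut T) ∈ L := by
    intro a ha
    have := Subgroup.mem_map_of_mem (F.autGroup T).subtype ha
    rw [Subgroup.map_sup] at this
    exact sup_le_sup le_rfl (Subgroup.map_subgroupOf_eq_of_le (inn_le_autGroup (F := F) hT.1)).le this
  have := inn_normal_aut (F := F) (P := T)
  have : L'.Normal := Subgroup.sup_normal _ _
  let D : Subgroup S := L'.comap (c.codRestrict _ hcA)
  suffices h : F.hyperfocalSubgroup p ≤ D.map S.subtype by
    obtain ⟨s, hs, rfl⟩ := h hx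
    exact ⟨c s, hL _ hs, hcv s⟩
  refine (Subgroup.closure_le _).2 ?_
  rintro _ ⟨P, α, y, hP, hα, rfl⟩
  have := finite_of_le_base hP
  have hmem : ∀ (a : MulAut P) (y : P), (y : Ω)⁻¹ * (a y : P) ∈ S := fun a y =>
    S.mul_mem (S.inv_mem (hP y.2)) (hP (a y).2)
  suffices h : ∀ y : P, (⟨_, hmem α y⟩ : S) ∈ D from ⟨⟨_, hmem α y⟩, h y, rfl⟩
  clear y
  induction hα using Subgroup.closure_induction with
  | mem a ha =>
    intro y
    obtain ⟨g, hg, hga⟩ := exists_extend_mod hS hF hT ((mem_autGroup_iff_fn hP).1 a.2)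
    have hgT : img g T = T := sc_img hT le_sup_right hg
    have hgi : img g (P ⊔ T) = P ⊔ T := by
      refine hg.img_eq_self fun z hz => (?_ : img g (P ⊔ T) ≤ P ⊔ T) (mem_img_of_mem hz)
      rw [hg.img_sup, hgT]
      refine sup_le (img_le fun z hz => ?_) le_sup_right
      simpa using (P ⊔ T).mul_mem (Subgroup.mem_sup_left (autFn_mem _ hz) : autFn (a : MulAut P) z ∈ P ⊔ T)
        (Subgroup.mem_sup_right (hga z hz))
    obtain ⟨b, hb, hbg⟩ := exists_aut_of_fn hg hgi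
    have hPT : P ⊔ T ≤ S := sup_le hP hT.1
    have := finite_of_le_base hPT
    have hpow : ∀ (k : ℕ) (z : Ω), z ∈ P →
        (autFn ((a : MulAut P) ^ k) z)⁻¹ * autFn (b ^ k) z ∈ T := by
      intro k
      induction k with
      | zero =>
        intro z hz
        rw [pow_zero, pow_zero, show autFn (1 : MulAut P) z = z from autFn_coe 1 ⟨z, hz⟩,
          show autFn (1 : MulAut ↥(P ⊔ T)) z = z from autFn_coe 1 ⟨z, Subgroup.mem_sup_left hz⟩, inv_mul_cancel]
        exact T.one_mem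
      | succ k ih =>
        intro z hz
        have hz' : z ∈ P ⊔ T := Subgroup.mem_sup_left hz
        have hu := autFn_mem ((a : MulAut P) ^ k) hz
        have hu' : autFn ((a : MulAut P) ^ k) z ∈ P ⊔ T := Subgroup.mem_sup_left hu
        rw [pow_succ', pow_succ', autFn_mul _ _ hz, autFn_mul _ _ hz']
        have hb' : ∀ w ∈ P ⊔ T, autFn b w = g w := fun w hw => (autFn_coe b ⟨w, hw⟩).trans (hbg ⟨w, hw⟩)
        rw [hb' _ (autFn_mem _ hz'),
          show autFn (b ^ k) z = autFn ((a : MulAut P) ^ k) z * ((autFn ((a : MulAut P) ^ k) z)⁻¹ * autFn (b ^ k) z)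
            by simp,
          hg.map_mul hu' (Subgroup.mem_sup_right (ih z hz)), ← mul_assoc]
        exact T.mul_mem (hga _ hu) (hgT.le (mem_img_of_mem (ih z hz)))
    obtain ⟨r, hr, hor⟩ := (Nat.finiteMultiplicity_iff.2 ⟨(Fact.out : p.Prime).ne_one,
      orderOf_pos b⟩).exists_eq_pow_mul_and_not_dvd
    generalize multiplicity p (orderOf b) = k at hr
    have hac : Nat.Coprime (p ^ k) (orderOf a) := (ha.symm.pow_left k)
    obtain ⟨m, hkm, ham⟩ : ∃ m, p ^ k ∣ m ∧ (a : MulAut P) ^ m = a := by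
      obtain ⟨m, hm⟩ := exists_pow_eq_self_of_coprime hac
      exact ⟨p ^ k * m, dvd_mul_right _ _, by rw [pow_mul, ← SubmonoidClass.coe_pow, ← SubmonoidClass.coe_pow, hm]⟩
    have hbT : img (autFn (b ^ m)) T = T :=
      sc_img hT le_sup_right ((mem_autGroup_iff_fn hPT).1 (pow_mem hb m))
    obtain ⟨δ, hδ, hδb⟩ :=
      exists_aut_of_fn (((mem_autGroup_iff_fn hPT).1 (pow_mem hb m)).mono le_sup_right) hbT
    have hδd : δ ^ r = 1 := by
      have hb1 : (b ^ m) ^ r = 1 := by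
        obtain ⟨u, rfl⟩ := hkm
        rw [← pow_mul, show p ^ k * u * r = p ^ k * r * u by ring, ← hr, pow_mul, pow_orderOf_eq_one, one_pow]
      have hkey : ∀ (j : ℕ) (t : T), (((δ ^ j) t : T) : Ω) = autFn ((b ^ m) ^ j) t := by
        intro j
        induction j with
        | zero =>
          intro t
          rw [pow_zero, pow_zero]
          exact (autFn_coe (1 : MulAut ↥(P ⊔ T)) ⟨t, Subgroup.mem_sup_right t.2⟩).symm
        | succ j ih =>
          intro t
          rw [pow_succ', pow_succ', MulAut.mul_apply, hδb, ih t,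
            autFn_mul _ _ (Subgroup.mem_sup_right t.2)]
      refine MulEquiv.ext fun t => Subtype.ext ?_
      rw [hkey r t, hb1]
      exact autFn_coe (1 : MulAut ↥(P ⊔ T)) ⟨t, Subgroup.mem_sup_right t.2⟩
    have hδL : (⟨δ, hδ⟩ : F.autGroup T) ∈ L' := by
      refine Subgroup.mem_sup_left (Subgroup.subset_closure ?_)
      refine Nat.Coprime.coprime_dvd_left (orderOf_dvd_of_pow_eq_one (Subtype.ext hδd :
        (⟨δ, hδ⟩ : F.autGroup T) ^ r = 1)) ?_
      exact ((Fact.out : p.Prime).coprime_iff_not_dvd.2 hor).symm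
    show c.codRestrict _ hcA ⟨_, hmem a y⟩ ∈ L'
    have hy' : (y : Ω) ∈ P ⊔ T := Subgroup.mem_sup_left y.2
    have h3 := hpow m y y.2
    rw [ham, autFn_coe] at h3
    have hbfn := (mem_autGroup_iff_fn hPT).1 (pow_mem hb m)
    let w : S := ⟨autFn (b ^ m) y, hbfn.mem hy'⟩
    let t₀ : S := ⟨_, hT.1 h3⟩
    have e : (⟨_, hmem a y⟩ : S) = ⟨(y : Ω), hP y.2⟩⁻¹ * w * t₀⁻¹ := Subtype.ext <| by
      show (y : Ω)⁻¹ * ((a : MulAut P) y : P) = (y : Ω)⁻¹ * autFn (b ^ m) y *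
        ((((a : MulAut P) y : P) : Ω)⁻¹ * autFn (b ^ m) y)⁻¹
      group
    have hw : c.codRestrict _ hcA w =
        ⟨δ, hδ⟩ * c.codRestrict _ hcA ⟨(y : Ω), hP y.2⟩ * (⟨δ, hδ⟩ : F.autGroup T)⁻¹ := by
      refine Subtype.ext (eq_mul_inv_of_mul_eq (MulEquiv.ext fun t => Subtype.ext ?_))
      show ((c w (δ t) : T) : Ω) = (δ (c ⟨(y : Ω), hP y.2⟩ t) : T)
      rw [hcv, hδb, hδb, hcv]
      exact (hbfn.map_conj hy' (Subgroup.mem_sup_right t.2)).symm
    rw [e, map_mul, map_mul, map_inv, map_inv, hw]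
    refine L'.mul_mem ?_ (L'.inv_mem (Subgroup.mem_sup_right
      ⟨⟨_, h3⟩, MulEquiv.ext fun t => Subtype.ext rfl⟩))
    simpa [mul_assoc] using L'.mul_mem (Subgroup.Normal.conj_mem inferInstance _ hδL
      (c.codRestrict _ hcA ⟨(y : Ω), hP y.2⟩)⁻¹) (L'.inv_mem hδL)
  | one =>
    intro y
    have : (⟨_, hmem (1 : F.autGroup P) y⟩ : S) = 1 := Subtype.ext (by simp)
    exact this ▸ D.one_mem
  | mul u v _ _ hu hv =>
    intro y
    have : (⟨_, hmem (u * v : F.autGroup P) y⟩ : S) =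
        ⟨_, hmem v y⟩ * ⟨_, hmem u ((v : MulAut P) y)⟩ := Subtype.ext (by simp [mul_assoc])
    exact this ▸ D.mul_mem (hv y) (hu _)
  | inv u _ hu =>
    intro y
    have : (⟨_, hmem (u⁻¹ : F.autGroup P) y⟩ : S) = (⟨_, hmem u (((u : MulAut P))⁻¹ y)⟩ : S)⁻¹ :=
      Subtype.ext (by simp [MulAut.apply_inv_self])
    exact this ▸ D.inv_mem (hu _)

omit hS hF in
/-- A group in which only the identity has order prime to `p` is a `p`-group. -/
theorem isPGroup_of_forall_coprime {A : Type*} [Group A] [Finite A]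
    (h : ∀ a : A, Nat.Coprime (orderOf a) p → a = 1) : IsPGroup p A := by
  intro a
  obtain ⟨r, hr, hor⟩ := (Nat.finiteMultiplicity_iff.2 ⟨(Fact.out : p.Prime).ne_one,
      orderOf_pos a⟩).exists_eq_pow_mul_and_not_dvd
  generalize multiplicity p (orderOf a) = k at hr
  refine ⟨k, h _ ?_⟩
  refine Nat.Coprime.coprime_dvd_left (orderOf_dvd_of_pow_eq_one (n := r) ?_)
    ((Fact.out : p.Prime).coprime_iff_not_dvd.2 hor).symm
  rw [← pow_mul, ← hr, pow_orderOf_eq_one]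

/-- A chain condition on focal subgroups forces the inner system. -/
theorem inner_of_focal_chain (n : ℕ) (Q : Fin (n + 1) → Subgroup Ω) (hQ0 : Q 0 = S)
    (hQn : Q (Fin.last n) = ⊥)
    (hstep : ∀ i : Fin n, Subgroup.closure {y : Ω | ∃ x ∈ Q i.castSucc,
      ∃ φ ∈ F.Hom (Subgroup.zpowers x), y = x⁻¹ * φ ⟨x, Subgroup.mem_zpowers x⟩} ≤ Q i.succ) :
    F = innerFusionSystem S := by
  refine Cfsg.Agent.S5083.result p hS F hF fun P hP => ?_
  have := finite_of_le_base hP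
  refine isPGroup_of_forall_coprime fun a ha => ?_
  suffices h : ∀ i : Fin (n + 1), ∀ x : P, (x : Ω) ∈ Q i → (a : MulAut P) x = x from
    Subtype.ext (MulEquiv.ext fun x => h 0 x (hQ0.symm ▸ hP x.2))
  intro i
  induction i using Fin.reverseInduction with
  | last =>
    intro x hx
    rw [hQn, Subgroup.mem_bot] at hx
    rw [show x = 1 from Subtype.ext hx, map_one]
  | cast i ih =>
    intro x hx
    obtain ⟨φ, hφ, hφf⟩ := ((mem_autGroup_iff_fn hP).1 a.2).mono (Subgroup.zpowers_le.2 x.2)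
    have hy := ih (x⁻¹ * (a : MulAut P) x) (hstep i (Subgroup.subset_closure
      ⟨x, hx, φ, hφ, by rw [hφf]; simp⟩))
    generalize hyd : x⁻¹ * (a : MulAut P) x = y at hy
    have hx1 : (a : MulAut P) x = x * y := by rw [← hyd, mul_inv_cancel_left]
    have hpow : ∀ k : ℕ, ((a : MulAut P) ^ k) x = x * y ^ k := by
      intro k
      induction k with
      | zero => simp
      | succ k ih' => rw [pow_succ', MulAut.mul_apply, ih', map_mul, map_pow, hy, hx1, mul_assoc, ← pow_succ']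
    have h1 := hpow (orderOf a)
    rw [← SubmonoidClass.coe_pow, pow_orderOf_eq_one] at h1
    have hyn : y ^ orderOf a = 1 := by simpa using h1
    obtain ⟨j, hj⟩ := (hS.to_le hP) y
    have hy1 : orderOf y = 1 := by
      refine Nat.eq_one_of_dvd_coprimes (ha.pow_right j) (orderOf_dvd_of_pow_eq_one hyn)
        (orderOf_dvd_of_pow_eq_one hj)
    rw [hx1, orderOf_eq_one_iff.1 hy1, mul_one]

/-- Agreement on the subgroups of order `p` and their centralizer systems gives equality. -/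
theorem eq_of_agree_centralizers {F' : FusionSystem S} (hF' : F'.IsSaturated p) (hle : F' ≤ F)
    (hZ : ∀ Z : Subgroup Ω, Z ≤ S → Nat.card Z = p → F'.IsFullyCentralized Z →
      F.Hom Z = F'.Hom Z ∧ ∀ (C C' : FusionSystem (centralizerIn S Z)), F.IsCentralizerSystem Z C →
        F'.IsCentralizerSystem Z C' → ∀ P : Subgroup Ω, C.Hom P = C'.Hom P) : F = F' := by
  refine system_ext fun P => Set.Subset.antisymm (fun φ hφ => ?_) (hle P)
  rw [mem_hom_iff]
  have hf := fn_ofHom hφ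
  generalize ofHom φ = f at hf
  clear hφ φ
  rcases eq_or_ne P ⊥ with hP | hP
  · exact (fn_id hf.le).congr fun x hx => by
      rw [hP, Subgroup.mem_bot] at hx
      rw [hx, hf.map_one]
      rfl
  have := finite_of_le_base hf.le
  have hPp : IsPGroup p P := hS.to_le hf.le
  have : Nontrivial P := (Subgroup.nontrivial_iff_ne_bot _).2 hP
  have : Nontrivial (Subgroup.center P) := hPp.center_nontrivial
  obtain ⟨k, hk, hcard⟩ := (hPp.to_subgroup (Subgroup.center P)).nontrivial_iff_card.1 this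
  obtain ⟨z, hz⟩ := exists_prime_orderOf_dvd_card' p (hcard ▸ dvd_pow_self p hk.ne' : p ∣ Nat.card (Subgroup.center P))
  let Z : Subgroup Ω := Subgroup.zpowers ((z : P) : Ω)
  have hZP : Z ≤ P := Subgroup.zpowers_le.2 (z : P).2
  have hZc : Nat.card Z = p := by
    rw [Nat.card_zpowers, Subgroup.orderOf_coe, Subgroup.orderOf_coe, hz]
  have hPC : P ≤ centralizerIn S Z := fun x hx => mem_centralizerIn.2 ⟨hf.le hx, fun w hw => by
    obtain ⟨j, rfl⟩ := Subgroup.mem_zpowers_iff.1 hw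
    refine (Commute.zpow_left ?_ j).eq
    exact (congrArg Subtype.val (Subgroup.mem_center_iff.1 z.2 ⟨x, hx⟩)).symm⟩
  obtain ⟨Z', hZZ', hZ'⟩ := exists_fullyCentralized (F := F') (hZP.trans hf.le)
  obtain ⟨f₁, hf₁, rfl⟩ := isConj_iff.1 hZZ'
  obtain ⟨N₁, g₁, hg₁, hZN₁, hN₁, hge₁⟩ :=
    receptive_extend (fullyCentralized_receptive hS hF' hZ') hf₁ rfl
  have hPN₁ : P ≤ N₁ := fun x hx => (hN₁ x).2 (inExt_of_commute (hPC hx))
  have hZ'S : img f₁ Z ≤ S := hf₁.img_le_base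
  have hcard' : Nat.card (img f₁ Z) = p := by rw [hf₁.card_img, hZc]
  obtain ⟨hH, hCC⟩ := hZ _ hZ'S hcard' hZ'
  -- transport `f` to a map fixing `Z' = f₁(Z)`
  obtain ⟨g₁', hg₁', hg₁e, hg₁i⟩ := (hg₁.mono hPN₁).exists_inv
  have hZ'P : img f₁ Z ≤ img g₁ P := img_le fun x hx => hge₁ x hx ▸ mem_img_of_mem (hZP hx)
  have hgm : ∀ y ∈ img g₁ P, g₁' y ∈ P := fun y hy => hg₁i.le (mem_img_of_mem hy)
  have hh : Fn F (img g₁ P) (f ∘ g₁') := (fn_of_le hle hg₁').comp hf hgm
  have hθ : Fn F' (img f₁ Z) (f ∘ g₁') := by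
    obtain ⟨θ, hθ, hθf⟩ := hh.mono hZ'P
    exact ⟨θ, hH ▸ hθ, hθf⟩
  obtain ⟨θi, hθi, hθe, hθii⟩ := hθ.exists_inv
  obtain ⟨N, g, hg, hWN, hN, hge⟩ := receptive_extend (fullyCentralized_receptive hS hF' hZ') hθi hθii
  have hhC : ∀ y ∈ img g₁ P, (f ∘ g₁') y ∈ centralizerIn S (img (f ∘ g₁') (img f₁ Z)) := by
    intro y hy
    refine hh.map_centralizer hZ'P rfl hy (mem_centralizerIn.2 ⟨hg₁'.le hy, fun w hw => ?_⟩)
    obtain ⟨x, hx, rfl⟩ := (hg₁.mono hPN₁).mem_img.1 hy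
    obtain ⟨u, hu, rfl⟩ := hf₁.mem_img.1 hw
    rw [← hge₁ u hu, ← hg₁.map_mul (hZN₁ hu) (hPN₁ hx), ← hg₁.map_mul (hPN₁ hx) (hZN₁ hu),
      (mem_centralizerIn.1 (hPC hx)).2 u hu]
  have hhN : ∀ y ∈ img g₁ P, (f ∘ g₁') y ∈ N := fun y hy => (hN _).2 (inExt_of_commute (hhC y hy))
  have hu : Fn F (img g₁ P) (g ∘ (f ∘ g₁')) := hh.comp (fn_of_le hle hg) hhN
  have hfix : ∀ w ∈ img f₁ Z, g ((f ∘ g₁') w) = w := fun w hw => by
    rw [hge _ (mem_img_of_mem hw), hθe w hw]
  have hC' : img g₁ P ≤ centralizerIn S (img f₁ Z) := by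
    refine img_le fun x hx => ?_
    refine hg₁.map_centralizer hZN₁ ((img_congr hge₁).trans rfl) (hPN₁ hx) (hPC hx)
  obtain ⟨φu, hφu, hφuf⟩ := id hu
  obtain ⟨C, hC⟩ := exists_centralizerSystem (F := F) hZ'S
  obtain ⟨C', hC''⟩ := exists_centralizerSystem (F := F') hZ'S
  have hin : φu ∈ F.centralizerHom (img f₁ Z) (img g₁ P) := by
    refine centralizerHom_iff.2 ?_
    simp only [KMap, kN_bot, ind_bot_iff]
    have e : img g₁ P ⊔ img f₁ Z = img g₁ P := sup_eq_left.2 hZ'P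
    refine ⟨hC', fun x hx => ?_, g ∘ (f ∘ g₁'), e.symm ▸ hu, fun x hx => ?_, hfix⟩
    · rw [ofHom_apply φu hx, hφuf]
      refine hu.map_centralizer hZ'P ?_ hx (hC' hx)
      exact (img_congr (g := id) hfix).trans (img_id _)
    · rw [ofHom_apply φu hx, hφuf]
  have huF' : Fn F' (img g₁ P) (g ∘ (f ∘ g₁')) := by
    rw [← hC, hCC C C' hC hC'', hC''] at hin
    exact ⟨φu, hin.1, hφuf⟩
  obtain ⟨gi, hgi, hgie, -⟩ := hg.exists_inv
  have hback : Fn F' (img g₁ P) (f ∘ g₁') :=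
    (huF'.comp hgi fun y hy => mem_img_of_mem (hhN y hy)).congr fun y hy => hgie _ (hhN y hy)
  refine ((hg₁.mono hPN₁).comp hback fun x hx => mem_img_of_mem hx).congr fun x hx => ?_
  show f (g₁' (g₁ x)) = f x
  rw [hg₁e x hx]

end Finite

/-- Saturation from the Sylow condition on `S` and receptivity of fully normalized subgroups. -/
theorem saturated_of_top_and_receptive [Finite S] {p : ℕ} [Fact p.Prime] (hS : IsPGroup p S)
    (hA : F.IsFullyAutomized p S) (hr : ∀ P : Subgroup Ω, F.IsFullyNormalized P → F.IsReceptive P) :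
    F.IsSaturated p := by
  refine isSaturated_of_axioms fun P hP => ⟨?_, hr P hP⟩
  have hPS := hP.1
  revert hP
  refine induction_down (C := fun P => F.IsFullyNormalized P → F.IsFullyAutomized p P) P hPS ?_
  intro P hPS ih hP
  rcases eq_or_lt_of_le hPS with rfl | hlt
  · exact hA
  have := finite_of_le_base hPS
  have hR0 : IsPGroup p ((autInducedBy S P).subgroupOf (F.autGroup P)) :=
    (isPGroup_autInducedBy hS).comap_of_injective _ (Subgroup.subtype_injective _)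
  obtain ⟨T, hT⟩ := hR0.exists_le_sylow
  refine ⟨hPS, T, le_antisymm ?_ hT⟩
  by_contra hne
  have hlt' : ((autInducedBy S P).subgroupOf (F.autGroup P)).subgroupOf (T : Subgroup (F.autGroup P)) < ⊤ := by
    rw [lt_top_iff_ne_top, Ne, Subgroup.subgroupOf_eq_top]
    exact hne
  obtain ⟨a₀, ha₀N, ha₀⟩ := SetLike.exists_of_lt
    (normalizerCondition_of_isNilpotent (h := T.2.isNilpotent) _ hlt')
  have hr₀ := hr P hP
  let a : MulAut P := ((a₀ : F.autGroup P) : MulAut P)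
  obtain ⟨M, g, hg, hPM, hM, hge⟩ :=
    receptive_extend hr₀ ((mem_autGroup_iff_fn hPS).1 (a₀ : F.autGroup P).2) (img_autFn a)
  have hNM : normalizerIn S P ≤ M := fun n hn => by
    refine (hM n).2 ⟨hn.1, hn.2, ?_⟩
    let c : F.autGroup P := ⟨_, autInducedBy_le_autGroup hPS (conjAut_mem_autInducedBy hn.2 hn.1)⟩
    have hc : c ∈ (autInducedBy S P).subgroupOf (F.autGroup P) := conjAut_mem_autInducedBy hn.2 hn.1
    have := (Subgroup.mem_normalizer_iff.1 ha₀N ⟨c, hT hc⟩).1 hc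
    obtain ⟨s, hs, hsx⟩ := mem_autInducedBy.1 (show a * conjAut P hn.2 * a⁻¹ ∈ autInducedBy S P from this)
    refine ⟨s, hs, fun x hx => ?_⟩
    lift x to P using hx
    have h4 := hsx (a x)
    simp only [MulAut.mul_apply, MulAut.inv_apply_self] at h4
    rw [← conjAut_coe hn.2 x, autFn_coe, autFn_coe]
    exact h4
  have hgN := hg.mono hNM
  have hgP : img g P = P := (img_congr hge).trans (img_autFn a)
  obtain ⟨β, hβ, hβg⟩ := exists_aut_of_fn hgN
    (hgN.img_eq_self fun n hn => hg.map_normalizer hPM hgP (hNM hn) hn.2)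
  have hβP : ∀ (j : ℕ) (x : P), autFn (β ^ j) x = ((a ^ j) x : P) := by
    intro j
    induction j with
    | zero => exact fun x => autFn_coe (1 : MulAut ↥(normalizerIn S P)) ⟨x, le_normalizerIn hPS x.2⟩
    | succ j ih =>
      intro x
      rw [pow_succ', pow_succ', autFn_mul _ _ (le_normalizerIn hPS x.2), ih x, MulAut.mul_apply]
      refine (autFn_coe β ⟨_, le_normalizerIn hPS ((a ^ j) x).2⟩).trans ((hβg _).trans ?_)
      exact (hge _ ((a ^ j) x).2).trans (autFn_coe a _)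
  have := finite_of_le_base (normalizerIn_le : normalizerIn S P ≤ S)
  obtain ⟨r, hr', hor⟩ := (Nat.finiteMultiplicity_iff.2 ⟨(Fact.out : p.Prime).ne_one,
      orderOf_pos β⟩).exists_eq_pow_mul_and_not_dvd
  generalize multiplicity p (orderOf β) = k at hr'
  -- pass to a fully normalized conjugate of `N_S(P)`
  obtain ⟨N', hNN', hN'⟩ := exists_fullyNormalized (F := F) (normalizerIn_le : normalizerIn S P ≤ S)
  have hcardlt : Nat.card P < Nat.card (normalizerIn S P) := by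
    simpa only [SetLike.coe_sort_coe] using
      Set.Finite.card_lt_card (Set.toFinite (normalizerIn S P : Set Ω)) (lt_normalizerIn hS hlt)
  have hA' : F.IsFullyAutomized p N' := ih N' hN'.1 (hcardlt.trans_eq (isConj_card hNN').symm) hN'
  obtain ⟨f₀, hf₀, hf₀i⟩ := isConj_iff.1 hNN'
  obtain ⟨e, he, hmap⟩ := exists_transport normalizerIn_le hf₀ hf₀i
  let τ : MulAut N' := MulAut.congr e (β ^ r)
  have hτ : τ ∈ F.autGroup N' := hmap ▸ ⟨_, pow_mem hβ r, rfl⟩
  have hτp : IsPGroup p (Subgroup.zpowers τ) := by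
    refine IsPGroup.of_card (n := k) ?_
    rw [Nat.card_zpowers]
    show orderOf ((MulAut.congr e) (β ^ r)) = _
    rw [MulEquiv.orderOf_eq, orderOf_pow, hr', Nat.gcd_eq_right (dvd_mul_left r _),
      Nat.mul_div_cancel _ (Nat.pos_of_ne_zero fun h => hor (by rw [h]; exact dvd_zero p))]
  obtain ⟨γ, hγ, hγτ⟩ := exists_conj_into hS hA' (Subgroup.zpowers_le.2 hτ) hτp
  obtain ⟨s, hs, hsx⟩ := mem_autInducedBy.1 (hγτ τ (Subgroup.mem_zpowers τ))
  have hh : Fn F (normalizerIn S P) (autFn γ ∘ f₀) :=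
    hf₀.comp ((mem_autGroup_iff_fn hN'.1).1 hγ) fun x hx => hf₀i.le (mem_img_of_mem hx)
  have hhi : img (autFn γ ∘ f₀) (normalizerIn S P) = N' := by rw [hf₀.img_comp, hf₀i, img_autFn]
  have hP' : F.IsConj P (img (autFn γ ∘ f₀) P) := isConj_of_fn (hh.mono (le_normalizerIn hPS))
  have hNeq : N' = normalizerIn S (img (autFn γ ∘ f₀) P) := by
    refine eq_of_le_of_card normalizerIn_le (hhi.ge.trans (img_le fun n hn =>
      hh.map_normalizer (le_normalizerIn hPS) rfl hn hn.2)) ?_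
    exact (hP.2 _ hP').trans (isConj_card hNN').ge
  have hconj : ∀ x ∈ normalizerIn S P,
      (autFn γ ∘ f₀) (autFn (β ^ r) x) = s * (autFn γ ∘ f₀) x * s⁻¹ := by
    intro x hx
    lift x to normalizerIn S P using hx
    have h4 := hsx (γ (e x))
    simp only [MulAut.mul_apply, MulAut.inv_apply_self] at h4
    show autFn γ (f₀ (autFn (β ^ r) x)) = s * autFn γ (f₀ x) * s⁻¹
    rw [autFn_coe, ← he, ← he, autFn_coe, autFn_coe, ← h4]
    simp [τ, MulAut.congr]
  have hsN : s ∈ N' := by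
    rw [hNeq]
    have := finite_of_le_base (isConj_le_right hP')
    refine ⟨hs, mem_normalizer_of_map_le fun y hy => ?_⟩
    obtain ⟨x, hx, rfl⟩ := (hh.mono (le_normalizerIn hPS)).mem_img.1 hy
    rw [← hconj x (le_normalizerIn hPS hx)]
    exact mem_img_of_mem (show autFn (β ^ r) x ∈ P from hβP r ⟨x, hx⟩ ▸ ((a ^ r) ⟨x, hx⟩).2)
  obtain ⟨n, hn, rfl⟩ := hh.mem_img.1 (hhi.ge hsN)
  have har : a ^ r = conjAut P hn.2 := MulEquiv.ext fun x => Subtype.ext <| by
    rw [conjAut_coe, ← hβP r x]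
    have hx' := le_normalizerIn hPS x.2
    refine hh.inj (autFn_mem _ hx')
      ((normalizerIn S P).mul_mem ((normalizerIn S P).mul_mem hn hx') ((normalizerIn S P).inv_mem hn)) ?_
    rw [hconj _ hx', hh.map_conj hn hx']
  have hao : Nat.Coprime r (orderOf a₀) := by
    obtain ⟨j, hj⟩ := T.2 a₀
    exact Nat.Coprime.coprime_dvd_right (orderOf_dvd_of_pow_eq_one hj)
      (((Fact.out : p.Prime).coprime_iff_not_dvd.2 hor).symm.pow_right j)
  obtain ⟨m, hm⟩ := exists_pow_eq_self_of_coprime hao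
  apply ha₀
  show a ∈ autInducedBy S P
  have : a = (a ^ r) ^ m := by
    have := congrArg (fun z : (T : Subgroup (F.autGroup P)) => ((z : F.autGroup P) : MulAut P)) hm
    simpa using this.symm
  rw [this, har]
  exact pow_mem (conjAut_mem_autInducedBy hn.2 hn.1) m

end CfsgLib.Fsys
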