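import Cfsg.Agent.Lib.FusionSystem.Rigidity
/-
Subsystems on strongly closed subgroups; invariant subsystems.
-/
set_option autoImplicit false

namespace CfsgLib.Fsys

open Cfsg
open Cfsg.FusionSystem (centralizerIn normalizerIn)

variable {Ω : Type*} [Group Ω] {S T : Subgroup Ω} {F : FusionSystem S} {P Q R : Subgroup Ω}

theorem Fn.of_subsystem {E : FusionSystem T} (hE : E.IsSubsystemOf F) {f : Ω → Ω} (h : Fn E P f) :
    Fn F P f := by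
  obtain ⟨φ, hφ, hf⟩ := h
  exact ⟨φ, hE P hφ, hf⟩

theorem subsystem_le {E : FusionSystem T} (hE : E.IsSubsystemOf F) : T ≤ S :=
  (Fn.of_subsystem hE (fn_id (F := E) le_rfl)).le

theorem sc_apply (hT : F.StronglyClosed T) {f : Ω → Ω} (hf : Fn F P f) {x : Ω} (hx : x ∈ P)
    (hxT : x ∈ T) : f x ∈ T := by
  obtain ⟨φ, hφ, hφf⟩ := hf.mono (inf_le_left : P ⊓ T ≤ P)
  exact hφf ⟨x, hx, hxT⟩ ▸ hT.2 _ inf_le_right φ hφ _

theorem Invariant.frattini {E : FusionSystem T} (hE : E.IsInvariantIn F) (hP : P ≤ T) {f : Ω → Ω}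
    (hf : Fn F P f) :
    ∃ α ∈ F.autGroup T, ∃ g : Ω → Ω, Fn E P g ∧ ∀ x ∈ P, f x = autFn α (g x) := by
  obtain ⟨φ, hφ, hφf⟩ := hf
  obtain ⟨α, hα, φ₀, hφ₀, h⟩ := hE.2.2.2 P hP φ hφ
  refine ⟨α, hα, ofHom φ₀, fn_ofHom hφ₀, fun x hx => ?_⟩
  have hm := (E.le_of_mem hφ₀).2 ⟨x, hx⟩
  rw [← hφf ⟨x, hx⟩, h ⟨x, hx⟩ hm, ofHom_apply φ₀ hx]
  exact (autFn_coe α ⟨_, hm⟩).symm

theorem Invariant.aut {E : FusionSystem T} (hE : E.IsInvariantIn F) (hP : P ≤ T) {g : Ω → Ω}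
    (hg : Fn E P g) {α : MulAut T} (hα : α ∈ F.autGroup T) :
    ∃ χ : Ω → Ω, Fn E (img (autFn α) P) χ ∧ ∀ x ∈ P, χ (autFn α x) = autFn α (g x) := by
  obtain ⟨φ, hφ, hφg⟩ := id hg
  obtain ⟨χ, hχ, h⟩ := hE.2.2.1 P hP φ hφ α hα
  have e : (P.subgroupOf T).map (T.subtype.comp α.toMonoidHom) = img (autFn α) P := by
    refine le_antisymm ?_ (img_le fun x hx => ⟨⟨x, hP hx⟩, hx, (autFn_coe α ⟨x, hP hx⟩).symm⟩)
    rintro _ ⟨x, hx, rfl⟩
    show ((α x : T) : Ω) ∈ _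
    rw [← autFn_coe]
    exact mem_img_of_mem hx
  refine ⟨ofHom χ, e ▸ fn_ofHom hχ, fun x hx => ?_⟩
  have hxT : ((α ⟨x, hP hx⟩ : T) : Ω) ∈ (P.subgroupOf T).map (T.subtype.comp α.toMonoidHom) :=
    ⟨⟨x, hP hx⟩, hx, rfl⟩
  rw [show autFn α x = ((α ⟨x, hP hx⟩ : T) : Ω) from autFn_coe α ⟨x, hP hx⟩, ofHom_apply χ hxT,
    h ⟨x, hx⟩ ((E.le_of_mem hφ).2 _) hxT, ← hφg ⟨x, hx⟩]
  exact (autFn_coe α ⟨_, _⟩).symm

/-- Strong invariance of an invariant subsystem. -/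
theorem Invariant.strong {E : FusionSystem T} (hE : E.IsInvariantIn F) {M X : Subgroup Ω} (hM : M ≤ T)
    {f g : Ω → Ω} (hf : Fn F M f) (hX : X ≤ M) (hg : Fn E X g) (hgM : ∀ x ∈ X, g x ∈ M) :
    ∃ χ : Ω → Ω, Fn E (img f X) χ ∧ ∀ x ∈ X, χ (f x) = f (g x) := by
  obtain ⟨α, hα, u, hu, hfu⟩ := Invariant.frattini hE hM hf
  obtain ⟨u', hu', hu'u, hu'i⟩ := (hu.mono hX).exists_inv
  have h1 : Fn E (img u X) (u ∘ g ∘ u') :=
    (hu'.comp hg fun y hy => hu'i.le (mem_img_of_mem hy)).comp hu fun y hy =>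
      hgM _ (hu'i.le (mem_img_of_mem hy))
  obtain ⟨χ, hχ, hχe⟩ := Invariant.aut hE ((hu.mono hX).img_le_base) h1 hα
  have e : img f X = img (autFn α) (img u X) :=
    (img_congr fun x hx => hfu x (hX hx)).trans ((hu.mono hX).img_comp (g := autFn α))
  refine ⟨χ, e ▸ hχ, fun x hx => ?_⟩
  rw [hfu x (hX hx), hχe _ (mem_img_of_mem hx), hfu _ (hgM x hx)]
  show autFn α (u (g (u' (u x)))) = _
  rw [hu'u x hx]

theorem Invariant.conj_mem {E : FusionSystem T} (hE : E.IsInvariantIn F) (hP : P ≤ T)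
    {α τ : MulAut P} (hα : α ∈ F.autGroup P) (hτ : τ ∈ E.autGroup P) :
    α * τ * α⁻¹ ∈ E.autGroup P := by
  obtain ⟨χ, hχ, h⟩ := Invariant.strong hE hP ((mem_autGroup_iff_fn (hP.trans hE.2.1.1)).1 hα) le_rfl
    ((mem_autGroup_iff_fn hP).1 hτ) fun x hx => autFn_mem τ hx
  rw [img_autFn] at hχ
  refine (mem_autGroup_iff_fn hP).2 (hχ.congr fun y hy => ?_)
  have := h _ (autFn_mem α⁻¹ hy)
  rw [autFn_apply_inv α hy] at this
  rw [this, autFn_mul _ _ hy, autFn_mul _ _ (autFn_mem _ hy)]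

variable [Finite S] {p : ℕ} [Fact p.Prime] (hS : IsPGroup p S) (hF : F.IsSaturated p)
include hS hF

theorem fullyNormalized_sub (hT : F.StronglyClosed T) {E : FusionSystem T} (hE : E.IsSubsystemOf F)
    (hQT : Q ≤ T) (hQ : F.IsFullyNormalized Q) : E.IsFullyNormalized Q := by
  refine ⟨hQT, fun R hR => ?_⟩
  obtain ⟨φ, hφ, hr⟩ := hR
  have hRT : R ≤ T := hr ▸ fun y ⟨x, hx⟩ => hx ▸ (E.le_of_mem hφ).2 x
  obtain ⟨g, hg, hgn, -⟩ := exists_normalizer_map hS (fullyNormalized_good hS hF hQ).1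
    (fullyNormalized_receptive hS hF hQ) (isConj_symm ⟨φ, hE Q hφ, hr⟩)
  have hle : normalizerIn T R ≤ normalizerIn S R := inf_le_inf hT.1 le_rfl
  exact card_le_of_map_le (inf_le_left.trans hT.1) (hg.mono hle) fun n hn =>
    ⟨sc_apply hT hg (hle hn) hn.1, (hgn n (hle hn)).2⟩

theorem fullyCentralized_sub (hT : F.StronglyClosed T) {E : FusionSystem T} (hE : E.IsSubsystemOf F)
    (hQT : Q ≤ T) (hQ : F.IsFullyCentralized Q) : E.IsFullyCentralized Q := by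
  refine ⟨hQT, fun R hR => ?_⟩
  obtain ⟨φ, hφ, hr⟩ := hR
  obtain ⟨f, hf, hfi⟩ := isConj_iff.1 (isConj_symm (F := F) ⟨φ, hE Q hφ, hr⟩)
  obtain ⟨N, g, hg, hRN, hN, hge⟩ := receptive_extend (fullyCentralized_receptive hS hF hQ) hf hfi
  have hle : centralizerIn T R ≤ centralizerIn S R := inf_le_inf hT.1 le_rfl
  have hle' : centralizerIn T R ≤ N := fun n hn => (hN n).2 (inExt_of_commute (hle hn))
  exact card_le_of_map_le (inf_le_left.trans hT.1) (hg.mono hle') fun n hn =>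
    ⟨sc_apply hT hg (hle' hn) hn.1,
      (hg.map_centralizer hRN ((img_congr hge).trans hfi) (hle' hn) (hle hn)).2⟩

end CfsgLib.Fsys
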