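import Cfsg.Agent.Lib.FusionSystem.FactorSaturated
import Cfsg.Agent.Lib.FusionSystem.Generation
import Cfsg.Agent.Lib.FusionSystem.Invariant
/-
Systems generated by one automorphism group, inner systems, normality criteria, abelian and solvable systems.
-/
set_option autoImplicit false

namespace CfsgLib.Fsys

open Cfsg
open Cfsg.FusionSystem (centralizerIn normalizerIn extender imageAlong preimageAlong)
open scoped commutatorElement Pointwise

variable {Ω : Type*} [Group Ω] {S : Subgroup Ω} {F : FusionSystem S} {P Q R T : Subgroup Ω}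
variable {p : ℕ} [Fact p.Prime]

/-! ### Systems of restrictions of automorphisms -/

/-- The fusion system over `T` of the restrictions of the members of `L`. -/
def autSystem (L : Subgroup (MulAut T)) (hL : Inn T ≤ L) : FusionSystem T where
  Hom P := {φ | P ≤ T ∧ ∃ a ∈ L, ∀ x : P, φ x = autFn a x}
  le_of_mem := fun {P φ} ⟨hP, a, _, h⟩ => ⟨hP, fun x => h x ▸ autFn_mem a (hP x.2)⟩
  injective_of_mem := fun {P φ} ⟨hP, a, _, h⟩ x y e => by
    rw [h, h] at e
    have := congrArg (autFn a⁻¹) e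
    rw [autFn_inv_apply a (hP x.2), autFn_inv_apply a (hP y.2)] at this
    exact Subtype.ext this
  conj_mem := fun {P g} hP hg => by
    refine ⟨hP, MulAut.conj (⟨g, hg⟩ : T), hL ⟨_, rfl⟩, fun x => ?_⟩
    exact (autFn_coe (MulAut.conj (⟨g, hg⟩ : T)) ⟨x, hP x.2⟩).symm
  comp_mem := fun {P R φ ψ} ⟨hP, a, ha, h⟩ ⟨_, b, hb, h'⟩ hm => by
    refine ⟨hP, b * a, L.mul_mem hb ha, fun x => ?_⟩
    show ψ ⟨φ x, hm x⟩ = _
    rw [h' _, autFn_mul _ _ (hP x.2)]
    exact congrArg (autFn b) (h x)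
  inv_mem := fun {P φ} ⟨hP, a, ha, h⟩ => by
    refine ⟨(ofHom_range φ hP a h).choose, (ofHom_range φ hP a h).choose_spec.1 ha,
      fun x => (ofHom_range φ hP a h).choose_spec.2 x⟩
where
  ofHom_range {P : Subgroup Ω} (φ : P →* Ω) (hP : P ≤ T) (a : MulAut T) (h : ∀ x : P, φ x = autFn a x) :
      ∃ ψ : φ.range →* Ω, (a ∈ L → φ.range ≤ T ∧ ∃ b ∈ L, ∀ y : φ.range, ψ y = autFn b y) ∧
        ∀ x : P, ψ ⟨φ x, x, rfl⟩ = x := by
    have hR : φ.range ≤ T := by
      rintro _ ⟨x, rfl⟩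
      exact h x ▸ autFn_mem a (hP x.2)
    refine ⟨(T.subtype.comp a⁻¹.toMonoidHom).comp (Subgroup.inclusion hR),
      fun ha => ⟨hR, a⁻¹, L.inv_mem ha, fun y => (autFn_coe a⁻¹ ⟨y, hR y.2⟩).symm⟩, fun x => ?_⟩
    show ((a⁻¹ ⟨φ x, _⟩ : T) : Ω) = x
    rw [← autFn_coe a⁻¹]
    show autFn a⁻¹ (φ x) = x
    rw [h x, autFn_inv_apply a (hP x.2)]

theorem fn_autSystem {L : Subgroup (MulAut T)} {hL : Inn T ≤ L} {f : Ω → Ω} :
    Fn (autSystem L hL) P f ↔ P ≤ T ∧ ∃ a ∈ L, ∀ x ∈ P, f x = autFn a x := by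
  constructor
  · rintro ⟨φ, ⟨hP, a, ha, h⟩, hf⟩
    exact ⟨hP, a, ha, fun x hx => (hf ⟨x, hx⟩).symm.trans (h ⟨x, hx⟩)⟩
  · rintro ⟨hP, a, ha, h⟩
    have key : ∀ x : P, (T.subtype.comp a.toMonoidHom).comp (Subgroup.inclusion hP) x = autFn a x :=
      fun x => (autFn_coe a ⟨x, hP x.2⟩).symm
    exact ⟨_, ⟨hP, a, ha, key⟩, fun x => (key x).trans (h x x.2).symm⟩

theorem autGroup_autSystem {L : Subgroup (MulAut T)} {hL : Inn T ≤ L} :
    (autSystem L hL).autGroup T = L := by
  ext α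
  rw [mem_autGroup_iff_fn le_rfl, fn_autSystem]
  refine ⟨fun ⟨_, a, ha, h⟩ => ?_, fun h => ⟨le_rfl, α, h, fun _ _ => rfl⟩⟩
  rwa [mulAut_ext h]

theorem autSystem_le (hT : T ≤ S) {L : Subgroup (MulAut T)} {hL : Inn T ≤ L} (h : L ≤ F.autGroup T) :
    (autSystem L hL).IsSubsystemOf F := fun P φ hφ => by
  obtain ⟨hP, a, ha, he⟩ := hφ
  exact mem_hom_of_fn (((mem_autGroup_iff_fn hT).1 (h ha)).mono hP) he

theorem autInducedBy_self (T : Subgroup Ω) : autInducedBy T T = Inn T := by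
  ext α
  rw [mem_autInducedBy]
  exact ⟨fun ⟨g, hg, h⟩ => ⟨⟨g, hg⟩, MulEquiv.ext fun x => Subtype.ext (h x).symm⟩,
    fun ⟨g, e⟩ => e ▸ ⟨g, g.2, fun x => rfl⟩⟩

theorem autSystem_saturated [Finite T] (hT : IsPGroup p T) {L : Subgroup (MulAut T)} {hL : Inn T ≤ L}
    (h : ¬ p ∣ ((Inn T).subgroupOf L).index) : (autSystem L hL).IsSaturated p := by
  refine saturated_of_top_and_receptive hT ?_ fun Q hQ => receptive_of_extend hQ.1 fun R f hf hi => ?_
  · have e : (autSystem L hL).autGroup T = L := autGroup_autSystem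
    refine ⟨le_rfl, ?_⟩
    rw [e]
    have hp : IsPGroup p ((Inn T).subgroupOf L) :=
      (hT.of_surjective _ (MulAut.conj : T →* MulAut T).rangeRestrict_surjective).comap_of_injective _
        (Subgroup.subtype_injective _)
    exact ⟨hp.toSylow h, by rw [autInducedBy_self]; rfl⟩
  · obtain ⟨hR, a, ha, he⟩ := fn_autSystem.1 hf
    exact ⟨autFn a, fun N hN => fn_autSystem.2 ⟨fun x hx => (hN x hx).1, a, ha, fun _ _ => rfl⟩,
      fun x hx => (he x hx).symm⟩

theorem innerFusionSystem_eq_autSystem (T : Subgroup Ω) :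
    innerFusionSystem T = autSystem (Inn T) le_rfl := by
  refine system_ext fun P => Set.ext fun φ => ⟨?_, ?_⟩
  · rintro ⟨hP, g, hg, h⟩
    exact ⟨hP, MulAut.conj (⟨g, hg⟩ : T), ⟨_, rfl⟩,
      fun x => (h x).trans (autFn_coe (MulAut.conj (⟨g, hg⟩ : T)) ⟨x, hP x.2⟩).symm⟩
  · rintro ⟨hP, a, ⟨g, rfl⟩, h⟩
    exact ⟨hP, g, g.2, fun x => (h x).trans (autFn_coe (MulAut.conj g) ⟨x, hP x.2⟩)⟩

theorem inner_saturated [Finite T] (hT : IsPGroup p T) : (innerFusionSystem T).IsSaturated p := by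
  rw [innerFusionSystem_eq_autSystem]
  refine autSystem_saturated hT ?_
  rw [Subgroup.subgroupOf_self, Subgroup.index_top]
  exact (Fact.out : p.Prime).not_dvd_one

theorem inner_subsystem (hT : T ≤ S) : (innerFusionSystem T).IsSubsystemOf F :=
  fun _ _ ⟨hP, _, hg, h⟩ => mem_hom_of_fn (fn_conj (hP.trans hT) (hT hg)) h

/-! ### Strongly closed subgroups -/

theorem sc_inf (h₁ : F.StronglyClosed Q) (h₂ : F.StronglyClosed R) : F.StronglyClosed (Q ⊓ R) :=
  stronglyClosed_iff_fn.2 ⟨inf_le_left.trans h₁.1, fun P f hf x hx hxQ =>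
    ⟨(stronglyClosed_iff_fn.1 h₁).2 P f hf x hx hxQ.1, (stronglyClosed_iff_fn.1 h₂).2 P f hf x hx hxQ.2⟩⟩

theorem sc_top : F.StronglyClosed S :=
  stronglyClosed_iff_fn.2 ⟨le_rfl, fun _ _ hf _ hx _ => hf.mem hx⟩

theorem sc_bot : F.StronglyClosed ⊥ := normal_stronglyClosed normal_bot

theorem conj_eq_of_weaklyClosed (h : F.WeaklyClosed Q) (hR : F.IsConj Q R) : R = Q := by
  obtain ⟨f, hf, rfl⟩ := isConj_iff.1 hR
  exact weaklyClosed_img h le_rfl hf

theorem fullyNormalized_of_weaklyClosed (h : F.WeaklyClosed Q) : F.IsFullyNormalized Q :=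
  ⟨h.1, fun _ hR => by rw [conj_eq_of_weaklyClosed h hR]⟩

theorem sc_preimage {Ω' : Type*} [Group Ω'] {S' : Subgroup Ω'} {F' : FusionSystem S'} {α : S →* Ω'}
    (h : F.IsMorphism F' α) {W : Subgroup Ω'} (hW : F'.StronglyClosed W) :
    F.StronglyClosed (preimageAlong α W) := by
  refine stronglyClosed_iff_fn.2 ⟨preimageAlong_le, fun P f hf x hx hxW => ?_⟩
  obtain ⟨f', hf', he⟩ := morphism_fn h hf
  refine mem_preimageAlong.2 ⟨hf.mem hx, ?_⟩
  rw [← he x hx]
  exact (stronglyClosed_iff_fn.1 hW).2 _ _ hf' _ (th_mem_imageAlong hx (hf.le hx)) (mem_preimageAlong.1 hxW).2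

section Finite

variable [Finite S]

theorem sc_centralizer (hQ : F.IsNormal Q) : F.StronglyClosed (centralizerIn S Q) := by
  obtain ⟨hQS, h⟩ := normal_iff_fn.1 hQ
  refine stronglyClosed_iff_fn.2 ⟨centralizerIn_le, fun P f hf x hx hxC => ?_⟩
  obtain ⟨g, hg, he, hi⟩ := h P f hf
  rw [← he x hx]
  exact hg.map_centralizer le_sup_right hi (Subgroup.mem_sup_left hx) hxC

theorem normal_centric (hQ : F.IsNormal Q) (h : centralizerIn S Q ≤ Q) : F.IsCentric Q :=
  ⟨hQ.1, fun R hR => by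
    rw [conj_eq_of_weaklyClosed (weaklyClosed_of_stronglyClosed (normal_stronglyClosed hQ)) hR]
    exact h⟩

variable (hS : IsPGroup p S) (hF : F.IsSaturated p)
include hS hF

theorem normal_of_abelian_sc (hQ : F.StronglyClosed Q) (hab : ∀ a ∈ Q, ∀ b ∈ Q, a * b = b * a) :
    F.IsNormal Q := by
  refine normal_of_series hS hF hQ (fun i => if i = 0 then ⊥ else Q) 1 (if_pos rfl) rfl ?_ ?_
  · intro i hi
    interval_cases i
    · exact sc_bot
    · exact hQ
  · intro i hi
    interval_cases i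
    show ⁅Q, Q⁆ ≤ ⊥
    rw [Subgroup.commutator_le]
    intro a ha b hb
    show a * b * a⁻¹ * b⁻¹ ∈ (⊥ : Subgroup Ω)
    rw [hab a ha b hb]
    simp

/-- A strongly closed subgroup whose own fusion is the restriction of its automizer is normal. -/
theorem normal_of_automorphisms (hQ : F.StronglyClosed Q)
    (h : ∀ k, F.StronglyClosed (Q.lowerCentralSeries k)) : F.IsNormal Q := by
  have := finite_of_le_base hQ.1
  obtain ⟨n, hn⟩ := (Subgroup.isNilpotent_iff_lowerCentralSeries Q).1 (hS.to_le hQ.1).isNilpotent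
  refine normal_of_series hS hF hQ (fun i => Q.lowerCentralSeries (n - i)) n (by simpa using hn) (by simp)
    (fun i _ => h _) fun i hi => ?_
  rw [show n - i = n - (i + 1) + 1 by omega, Subgroup.lowerCentralSeries_succ, Subgroup.commutator_comm]

/-- A subgroup normal in an invariant subsystem and fixed by the automizer of its base is normal. -/
theorem normal_of_invariant {E : FusionSystem T} (hE : E.IsInvariantIn F) {U : Subgroup Ω}
    (hU : E.IsNormal U) (hfix : ∀ α ∈ F.autGroup T, ∀ x ∈ U, autFn α x ∈ U) : F.IsNormal U := by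
  have hT : F.StronglyClosed T := hE.2.1
  have hUT := hU.1
  have key : ∀ (P : Subgroup Ω) (f : Ω → Ω), Fn F P f → ∀ k x, x ∈ P → x ∈ U.lowerCentralSeries k →
      f x ∈ U.lowerCentralSeries k := by
    intro P f hf k x hx hxL
    obtain ⟨α, hα, g, hg, he⟩ := Invariant.frattini hE (P := P ⊓ T) inf_le_right (hf.mono inf_le_left)
    obtain ⟨g', hg', hge, hgi⟩ := (normal_iff_fn.1 hU).2 _ g hg
    have hxU : x ∈ U := U.lowerCentralSeries_le_self k hxL
    have hxPT : x ∈ P ⊓ T := ⟨hx, hUT hxU⟩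
    have h1 : g x ∈ U.lowerCentralSeries k :=
      hge x hxPT ▸ map_lowerCentral hg' le_sup_right hgi k x hxL
    rw [he x hxPT]
    have hα' := (mem_autGroup_iff_fn hT.1).1 hα
    exact map_lowerCentral hα' hUT ((hα'.mono hUT).img_eq_self (hfix α hα)) k _ h1
  refine normal_of_automorphisms hS hF (stronglyClosed_iff_fn.2 ⟨hUT.trans hT.1, fun P f hf x hx hxU => ?_⟩)
    fun k => stronglyClosed_iff_fn.2 ⟨(U.lowerCentralSeries_le_self k).trans (hUT.trans hT.1),
      fun P f hf x => key P f hf k x⟩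
  simpa using key P f hf 0 x hx (by simpa using hxU)

/-- Normality is weak normality of the inner system. -/
theorem normal_iff_inner_weaklyNormal (hQS : Q ≤ S) :
    F.IsNormal Q ↔ (innerFusionSystem Q).IsWeaklyNormalIn F p := by
  have := finite_of_le_base hQS
  constructor
  · intro hQ
    refine ⟨inner_saturated (hS.to_le hQS), hF, inner_subsystem hQS, normal_stronglyClosed hQ,
      fun P hP φ hφ α hα => ?_, fun P hP φ hφ => ?_⟩
    · obtain ⟨-, q, hq, hφq⟩ := hφ
      refine ⟨conjHom _ (α ⟨q, hq⟩ : Q), ⟨?_, _, (α ⟨q, hq⟩).2, fun _ => rfl⟩, fun x hφx hαx => ?_⟩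
      · rintro _ ⟨x, -, rfl⟩
        exact (α x).2
      · show ((α ⟨q, hq⟩ : Q) : Ω) * ((α ⟨x, hP x.2⟩ : Q) : Ω) * ((α ⟨q, hq⟩ : Q) : Ω)⁻¹ = _
        rw [show (⟨φ x, hφx⟩ : Q) = ⟨q, hq⟩ * ⟨x, hP x.2⟩ * (⟨q, hq⟩ : Q)⁻¹ from Subtype.ext (hφq x),
          map_mul, map_mul, map_inv]
        rfl
    · obtain ⟨g, hg, he, hi⟩ := (normal_iff_fn.1 hQ).2 P _ (fn_ofHom hφ)
      obtain ⟨α, hα, hαg⟩ := exists_aut_of_fn (hg.mono le_sup_right) hi
      refine ⟨α, hα, conjHom P 1, ⟨hP, 1, Q.one_mem, fun _ => rfl⟩, fun x hx => ?_⟩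
      rw [hαg]
      show φ x = g (1 * (x : Ω) * 1⁻¹)
      rw [one_mul, inv_one, mul_one, he x x.2, ofHom_coe]
  · rintro ⟨-, -, hinv⟩
    refine normal_of_invariant hS hF hinv (normal_iff_fn.2 ⟨le_rfl, fun P f hf => ?_⟩)
      fun α _ x hx => autFn_mem α hx
    obtain ⟨φ, ⟨hP, g, hg, hφ⟩, hφf⟩ := hf
    refine ⟨fun x => g * x * g⁻¹, fn_conj (sup_le hP le_rfl) hg,
      fun x hx => (hφ ⟨x, hx⟩).symm.trans (hφf ⟨x, hx⟩), ?_⟩
    exact (fn_conj (F := innerFusionSystem Q) le_rfl hg).img_eq_self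
      fun x hx => Q.mul_mem (Q.mul_mem hg hx) (Q.inv_mem hg)

/-- The closure of the images of a subgroup normal in a weakly normal subsystem is normal. -/
theorem normal_closure_images {E : FusionSystem T} (hE : E.IsWeaklyNormalIn F p) (hR : E.IsNormal R) :
    F.IsNormal (Subgroup.closure {x : Ω | ∃ φ ∈ F.Hom R, ∃ r : R, x = φ r}) := by
  obtain ⟨-, -, hinv⟩ := hE
  have hT : F.StronglyClosed T := hinv.2.1
  have := finite_of_le_base hT.1
  have hwc := weaklyClosed_of_stronglyClosed (normal_stronglyClosed hR)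
  let U := Subgroup.closure {x : Ω | ∃ φ ∈ F.Hom R, ∃ r : R, x = φ r}
  have hUT : U ≤ T := (Subgroup.closure_le _).2 fun _ ⟨φ, hφ, r, e⟩ => e ▸ by
    rw [← ofHom_coe φ r]
    exact sc_apply hT (fn_ofHom hφ) r.2 (hR.1 r.2)
  have hV : E.IsNormal (sSup {V | E.IsNormal V ∧ V ≤ U}) :=
    (sSup_mem (S := T) (C := fun V => E.IsNormal V ∧ V ≤ U) (fun _ h => h.1.1) ⟨normal_bot, bot_le⟩
      fun _ _ ha hb => ⟨normal_sup ha.1 hb.1, sup_le ha.2 hb.2⟩).1
  have hUV : sSup {V | E.IsNormal V ∧ V ≤ U} = U := by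
    refine le_antisymm (sSup_le fun _ h => h.2) ((Subgroup.closure_le _).2 ?_)
    rintro _ ⟨φ, hφ, r, rfl⟩
    obtain ⟨α, hα, g, hg, he⟩ := Invariant.frattini hinv hR.1 (fn_ofHom hφ)
    have hgi : img g R = R := weaklyClosed_img hwc le_rfl hg
    have hWU : img (autFn α) R ≤ U := img_le fun y hy => by
      obtain ⟨x, hx, rfl⟩ := hg.mem_img.1 (hgi.ge hy)
      rw [← he x hx, ofHom_apply φ hx]
      exact Subgroup.subset_closure ⟨φ, hφ, ⟨x, hx⟩, rfl⟩
    have hW : E.IsNormal (img (autFn α) R) := by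
      have hαF := (mem_autGroup_iff_fn hT.1).1 hα
      refine normal_iff_fn.2 ⟨img_le fun x hx => autFn_mem α (hR.1 hx), fun M e he' => ?_⟩
      have hαi : α⁻¹ ∈ F.autGroup T := inv_mem hα
      obtain ⟨e₀, he₀, he₀e⟩ := Invariant.aut hinv he'.le he' hαi
      obtain ⟨g₀, hg₀, hg₀e, hg₀i⟩ := (normal_iff_fn.1 hR).2 _ e₀ he₀
      obtain ⟨χ, hχ, hχe⟩ := Invariant.aut hinv hg₀.le hg₀ hα
      have hMR : img (autFn α) (img (autFn α⁻¹) M ⊔ R) = M ⊔ img (autFn α) R := by
        rw [(hαF.mono (sup_le (img_le fun y hy => autFn_mem α⁻¹ (he'.le hy)) hR.1)).img_sup,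
          ← (((mem_autGroup_iff_fn hT.1).1 hαi).mono he'.le).img_comp]
        congr 1
        exact (img_congr (g := id) fun y hy => autFn_apply_inv α (he'.le hy)).trans (img_id M)
      rw [hMR] at hχ
      refine ⟨χ, hχ, fun x hx => ?_, (hχ.mono le_sup_right).img_eq_self fun y hy => ?_⟩
      · have hxT := he'.le hx
        have h1 := hχe _ (Subgroup.mem_sup_left (mem_img_of_mem hx) :
          autFn α⁻¹ x ∈ img (autFn α⁻¹) M ⊔ R)
        rw [autFn_apply_inv α hxT, hg₀e _ (mem_img_of_mem hx), he₀e x hx, autFn_apply_inv α (he'.mem hx)] at h1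
        exact h1
      · obtain ⟨x, hx, rfl⟩ := (hαF.mono hR.1).mem_img.1 hy
        rw [hχe x (Subgroup.mem_sup_right hx)]
        exact mem_img_of_mem (hg₀i.le (mem_img_of_mem hx))
    refine le_sSup (s := {V | E.IsNormal V ∧ V ≤ U}) ⟨hW, hWU⟩ ?_
    rw [← ofHom_coe φ r, he r r.2]
    exact mem_img_of_mem (hgi.le (mem_img_of_mem r.2))
  rw [hUV] at hV
  refine normal_of_invariant hS hF hinv hV fun α hα x hx => ?_
  have hαF := (mem_autGroup_iff_fn hT.1).1 hα
  have hle : img (autFn α) U ≤ U := by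
    refine img_le fun y hy => ?_
    suffices h : y ∈ T ∧ autFn α y ∈ U from h.2
    induction hy using Subgroup.closure_induction with
    | mem z hz =>
      obtain ⟨φ, hφ, r, rfl⟩ := hz
      have hm : φ r ∈ T := hUT (Subgroup.subset_closure ⟨φ, hφ, r, rfl⟩)
      refine ⟨hm, ?_⟩
      obtain ⟨ψ, hψ, hψf⟩ := (fn_ofHom hφ).comp hαF fun w hw =>
        sc_apply hT (fn_ofHom hφ) hw (hR.1 hw)
      exact Subgroup.subset_closure ⟨ψ, hψ, r, by rw [hψf, Function.comp, ofHom_coe]⟩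
    | one => exact ⟨T.one_mem, by rw [hαF.map_one]; exact U.one_mem⟩
    | mul a b _ _ ha hb =>
      exact ⟨T.mul_mem ha.1 hb.1, by rw [hαF.map_mul ha.1 hb.1]; exact U.mul_mem ha.2 hb.2⟩
    | inv a _ ha => exact ⟨T.inv_mem ha.1, by rw [hαF.map_inv ha.1]; exact U.inv_mem ha.2⟩
  exact hle (mem_img_of_mem hx)

/-- A strongly closed subgroup abelian modulo a normal subgroup with `p`-group automizer is normal. -/
theorem normal_of_quotient_abelian {Q₁ : Subgroup Ω} (hQ : F.StronglyClosed Q) (hle : Q₁ ≤ Q)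
    (hQ₁ : F.IsNormal Q₁) (hab : ⁅Q, Q⁆ ≤ Q₁) (hAut : IsPGroup p (F.autGroup Q₁)) : F.IsNormal Q := by
  have hA := (fullyNormalized_good hS hF
    (fullyNormalized_of_weaklyClosed (weaklyClosed_of_stronglyClosed (normal_stronglyClosed hQ₁)))).1
  obtain ⟨-, T, hT⟩ := hA
  have htop : ∀ a ∈ F.autGroup Q₁, a ∈ autInducedBy S Q₁ := fun a ha => by
    have e : (T : Subgroup (F.autGroup Q₁)) = ⊤ :=
      (T.3 (hAut.of_equiv Subgroup.topEquiv.symm) le_top).symm
    have : (⟨a, ha⟩ : F.autGroup Q₁) ∈ (T : Subgroup (F.autGroup Q₁)) := e.ge (Subgroup.mem_top _)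
    rw [hT] at this
    exact this
  have hQn : ∀ {s x : Ω}, s ∈ S → x ∈ Q → s * x * s⁻¹ ∈ Q := sc_conj hQ
  let D : ℕ → Subgroup Ω := fun k => Nat.rec Q₁ (fun _ D => ⁅D, Q⁆) k
  have hD0 : D 0 = Q₁ := rfl
  have hDs : ∀ k, D (k + 1) = ⁅D k, Q⁆ := fun k => rfl
  have hDQ : ∀ k, D k ≤ Q₁ := by
    intro k
    induction k with
    | zero => exact le_rfl
    | succ k ih => exact (Subgroup.commutator_mono (ih.trans hle) le_rfl).trans hab
  have hDL : ∀ k, D k ≤ Q.lowerCentralSeries k := by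
    intro k
    induction k with
    | zero => simpa [hD0] using hle
    | succ k ih =>
      rw [hDs, Subgroup.lowerCentralSeries_succ]
      exact Subgroup.commutator_mono ih le_rfl
  have hDn : ∀ k, ∀ s ∈ S, ∀ x ∈ D k, s * x * s⁻¹ ∈ D k := by
    intro k
    induction k with
    | zero => exact fun s hs x hx => sc_conj (normal_stronglyClosed hQ₁) hs hx
    | succ k ih =>
      intro s hs x hx
      rw [hDs] at hx ⊢
      exact (fn_conj (F := F) le_rfl hs).map_commutator (((hDQ k).trans hle).trans hQ.1) hQ.1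
        (fun a ha b hb => Subgroup.commutator_mem_commutator (ih s hs a ha) (hQn hs hb)) hx
  have hDsc : ∀ k, F.StronglyClosed (D k) := by
    intro k
    refine stronglyClosed_iff_fn.2 ⟨(hDQ k).trans hQ₁.1, fun P f hf x hx hxD => ?_⟩
    obtain ⟨g, hg, he, hi⟩ := (normal_iff_fn.1 hQ₁).2 P f hf
    obtain ⟨a, ha, hag⟩ := exists_aut_of_fn (hg.mono le_sup_right) hi
    obtain ⟨s, hs, hsa⟩ := mem_autInducedBy.1 (htop a ha)
    have hxQ := hDQ k hxD
    rw [← he x hx, ← hag ⟨x, hxQ⟩, hsa]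
    exact hDn k s hs x hxD
  obtain ⟨n, hn⟩ := (Subgroup.isNilpotent_iff_lowerCentralSeries Q).1
    (have := finite_of_le_base hQ.1; (hS.to_le hQ.1).isNilpotent)
  refine normal_of_series hS hF hQ (fun i => if i ≤ n then D (n - i) else Q) (n + 1) ?_ (by simp) ?_ ?_
  · simp only [Nat.zero_le, if_true, Nat.sub_zero]
    exact le_bot_iff.1 ((hDL n).trans hn.le)
  · intro i _
    split_ifs
    exacts [hDsc _, hQ]
  · intro i hi
    rcases eq_or_lt_of_le (Nat.lt_succ_iff.1 hi) with rfl | hi'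
    · simpa [hD0] using hab
    · rw [if_pos (Nat.succ_le_of_lt hi'), if_pos hi'.le, show n - i = n - (i + 1) + 1 by omega, hDs,
        Subgroup.commutator_comm]

/-! ### Solvable systems -/

/-- A chain of strongly closed subgroups with abelian steps from `R` to `S` gives one from below. -/
theorem exists_chain (h : F.IsSolvableSystem) (hR : F.StronglyClosed R) :
    ∃ (n : ℕ) (C : ℕ → Subgroup Ω), C 0 = R ∧ C n = S ∧
      ∀ i < n, C i ≤ C (i + 1) ∧ ⁅C (i + 1), C (i + 1)⁆ ≤ C i ∧ F.StronglyClosed (C (i + 1)) := by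
  induction hm : Nat.card S - Nat.card R using Nat.strong_induction_on generalizing R with
  | _ m ih =>
    by_cases hRS : R = S
    · exact ⟨0, fun _ => R, rfl, hRS, fun i hi => absurd hi i.not_lt_zero⟩
    have : (R.subgroupOf S).Normal := by
      rw [← Subgroup.normalizer_eq_top_iff, eq_top_iff]
      intro s _
      rw [Subgroup.mem_normalizer_iff]
      exact fun x => Subgroup.mem_normalizer_iff.1 (sc_le_normalizer hR s.2) (x : Ω)
    obtain ⟨E, hE⟩ := exists_factorSystem (S' := ⊤) hR (QuotientGroup.mk' (R.subgroupOf S))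
      (fun s => (QuotientGroup.eq_one_iff s).trans Subgroup.mem_subgroupOf)
      (MonoidHom.range_eq_top.2 (QuotientGroup.mk'_surjective _))
    have hsm := factor_surjectiveMorphism hS hF hR hE
    have := finite_target hsm
    have hEs := surjectiveMorphism_saturated hS hF hsm
    have hSp : IsPGroup p (⊤ : Subgroup (S ⧸ R.subgroupOf S)) := (hS.to_quotient _).to_subgroup _
    have hne := h R hR hRS E hE
    have := finite_of_le_base (core_le_base (F := E))
    have := (Subgroup.nontrivial_iff_ne_bot _).2 hne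
    have hW : E.IsNormal ((Subgroup.center E.core).map E.core.subtype) :=
      normal_char core_normal (Subgroup.map_subtype_le _) fun α x hx => by
        obtain ⟨z, hz, hzx⟩ := hx
        obtain rfl : z = x := Subtype.ext hzx
        exact ⟨α z, (Subgroup.characteristic_iff_map_le.1 inferInstance α) ⟨z, hz, rfl⟩, rfl⟩
    have hWne : (Subgroup.center E.core).map E.core.subtype ≠ ⊥ := by
      rw [Ne, Subgroup.map_eq_bot_iff_of_injective _ (Subgroup.subtype_injective _)]
      exact (hSp.to_le core_le_base).bot_lt_center.ne'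
    have hWab : ∀ a ∈ (Subgroup.center E.core).map E.core.subtype,
        ∀ b ∈ (Subgroup.center E.core).map E.core.subtype, a * b = b * a := by
      rintro _ ⟨a, ha, rfl⟩ _ ⟨b, -, rfl⟩
      exact (congrArg E.core.subtype (Subgroup.mem_center_iff.1 ha b)).symm
    generalize (Subgroup.center E.core).map E.core.subtype = W at hW hWne hWab
    let θ := QuotientGroup.mk' (R.subgroupOf S)
    have hM : F.StronglyClosed (preimageAlong θ W) := sc_preimage hsm.1 (normal_stronglyClosed hW)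
    have hRM : R ≤ preimageAlong θ W := fun x hx =>
      mem_preimageAlong.2 ⟨hR.1 hx, by rw [(factor_ker hE (hR.1 hx)).2 hx]; exact W.one_mem⟩
    have hlt : R < preimageAlong θ W := by
      refine lt_of_le_of_ne hRM fun e => hWne ((Subgroup.eq_bot_iff_forall _).2 fun y hy => ?_)
      obtain ⟨s, rfl⟩ := QuotientGroup.mk'_surjective (R.subgroupOf S) y
      have hs : (s : Ω) ∈ R := e.ge (mem_preimageAlong.2 ⟨s.2, by rw [th_coe]; exact hy⟩)
      exact (QuotientGroup.eq_one_iff s).2 hs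
    have hab : ⁅preimageAlong θ W, preimageAlong θ W⁆ ≤ R := Subgroup.commutator_le.2 fun a ha b hb => by
      obtain ⟨haS, ha'⟩ := mem_preimageAlong.1 ha
      obtain ⟨hbS, hb'⟩ := mem_preimageAlong.1 hb
      refine (factor_ker hE (S.mul_mem (S.mul_mem (S.mul_mem haS hbS) (S.inv_mem haS)) (S.inv_mem hbS))).1 ?_
      rw [th_mul (S.mul_mem (S.mul_mem haS hbS) (S.inv_mem haS)) (S.inv_mem hbS), th_inv hbS, th_conj haS hbS,
        hWab _ ha' _ hb']
      simp [θ]
    obtain ⟨n, C, hC0, hCn, hC⟩ := ih _ (hm ▸ card_lt_card_sub hM.1 hlt) hM rfl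
    refine ⟨n + 1, fun i => if i = 0 then R else C (i - 1), if_pos rfl, by simpa using hCn, fun i hi => ?_⟩
    cases i with
    | zero => simpa [hC0] using ⟨hRM, hab, hM⟩
    | succ i => simpa using hC i (by omega)

theorem solvable_iff_chain : F.IsSolvableSystem ↔
    ∃ (n : ℕ) (T : Fin (n + 1) → Subgroup Ω), T 0 = ⊥ ∧ T (Fin.last n) = S ∧ Monotone T ∧
      (∀ i, F.StronglyClosed (T i)) ∧ ∀ i : Fin n, ⁅T i.succ, T i.succ⁆ ≤ T (Fin.castSucc i) := by
  constructor
  · intro h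
    obtain ⟨n, C, h0, hn, hC⟩ := exists_chain hS hF h sc_bot
    refine ⟨n, fun i => C i, h0, hn, Fin.monotone_iff_le_succ.2 fun i => (hC i i.2).1, fun i => ?_,
      fun i => (hC i i.2).2.1⟩
    rcases Nat.eq_zero_or_pos (i : ℕ) with h' | h'
    · show F.StronglyClosed (C i)
      rw [h', h0]
      exact sc_bot
    · show F.StronglyClosed (C i)
      obtain ⟨j, hj⟩ := Nat.exists_eq_succ_of_ne_zero h'.ne'
      rw [hj]
      exact (hC j (by omega)).2.2
  · rintro ⟨n, T, h0, hn, hmono, hsc, hcomm⟩ R hR hRS _ E hE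
    have hsm := factor_surjectiveMorphism hS hF hR hE
    have := finite_target hsm
    have hEs := surjectiveMorphism_saturated hS hF hsm
    have hSp : IsPGroup p (⊤ : Subgroup (S ⧸ R.subgroupOf S)) := (hS.to_quotient _).to_subgroup _
    obtain ⟨i, hi, hi'⟩ : ∃ i : Fin n, T i.castSucc ≤ R ∧ ¬ T i.succ ≤ R := by
      by_contra hne
      push Not at hne
      exact hRS (le_antisymm hR.1
        (hn ▸ Fin.induction (motive := fun i => T i ≤ R) (h0 ▸ bot_le) (fun i => hne i) (Fin.last n)))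
    let θ := QuotientGroup.mk' (R.subgroupOf S)
    have hW : E.StronglyClosed (imageAlong θ (T i.succ)) := by
      refine stronglyClosed_iff_fn.2 ⟨le_top, fun P' f' hf' y hy hyW => ?_⟩
      obtain ⟨f, hf, he⟩ := surjective_fn hsm hf'
      obtain ⟨x, hx, hxS, rfl⟩ := mem_imageAlong.1 hyW
      have hxP : x ∈ preimageAlong θ P' := mem_preimageAlong.2 ⟨hxS, hy⟩
      rw [he x hxP]
      exact th_mem_imageAlong ((stronglyClosed_iff_fn.1 (hsc i.succ)).2 _ _ hf x hxP hx) (hf.mem hxP)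
    have hne : imageAlong θ (T i.succ) ≠ ⊥ := fun e => hi' fun x hx => by
      have hxS := (hsc i.succ).1 hx
      exact (factor_ker hE hxS).1 (Subgroup.mem_bot.1 (e.le (th_mem_imageAlong hx hxS)))
    refine fun hbot => hne (le_bot_iff.1 (hbot ▸ le_core (normal_of_abelian_sc hSp hEs hW ?_)))
    intro a ha b hb
    obtain ⟨x, hx, hxS, rfl⟩ := mem_imageAlong.1 ha
    obtain ⟨z, hz, hzS, rfl⟩ := mem_imageAlong.1 hb
    rw [← th_mul hxS hzS, ← th_mul hzS hxS, th_eq_iff (S.mul_mem hxS hzS) (S.mul_mem hzS hxS)]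
    refine (factor_ker hE (S.mul_mem (S.mul_mem hxS hzS) (S.inv_mem (S.mul_mem hzS hxS)))).2 (hi (hcomm i ?_))
    have := Subgroup.commutator_mem_commutator hx hz
    simpa [commutatorElement_def, mul_assoc] using this

theorem solvable_constrained (h : F.IsSolvableSystem) : F.IsConstrained p := by
  obtain ⟨n, T, h0, hn, hmono, hsc, hcomm⟩ := (solvable_iff_chain hS hF).1 h
  have hQ : F.IsNormal F.core := core_normal
  refine ⟨hF, F.core, hQ, normal_centric hQ ?_⟩
  by_contra hne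
  obtain ⟨i, hi, hi'⟩ : ∃ i : Fin n, T i.castSucc ⊓ centralizerIn S F.core ≤ F.core ∧
      ¬ T i.succ ⊓ centralizerIn S F.core ≤ F.core := by
    by_contra hn'
    push Not at hn'
    refine hne (le_trans (le_inf (centralizerIn_le.trans hn.ge) le_rfl) ?_)
    exact Fin.induction (motive := fun i => T i ⊓ centralizerIn S F.core ≤ F.core)
      (by rw [h0]; exact inf_le_left.trans bot_le) (fun i => hn' i) (Fin.last n)
  have hD := sc_inf (hsc i.succ) (sc_centralizer hQ)
  have hcm : ∀ d ∈ T i.succ ⊓ centralizerIn S F.core, ∀ q ∈ F.core, Commute q d :=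
    fun d hd q hq => (mem_centralizerIn.1 hd.2).2 q hq
  have hDD : ⁅T i.succ ⊓ centralizerIn S F.core, T i.succ ⊓ centralizerIn S F.core⁆ ≤ F.core :=
    (le_inf ((Subgroup.commutator_mono inf_le_left inf_le_left).trans (hcomm i))
      ((Subgroup.commutator_mono inf_le_right inf_le_right).trans (Subgroup.commutator_le.2 fun a ha b hb =>
        Subgroup.mul_mem _ (Subgroup.mul_mem _ (Subgroup.mul_mem _ ha hb) (Subgroup.inv_mem _ ha))
          (Subgroup.inv_mem _ hb)))).trans hi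
  have hcore := normal_stronglyClosed hQ
  have hM := stronglyClosed_sup hS hF hcore hD
  have hsplit : ∀ m ∈ F.core ⊔ (T i.succ ⊓ centralizerIn S F.core),
      ∃ q ∈ F.core, ∃ d ∈ T i.succ ⊓ centralizerIn S F.core, q * d = m := fun m hm => by
    have hm' : m ∈ ((F.core : Set Ω) * ((T i.succ ⊓ centralizerIn S F.core : Subgroup Ω) : Set Ω)) :=
      Subgroup.coe_mul_of_right_le_normalizer_left F.core _ (hD.1.trans (sc_le_normalizer hcore)) ▸ hm
    exact hm'
  obtain ⟨C, k, hC0, hCk, hCmono, hCsc, hCcomm⟩ := normal_series hS hQ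
  have hMn : F.IsNormal (F.core ⊔ (T i.succ ⊓ centralizerIn S F.core)) := by
    refine normal_of_series hS hF hM (fun j => if j ≤ k then C j else
      F.core ⊔ (T i.succ ⊓ centralizerIn S F.core)) (k + 1) (by simpa using hC0) (by simp) ?_ ?_
    · intro j _
      split_ifs with hj
      exacts [hCsc j hj, hM]
    · intro j hj
      rcases eq_or_lt_of_le (Nat.lt_succ_iff.1 hj) with rfl | hj'
      · simp only [le_refl, if_true, hCk, Nat.succ_le, lt_irrefl, if_false]
        refine Subgroup.commutator_le.2 fun a ha b hb => ?_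
        obtain ⟨q, hq, d, hd, rfl⟩ := hsplit a ha
        obtain ⟨q', hq', d', hd', rfl⟩ := hsplit b hb
        have e1 : d * q' = q' * d := (hcm d hd q' hq').eq.symm
        have e2 : q⁻¹ * d'⁻¹ = d'⁻¹ * q⁻¹ := ((hcm d' hd' q hq).inv_left.inv_right).eq
        have e : ⁅q * d, q' * d'⁆ = q * q' * ⁅d, d'⁆ * q⁻¹ * q'⁻¹ := by
          simp only [commutatorElement_def, mul_inv_rev]
          calc _ = q * (d * q') * d' * d⁻¹ * (q⁻¹ * d'⁻¹) * q'⁻¹ := by group
            _ = q * (q' * d) * d' * d⁻¹ * (d'⁻¹ * q⁻¹) * q'⁻¹ := by rw [e1, e2]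
            _ = _ := by group
        rw [e]
        exact Subgroup.mul_mem _ (Subgroup.mul_mem _ (Subgroup.mul_mem _ (Subgroup.mul_mem _ hq hq')
          (hDD (Subgroup.commutator_mem_commutator hd hd'))) (Subgroup.inv_mem _ hq)) (Subgroup.inv_mem _ hq')
      · rw [if_pos (Nat.succ_le_of_lt hj'), if_pos hj'.le]
        refine Subgroup.commutator_le.2 fun a ha c hc => ?_
        obtain ⟨q, hq, d, hd, rfl⟩ := hsplit a ha
        have hcQ : c ∈ F.core := hCk ▸ hCmono (Nat.succ_le_of_lt hj') hc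
        have e : d * c * d⁻¹ = c := by rw [← (hcm d hd c hcQ).eq, mul_inv_cancel_right]
        have e' : ⁅q * d, c⁆ = ⁅q, c⁆ := by
          simp only [commutatorElement_def, mul_inv_rev]
          calc _ = q * (d * c * d⁻¹) * q⁻¹ * c⁻¹ := by group
            _ = _ := by rw [e]
        rw [e']
        exact hCcomm j hj' (Subgroup.commutator_mem_commutator hq hc)
  exact hi' (le_sup_right.trans (le_core hMn))

/-! ### Abelian and sparse systems -/

theorem card_autGroup_coprime_of_abelian (hab : ∀ x ∈ S, ∀ y ∈ S, x * y = y * x) :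
    ¬ p ∣ Nat.card (F.autGroup S) := by
  obtain ⟨-, T, hT⟩ := fullyAutomized_top hF
  have e : (T : Subgroup (F.autGroup S)) = ⊥ := by
    rw [hT]
    refine (Subgroup.eq_bot_iff_forall _).2 fun a ha => Subtype.ext (MulEquiv.ext fun x => Subtype.ext ?_)
    obtain ⟨g, hg, hga⟩ := mem_autInducedBy.1 (show (a : MulAut S) ∈ autInducedBy S S from ha)
    rw [hga x, hab g hg x x.2, mul_inv_cancel_right]
    rfl
  have := T.not_dvd_index
  rwa [e, Subgroup.index_bot] at this

theorem exists_top_extension (hab : ∀ x ∈ S, ∀ y ∈ S, x * y = y * x) {f : Ω → Ω} (hf : Fn F P f) :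
    ∃ a ∈ F.autGroup S, ∀ x ∈ P, f x = autFn a x := by
  obtain ⟨g, hg, he, hi⟩ := (normal_iff_fn.1 (normal_of_abelian_sc hS hF sc_top hab)).2 P f hf
  obtain ⟨a, ha, hag⟩ := exists_aut_of_fn (hg.mono le_sup_right) hi
  exact ⟨a, ha, fun x hx => by rw [← he x hx, ← hag ⟨x, hf.le hx⟩]; exact (autFn_coe a ⟨x, hf.le hx⟩).symm⟩

theorem center_focal_of_abelian (hab : ∀ x ∈ S, ∀ y ∈ S, x * y = y * x) :
    F.center ⊓ F.focalSubgroup = ⊥ ∧ F.center ⊔ F.focalSubgroup = S := by
  classical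
  let _ : CommGroup S := { (inferInstance : Group S) with
    mul_comm := fun a b => Subtype.ext (hab a a.2 b b.2) }
  let _ := Fintype.ofFinite (F.autGroup S)
  have hcop : Nat.Coprime (Fintype.card (F.autGroup S)) p := by
    rw [← Nat.card_eq_fintype_card]
    exact ((Fact.out : p.Prime).coprime_iff_not_dvd.2 (card_autGroup_coprime_of_abelian hS hF hab)).symm
  have hfix : ∀ {x : S}, (x : Ω) ∈ F.center → ∀ a : F.autGroup S, (a : MulAut S) x = x := by
    intro x hx a
    obtain ⟨g, hg, he, hfix⟩ := (central_iff_fn.1 center_central).2 S _ ((mem_autGroup_iff_fn le_rfl).1 a.2)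
    refine Subtype.ext ?_
    rw [← autFn_coe, ← he x x.2, hfix x hx]
  let τ : S →* S := MonoidHom.mk' (fun x => ∏ a : F.autGroup S, (a : MulAut S) x)
    fun x y => by simp only [map_mul, Finset.prod_mul_distrib]
  have hτ : ∀ (b : F.autGroup S) (x : S), τ ((b : MulAut S) x) = τ x := fun b x =>
    Fintype.prod_equiv (Equiv.mulRight b) _ _ fun a => rfl
  have hτ' : ∀ (b : F.autGroup S) (x : S), (b : MulAut S) (τ x) = τ x := fun b x =>
    (map_prod (b : MulAut S) _ _).trans (Fintype.prod_equiv (Equiv.mulLeft b) _ _ fun a => rfl)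
  have hfoc : F.focalSubgroup ≤ (τ.ker).map S.subtype := by
    refine (Subgroup.closure_le _).2 ?_
    rintro _ ⟨P, φ, x, hφ, rfl⟩
    obtain ⟨a, ha, hax⟩ := exists_top_extension hS hF hab (fn_ofHom hφ)
    let x' : S := ⟨x, (fn_ofHom hφ).le x.2⟩
    refine ⟨x'⁻¹ * (a x'), ?_, ?_⟩
    · show τ (x'⁻¹ * (a x')) = 1
      rw [map_mul, map_inv, hτ ⟨a, ha⟩ x', inv_mul_cancel]
    · show (x : Ω)⁻¹ * ((a x' : S) : Ω) = (x : Ω)⁻¹ * φ x
      rw [← autFn_coe, ← hax x x.2, ofHom_coe]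
  have hfocS : F.focalSubgroup ≤ S := hfoc.trans (Subgroup.map_subtype_le _)
  have hroot : ∀ x : S, (x ^ Fintype.card (F.autGroup S) = 1 → x = 1) := by
    intro x hx
    obtain ⟨j, hj⟩ := hS x
    exact orderOf_eq_one_iff.1 (Nat.eq_one_of_dvd_coprimes (hcop.pow_right j)
      (orderOf_dvd_of_pow_eq_one hx) (orderOf_dvd_of_pow_eq_one hj))
  constructor
  · refine (Subgroup.eq_bot_iff_forall _).2 fun y hy => ?_
    obtain ⟨x, hx, rfl⟩ := hfoc hy.2
    have h1 : x ^ Fintype.card (F.autGroup S) = 1 := by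
      rw [← show τ x = 1 from hx]
      show _ = ∏ a : F.autGroup S, (a : MulAut S) x
      rw [Finset.prod_congr rfl fun a _ => hfix hy.1 a, Finset.prod_const, Finset.card_univ]
    rw [hroot x h1]
    rfl
  · refine le_antisymm (sup_le ((sSup_le fun _ h => h.1)) hfocS) fun y hy => ?_
    lift y to S using hy
    let V : Subgroup S := (F.center ⊔ F.focalSubgroup).subgroupOf S
    suffices h : y ^ Fintype.card (F.autGroup S) ∈ V by
      obtain ⟨j, hj⟩ := hS y
      have hc : Nat.Coprime (Fintype.card (F.autGroup S)) (orderOf y) :=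
        (hcop.pow_right j).coprime_dvd_right (orderOf_dvd_of_pow_eq_one hj)
      obtain ⟨m, hm⟩ := exists_pow_eq_self_of_coprime hc
      exact (hm ▸ V.pow_mem h m : y ∈ V)
    have hZ : (τ y : Ω) ∈ F.center := by
      refine le_center (central_iff_fn.2 ⟨Subgroup.zpowers_le.2 (τ y).2, fun P f hf => ?_⟩)
        (Subgroup.mem_zpowers _)
      obtain ⟨a, ha, hax⟩ := exists_top_extension hS hF hab hf
      refine ⟨autFn a, ((mem_autGroup_iff_fn le_rfl).1 ha).mono (sup_le hf.le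
        (Subgroup.zpowers_le.2 (τ y).2)), fun x hx => (hax x hx).symm, fun x hx => ?_⟩
      obtain ⟨k, rfl⟩ := Subgroup.mem_zpowers_iff.1 hx
      rw [← SubgroupClass.coe_zpow, autFn_coe, map_zpow, hτ' ⟨a, ha⟩]
    have e : y ^ Fintype.card (F.autGroup S) = τ y * ∏ a : F.autGroup S, ((a : MulAut S) y)⁻¹ * y := by
      show _ = (∏ a : F.autGroup S, (a : MulAut S) y) * _
      rw [← Finset.prod_mul_distrib]
      simp [Finset.card_univ]
    rw [e]
    refine V.mul_mem (Subgroup.mem_sup_left hZ) (V.prod_mem fun a _ => ?_)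
    show (((a : MulAut S) y)⁻¹ * y : S).1 ∈ F.center ⊔ F.focalSubgroup
    refine Subgroup.mem_sup_right ?_
    have h3 : (y : Ω)⁻¹ * ((a : MulAut S) y : S) ∈ F.focalSubgroup :=
      Subgroup.subset_closure ⟨S, _, y, (mem_autGroup le_rfl).1 a.2, rfl⟩
    simpa using F.focalSubgroup.inv_mem h3

theorem inner_normalIn_of_inner (hab : ∀ x ∈ S, ∀ y ∈ S, x * y = y * x) (hT : T ≤ S)
    (hFT : T = S ∨ ∀ P, F.Hom P = (innerFusionSystem S).Hom P) :
    (innerFusionSystem T).IsNormalIn F p := by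
  have hsc : F.StronglyClosed T := by
    rcases hFT with rfl | h
    · exact sc_top
    · refine stronglyClosed_iff_fn.2 ⟨hT, fun P f hf x hx hxT => ?_⟩
      obtain ⟨φ, hφ, hφf⟩ := hf
      obtain ⟨hP, g, hg, hφg⟩ := (h P ▸ hφ : φ ∈ (innerFusionSystem S).Hom P)
      rw [← hφf ⟨x, hx⟩, hφg, hab g hg x (hP hx), mul_inv_cancel_right]
      exact hxT
  refine ⟨(normal_iff_inner_weaklyNormal hS hF hT).1
    (normal_of_abelian_sc hS hF hsc fun a ha b hb => hab a (hT ha) b (hT hb)), fun α hα => ?_⟩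
  have := finite_of_le_base hT
  rw [innerFusionSystem_eq_autSystem, autGroup_autSystem] at hα
  obtain ⟨t, rfl⟩ := hα
  refine ⟨1, Subgroup.one_mem _, fun x => ?_, fun c _ => ?_⟩
  · show (x : Ω) = t * (x : Ω) * (t : Ω)⁻¹
    rw [hab _ (hT t.2) _ (hT x.2), mul_inv_cancel_right]
  · rw [show ((1 : MulAut ↥(T ⊔ centralizerIn S T)) c) = c from rfl, inv_mul_cancel]
    exact Subgroup.one_mem _

theorem simple_iff_of_abelian (hab : ∀ x ∈ S, ∀ y ∈ S, x * y = y * x) :
    F.IsSimple p ↔ (Nat.card S = p ∧ ∀ P, F.Hom P = (innerFusionSystem S).Hom P) := by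
  constructor
  · rintro ⟨-, hne, hsimp⟩
    have hin : ∀ P, F.Hom P = (innerFusionSystem S).Hom P := by
      rcases hsimp S _ (inner_normalIn_of_inner hS hF hab le_rfl (Or.inl rfl)) with h | ⟨-, h⟩
      · exact absurd h hne
      · exact fun P => (h P).symm
    refine ⟨?_, hin⟩
    have := (Subgroup.nontrivial_iff_ne_bot _).2 hne
    obtain ⟨k, hk, hcard⟩ := hS.nontrivial_iff_card.1 this
    obtain ⟨z, hz⟩ := exists_prime_orderOf_dvd_card' p (hcard ▸ dvd_pow_self p hk.ne' : p ∣ Nat.card S)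
    have hZS : Subgroup.zpowers (z : Ω) ≤ S := Subgroup.zpowers_le.2 z.2
    rcases hsimp _ _ (inner_normalIn_of_inner hS hF hab hZS (Or.inr hin)) with h | ⟨h, -⟩
    · rw [Subgroup.zpowers_eq_bot] at h
      rw [show z = 1 from Subtype.ext h, orderOf_one] at hz
      exact absurd hz.symm (Fact.out : p.Prime).ne_one
    · have := congrArg (fun K : Subgroup Ω => Nat.card K) h
      rw [← this]
      rw [Nat.card_zpowers, Subgroup.orderOf_coe, hz]
  · rintro ⟨hcard, hin⟩
    have hp := (Fact.out : p.Prime)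
    refine ⟨hF, fun e => ?_, fun T E hE => ?_⟩
    · rw [e, Subgroup.card_bot] at hcard
      exact hp.ne_one hcard.symm
    · have hT : T ≤ S := subsystem_le hE.1.2.2.1
      rcases (Nat.dvd_prime hp).1 (hcard ▸ Subgroup.card_dvd_of_le hT) with h | h
      · exact Or.inl (Subgroup.card_eq_one.1 h)
      · obtain rfl := eq_of_le_of_card le_rfl hT (by rw [h, hcard])
        refine Or.inr ⟨rfl, fun P => Set.Subset.antisymm (hE.1.2.2.1 P) fun φ hφ => ?_⟩
        obtain ⟨hP, g, hg, hφg⟩ := (hin P ▸ hφ : φ ∈ (innerFusionSystem T).Hom P)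
        exact mem_hom_of_fn (fn_conj hP hg) hφg

end Finite

end CfsgLib.Fsys
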