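import Mathlib
import Cfsg.Prelude.Def_FusionSystem
/-
Fusion systems: basic calculus. Maps are handled through functions `f : Ω → Ω` with `Fn F P f`
("some map of `F` with source `P` agrees with `f` on `P`"), so that composition is composition of functions.
-/
set_option autoImplicit false

namespace CfsgLib.Fsys

open Cfsg

variable {Ω : Type*} [Group Ω] {S : Subgroup Ω} {F : FusionSystem S} {P Q R : Subgroup Ω}

/-- The function on `Ω` underlying a homomorphism defined on `P` (value `1` outside `P`). -/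
noncomputable def ofHom (φ : P →* Ω) : Ω → Ω := fun x =>
  letI := Classical.propDecidable (x ∈ P)
  if h : x ∈ P then φ ⟨x, h⟩ else 1

theorem ofHom_apply (φ : P →* Ω) {x : Ω} (h : x ∈ P) : ofHom φ x = φ ⟨x, h⟩ := by
  rw [ofHom, dif_pos h]

@[simp] theorem ofHom_coe (φ : P →* Ω) (x : P) : ofHom φ (x : Ω) = φ x := ofHom_apply φ x.2

/-- Some map of `F` with source `P` agrees with `f` on `P`. -/
def Fn (F : FusionSystem S) (P : Subgroup Ω) (f : Ω → Ω) : Prop :=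
  ∃ φ ∈ F.Hom P, ∀ x : P, φ x = f x

/-- The image of `P` under `f`. -/
def img (f : Ω → Ω) (P : Subgroup Ω) : Subgroup Ω := Subgroup.closure (f '' P)

theorem fn_ofHom {φ : P →* Ω} (h : φ ∈ F.Hom P) : Fn F P (ofHom φ) :=
  ⟨φ, h, fun x => (ofHom_coe φ x).symm⟩

theorem mem_hom_iff {φ : P →* Ω} : φ ∈ F.Hom P ↔ Fn F P (ofHom φ) := by
  refine ⟨fn_ofHom, ?_⟩
  rintro ⟨ψ, hψ, h⟩
  have : ψ = φ := MonoidHom.ext fun x => (h x).trans (ofHom_coe φ x)
  exact this ▸ hψ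

theorem mem_hom_of_fn {φ : P →* Ω} {f : Ω → Ω} (hf : Fn F P f) (h : ∀ x : P, φ x = f x) :
    φ ∈ F.Hom P := by
  obtain ⟨ψ, hψ, hψf⟩ := hf
  have : ψ = φ := MonoidHom.ext fun x => (hψf x).trans (h x).symm
  exact this ▸ hψ

namespace Fn

variable {f g : Ω → Ω}

theorem le (h : Fn F P f) : P ≤ S := by
  obtain ⟨φ, hφ, -⟩ := h
  exact (F.le_of_mem hφ).1

theorem mem (h : Fn F P f) {x : Ω} (hx : x ∈ P) : f x ∈ S := by
  obtain ⟨φ, hφ, hf⟩ := h
  exact hf ⟨x, hx⟩ ▸ (F.le_of_mem hφ).2 ⟨x, hx⟩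

theorem map_mul (h : Fn F P f) {x y : Ω} (hx : x ∈ P) (hy : y ∈ P) : f (x * y) = f x * f y := by
  obtain ⟨φ, -, hf⟩ := h
  exact (hf ⟨x * y, P.mul_mem hx hy⟩).symm.trans <|
    (φ.map_mul ⟨x, hx⟩ ⟨y, hy⟩).trans <| congrArg₂ (· * ·) (hf ⟨x, hx⟩) (hf ⟨y, hy⟩)

theorem map_one (h : Fn F P f) : f 1 = 1 := by
  obtain ⟨φ, -, hf⟩ := h
  exact (hf 1).symm.trans φ.map_one

theorem map_inv (h : Fn F P f) {x : Ω} (hx : x ∈ P) : f x⁻¹ = (f x)⁻¹ := by
  obtain ⟨φ, -, hf⟩ := h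
  exact (hf ⟨x⁻¹, P.inv_mem hx⟩).symm.trans <|
    (φ.map_inv ⟨x, hx⟩).trans <| congrArg (·⁻¹) (hf ⟨x, hx⟩)

theorem map_conj (h : Fn F P f) {x y : Ω} (hx : x ∈ P) (hy : y ∈ P) :
    f (x * y * x⁻¹) = f x * f y * (f x)⁻¹ := by
  rw [h.map_mul (P.mul_mem hx hy) (P.inv_mem hx), h.map_mul hx hy, h.map_inv hx]

theorem inj (h : Fn F P f) {x y : Ω} (hx : x ∈ P) (hy : y ∈ P) (he : f x = f y) : x = y := by
  obtain ⟨φ, hφ, hf⟩ := h
  exact congrArg Subtype.val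
    (F.injective_of_mem hφ (((hf ⟨x, hx⟩).trans he).trans (hf ⟨y, hy⟩).symm))

theorem eq_one_iff (h : Fn F P f) {x : Ω} (hx : x ∈ P) : f x = 1 ↔ x = 1 :=
  ⟨fun e => h.inj hx P.one_mem (e.trans h.map_one.symm), fun e => e ▸ h.map_one⟩

theorem congr (h : Fn F P f) (he : ∀ x ∈ P, f x = g x) : Fn F P g := by
  obtain ⟨φ, hφ, hf⟩ := h
  exact ⟨φ, hφ, fun x => (hf x).trans (he x x.2)⟩

theorem comp (h : Fn F P f) (hg : Fn F Q g) (hm : ∀ x ∈ P, f x ∈ Q) : Fn F P (g ∘ f) := by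
  obtain ⟨φ, hφ, hf⟩ := h
  obtain ⟨ψ, hψ, hψg⟩ := hg
  refine ⟨_, F.comp_mem hφ hψ (fun x => (hf x).symm ▸ hm x x.2), fun x => ?_⟩
  exact (hψg _).trans (congrArg g (hf x))

end Fn

theorem fn_conj (hP : P ≤ S) {g : Ω} (hg : g ∈ S) : Fn F P (fun x => g * x * g⁻¹) :=
  ⟨conjHom P g, F.conj_mem hP hg, fun _ => rfl⟩

theorem fn_id (hP : P ≤ S) : Fn F P id :=
  (fn_conj hP S.one_mem).congr fun x _ => by simp

theorem Fn.mono {f : Ω → Ω} (h : Fn F P f) (hR : R ≤ P) : Fn F R f :=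
  (fn_id (hR.trans h.le)).comp h fun _ hx => hR hx

theorem mem_img_of_mem {f : Ω → Ω} {x : Ω} (hx : x ∈ P) : f x ∈ img f P :=
  Subgroup.subset_closure ⟨x, hx, rfl⟩

theorem img_le {f : Ω → Ω} (h : ∀ x ∈ P, f x ∈ Q) : img f P ≤ Q :=
  (Subgroup.closure_le _).2 fun _ ⟨x, hx, e⟩ => e ▸ h x hx

theorem img_mono {f : Ω → Ω} (h : R ≤ P) : img f R ≤ img f P :=
  img_le fun _ hx => mem_img_of_mem (h hx)

theorem img_congr {f g : Ω → Ω} (h : ∀ x ∈ P, f x = g x) : img f P = img g P :=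
  le_antisymm (img_le fun x hx => (h x hx).symm ▸ mem_img_of_mem hx)
    (img_le fun x hx => (h x hx) ▸ mem_img_of_mem hx)

@[simp] theorem img_id (P : Subgroup Ω) : img id P = P :=
  le_antisymm (img_le fun _ hx => hx) fun _ hx => mem_img_of_mem (f := id) hx

namespace Fn

variable {f g : Ω → Ω}

theorem mem_img (h : Fn F P f) {y : Ω} : y ∈ img f P ↔ ∃ x ∈ P, f x = y := by
  constructor
  · intro hy
    induction hy using Subgroup.closure_induction with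
    | mem y hy => exact hy
    | one => exact ⟨1, P.one_mem, h.map_one⟩
    | mul a b _ _ ha hb =>
      obtain ⟨x, hx, rfl⟩ := ha
      obtain ⟨z, hz, rfl⟩ := hb
      exact ⟨x * z, P.mul_mem hx hz, h.map_mul hx hz⟩
    | inv a _ ha =>
      obtain ⟨x, hx, rfl⟩ := ha
      exact ⟨x⁻¹, P.inv_mem hx, h.map_inv hx⟩
  · rintro ⟨x, hx, rfl⟩
    exact mem_img_of_mem hx

theorem img_le_base (h : Fn F P f) : img f P ≤ S := img_le fun _ hx => h.mem hx

theorem card_img (h : Fn F P f) : Nat.card (img f P) = Nat.card P := by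
  refine (Nat.card_eq_of_bijective (fun x : P => (⟨f x, mem_img_of_mem x.2⟩ : img f P)) ⟨?_, ?_⟩).symm
  · intro x y e
    exact Subtype.ext (h.inj x.2 y.2 (congrArg Subtype.val e))
  · rintro ⟨y, hy⟩
    obtain ⟨x, hx, rfl⟩ := h.mem_img.1 hy
    exact ⟨⟨x, hx⟩, rfl⟩

theorem img_comp (h : Fn F P f) : img (g ∘ f) P = img g (img f P) := by
  refine le_antisymm (img_le fun x hx => mem_img_of_mem (mem_img_of_mem hx)) (img_le fun y hy => ?_)
  obtain ⟨x, hx, rfl⟩ := h.mem_img.1 hy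
  exact mem_img_of_mem (f := g ∘ f) hx

theorem range_eq_img {φ : P →* Ω} (h : ∀ x : P, φ x = f x) : φ.range = img f P := by
  refine le_antisymm ?_ (img_le fun x hx => ⟨⟨x, hx⟩, h _⟩)
  rintro _ ⟨x, rfl⟩
  exact (h x).symm ▸ mem_img_of_mem x.2

theorem exists_inv (h : Fn F P f) :
    ∃ g : Ω → Ω, Fn F (img f P) g ∧ (∀ x ∈ P, g (f x) = x) ∧ img g (img f P) = P := by
  obtain ⟨φ, hφ, hf⟩ := id h
  obtain ⟨ψ, hψ, hψφ⟩ := F.inv_mem hφ
  have he : φ.range = img f P := range_eq_img hf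
  have hg : Fn F (img f P) (ofHom ψ) := he ▸ fn_ofHom hψ
  have key : ∀ x ∈ P, ofHom ψ (f x) = x := fun x hx => by
    rw [← hf ⟨x, hx⟩, ofHom_apply ψ ⟨⟨x, hx⟩, rfl⟩]
    exact hψφ ⟨x, hx⟩
  refine ⟨ofHom ψ, hg, key, ?_⟩
  exact h.img_comp.symm.trans ((img_congr (g := id) key).trans (img_id P))

theorem map_mem_iff (h : Fn F P f) (hR : R ≤ P) {x : Ω} (hx : x ∈ P) : f x ∈ img f R ↔ x ∈ R := by
  refine ⟨fun hm => ?_, mem_img_of_mem⟩
  obtain ⟨y, hy, e⟩ := (h.mono hR).mem_img.1 hm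
  exact h.inj (hR hy) hx e ▸ hy

end Fn

theorem fn_conj_img (hP : P ≤ S) {g : Ω} (hg : g ∈ S) :
    img (fun x => g * x * g⁻¹) P = P.map (MulAut.conj g).toMonoidHom := by
  ext y
  rw [(fn_conj (F := groupFusionSystem S) hP hg).mem_img]
  rfl

theorem isConj_iff : F.IsConj P Q ↔ ∃ f : Ω → Ω, Fn F P f ∧ img f P = Q := by
  constructor
  · rintro ⟨φ, hφ, rfl⟩
    exact ⟨ofHom φ, fn_ofHom hφ, (Fn.range_eq_img fun x => (ofHom_coe φ x).symm).symm⟩
  · rintro ⟨f, ⟨φ, hφ, hf⟩, rfl⟩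
    exact ⟨φ, hφ, Fn.range_eq_img hf⟩

theorem isConj_of_fn {f : Ω → Ω} (h : Fn F P f) : F.IsConj P (img f P) :=
  isConj_iff.2 ⟨f, h, rfl⟩

theorem isConj_refl (hP : P ≤ S) : F.IsConj P P := isConj_iff.2 ⟨id, fn_id hP, img_id P⟩

theorem isConj_symm (h : F.IsConj P Q) : F.IsConj Q P := by
  obtain ⟨f, hf, rfl⟩ := isConj_iff.1 h
  obtain ⟨g, hg, -, e⟩ := hf.exists_inv
  exact isConj_iff.2 ⟨g, hg, e⟩

theorem isConj_trans (h : F.IsConj P Q) (h' : F.IsConj Q R) : F.IsConj P R := by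
  obtain ⟨f, hf, rfl⟩ := isConj_iff.1 h
  obtain ⟨g, hg, rfl⟩ := isConj_iff.1 h'
  exact isConj_iff.2 ⟨g ∘ f, hf.comp hg fun _ hx => mem_img_of_mem hx, hf.img_comp⟩

theorem isConj_le_left (h : F.IsConj P Q) : P ≤ S := by
  obtain ⟨f, hf, -⟩ := isConj_iff.1 h
  exact hf.le

theorem isConj_le_right (h : F.IsConj P Q) : Q ≤ S := by
  obtain ⟨f, hf, rfl⟩ := isConj_iff.1 h
  exact hf.img_le_base

theorem isConj_card (h : F.IsConj P Q) : Nat.card Q = Nat.card P := by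
  obtain ⟨f, hf, rfl⟩ := isConj_iff.1 h
  exact hf.card_img

/-! ### Finiteness -/

section Finite

variable [Finite S]

theorem finite_of_le_base (hP : P ≤ S) : Finite P :=
  Finite.of_injective (Subgroup.inclusion hP) (Subgroup.inclusion_injective hP)

theorem eq_of_le_of_card {A B : Subgroup Ω} (hB : B ≤ S) (h : A ≤ B)
    (hc : Nat.card B ≤ Nat.card A) : A = B := by
  have := finite_of_le_base hB
  exact Subgroup.eq_of_le_of_card_ge h hc

theorem Fn.img_eq_self {f : Ω → Ω} (h : Fn F P f) (hm : ∀ x ∈ P, f x ∈ P) : img f P = P :=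
  eq_of_le_of_card h.le (img_le hm) h.card_img.ge

theorem finite_subgroups_le : {P : Subgroup Ω | P ≤ S}.Finite := by
  refine Set.Finite.subset (Set.finite_range fun K : Subgroup S => K.map S.subtype) ?_
  intro P hP
  exact ⟨P.subgroupOf S, Subgroup.map_subgroupOf_eq_of_le hP⟩

theorem finite_isConj (P : Subgroup Ω) : {Q : Subgroup Ω | F.IsConj P Q}.Finite :=
  finite_subgroups_le.subset fun _ hQ => isConj_le_right hQ

end Finite

/-! ### Automorphism groups -/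

theorem mem_autInducedBy {K : Subgroup Ω} {α : MulAut P} :
    α ∈ autInducedBy K P ↔ ∃ g ∈ K, ∀ x : P, ((α x : P) : Ω) = g * (x : Ω) * g⁻¹ := by
  refine ⟨fun h => ?_, fun h => Subgroup.subset_closure h⟩
  induction h using Subgroup.closure_induction with
  | mem α h => exact h
  | one => exact ⟨1, K.one_mem, fun x => by simp⟩
  | mul α β _ _ hα hβ =>
    obtain ⟨g, hg, hgα⟩ := hα
    obtain ⟨h, hh, hhβ⟩ := hβ
    refine ⟨g * h, K.mul_mem hg hh, fun x => ?_⟩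
    show ((α (β x) : P) : Ω) = _
    rw [hgα, hhβ]
    group
  | inv α _ hα =>
    obtain ⟨g, hg, hgα⟩ := hα
    refine ⟨g⁻¹, K.inv_mem hg, fun x => ?_⟩
    have h := hgα (α⁻¹ x)
    rw [MulAut.apply_inv_self] at h
    rw [h]
    group

theorem mem_autGroup (hP : P ≤ S) {α : MulAut P} :
    α ∈ F.autGroup P ↔ P.subtype.comp α.toMonoidHom ∈ F.Hom P := by
  refine ⟨fun h => ?_, fun h => Subgroup.subset_closure h⟩
  induction h using Subgroup.closure_induction with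
  | mem α h => exact h
  | one => exact mem_hom_of_fn (fn_id hP) fun x => rfl
  | mul α β _ _ hα hβ =>
    refine mem_hom_of_fn ((fn_ofHom hβ).comp (fn_ofHom hα) fun x hx => ?_) fun x => ?_
    · rw [ofHom_apply _ hx]
      exact (β ⟨x, hx⟩).2
    · show ((α (β x) : P) : Ω) = ofHom _ (ofHom _ (x : Ω))
      rw [ofHom_coe]
      exact (ofHom_coe (P.subtype.comp α.toMonoidHom) (β x)).symm
  | inv α _ hα =>
    obtain ⟨g, hg, hgi, -⟩ := (fn_ofHom hα).exists_inv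
    have hP' : P ≤ img (ofHom (P.subtype.comp α.toMonoidHom)) P := fun x hx =>
      (fn_ofHom hα).mem_img.2 ⟨(α⁻¹ ⟨x, hx⟩ : P), (α⁻¹ ⟨x, hx⟩).2, by simp⟩
    refine mem_hom_of_fn (hg.mono hP') fun x => ?_
    have := hgi ((α⁻¹ x : P) : Ω) (α⁻¹ x).2
    rw [ofHom_coe] at this
    simpa using this.symm

/-- An automorphism of `P` as a function on `Ω`. -/
noncomputable def autFn (α : MulAut P) : Ω → Ω := ofHom (P.subtype.comp α.toMonoidHom)

@[simp] theorem autFn_coe (α : MulAut P) (x : P) : autFn α (x : Ω) = (α x : P) := ofHom_coe _ x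

theorem autFn_mem (α : MulAut P) {x : Ω} (hx : x ∈ P) : autFn α x ∈ P := by
  rw [autFn, ofHom_apply _ hx]
  exact (α ⟨x, hx⟩).2

theorem autFn_mul (α β : MulAut P) {x : Ω} (hx : x ∈ P) :
    autFn (α * β) x = autFn α (autFn β x) := by
  lift x to P using hx
  simp

theorem autFn_inv_apply (α : MulAut P) {x : Ω} (hx : x ∈ P) :
    autFn α⁻¹ (autFn α x) = x := by
  lift x to P using hx
  simp

theorem autFn_apply_inv (α : MulAut P) {x : Ω} (hx : x ∈ P) :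
    autFn α (autFn α⁻¹ x) = x := by
  lift x to P using hx
  simp

theorem img_autFn (α : MulAut P) : img (autFn α) P = P :=
  le_antisymm (img_le fun _ hx => autFn_mem α hx) fun x hx =>
    Subgroup.subset_closure ⟨autFn α⁻¹ x, autFn_mem _ hx, autFn_apply_inv α hx⟩

theorem mem_autGroup_iff_fn (hP : P ≤ S) {α : MulAut P} : α ∈ F.autGroup P ↔ Fn F P (autFn α) :=
  (mem_autGroup hP).trans mem_hom_iff

theorem mulAut_ext {α β : MulAut P} (h : ∀ x ∈ P, autFn α x = autFn β x) : α = β :=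
  MulEquiv.ext fun x => Subtype.ext <| by simpa using h x x.2

/-- A map of `F` from `P` onto `P` is an element of `Aut_F(P)`. -/
theorem exists_aut_of_fn {f : Ω → Ω} (hf : Fn F P f) (hi : img f P = P) :
    ∃ α ∈ F.autGroup P, ∀ x : P, ((α x : P) : Ω) = f x := by
  obtain ⟨φ, hφ, hφf⟩ := id hf
  have hm : ∀ x : P, φ x ∈ P := fun x => by
    rw [hφf x]
    exact hi.le (mem_img_of_mem x.2)
  have hb : Function.Bijective (φ.codRestrict P hm) := by
    refine ⟨fun x y e => ?_, fun y => ?_⟩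
    · refine Subtype.ext (hf.inj x.2 y.2 ?_)
      rw [← hφf, ← hφf]
      exact congrArg Subtype.val e
    · obtain ⟨x, hx, e⟩ := hf.mem_img.1 (hi.ge y.2)
      exact ⟨⟨x, hx⟩, Subtype.ext ((hφf _).trans e)⟩
  refine ⟨MulEquiv.ofBijective _ hb, (mem_autGroup hf.le).2 ?_, hφf⟩
  exact mem_hom_of_fn hf hφf

theorem mem_normalizer_iff' {g : Ω} :
    g ∈ Subgroup.normalizer (P : Set Ω) ↔
      (∀ x ∈ P, g * x * g⁻¹ ∈ P) ∧ ∀ x ∈ P, g⁻¹ * x * g ∈ P := by
  rw [Subgroup.mem_normalizer_iff]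
  refine ⟨fun h => ⟨fun x hx => (h x).1 hx, fun x hx => (h _).2 (by simpa [mul_assoc] using hx)⟩,
    fun h x => ⟨h.1 x, fun hx => ?_⟩⟩
  simpa [mul_assoc] using h.2 _ hx

theorem mem_normalizer_of_map_le {g : Ω} [Finite P] (h : ∀ x ∈ P, g * x * g⁻¹ ∈ P) :
    g ∈ Subgroup.normalizer (P : Set Ω) := by
  refine mem_normalizer_iff'.2 ⟨h, fun x hx => ?_⟩
  let c : P → P := fun y => ⟨g * y * g⁻¹, h y y.2⟩
  have hc : Function.Injective c := fun a b e =>
    Subtype.ext (mul_left_cancel (mul_right_cancel (congrArg Subtype.val e)))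
  obtain ⟨y, hy⟩ := (Finite.injective_iff_surjective.1 hc) ⟨x, hx⟩
  have hy' : g * (y : Ω) * g⁻¹ = x := congrArg Subtype.val hy
  rw [← hy']
  simpa [mul_assoc] using y.2

theorem autInducedBy_le_autGroup (hP : P ≤ S) : autInducedBy S P ≤ F.autGroup P := by
  intro α hα
  obtain ⟨g, hg, hgα⟩ := mem_autInducedBy.1 hα
  exact (mem_autGroup hP).2 (mem_hom_of_fn (fn_conj hP hg) hgα)

/-- The automorphism of `P` induced by an element of its normalizer. -/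
noncomputable def conjAut (P : Subgroup Ω) {g : Ω} (hg : g ∈ Subgroup.normalizer (P : Set Ω)) :
    MulAut P :=
  Subgroup.normalizerMonoidHom P ⟨g, hg⟩

@[simp] theorem conjAut_coe {g : Ω} (hg : g ∈ Subgroup.normalizer (P : Set Ω)) (x : P) :
    ((conjAut P hg x : P) : Ω) = g * (x : Ω) * g⁻¹ := rfl

theorem conjAut_mem_autInducedBy {K : Subgroup Ω} {g : Ω}
    (hg : g ∈ Subgroup.normalizer (P : Set Ω)) (hK : g ∈ K) : conjAut P hg ∈ autInducedBy K P :=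
  mem_autInducedBy.2 ⟨g, hK, conjAut_coe hg⟩

theorem mem_normalizer_of_autEq {g : Ω} {α : MulAut P}
    (h : ∀ x : P, ((α x : P) : Ω) = g * (x : Ω) * g⁻¹) :
    g ∈ Subgroup.normalizer (P : Set Ω) := by
  refine mem_normalizer_iff'.2 ⟨fun x hx => ?_, fun x hx => ?_⟩
  · exact h ⟨x, hx⟩ ▸ (α ⟨x, hx⟩).2
  · have h' := h (α⁻¹ ⟨x, hx⟩)
    rw [MulAut.apply_inv_self] at h'
    generalize α⁻¹ ⟨x, hx⟩ = y at h'
    have e : g⁻¹ * x * g = (y : Ω) := by
      rw [show x = g * (y : Ω) * g⁻¹ from h']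
      simp [mul_assoc]
    exact e ▸ y.2

theorem autInducedBy_eq_map (K P : Subgroup Ω) :
    autInducedBy K P = (K.subgroupOf (Subgroup.normalizer (P : Set Ω))).map P.normalizerMonoidHom := by
  ext α
  rw [mem_autInducedBy]
  constructor
  · rintro ⟨g, hg, h⟩
    refine ⟨⟨g, mem_normalizer_of_autEq h⟩, hg, ?_⟩
    exact MulEquiv.ext fun x => Subtype.ext (h x).symm
  · rintro ⟨⟨g, hgN⟩, hg, rfl⟩
    exact ⟨g, hg, fun x => rfl⟩

/-! ### The extender -/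

/-- Membership in `N_φ`, the description given in the definition. -/
def InExt (S P : Subgroup Ω) (f : Ω → Ω) (g : Ω) : Prop :=
  g ∈ S ∧ g ∈ Subgroup.normalizer (P : Set Ω) ∧ ∃ h ∈ S, ∀ x ∈ P, f (g * x * g⁻¹) = h * f x * h⁻¹

theorem mem_extender {φ : P →* Ω} {f : Ω → Ω} (hf : ∀ x : P, φ x = f x) {g : Ω} :
    g ∈ Cfsg.FusionSystem.extender S P φ ↔ InExt S P f g := by
  have hiff : ∀ g : Ω, (g ∈ S ∧ g ∈ Subgroup.normalizer (P : Set Ω) ∧
      ∃ h ∈ S, ∀ (x : P) (hx : g * (x : Ω) * g⁻¹ ∈ P), φ ⟨g * x * g⁻¹, hx⟩ = h * φ x * h⁻¹) ↔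
        InExt S P f g := by
    intro g
    refine and_congr_right fun _ => and_congr_right fun hn => exists_congr fun h =>
      and_congr_right fun _ => ⟨fun H x hx => ?_, fun H x hx => ?_⟩
    · have := H ⟨x, hx⟩ ((Subgroup.mem_normalizer_iff.1 hn x).1 hx)
      rw [hf, hf] at this
      exact this
    · rw [hf, hf]
      exact H x x.2
  refine ⟨fun hg => ?_, fun hg => Subgroup.subset_closure ((hiff g).2 hg)⟩
  unfold Cfsg.FusionSystem.extender at hg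
  induction hg using Subgroup.closure_induction with
  | mem g hg => exact (hiff g).1 hg
  | one =>
    exact ⟨S.one_mem, Subgroup.one_mem _, 1, S.one_mem, fun x _ => by simp⟩
  | mul a b _ _ ha hb =>
    obtain ⟨haS, haN, h₁, hh₁, e₁⟩ := ha
    obtain ⟨hbS, hbN, h₂, hh₂, e₂⟩ := hb
    refine ⟨S.mul_mem haS hbS, Subgroup.mul_mem _ haN hbN, h₁ * h₂, S.mul_mem hh₁ hh₂,
      fun x hx => ?_⟩
    have hbx := (Subgroup.mem_normalizer_iff.1 hbN x).1 hx
    rw [show a * b * x * (a * b)⁻¹ = a * (b * x * b⁻¹) * a⁻¹ by group, e₁ _ hbx, e₂ x hx]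
    group
  | inv a _ ha =>
    obtain ⟨haS, haN, h₁, hh₁, e₁⟩ := ha
    refine ⟨S.inv_mem haS, Subgroup.inv_mem _ haN, h₁⁻¹, S.inv_mem hh₁, fun x hx => ?_⟩
    have hax : a⁻¹ * x * a⁻¹⁻¹ ∈ P := by simpa using (mem_normalizer_iff'.1 haN).2 x hx
    have := e₁ _ hax
    rw [show a * (a⁻¹ * x * a⁻¹⁻¹) * a⁻¹ = x by group] at this
    rw [this]
    group

theorem inExt_of_mem {f : Ω → Ω} (h : Fn F P f) {g : Ω} (hg : g ∈ P) : InExt S P f g :=
  ⟨h.le hg, Subgroup.le_normalizer hg, f g, h.mem hg, fun _ hx => h.map_conj hg hx⟩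

theorem inExt_of_commute {f : Ω → Ω} {g : Ω} (hg : g ∈ Cfsg.FusionSystem.centralizerIn S P) :
    InExt S P f g := by
  have hc : ∀ x ∈ P, g * x * g⁻¹ = x := fun x hx => by
    rw [← hg.2 x hx, mul_inv_cancel_right]
  refine ⟨hg.1, mem_normalizer_iff'.2 ⟨fun x hx => (hc x hx).symm ▸ hx, fun x hx => ?_⟩, 1,
    S.one_mem, fun x hx => by simp [hc x hx]⟩
  have e : g⁻¹ * x * g = x := by
    rw [mul_assoc, hg.2 x hx, inv_mul_cancel_left]
  exact e.symm ▸ hx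

theorem mem_centralizerIn {g : Ω} :
    g ∈ Cfsg.FusionSystem.centralizerIn S P ↔ g ∈ S ∧ ∀ x ∈ P, x * g = g * x := Iff.rfl

theorem mem_normalizerIn {g : Ω} :
    g ∈ Cfsg.FusionSystem.normalizerIn S P ↔ g ∈ S ∧ g ∈ Subgroup.normalizer (P : Set Ω) := Iff.rfl

end CfsgLib.Fsys
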