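import Cfsg.Agent.Lib.FusionSystem.Basic
/-
Fusion systems: receptive, fully automized, fully normalized, fully centralized subgroups; the Sylow axioms.
-/
set_option autoImplicit false

namespace CfsgLib.Fsys

open Cfsg
open Cfsg.FusionSystem (centralizerIn normalizerIn extender)

variable {Ω : Type*} [Group Ω] {S : Subgroup Ω} {F : FusionSystem S} {P Q R : Subgroup Ω}

theorem receptive_extend (h : F.IsReceptive Q) {f : Ω → Ω} (hf : Fn F P f) (hi : img f P = Q) :
    ∃ (N : Subgroup Ω) (g : Ω → Ω), Fn F N g ∧ P ≤ N ∧ (∀ x, x ∈ N ↔ InExt S P f x) ∧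
      ∀ x ∈ P, g x = f x := by
  obtain ⟨φ, hφ, hφf⟩ := id hf
  obtain ⟨ψ, hψ, hψφ⟩ := h.2 P φ hφ ((Fn.range_eq_img hφf).trans hi)
  have hN : ∀ x, x ∈ extender S P φ ↔ InExt S P f x := fun x => mem_extender hφf
  have hPN : P ≤ extender S P φ := fun x hx => (hN x).2 (inExt_of_mem hf hx)
  refine ⟨_, ofHom ψ, fn_ofHom hψ, hPN, hN, fun x hx => ?_⟩
  rw [ofHom_apply ψ (hPN hx)]
  exact (hψφ x hx (hPN hx)).trans (hφf ⟨x, hx⟩)

theorem receptive_of_extend (hQS : Q ≤ S)
    (h : ∀ (P : Subgroup Ω) (f : Ω → Ω), Fn F P f → img f P = Q →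
      ∃ g : Ω → Ω, (∀ N : Subgroup Ω, (∀ x ∈ N, InExt S P f x) → Fn F N g) ∧ ∀ x ∈ P, g x = f x) :
    F.IsReceptive Q := by
  refine ⟨hQS, fun P φ hφ hr => ?_⟩
  have hf : ∀ x : P, φ x = ofHom φ x := fun x => (ofHom_coe φ x).symm
  obtain ⟨g, hg, hge⟩ := h P _ (fn_ofHom hφ) ((Fn.range_eq_img hf).symm.trans hr)
  obtain ⟨ψ, hψ, hψg⟩ := hg (extender S P φ) fun x hx => (mem_extender hf).1 hx
  exact ⟨ψ, hψ, fun x hP hN => (hψg ⟨x, hN⟩).trans ((hge x hP).trans (hf ⟨x, hP⟩).symm)⟩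

theorem le_normalizerIn (hP : P ≤ S) : P ≤ normalizerIn S P := le_inf hP Subgroup.le_normalizer

theorem centralizerIn_le_normalizerIn : centralizerIn S P ≤ normalizerIn S P :=
  fun _ hn => ⟨(mem_centralizerIn.1 hn).1, (inExt_of_commute (f := id) hn).2.1⟩

theorem normalizerIn_le : normalizerIn S P ≤ S := inf_le_left

theorem centralizerIn_le : centralizerIn S P ≤ S := inf_le_left

variable [Finite S]

theorem Fn.map_normalizer {N : Subgroup Ω} {g : Ω → Ω} (hg : Fn F N g) (hPN : P ≤ N)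
    (hQ : img g P = Q) {n : Ω} (hn : n ∈ N) (hnP : n ∈ Subgroup.normalizer (P : Set Ω)) :
    g n ∈ normalizerIn S Q := by
  have := finite_of_le_base (hQ ▸ (hg.mono hPN).img_le_base : Q ≤ S)
  refine ⟨hg.mem hn, mem_normalizer_of_map_le fun y hy => ?_⟩
  obtain ⟨x, hx, rfl⟩ := (hg.mono hPN).mem_img.1 (hQ.symm ▸ hy)
  rw [← hg.map_conj hn (hPN hx), ← hQ]
  exact mem_img_of_mem ((mem_normalizer_iff'.1 hnP).1 x hx)

omit [Finite S] in
theorem Fn.map_centralizer {N : Subgroup Ω} {g : Ω → Ω} (hg : Fn F N g) (hPN : P ≤ N)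
    (hQ : img g P = Q) {n : Ω} (hn : n ∈ N) (hnP : n ∈ centralizerIn S P) :
    g n ∈ centralizerIn S Q := by
  refine mem_centralizerIn.2 ⟨hg.mem hn, fun y hy => ?_⟩
  obtain ⟨x, hx, rfl⟩ := (hg.mono hPN).mem_img.1 (hQ.symm ▸ hy)
  rw [← hg.map_mul (hPN hx) hn, ← hg.map_mul hn (hPN hx), (mem_centralizerIn.1 hnP).2 x hx]

theorem card_le_of_map_le {N B : Subgroup Ω} (hB : B ≤ S) {g : Ω → Ω} (hg : Fn F N g)
    (h : ∀ x ∈ N, g x ∈ B) : Nat.card N ≤ Nat.card B := by
  have := finite_of_le_base hB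
  exact hg.card_img.symm.trans_le (Subgroup.card_le_of_le (img_le h))

theorem img_eq_of_card_le {N B : Subgroup Ω} (hB : B ≤ S) {g : Ω → Ω} (hg : Fn F N g)
    (h : ∀ x ∈ N, g x ∈ B) (hc : Nat.card B ≤ Nat.card N) : img g N = B :=
  eq_of_le_of_card hB (img_le h) (hc.trans hg.card_img.ge)

/-- A receptive subgroup is fully centralized. -/
theorem receptive_fullyCentralized (hP : F.IsReceptive P) : F.IsFullyCentralized P := by
  refine ⟨hP.1, fun Q hQ => ?_⟩
  obtain ⟨f, hf, hi⟩ := isConj_iff.1 (isConj_symm hQ)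
  obtain ⟨N, g, hg, hQN, hN, hge⟩ := receptive_extend hP hf hi
  have hCN : centralizerIn S Q ≤ N := fun n hn => (hN n).2 (inExt_of_commute hn)
  exact card_le_of_map_le centralizerIn_le (hg.mono hCN) fun n hn =>
    hg.map_centralizer hQN ((img_congr hge).trans hi) (hCN hn) hn

theorem exists_fullyNormalized (hP : P ≤ S) :
    ∃ Q, F.IsConj P Q ∧ F.IsFullyNormalized Q := by
  obtain ⟨Q, hQ, hmax⟩ := Set.exists_max_image _
    (fun Q : Subgroup Ω => Nat.card (normalizerIn S Q)) (finite_isConj (F := F) P)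
    ⟨P, isConj_refl hP⟩
  exact ⟨Q, hQ, isConj_le_right hQ, fun R hR => hmax R (isConj_trans hQ hR)⟩

theorem exists_fullyCentralized (hP : P ≤ S) :
    ∃ Q, F.IsConj P Q ∧ F.IsFullyCentralized Q := by
  obtain ⟨Q, hQ, hmax⟩ := Set.exists_max_image _
    (fun Q : Subgroup Ω => Nat.card (centralizerIn S Q)) (finite_isConj (F := F) P)
    ⟨P, isConj_refl hP⟩
  exact ⟨Q, hQ, isConj_le_right hQ, fun R hR => hmax R (isConj_trans hQ hR)⟩

variable {p : ℕ} [Fact p.Prime]

omit [Finite S] in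
theorem isPGroup_of_le (hS : IsPGroup p S) (hP : P ≤ S) : IsPGroup p P := hS.to_le hP

omit [Finite S] in
theorem isPGroup_autInducedBy (hS : IsPGroup p S) : IsPGroup p (autInducedBy S P) := by
  rw [autInducedBy_eq_map]
  refine IsPGroup.map ?_ _
  exact hS.of_injective
    { toFun := fun x => (⟨((x : ↥(Subgroup.normalizer (P : Set Ω))) : Ω), x.2⟩ : S)
      map_one' := rfl
      map_mul' := fun _ _ => rfl }
    fun a b h => Subtype.ext (Subtype.ext (congrArg (fun z : S => (z : Ω)) h))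

/-- The automorphisms of `S`-conjugation of `Q`, transported along `f : Q → P`. -/
theorem exists_transport (hQ : Q ≤ S) {f : Ω → Ω} (hf : Fn F Q f) (hi : img f Q = P) :
    ∃ e : Q ≃* P, (∀ x : Q, ((e x : P) : Ω) = f x) ∧
      (F.autGroup Q).map (MulAut.congr e).toMonoidHom = F.autGroup P := by
  obtain ⟨g, hg, hgf, hgi⟩ := hf.exists_inv
  rw [hi] at hg hgi
  let e : Q ≃* P :=
    { toFun := fun x => ⟨f x, hi.le (mem_img_of_mem x.2)⟩
      invFun := fun y => ⟨g y, hgi.le (mem_img_of_mem y.2)⟩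
      left_inv := fun x => Subtype.ext (hgf x x.2)
      right_inv := fun y => by
        obtain ⟨x, hx, e⟩ := hf.mem_img.1 (hi.ge y.2)
        exact Subtype.ext (show f (g y) = y by rw [← e, hgf x hx])
      map_mul' := fun x y => Subtype.ext (hf.map_mul x.2 y.2) }
  have hPS : P ≤ S := hi ▸ hf.img_le_base
  refine ⟨e, fun x => rfl, le_antisymm ?_ fun β hβ => ?_⟩
  · rintro _ ⟨α, hα, rfl⟩
    refine (mem_autGroup hPS).2 (mem_hom_of_fn
      ((hg.comp ((mem_autGroup_iff_fn hQ).1 hα) fun y hy => hgi.le (mem_img_of_mem hy)).comp hf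
        fun y hy => autFn_mem α (hgi.le (mem_img_of_mem hy))) fun y => ?_)
    show (((MulAut.congr e α) y : P) : Ω) = f (autFn α (g (y : Ω)))
    rw [show g (y : Ω) = ((e.symm y : Q) : Ω) from rfl, autFn_coe]
    rfl
  · refine ⟨MulAut.congr e.symm β, (mem_autGroup hQ).2 (mem_hom_of_fn
      ((hf.comp ((mem_autGroup_iff_fn hPS).1 hβ) fun x hx => hi.le (mem_img_of_mem hx)).comp hg
        fun x hx => autFn_mem β (hi.le (mem_img_of_mem hx))) fun x => ?_), ?_⟩
    · show (((MulAut.congr e.symm β) x : Q) : Ω) = g (autFn β (f (x : Ω)))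
      rw [show f (x : Ω) = ((e x : P) : Ω) from rfl, autFn_coe]
      rfl
    · ext y
      simp [MulAut.congr]

theorem exists_conj_into (hS : IsPGroup p S) (hA : F.IsFullyAutomized p P) {T : Subgroup (MulAut P)}
    (hT : T ≤ F.autGroup P) (hTp : IsPGroup p T) :
    ∃ γ ∈ F.autGroup P, ∀ τ ∈ T, γ * τ * γ⁻¹ ∈ autInducedBy S P := by
  have := finite_of_le_base hA.1
  obtain ⟨R, hR⟩ := hA.2
  have hT' : IsPGroup p (T.subgroupOf (F.autGroup P)) :=
    hTp.comap_of_injective _ (Subgroup.subtype_injective _)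
  obtain ⟨R', hR'⟩ := hT'.exists_le_sylow
  obtain ⟨a, ha⟩ := MulAction.exists_smul_eq (F.autGroup P) R' R
  refine ⟨a, a.2, fun τ hτ => ?_⟩
  have hmem : MulAut.conj a ⟨τ, hT hτ⟩ ∈ (R : Subgroup (F.autGroup P)) := by
    rw [← ha]
    exact ⟨⟨τ, hT hτ⟩, hR' hτ, rfl⟩
  rw [hR] at hmem
  exact hmem

theorem exists_normalizer_map_of_fn (hS : IsPGroup p S) (hA : F.IsFullyAutomized p P)
    (hr : F.IsReceptive P) {f : Ω → Ω} (hf : Fn F Q f) (hi : img f Q = P) :
    ∃ (γ : MulAut P) (g : Ω → Ω), γ ∈ F.autGroup P ∧ Fn F (normalizerIn S Q) g ∧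
      (∀ n ∈ normalizerIn S Q, g n ∈ normalizerIn S P) ∧ img g Q = P ∧
      ∀ x ∈ Q, g x = autFn γ (f x) := by
  have hQS := hf.le
  obtain ⟨e, he, hmap⟩ := exists_transport hQS hf hi
  have hTle : (autInducedBy S Q).map (MulAut.congr e).toMonoidHom ≤ F.autGroup P :=
    hmap ▸ Subgroup.map_mono (autInducedBy_le_autGroup hQS)
  obtain ⟨γ, hγ, hγT⟩ := exists_conj_into hS hA hTle ((isPGroup_autInducedBy hS).map _)
  have hcomp : Fn F Q (autFn γ ∘ f) :=
    hf.comp ((mem_autGroup_iff_fn hA.1).1 hγ) fun x hx => hi.le (mem_img_of_mem hx)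
  have hci : img (autFn γ ∘ f) Q = P := by rw [hf.img_comp, hi, img_autFn]
  obtain ⟨N, g, hg, hQN, hN, hge⟩ := receptive_extend hr hcomp hci
  have hgi : img g Q = P := (img_congr hge).trans hci
  have hle : normalizerIn S Q ≤ N := fun n hn => by
    refine (hN n).2 ⟨hn.1, hn.2, ?_⟩
    have hmem := hγT _ ⟨conjAut Q hn.2, conjAut_mem_autInducedBy hn.2 hn.1, rfl⟩
    obtain ⟨s, hs, hsx⟩ := mem_autInducedBy.1 hmem
    refine ⟨s, hs, fun x hx => ?_⟩
    lift x to Q using hx
    have h := hsx (γ (e x))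
    simp only [MulAut.mul_apply, MulAut.inv_apply_self] at h
    show autFn γ (f (n * (x : Ω) * n⁻¹)) = s * autFn γ (f (x : Ω)) * s⁻¹
    rw [← conjAut_coe hn.2 x, ← he, ← he, autFn_coe, autFn_coe, ← h]
    simp [MulAut.congr]
  exact ⟨γ, g, hγ, hg.mono hle, fun n hn => hg.map_normalizer hQN hgi (hle hn) hn.2, hgi, hge⟩

/-- If `P` is fully automized and receptive, then a conjugate `Q` is carried onto `P` by a map
defined on all of `N_S(Q)`. -/
theorem exists_normalizer_map (hS : IsPGroup p S) (hA : F.IsFullyAutomized p P)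
    (hr : F.IsReceptive P) (hQ : F.IsConj Q P) :
    ∃ g : Ω → Ω, Fn F (normalizerIn S Q) g ∧
      (∀ n ∈ normalizerIn S Q, g n ∈ normalizerIn S P) ∧ img g Q = P := by
  obtain ⟨f, hf, hi⟩ := isConj_iff.1 hQ
  obtain ⟨-, g, -, hg, hgn, hgi, -⟩ := exists_normalizer_map_of_fn hS hA hr hf hi
  exact ⟨g, hg, hgn, hgi⟩

theorem fullyAutomized_iff_card (hS : IsPGroup p S) (hP : P ≤ S) :
    F.IsFullyAutomized p P ↔
      Nat.card (autInducedBy S P) = p ^ (Nat.card (F.autGroup P)).factorization p := by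
  have := finite_of_le_base hP
  have hc : Nat.card ((autInducedBy S P).subgroupOf (F.autGroup P)) = Nat.card (autInducedBy S P) :=
    Nat.card_congr (Subgroup.subgroupOfEquivOfLe (autInducedBy_le_autGroup hP)).toEquiv
  constructor
  · rintro ⟨-, R, hR⟩
    rw [← hc, ← hR]
    exact R.card_eq_multiplicity
  · exact fun h => ⟨hP, Sylow.ofCard _ (hc.trans h), Sylow.coe_ofCard _ _⟩

theorem exists_good (hF : F.IsSaturated p) (hP : P ≤ S) :
    ∃ Q, F.IsConj P Q ∧ F.IsFullyAutomized p Q ∧ F.IsReceptive Q := hF P hP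

section Saturation

variable (hS : IsPGroup p S) (hF : F.IsSaturated p)
include hS hF

/-- A fully normalized subgroup is fully automized and fully centralized, and is carried onto a fully
automized receptive conjugate by a map defined on its normalizer. -/
theorem fullyNormalized_good (hP : F.IsFullyNormalized P) :
    F.IsFullyAutomized p P ∧ F.IsFullyCentralized P := by
  obtain ⟨Q, hQ, hA, hr⟩ := hF P hP.1
  obtain ⟨g, hg, hgn, hgi⟩ := exists_normalizer_map hS hA hr hQ
  have hPN : P ≤ normalizerIn S P := le_normalizerIn hP.1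
  have himg : img g (normalizerIn S P) = normalizerIn S Q :=
    img_eq_of_card_le normalizerIn_le hg hgn (hP.2 Q hQ)
  refine ⟨?_, hP.1, fun R hR => ?_⟩
  · obtain ⟨e, he, hmap⟩ := exists_transport hP.1 (hg.mono hPN) hgi
    have hSmap : (autInducedBy S P).map (MulAut.congr e).toMonoidHom = autInducedBy S Q := by
      ext β
      constructor
      · rintro ⟨α, hα, rfl⟩
        obtain ⟨n, hn, hnα⟩ := mem_autInducedBy.1 hα
        have hnN : n ∈ normalizerIn S P := ⟨hn, mem_normalizer_of_autEq hnα⟩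
        refine mem_autInducedBy.2 ⟨g n, hg.mem hnN, fun y => ?_⟩
        obtain ⟨x, rfl⟩ := e.surjective y
        show (((MulAut.congr e α) (e x) : Q) : Ω) = _
        simp [MulAut.congr, he, hnα, hg.map_conj hnN (hPN x.2)]
      · intro hβ
        obtain ⟨m, hm, hmβ⟩ := mem_autInducedBy.1 hβ
        obtain ⟨n, hn, rfl⟩ := hg.mem_img.1 (himg.ge ⟨hm, mem_normalizer_of_autEq hmβ⟩)
        refine ⟨conjAut P hn.2, conjAut_mem_autInducedBy hn.2 hn.1, MulEquiv.ext fun y => ?_⟩
        obtain ⟨x, rfl⟩ := e.surjective y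
        apply Subtype.ext
        rw [hmβ]
        simp [MulAut.congr, he, hg.map_conj hn (hPN x.2)]
    rw [fullyAutomized_iff_card hS hP.1]
    have h := (fullyAutomized_iff_card hS hA.1).1 hA
    rw [← hSmap, ← hmap, Subgroup.card_map_of_injective (MulEquiv.injective _),
      Subgroup.card_map_of_injective (MulEquiv.injective _)] at h
    exact h
  · have h1 := (receptive_fullyCentralized hr).2 R (isConj_trans (isConj_symm hQ) hR)
    refine h1.trans ?_
    obtain ⟨g', hg', hg'f, hg'i⟩ := hg.exists_inv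
    rw [himg] at hg' hg'i
    have hi : img g' Q = P := by
      rw [← hgi, ← (hg.mono hPN).img_comp]
      exact (img_congr (g := id) fun x hx => hg'f x (hPN hx)).trans (img_id P)
    exact card_le_of_map_le centralizerIn_le (hg'.mono centralizerIn_le_normalizerIn) fun n hn =>
      hg'.map_centralizer (le_normalizerIn hA.1) hi (centralizerIn_le_normalizerIn hn) hn

/-- The extension axiom. -/
theorem fullyCentralized_receptive (hP : F.IsFullyCentralized P) : F.IsReceptive P := by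
  obtain ⟨Q, hQ, hA, hr⟩ := hF P hP.1
  obtain ⟨h, hh, hhn, hhi⟩ := exists_normalizer_map hS hA hr hQ
  have hPN : P ≤ normalizerIn S P := le_normalizerIn hP.1
  have hC : img h (centralizerIn S P) = centralizerIn S Q :=
    img_eq_of_card_le centralizerIn_le (hh.mono centralizerIn_le_normalizerIn)
      (fun n hn => hh.map_centralizer hPN hhi (centralizerIn_le_normalizerIn hn) hn) (hP.2 Q hQ)
  obtain ⟨h', hh', hh'f, -⟩ := hh.exists_inv
  refine receptive_of_extend hP.1 fun R f hf hfi => ?_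
  have hfR : ∀ x ∈ R, f x ∈ normalizerIn S P := fun x hx => hPN (hfi.le (mem_img_of_mem hx))
  have hci : img (h ∘ f) R = Q := by rw [hf.img_comp, hfi, hhi]
  obtain ⟨N, k, hk, hRN, hN, hke⟩ := receptive_extend hr (hf.comp hh hfR) hci
  refine ⟨h' ∘ k, fun M hM => ?_, fun x hx => ?_⟩
  · have key : ∀ n ∈ M, n ∈ N ∧ k n ∈ img h (normalizerIn S P) := fun n hn => by
      obtain ⟨hnS, hnR, s, hs, hsx⟩ := hM n hn
      have hRfin := finite_of_le_base hP.1
      have hsN : s ∈ normalizerIn S P := by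
        refine ⟨hs, mem_normalizer_of_map_le fun y hy => ?_⟩
        obtain ⟨x, hx, rfl⟩ := hf.mem_img.1 (hfi.ge hy)
        rw [← hsx x hx]
        exact hfi.le (mem_img_of_mem ((mem_normalizer_iff'.1 hnR).1 x hx))
      have hx' : ∀ x ∈ R, (h ∘ f) (n * x * n⁻¹) = h s * (h ∘ f) x * (h s)⁻¹ := fun x hx => by
        show h (f (n * x * n⁻¹)) = _
        rw [hsx x hx, hh.map_conj hsN (hfR x hx)]
        rfl
      have hnN : n ∈ N := (hN n).2 ⟨hnS, hnR, h s, hh.mem hsN, hx'⟩
      refine ⟨hnN, ?_⟩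
      have hc : (h s)⁻¹ * k n ∈ centralizerIn S Q := by
        refine mem_centralizerIn.2 ⟨S.mul_mem (S.inv_mem (hh.mem hsN)) (hk.mem hnN), fun y hy => ?_⟩
        obtain ⟨x, hx, rfl⟩ := (hf.comp hh hfR).mem_img.1 (hci.ge hy)
        have e := hk.map_conj hnN (hRN hx)
        rw [hke x hx, hke _ ((mem_normalizer_iff'.1 hnR).1 x hx), hx' x hx] at e
        calc (h ∘ f) x * ((h s)⁻¹ * k n)
            = (h s)⁻¹ * (h s * (h ∘ f) x * (h s)⁻¹) * k n := by group
          _ = (h s)⁻¹ * (k n * (h ∘ f) x * (k n)⁻¹) * k n := by rw [e]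
          _ = (h s)⁻¹ * k n * (h ∘ f) x := by group
      have hc' : (h s)⁻¹ * k n ∈ img h (normalizerIn S P) :=
        img_mono centralizerIn_le_normalizerIn (hC.ge hc)
      simpa using Subgroup.mul_mem _ (mem_img_of_mem (f := h) hsN) hc'
    exact (hk.mono fun n hn => (key n hn).1).comp hh' fun n hn => (key n hn).2
  · show h' (k x) = f x
    rw [hke x hx]
    exact hh'f _ (hfR x hx)

theorem fullyNormalized_receptive (hP : F.IsFullyNormalized P) : F.IsReceptive P :=
  fullyCentralized_receptive hS hF (fullyNormalized_good hS hF hP).2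

end Saturation

/-- The Sylow axiom and the extension axiom together give saturation. -/
theorem isSaturated_of_axioms
    (h1 : ∀ P : Subgroup Ω, F.IsFullyNormalized P → F.IsFullyAutomized p P ∧ F.IsReceptive P) :
    F.IsSaturated p := fun P hP => by
  obtain ⟨Q, hQ, hQn⟩ := exists_fullyNormalized (F := F) hP
  exact ⟨Q, hQ, h1 Q hQn⟩

end CfsgLib.Fsys
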