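import Cfsg.Agent.Lib.FusionSystem.CharBiset
import Mathlib.GroupTheory.Abelianization.Defs

/-! Transfer along characteristic bisets. -/

set_option autoImplicit false

open Cfsg Cfsg.FusionSystem

namespace CfsgLib.Fsys.CharBiset

open CfsgLib.Fsys.Park

/-- A function twisted by a character trivial on stabilizers. -/
theorem exists_char_equivariant {H X A : Type*} [Group H] [MulAction H X] [CommGroup A] (χ : H →* A)
    (hχ : ∀ (x : X) (h : H), h • x = x → χ h = 1) :
    ∃ ℓ : X → A, ∀ (h : H) (x : X), ℓ (h • x) = χ h * ℓ x := by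
  have hr : ∀ x : X, ∃ c : H, c • (Quotient.mk (MulAction.orbitRel H X) x).out = x := fun x => by
    have : MulAction.orbitRel H X x (Quotient.mk (MulAction.orbitRel H X) x).out :=
      ((MulAction.orbitRel H X).symm (Quotient.mk_out (s := MulAction.orbitRel H X) x))
    exact MulAction.mem_orbit_iff.1 this
  choose c hc using hr
  refine ⟨fun x => χ (c x), fun h x => ?_⟩
  have hq : (Quotient.mk (MulAction.orbitRel H X) (h • x)).out = (Quotient.mk (MulAction.orbitRel H X) x).out :=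
    congrArg Quotient.out (Quotient.sound (MulAction.mem_orbit x h))
  have e := hχ (Quotient.mk (MulAction.orbitRel H X) x).out ((c (h • x))⁻¹ * (h * c x)) (by
    rw [mul_smul, mul_smul, hc, inv_smul_eq_iff]
    conv_lhs => rw [← hc (h • x), hq])
  rw [map_mul, map_inv, inv_mul_eq_one, map_mul] at e
  exact e

universe u

variable {Ω : Type u} [Group Ω] {S : Subgroup Ω} [Finite S] {F : FusionSystem S} {p : ℕ} [Fact p.Prime]

/-- `c` lies in the stable part of `λ`: twisted pairs over it have equal values. -/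
def StableAt (F : FusionSystem S) {A : Type*} [CommGroup A] (lam : S →* A) (s : S) : Prop :=
  ∀ (Q : Subgroup Ω) (f : Ω → Ω) (t : S), Fn F Q f → (t : Ω) ∈ Q → ∀ k : ℤ, ((s ^ k : S) : Ω) = f t →
    lam (s ^ k) = lam t

/-- Transfer along a given biset and a twisted function. -/
theorem exists_transfer_of {X : Type*} [MulAction (S × S) X] [Finite X] {m : ℕ}
    (hcard : Nat.card X = Nat.card S * m) (htw : ∀ x : X, Tw F (MulAction.stabilizer (S × S) x))
    (hstab : ∀ (P : Subgroup Ω) (f : Ω → Ω) (hf : Fn F P f), ∃ g : X → X, Function.Bijective g ∧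
        ∀ (s : S) (hs : (s : Ω) ∈ P) (t : S) (x : X),
          g ((s, t) • x) = ((⟨f s, hf.mem hs⟩ : S), t) • g x)
    {A : Type*} [CommGroup A] (lam : S →* A) (ℓ : X → A)
    (hℓ : ∀ (t : S) (x : X), ℓ (((1 : S), t) • x) = (lam t)⁻¹ * ℓ x) :
    ∃ tr : S →* A,
      (∀ (P : Subgroup Ω) (f : Ω → Ω) (hf : Fn F P f) (s : S) (hs : (s : Ω) ∈ P),
        tr ⟨f s, hf.mem hs⟩ = tr s) ∧
      (∀ s : S, StableAt F lam s → tr s = lam s ^ m) ∧
      (∀ (B : Subgroup A) (s : S), (∀ (Q : Subgroup Ω) (f : Ω → Ω) (t : S), Fn F Q f → (t : Ω) ∈ Q →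
          ∀ k : ℤ, ((s ^ k : S) : Ω) = f t → (lam t)⁻¹ * lam (s ^ k) ∈ B) →
        (lam s ^ m)⁻¹ * tr s ∈ B) ∧
      ∀ s : S, tr s = ∏ᶠ o : Quotient (MulAction.orbitRel ↥((⊥ : Subgroup S).prod (⊤ : Subgroup S)) X),
        ℓ ((s, (1 : S)) • o.out) * (ℓ o.out)⁻¹ := by
  classical
  let R : Subgroup (S × S) := (⊥ : Subgroup S).prod ⊤
  have hfree : ∀ (x : X) (t : S), ((1 : S), t) • x = x → t = 1 := by
    intro x t h
    obtain ⟨f, hf, he⟩ := tw_witness (htw x)
    obtain ⟨h2, h1⟩ := (he ((1 : S), t)).1 h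
    exact Subtype.ext ((hf.eq_one_iff h2).1 h1.symm)
  let O := Quotient (MulAction.orbitRel R X)
  have := Fintype.ofFinite O
  have hcomm : ∀ (s t : S) (x : X),
      ((s, (1 : S)) • ((1 : S), t) • x : X) = ((1 : S), t) • (s, (1 : S)) • x := fun s t x => by
    rw [← mul_smul, ← mul_smul]
    simp
  have horb : ∀ {x y : X}, MulAction.orbitRel R X x y → ∃ t : S, ((1 : S), t) • y = x := by
    intro x y h
    obtain ⟨r, e⟩ := MulAction.mem_orbit_iff.1 h
    have e1 : r.1 = ((1 : S), r.1.2) := Prod.ext r.2.1 rfl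
    exact ⟨r.1.2, by rw [← e1]; exact e⟩
  let D : (X → A) → S → O → A := fun l s o => l ((s, (1 : S)) • o.out) * (l o.out)⁻¹
  have hD : ∀ (l : X → A), (∀ t x, l (((1 : S), t) • x) = (lam t)⁻¹ * l x) → ∀ (s : S) (x : X),
      D l s (Quotient.mk _ x) = l ((s, (1 : S)) • x) * (l x)⁻¹ := by
    intro l hl s x
    obtain ⟨t, ht⟩ := horb (Quotient.mk_out (s := MulAction.orbitRel R X) x)
    show l (_ • (Quotient.mk (MulAction.orbitRel R X) x).out) * (l (Quotient.mk (MulAction.orbitRel R X) x).out)⁻¹ = _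
    rw [← ht, hcomm, hl, hl]
    exact Additive.ofMul.injective (by simp [ofMul_mul, ofMul_inv]; abel)
  let σ : S → O → O := fun s => Quotient.map' (fun x => (s, (1 : S)) • x) fun x y h => by
    obtain ⟨t, rfl⟩ := horb h
    exact ⟨⟨((1 : S), t), rfl, trivial⟩, (hcomm s t y).symm⟩
  have hσmk : ∀ (s : S) (x : X), σ s (Quotient.mk _ x) = Quotient.mk _ ((s, (1 : S)) • x) := fun _ _ => rfl
  have hσbij : ∀ s : S, Function.Bijective (σ s) := fun s => by
    refine Function.bijective_iff_has_inverse.2 ⟨σ s⁻¹, fun o => ?_, fun o => ?_⟩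
    all_goals
      induction o using Quotient.inductionOn with
      | h x => simp [hσmk, ← mul_smul, ← Prod.one_eq_mk]
  have hindep : ∀ (l l' : X → A), (∀ t x, l (((1 : S), t) • x) = (lam t)⁻¹ * l x) →
      (∀ t x, l' (((1 : S), t) • x) = (lam t)⁻¹ * l' x) → ∀ s, ∏ o, D l' s o = ∏ o, D l s o := by
    intro l l' hl hl' s
    let E : O → A := fun o => l' o.out * (l o.out)⁻¹
    have hE : ∀ x, E (Quotient.mk _ x) = l' x * (l x)⁻¹ := fun x => by
      obtain ⟨t, ht⟩ := horb (Quotient.mk_out (s := MulAction.orbitRel R X) x)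
      show l' (Quotient.mk (MulAction.orbitRel R X) x).out * (l (Quotient.mk (MulAction.orbitRel R X) x).out)⁻¹ = _
      rw [← ht, hl, hl']
      exact Additive.ofMul.injective (by simp [ofMul_mul, ofMul_inv]; abel)
    have e : ∀ o, D l' s o = D l s o * (E (σ s o) * (E o)⁻¹) := by
      intro o
      induction o using Quotient.inductionOn with
      | h x =>
        rw [hσmk, hD l' hl', hD l hl, hE, hE]
        exact Additive.ofMul.injective (by simp [ofMul_mul, ofMul_inv]; abel)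
    rw [Finset.prod_congr rfl fun o _ => e o, Finset.prod_mul_distrib (f := D l s),
      Finset.prod_mul_distrib (f := fun o => E (σ s o)),
      Fintype.prod_bijective (σ s) (hσbij s) (fun o => E (σ s o)) E fun _ => rfl, Finset.prod_inv_distrib,
      mul_inv_cancel, mul_one]
  let tr : S →* A := MonoidHom.mk' (fun s => ∏ o, D ℓ s o) fun a b => by
    have e : ∀ o, D ℓ (a * b) o = D ℓ a (σ b o) * D ℓ b o := by
      intro o
      induction o using Quotient.inductionOn with
      | h x =>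
        rw [hσmk, hD ℓ hℓ, hD ℓ hℓ, hD ℓ hℓ, ← mul_smul, Prod.mk_mul_mk, mul_one]
        exact Additive.ofMul.injective (by simp [ofMul_mul, ofMul_inv])
    rw [Finset.prod_congr rfl fun o _ => e o, Finset.prod_mul_distrib,
      Fintype.prod_bijective (σ b) (hσbij b) (fun o => D ℓ a (σ b o)) (D ℓ a) fun _ => rfl]
  have hcardO : Nat.card O = m := by
    have hb : Function.Bijective (fun z : O × S => ((1 : S), z.2) • z.1.out) := by
      refine ⟨fun ⟨o, t⟩ ⟨o', t'⟩ h => ?_, fun x => ?_⟩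
      · change ((1 : S), t) • o.out = ((1 : S), t') • o'.out at h
        obtain rfl : o = o' := by
          rw [← Quotient.out_eq o, ← Quotient.out_eq o']
          refine Quotient.sound ⟨⟨((1 : S), t⁻¹ * t'), rfl, trivial⟩, ?_⟩
          show ((1 : S), t⁻¹ * t') • o'.out = o.out
          rw [show ((1 : S), t⁻¹ * t') = ((1 : S), t)⁻¹ * ((1 : S), t') by simp, mul_smul, ← h, inv_smul_smul]
        refine Prod.ext rfl (inv_mul_eq_one.1 (hfree o.out _ (show ((1 : S), t'⁻¹ * t) • o.out = o.out from ?_))).symm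
        rw [show ((1 : S), t'⁻¹ * t) = ((1 : S), t')⁻¹ * ((1 : S), t) by simp, mul_smul, h, inv_smul_smul]
      · obtain ⟨t, ht⟩ := horb ((MulAction.orbitRel R X).symm (Quotient.mk_out (s := MulAction.orbitRel R X) x))
        exact ⟨(_, t), ht⟩
    have h := Nat.card_eq_of_bijective _ hb
    rw [Nat.card_prod, hcard, mul_comm] at h
    exact Nat.eq_of_mul_eq_mul_left Nat.card_pos h
  suffices hmain : ∀ (B : Subgroup A) (s : S), (∀ (Q : Subgroup Ω) (f : Ω → Ω) (t : S), Fn F Q f →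
      (t : Ω) ∈ Q → ∀ k : ℤ, ((s ^ k : S) : Ω) = f t → (lam t)⁻¹ * lam (s ^ k) ∈ B) →
      (lam s ^ m)⁻¹ * tr s ∈ B by
    refine ⟨tr, fun P f hf s hs => ?_, fun s hst => ?_, hmain, fun s => ?_⟩
    rotate_left
    · have h := hmain ⊥ s fun Q f t hf ht k hk => by
        rw [Subgroup.mem_bot, hst Q f t hf ht k hk, inv_mul_cancel]
      exact (inv_mul_eq_one.1 (Subgroup.mem_bot.1 h)).symm
    · exact (finprod_eq_prod_of_fintype _).symm
    · obtain ⟨g, hg, hge⟩ := hstab P f hf
      have h1 : (⟨f (1 : S), hf.mem P.one_mem⟩ : S) = 1 := Subtype.ext hf.map_one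
      have hgR : ∀ t x, g (((1 : S), t) • x) = ((1 : S), t) • g x := fun t x => by
        rw [hge 1 P.one_mem t x, h1]
      have hl : ∀ t x, (ℓ ∘ g) (((1 : S), t) • x) = (lam t)⁻¹ * (ℓ ∘ g) x := fun t x => by
        show ℓ (g _) = _
        rw [hgR, hℓ]
        rfl
      let G : O → O := Quotient.map' g fun x y h => by
        obtain ⟨t, rfl⟩ := horb h
        exact ⟨⟨((1 : S), t), rfl, trivial⟩, (hgR t y).symm⟩
      have hG : Function.Bijective G := by
        refine (Finite.surjective_iff_bijective).1 fun o => ?_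
        induction o using Quotient.inductionOn with
        | h x =>
          obtain ⟨y, rfl⟩ := hg.2 x
          exact ⟨Quotient.mk _ y, rfl⟩
      have e : ∀ o, D (ℓ ∘ g) s o = D ℓ ⟨f s, hf.mem hs⟩ (G o) := by
        intro o
        induction o using Quotient.inductionOn with
        | h x =>
          show D (ℓ ∘ g) s (Quotient.mk _ x) = D ℓ _ (Quotient.mk _ (g x))
          rw [hD _ hl, hD ℓ hℓ]
          show ℓ (g _) * _ = _
          rw [hge s hs]
          rfl
      show ∏ o, D ℓ _ o = ∏ o, D ℓ s o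
      rw [← hindep ℓ (ℓ ∘ g) hℓ hl s, Finset.prod_congr rfl fun o _ => e o,
        Fintype.prod_bijective G hG (fun o => D ℓ ⟨f s, hf.mem hs⟩ (G o)) (D ℓ ⟨f s, hf.mem hs⟩) fun _ => rfl]
  intro B s hst
  let q : A →* A ⧸ B := QuotientGroup.mk' B
  let C : Subgroup (S × S) := (Subgroup.zpowers s).prod ⊤
  let χ' : C →* A ⧸ B := q.comp ((lam.comp ((MonoidHom.fst S S).comp C.subtype)) *
    (lam.comp ((MonoidHom.snd S S).comp C.subtype))⁻¹)
  obtain ⟨lq, hlq⟩ := exists_char_equivariant (X := X) χ' fun x h hx => by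
    obtain ⟨k, hk⟩ := Subgroup.mem_zpowers_iff.1 h.2.1
    obtain ⟨f, hf, he⟩ := tw_witness (htw x)
    obtain ⟨h2, h1⟩ := (he h.1).1 hx
    show q (lam h.1.1 * (lam h.1.2)⁻¹) = 1
    rw [← hk] at h1 ⊢
    rw [mul_comm]
    exact (QuotientGroup.eq_one_iff _).2 (hst _ f h.1.2 hf h2 k h1)
  let c : O → A := fun o => (lq o.out * (q (ℓ o.out))⁻¹).out
  let l : X → A := fun x => ℓ x * c (Quotient.mk _ x)
  have hlqR : ∀ t x, lq (((1 : S), t) • x) = (q (lam t))⁻¹ * lq x := fun t x => by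
    refine (hlq ⟨((1 : S), t), Subgroup.one_mem _, trivial⟩ x).trans ?_
    show q (lam 1 * (lam t)⁻¹) * _ = _
    rw [map_one, one_mul, map_inv]
  have hl : ∀ t x, l (((1 : S), t) • x) = (lam t)⁻¹ * l x := fun t x => by
    have hq : Quotient.mk (MulAction.orbitRel R X) (((1 : S), t) • x) = Quotient.mk _ x :=
      Quotient.sound ⟨⟨((1 : S), t), rfl, trivial⟩, rfl⟩
    show ℓ _ * c _ = _
    rw [hq, hℓ, mul_assoc]
  have hql : ∀ x, q (l x) = lq x := fun x => by
    obtain ⟨t, ht⟩ := horb (Quotient.mk_out (s := MulAction.orbitRel R X) x)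
    show q (ℓ x * (lq (Quotient.mk (MulAction.orbitRel R X) x).out * _).out) = _
    rw [map_mul, show q (lq (Quotient.mk (MulAction.orbitRel R X) x).out *
        (q (ℓ (Quotient.mk (MulAction.orbitRel R X) x).out))⁻¹).out = _ from QuotientGroup.out_eq' _,
      ← ht, hlqR, hℓ, map_mul, map_inv]
    exact Additive.ofMul.injective (by simp [ofMul_mul, ofMul_inv]; abel)
  have e : ∀ o, q (D l s o) = q (lam s) := fun o => by
    show q (l ((s, (1 : S)) • o.out) * (l o.out)⁻¹) = _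
    rw [map_mul, map_inv, hql, hql,
      show ((s, (1 : S)) • o.out : X) = (⟨(s, (1 : S)), Subgroup.mem_zpowers s, trivial⟩ : C) • o.out from rfl, hlq]
    show q (lam s * (lam 1)⁻¹) * _ * _ = _
    rw [map_one, inv_one, mul_one, mul_inv_cancel_right]
  rw [← QuotientGroup.eq_one_iff]
  show q ((lam s ^ m)⁻¹ * ∏ o, D ℓ s o) = 1
  rw [hindep l ℓ hl hℓ s, map_mul, map_inv, map_pow, map_prod, Finset.prod_congr rfl fun o _ => e o,
    Finset.prod_const, Finset.card_univ, ← Nat.card_eq_fintype_card, hcardO, inv_mul_cancel]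


/-- Transfer: an `F`-stable homomorphism that is a `p'`-power of the given one at stable elements. -/
theorem exists_transfer (hS : IsPGroup p S) (hF : F.IsSaturated p) {A : Type*} [CommGroup A]
    (lam : S →* A) : ∃ (m : ℕ) (tr : S →* A), ¬ p ∣ m ∧
      (∀ (P : Subgroup Ω) (f : Ω → Ω) (hf : Fn F P f) (s : S) (hs : (s : Ω) ∈ P),
        tr ⟨f s, hf.mem hs⟩ = tr s) ∧
      (∀ s : S, StableAt F lam s → tr s = lam s ^ m) ∧
      ∀ (B : Subgroup A) (s : S), (∀ (Q : Subgroup Ω) (f : Ω → Ω) (t : S), Fn F Q f → (t : Ω) ∈ Q →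
          ∀ k : ℤ, ((s ^ k : S) : Ω) = f t → (lam t)⁻¹ * lam (s ^ k) ∈ B) →
        (lam s ^ m)⁻¹ * tr s ∈ B := by
  classical
  obtain ⟨X, _, _, m, hm, hcard, htw, hstab⟩ := exists_biset hS hF
  let R : Subgroup (S × S) := (⊥ : Subgroup S).prod ⊤
  let χ : R →* A := (lam.comp ((MonoidHom.snd S S).comp R.subtype))⁻¹
  have hfree : ∀ (x : X) (t : S), ((1 : S), t) • x = x → t = 1 := by
    intro x t h
    obtain ⟨f, hf, he⟩ := tw_witness (htw x)
    obtain ⟨h2, h1⟩ := (he ((1 : S), t)).1 h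
    exact Subtype.ext ((hf.eq_one_iff h2).1 h1.symm)
  obtain ⟨ℓ, hℓ'⟩ := exists_char_equivariant (X := X) χ fun x h hx => by
    have e1 : h.1 = ((1 : S), h.1.2) := Prod.ext h.2.1 rfl
    have e2 : h.1.2 = 1 := hfree x h.1.2 (by rw [← e1]; exact hx)
    show (lam h.1.2)⁻¹ = 1
    rw [e2]
    rw [map_one, inv_one]
  have hℓ : ∀ (t : S) (x : X), ℓ (((1 : S), t) • x) = (lam t)⁻¹ * ℓ x := fun t x =>
    hℓ' ⟨((1 : S), t), rfl, trivial⟩ x
  obtain ⟨tr, h1, h2, h3, -⟩ := exists_transfer_of hcard htw hstab lam ℓ hℓ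
  exact ⟨m, tr, hm, h1, h2, h3⟩

end CfsgLib.Fsys.CharBiset
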