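import Cfsg.Agent.Lib.FusionSystem.Inner
import Cfsg.Agent.Lib.FusionSystem.Group
import Cfsg.Agent.S5102
/-
Realized systems, models, quasisimple and extremely sparse systems.
-/
set_option autoImplicit false

namespace CfsgLib.Fsys

open Cfsg
open Cfsg.FusionSystem (centralizerIn normalizerIn imageAlong preimageAlong)
open scoped commutatorElement

variable {Ω : Type*} [Group Ω] {S : Subgroup Ω} {F : FusionSystem S} {P Q : Subgroup Ω}

/-- Images of normal subgroups under surjective morphisms are normal. -/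
theorem normal_image [Finite S] {Ω' : Type*} [Group Ω'] {S' : Subgroup Ω'} {F' : FusionSystem S'}
    {α : S →* Ω'} (h : F.IsSurjectiveMorphism F' α) (hQ : F.IsNormal Q) : F'.IsNormal (imageAlong α Q) := by
  have := finite_target h
  have hQS' : imageAlong α Q ≤ S' := by
    rintro _ ⟨x, -, rfl⟩
    exact h.1.1 x
  refine normal_iff_fn.2 ⟨hQS', fun P' f' hf' => ?_⟩
  obtain ⟨f, hf, he⟩ := surjective_fn h hf'
  obtain ⟨g, hg, hge, hgi⟩ := (normal_iff_fn.1 hQ).2 _ f hf
  obtain ⟨g', hg', hg'e⟩ := morphism_fn h.1 hg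
  have hr : P' ≤ α.range := h.2.1.symm ▸ hf'.le
  have hle : P' ⊔ imageAlong α Q ≤ imageAlong α (preimageAlong α P' ⊔ Q) := by
    refine sup_le ?_ ?_
    · conv_lhs => rw [← imageAlong_preimageAlong hr]
      intro y hy
      obtain ⟨x, hx, hxS, rfl⟩ := mem_imageAlong.1 hy
      exact th_mem_imageAlong (Subgroup.mem_sup_left hx) hxS
    · intro y hy
      obtain ⟨x, hx, hxS, rfl⟩ := mem_imageAlong.1 hy
      exact th_mem_imageAlong (Subgroup.mem_sup_right hx) hxS
  refine ⟨g', hg'.mono hle, fun y hy => ?_, (hg'.mono hle |>.mono le_sup_right).img_eq_self fun y hy => ?_⟩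
  · have hy' := (imageAlong_preimageAlong hr).ge hy
    obtain ⟨x, hx, -, rfl⟩ := mem_imageAlong.1 hy'
    rw [hg'e x (Subgroup.mem_sup_left hx), hge x hx, he x hx]
  · obtain ⟨x, hx, -, rfl⟩ := mem_imageAlong.1 hy
    rw [hg'e x (Subgroup.mem_sup_right hx)]
    exact th_mem_imageAlong (hgi.le (mem_img_of_mem hx)) (hg.mem (Subgroup.mem_sup_right hx))

variable {p : ℕ} [Fact p.Prime]

section Realized

variable {G : Type*} [Group G] {ι : S →* G}

/-- A realized system is the image of the group system under a surjective morphism. -/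
theorem exists_realization_morphism (hι : F.IsRealizedBy ι) {T : Subgroup G} (hT : T = ι.range) :
    ∃ α : T →* Ω, (∀ s : S, th α (ι s) = s) ∧ (groupFusionSystem T).IsSurjectiveMorphism F α := by
  subst hT
  obtain ⟨hinj, hmaps⟩ := hι
  let α : ι.range →* Ω := S.subtype.comp (MonoidHom.ofInjective hinj).symm.toMonoidHom
  have hα : ∀ s : S, th α (ι s) = s := fun s => by
    rw [th_apply (show ι s ∈ ι.range from ⟨s, rfl⟩)]
    show (((MonoidHom.ofInjective hinj).symm ⟨ι s, _⟩ : S) : Ω) = s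
    rw [show (⟨ι s, ⟨s, rfl⟩⟩ : ι.range) = MonoidHom.ofInjective hinj s from Subtype.ext rfl,
      MulEquiv.symm_apply_apply]
  have hrep : ∀ {x : G}, x ∈ ι.range → ∃ s : S, ι s = x := fun hx => hx
  refine ⟨α, hα, ⟨fun s => ((MonoidHom.ofInjective hinj).symm s).2, ?_⟩, ?_, ?_⟩
  · intro M φ hφ
    obtain ⟨hM, hφT, g, hg⟩ := id hφ
    obtain ⟨φ', hφ'⟩ := exists_inducedHom (α := α) (fn_ofHom hφ) fun x hx h1 => by
      obtain ⟨s, rfl⟩ := hrep (hM hx)
      rw [hα] at h1
      rw [show s = 1 from Subtype.ext h1, map_one, (fn_ofHom hφ).map_one, th_one]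
    have hMS : imageAlong α M ≤ S := by
      rintro _ ⟨x, -, rfl⟩
      exact ((MonoidHom.ofInjective hinj).symm x).2
    have hv : ∀ y : imageAlong α M, φ' y ∈ S := fun y => by
      obtain ⟨x, hx, -, hxy⟩ := mem_imageAlong.1 y.2
      obtain ⟨s', hs'⟩ := hrep ((fn_ofHom hφ).mem hx)
      rw [← ofHom_coe φ' y, ← hxy, hφ' x hx, ← hs', hα]
      exact s'.2
    refine ⟨φ', (hmaps _ hMS φ' hv).2 ⟨g, fun y => ?_⟩,
      (inducedAlong_iff (fun x => (ofHom_coe φ x).symm) (fun y => (ofHom_coe φ' y).symm)).2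
        ⟨hM, fun x hx => (fn_ofHom hφ).mem hx, fun x hx => th_mem_imageAlong hx (hM hx), hφ'⟩⟩
    obtain ⟨x, hx, hxT, hxy⟩ := mem_imageAlong.1 y.2
    obtain ⟨s, rfl⟩ := hrep hxT
    obtain ⟨s', hs'⟩ := hrep ((fn_ofHom hφ).mem hx)
    rw [hα] at hxy
    have h1 : φ' y = (s' : Ω) := by
      rw [← ofHom_coe φ' y, ← hxy, ← hα s, hφ' _ hx, ← hs', hα]
    rw [show (⟨φ' y, hv y⟩ : S) = s' from Subtype.ext h1, hs', ofHom_apply φ hx, hg]
    show g * ι s * g⁻¹ = g * ι ⟨(y : Ω), _⟩ * g⁻¹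
    simp only [← hxy]
  · refine le_antisymm ?_ fun x hx => ⟨⟨ι ⟨x, hx⟩, ⟨_, rfl⟩⟩, ?_⟩
    · rintro _ ⟨x, rfl⟩
      exact ((MonoidHom.ofInjective hinj).symm x).2
    · rw [← th_coe (α := α)]
      exact hα ⟨x, hx⟩
  · intro P' hP' φ' hφ'
    have hv := (F.le_of_mem hφ').2
    obtain ⟨g, hg⟩ := (hmaps P' hP' φ' hv).1 hφ'
    have key : ∀ x ∈ preimageAlong α P', ∃ s : S, ι s = x ∧ ∃ h : (s : Ω) ∈ P',
        g * x * g⁻¹ = ι ⟨φ' ⟨s, h⟩, hv _⟩ := fun x hx => by
      obtain ⟨hxT, hx'⟩ := mem_preimageAlong.1 hx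
      obtain ⟨s, rfl⟩ := hrep hxT
      rw [hα] at hx'
      exact ⟨s, rfl, hx', (hg ⟨s, hx'⟩).symm⟩
    refine ⟨conjHom _ g, ⟨preimageAlong_le, fun x => ?_, g, fun _ => rfl⟩,
      (inducedAlong_iff (f := fun x => g * x * g⁻¹) (fun _ => rfl) (fun y => (ofHom_coe φ' y).symm)).2
        ⟨preimageAlong_le, fun x hx => ?_, fun x hx => (mem_preimageAlong.1 hx).2, fun x hx => ?_⟩⟩
    · obtain ⟨s, -, h, e⟩ := key x x.2
      exact ⟨_, e.symm⟩
    · obtain ⟨s, -, h, e⟩ := key x hx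
      exact ⟨_, e.symm⟩
    · obtain ⟨s, hs, h, e⟩ := key x hx
      rw [e, hα, ← hs, hα, ofHom_apply φ' h]

theorem realized_saturated [Finite G] (hι : F.IsRealizedBy ι) (hT : ∃ T : Sylow p G, (T : Subgroup G) = ι.range) :
    F.IsSaturated p := by
  obtain ⟨T, hT⟩ := hT
  obtain ⟨α, -, hα⟩ := exists_realization_morphism hι hT
  exact surjectiveMorphism_saturated T.2 (group_isSaturated T) hα

/-- A system with a model is constrained. -/
theorem model_constrained [Finite S] (hG : F.IsModel p G ι) : F.IsConstrained p := by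
  obtain ⟨hfin, hι, ⟨T, hT⟩, hcent⟩ := hG
  obtain ⟨α, hα, hmor⟩ := exists_realization_morphism hι hT
  have hp : IsPGroup p (pCore p G) := CfsgLib.LocalEven.SylowIn.isPGroup_pCore G p
  have := CfsgLib.LocalEven.SylowIn.pCore_normal G p
  have hQT : pCore p G ≤ (T : Subgroup G) := hp.le_sylow_of_normal T
  have hQ := normal_image hmor (Cfsg.Agent.S5102.result p T (pCore p G) hp)
  refine ⟨realized_saturated hι ⟨T, hT⟩, _, hQ, normal_centric hQ fun s hs => ?_⟩
  have hc : ι ⟨s, hs.1⟩ ∈ Subgroup.centralizer ((pCore p G : Subgroup G) : Set G) := by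
    refine Subgroup.mem_centralizer_iff.2 fun z hz => ?_
    obtain ⟨q, rfl⟩ := (hT.le (hQT hz) : z ∈ ι.range)
    rw [← map_mul, ← map_mul]
    refine congrArg ι (Subtype.ext ((mem_centralizerIn.1 hs).2 q ?_))
    exact hα q ▸ th_mem_imageAlong hz (hQT hz)
  have := th_mem_imageAlong (α := α) (hcent hc) (hQT (hcent hc))
  rwa [hα] at this

omit [Fact p.Prime] in
/-- Automorphisms of a model fixing the Sylow subgroup are conjugations by central elements. -/
theorem model_rigidity [Fact p.Prime] (hG : F.IsModel p G ι) (ψ : G ≃* G) (hψ : ∀ x : S, ψ (ι x) = ι x) :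
    ∃ z : S, z ∈ Subgroup.center S ∧ ∀ g : G, ψ g = ι z * g * (ι z)⁻¹ := by
  obtain ⟨hfin, ⟨hinj, -⟩, ⟨T, hT⟩, hcent⟩ := hG
  have hfix : ∀ t ∈ (T : Subgroup G), ψ t = t := fun t ht => by
    obtain ⟨s, rfl⟩ := (hT.le ht : t ∈ ι.range)
    exact hψ s
  have hp : IsPGroup p (pCore p G) := CfsgLib.LocalEven.SylowIn.isPGroup_pCore G p
  have := CfsgLib.LocalEven.SylowIn.pCore_normal G p
  have hQT : pCore p G ≤ (T : Subgroup G) := hp.le_sylow_of_normal T
  let Z : Subgroup G := pCore p G ⊓ Subgroup.centralizer ((pCore p G : Subgroup G) : Set G)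
  have hε : ∀ g : G, ψ g * g⁻¹ ∈ Z := fun g => by
    have h1 : ψ g * g⁻¹ ∈ Subgroup.centralizer ((pCore p G : Subgroup G) : Set G) := by
      refine Subgroup.mem_centralizer_iff.2 fun q hq => ?_
      have hq' : g⁻¹ * q * g ∈ pCore p G := by
        simpa using Subgroup.Normal.conj_mem inferInstance q hq g⁻¹
      have e : ψ g * (g⁻¹ * q * g) * (ψ g)⁻¹ = q := by
        conv_rhs => rw [← hfix q (hQT hq), show q = g * (g⁻¹ * q * g) * g⁻¹ by group, map_mul, map_mul, map_inv,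
          hfix _ (hQT hq')]
      calc q * (ψ g * g⁻¹) = ψ g * (g⁻¹ * q * g) * (ψ g)⁻¹ * (ψ g * g⁻¹) := by rw [e]
        _ = ψ g * g⁻¹ * q := by group
    exact ⟨hcent h1, h1⟩
  have hZn : Z.Normal := by
    refine ⟨fun z hz g => ⟨Subgroup.Normal.conj_mem inferInstance z hz.1 g,
      Subgroup.mem_centralizer_iff.2 fun q hq => ?_⟩⟩
    have h2 : g⁻¹ * q * g * z = z * (g⁻¹ * q * g) :=
      Subgroup.mem_centralizer_iff.1 hz.2 _ (by simpa using Subgroup.Normal.conj_mem inferInstance q hq g⁻¹)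
    calc q * (g * z * g⁻¹) = g * (g⁻¹ * q * g * z) * g⁻¹ := by group
      _ = g * (z * (g⁻¹ * q * g)) * g⁻¹ := by rw [h2]
      _ = g * z * g⁻¹ * q := by group
  let _ : CommGroup Z := { (inferInstance : Group Z) with
    mul_comm := fun a b => Subtype.ext (Subgroup.mem_centralizer_iff.1 b.2.2 a a.2.1) }
  let ε : G → Z := fun g => ⟨ψ g * g⁻¹, hε g⟩
  let c : G → Z → Z := fun g z => ⟨g * z * g⁻¹, hZn.conj_mem z z.2 g⟩
  have hcoc : ∀ g h, ε (g * h) = ε g * c g (ε h) := fun g h => Subtype.ext <| by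
    show ψ (g * h) * (g * h)⁻¹ = ψ g * g⁻¹ * (g * (ψ h * h⁻¹) * g⁻¹)
    rw [map_mul]
    group
  have hT1 : ∀ t ∈ (T : Subgroup G), ε t = 1 := fun t ht =>
    Subtype.ext (by show ψ t * t⁻¹ = 1; rw [hfix t ht, mul_inv_cancel])
  classical
  let _ := Fintype.ofFinite (G ⧸ (T : Subgroup G))
  have hconst : ∀ g : G, ε (Quotient.out (g : G ⧸ (T : Subgroup G))) = ε g := fun g => by
    obtain ⟨t, ht⟩ := QuotientGroup.mk_out_eq_mul (T : Subgroup G) g
    rw [ht, hcoc, hT1 t t.2]
    have : c g 1 = 1 := Subtype.ext (by show g * 1 * g⁻¹ = 1; group)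
    rw [this, mul_one]
  let cHom : G → Z →* Z := fun g => MonoidHom.mk' (c g) fun a b => Subtype.ext <| by
    show g * ((a : G) * b) * g⁻¹ = g * (a : G) * g⁻¹ * (g * (b : G) * g⁻¹)
    group
  let z₀ : Z := ∏ x : G ⧸ (T : Subgroup G), ε x.out
  have hz₀ : ∀ h : G, z₀ = ε h ^ Fintype.card (G ⧸ (T : Subgroup G)) * c h z₀ := fun h => by
    show z₀ = _ * cHom h z₀
    rw [map_prod, ← Finset.card_univ, ← Finset.prod_const, ← Finset.prod_mul_distrib]
    refine (Fintype.prod_equiv (MulAction.toPerm h) _ _ fun x => ?_).symm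
    induction x using QuotientGroup.induction_on with
    | H g =>
      rw [hconst g]
      exact (hcoc h g).symm.trans (hconst (h * g)).symm
  have hcop : (Nat.card Z).Coprime (Fintype.card (G ⧸ (T : Subgroup G))) := by
    obtain ⟨n, hn⟩ := (hp.to_le (inf_le_left : Z ≤ _)).exists_card_eq
    rw [hn, ← Nat.card_eq_fintype_card, ← Subgroup.index_eq_card]
    exact ((Fact.out : p.Prime).coprime_iff_not_dvd.2 T.not_dvd_index).pow_left n
  let w : Z := (powCoprime hcop).symm z₀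
  have hw : w ^ Fintype.card (G ⧸ (T : Subgroup G)) = z₀ := (powCoprime hcop).apply_symm_apply z₀
  have hεw : ∀ h : G, ε h = w * (c h w)⁻¹ := fun h => by
    refine (powCoprime hcop).injective ?_
    show ε h ^ _ = (w * (c h w)⁻¹) ^ _
    rw [mul_pow, inv_pow, hw, show c h w ^ Fintype.card (G ⧸ (T : Subgroup G)) = c h z₀ by
      rw [show c h w = cHom h w from rfl, ← map_pow, hw]; rfl, eq_mul_inv_iff_mul_eq]
    exact (hz₀ h).symm
  obtain ⟨z, hz⟩ := (hT.le (hQT w.2.1) : (w : G) ∈ ι.range)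
  have hmain : ∀ h : G, ψ h = ι z * h * (ι z)⁻¹ := fun h => by
    have h1 : ψ h * h⁻¹ = (w : G) * (h * (w : G) * h⁻¹)⁻¹ := congrArg Subtype.val (hεw h)
    rw [hz]
    calc ψ h = ψ h * h⁻¹ * h := by group
      _ = (w : G) * (h * (w : G) * h⁻¹)⁻¹ * h := by rw [h1]
      _ = (w : G) * h * (w : G)⁻¹ := by group
  refine ⟨z, Subgroup.mem_center_iff.2 fun s => hinj ?_, hmain⟩
  rw [map_mul, map_mul]
  have := hmain (ι s)
  rw [hψ, eq_mul_inv_iff_mul_eq] at this
  exact this

end Realized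

section Finite

variable [Finite S] (hS : IsPGroup p S)
include hS

omit hS in
theorem inner_hyperfocal_eq_bot (hab : ∀ x ∈ S, ∀ y ∈ S, x * y = y * x)
    (hin : ∀ P, F.Hom P = (innerFusionSystem S).Hom P) : F.hyperfocalSubgroup p = ⊥ := by
  refine (Subgroup.eq_bot_iff_forall _).2 fun y hy => ?_
  induction hy using Subgroup.closure_induction with
  | mem z hz =>
    obtain ⟨P, α, x, hP, -, rfl⟩ := hz
    obtain ⟨-, g, hg, hgα⟩ := (hin P ▸ (mem_autGroup hP).1 α.2 :
      P.subtype.comp (α : MulAut P).toMonoidHom ∈ (innerFusionSystem S).Hom P)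
    have : (((α : MulAut P) x : P) : Ω) = x := by
      rw [show (((α : MulAut P) x : P) : Ω) = g * x * g⁻¹ from hgα x, hab g hg x (hP x.2), mul_inv_cancel_right]
    rw [this, inv_mul_cancel]
  | one => rfl
  | mul a b _ _ ha hb => rw [ha, hb, one_mul]
  | inv a _ ha => rw [ha, inv_one]

theorem quasisimple_nonabelian (hq : F.Quasisimple p) : ¬ IsMulCommutative S := by
  intro hcom
  have hab : ∀ x ∈ S, ∀ y ∈ S, x * y = y * x := fun x hx y hy =>
    congrArg Subtype.val (hcom.is_comm.comm (⟨x, hx⟩ : S) ⟨y, hy⟩)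
  obtain ⟨hF, hhyp, hsimp⟩ := hq
  have hfoc : F.focalSubgroup = S := by
    rw [focal_eq_hyperfocal_sup hS hF, hhyp, sup_eq_left.2 ((Subgroup.commutator_le).2 fun a ha b hb =>
      S.mul_mem (S.mul_mem (S.mul_mem ha hb) (S.inv_mem ha)) (S.inv_mem hb))]
  have hZ : F.center = ⊥ := by
    have h := (center_focal_of_abelian hS hF hab).1
    rw [hfoc] at h
    rwa [inf_eq_left.2 center_central.1] at h
  have hsc := normal_stronglyClosed (central_normal (center_central (F := F)))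
  have : ((F.center).subgroupOf S).Normal := by
    rw [hZ, Subgroup.bot_subgroupOf]
    infer_instance
  obtain ⟨E, hE⟩ := exists_factorSystem (S' := ⊤) hsc (QuotientGroup.mk' ((F.center).subgroupOf S))
    (fun s => (QuotientGroup.eq_one_iff s).trans Subgroup.mem_subgroupOf)
    (MonoidHom.range_eq_top.2 (QuotientGroup.mk'_surjective _))
  have hsm := factor_surjectiveMorphism hS hF hsc hE
  have := finite_target hsm
  have hab' : ∀ x ∈ (⊤ : Subgroup (S ⧸ (F.center).subgroupOf S)), ∀ y ∈ (⊤ : Subgroup (S ⧸ (F.center).subgroupOf S)),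
      x * y = y * x := fun x _ y _ => by
    obtain ⟨a, rfl⟩ := QuotientGroup.mk'_surjective _ x
    obtain ⟨b, rfl⟩ := QuotientGroup.mk'_surjective _ y
    rw [← map_mul, ← map_mul, show a * b = b * a from Subtype.ext (hab a a.2 b b.2)]
  have hEsimp := hsimp E hE
  obtain ⟨hcard, hin⟩ :=
    (simple_iff_of_abelian ((hS.to_quotient _).to_subgroup _) hEsimp.1 hab').1 hEsimp
  have h1 := surjectiveMorphism_hyperfocal (p := p) hsm
  rw [inner_hyperfocal_eq_bot hab' hin, hhyp] at h1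
  refine (Fact.out : p.Prime).ne_one (hcard.symm.trans ?_)
  refine Subgroup.card_eq_one.2 (le_bot_iff.1 fun y _ => ?_)
  obtain ⟨a, rfl⟩ := QuotientGroup.mk'_surjective _ y
  rw [h1]
  exact mem_imageAlong.2 ⟨a, a.2, a.2, th_coe a⟩

/-- Structure of extremely sparse systems. -/
theorem extremely_sparse (hF : F.IsSaturated p)
    (hne : ¬ ∀ P : Subgroup Ω, F.Hom P = (innerFusionSystem S).Hom P)
    (hxs : ∀ (T : Subgroup Ω) (E : FusionSystem T), E.IsSaturated p → E.IsSubsystemOf F →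
      (T = S ∧ ∀ P : Subgroup Ω, E.Hom P = F.Hom P) ∨
        ∀ P : Subgroup Ω, E.Hom P = (innerFusionSystem T).Hom P) :
    F.IsNormal S ∧ F.focalSubgroup = S ∧ F.hyperfocalSubgroup p = S ∧ ∃ (q : ℕ) (β : MulAut S),
      q.Prime ∧ q ≠ p ∧ β ∈ F.autGroup S ∧ orderOf β = q ∧ F.autGroup S = Inn S ⊔ Subgroup.zpowers β := by
  have hp := (Fact.out : p.Prime)
  have hgen : ∀ {T : Subgroup Ω}, T ≤ S → ∀ a ∈ F.autGroup T, Nat.Coprime (orderOf a) p → a ≠ 1 →
      T = S ∧ True ∧ F.autGroup T = Inn T ⊔ Subgroup.zpowers a := by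
    intro T hT a ha hcop ha1
    have := finite_of_le_base hT
    have hTp : IsPGroup p T := hS.to_le hT
    have hnot : a ∉ Inn T := fun h => by
      obtain ⟨j, hj⟩ := (hTp.of_surjective _ (MulAut.conj : T →* MulAut T).rangeRestrict_surjective) ⟨a, h⟩
      have h2 : orderOf a ∣ p ^ j := orderOf_dvd_of_pow_eq_one (congrArg Subtype.val hj)
      exact ha1 (orderOf_eq_one_iff.1 (Nat.eq_one_of_dvd_coprimes (hcop.pow_right j) dvd_rfl h2))
    have := innNormal T
    have hidx : ¬ p ∣ ((Inn T).subgroupOf (Inn T ⊔ Subgroup.zpowers a)).index := by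
      intro hd
      have hd' : p ∣ (Inn T).relIndex (Subgroup.zpowers a) :=
        (Subgroup.relIndex_sup_left (K := Inn T) (H := Subgroup.zpowers a)) ▸ hd
      have h2 : (Inn T).relIndex (Subgroup.zpowers a) ∣ orderOf a :=
        (Subgroup.index_dvd_card _).trans (Nat.card_zpowers a).dvd
      exact (hp.coprime_iff_not_dvd.1 hcop.symm) (hd'.trans h2)
    have hL : Inn T ⊔ Subgroup.zpowers a ≤ F.autGroup T :=
      sup_le (inn_le_autGroup hT) (Subgroup.zpowers_le.2 ha)
    let E := autSystem (Inn T ⊔ Subgroup.zpowers a) le_sup_left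
    have hnin : ¬ ∀ P : Subgroup Ω, E.Hom P = (innerFusionSystem T).Hom P := fun h => hnot <| by
      have e : E.autGroup T = Inn T := by
        rw [show E = innerFusionSystem T from system_ext h, innerFusionSystem_eq_autSystem, autGroup_autSystem]
      rw [autGroup_autSystem] at e
      exact e.le (Subgroup.mem_sup_right (Subgroup.mem_zpowers a))
    rcases hxs T E (autSystem_saturated hTp hidx) (autSystem_le hT hL) with ⟨hTS, h⟩ | h
    · refine ⟨hTS, trivial, le_antisymm ?_ hL⟩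
      intro b hb
      have h2 : Fn E T (autFn b) := by
        obtain ⟨φ, hφ, hφf⟩ := (mem_autGroup_iff_fn hT).1 hb
        exact ⟨φ, (h T).symm ▸ hφ, hφf⟩
      have h3 := (mem_autGroup_iff_fn le_rfl).2 h2
      rwa [autGroup_autSystem] at h3
    · exact absurd h hnin
  have hproper : ∀ P : Subgroup Ω, P < S → IsPGroup p (F.autGroup P) := fun P hP => by
    have := finite_of_le_base hP.le
    refine isPGroup_of_forall_coprime fun a ha => ?_
    by_contra h1
    exact hP.ne (hgen hP.le a a.2 ((Subgroup.orderOf_coe a).symm ▸ ha) fun e => h1 (Subtype.ext e)).1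
  have hall : F ≤ autSystem (F.autGroup S) (inn_le_autGroup le_rfl) := by
    refine le_of_automizers hS hF _ autGroup_autSystem.ge fun P hP hPn _ => ?_
    have := finite_of_le_base hP.le
    obtain ⟨-, T, hT⟩ := (fullyNormalized_good hS hF hPn).1
    intro a ha
    have e : (T : Subgroup (F.autGroup P)) = ⊤ :=
      (T.3 ((hproper P hP).of_equiv Subgroup.topEquiv.symm) le_top).symm
    have h2 : (⟨a, ha⟩ : F.autGroup P) ∈ (T : Subgroup (F.autGroup P)) := e.ge (Subgroup.mem_top _)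
    rw [hT] at h2
    exact autInducedBy_le_autGroup hP.le h2
  have hnorm : F.IsNormal S := normal_iff_fn.2 ⟨le_rfl, fun P f hf => by
    obtain ⟨-, a, ha, he⟩ := fn_autSystem.1 (fn_of_le hall hf)
    rw [sup_eq_right.2 hf.le]
    exact ⟨autFn a, (mem_autGroup_iff_fn le_rfl).1 ha, fun x hx => (he x hx).symm, img_autFn a⟩⟩
  obtain ⟨a, ha, ha1⟩ : ∃ a : F.autGroup S, Nat.Coprime (orderOf a) p ∧ a ≠ 1 := by
    by_contra h
    push Not at h
    refine hne fun P => ?_
    rw [Cfsg.Agent.S5083.result p hS F hF fun P hP => ?_]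
    rcases eq_or_lt_of_le hP with rfl | hP
    · exact isPGroup_of_forall_coprime h
    · exact hproper P hP
  obtain ⟨q, hq, hqd⟩ := Nat.exists_prime_and_dvd fun h => ha1 (orderOf_eq_one_iff.1 h)
  let b : F.autGroup S := a ^ (orderOf a / q)
  have hb : orderOf b = q := by
    rw [orderOf_pow_of_dvd (Nat.div_ne_zero_iff.2 ⟨hq.ne_zero, Nat.le_of_dvd (orderOf_pos a) hqd⟩)
      (Nat.div_dvd_of_dvd hqd), Nat.div_div_self hqd (orderOf_pos a).ne']
  have hqp : q ≠ p := fun e => hq.one_lt.ne'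
    (Nat.eq_one_of_dvd_coprimes ha hqd (e ▸ dvd_rfl))
  have hbo : orderOf (b : MulAut S) = q := by rw [Subgroup.orderOf_coe, hb]
  have hb1 : (b : MulAut S) ≠ 1 := fun e => hq.ne_one (by rw [← hbo, e, orderOf_one])
  have hbc : Nat.Coprime (orderOf (b : MulAut S)) p := hbo.symm ▸ (Nat.coprime_primes hq hp).2 hqp
  obtain ⟨-, -, hA⟩ := hgen le_rfl _ b.2 hbc hb1
  have hhyp : F.hyperfocalSubgroup p = S := by
    have hT := hyperfocal_stronglyClosed hS hF
    by_contra hlt
    have hTS : F.hyperfocalSubgroup p < S := lt_of_le_of_ne hT.1 hlt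
    have := finite_of_le_base hT.1
    have hbF := (mem_autGroup_iff_fn le_rfl).1 b.2
    have hbT : img (autFn (b : MulAut S)) (F.hyperfocalSubgroup p) = F.hyperfocalSubgroup p :=
      sc_img hT hT.1 hbF
    obtain ⟨c, hc, hcb⟩ := exists_aut_of_fn (hbF.mono hT.1) hbT
    have hpow : ∀ (j : ℕ) (t : F.hyperfocalSubgroup p),
        (((c ^ j) t : F.hyperfocalSubgroup p) : Ω) = autFn ((b : MulAut S) ^ j) t := by
      intro j
      induction j with
      | zero => exact fun t => (autFn_coe (1 : MulAut S) ⟨t, hT.1 t.2⟩).symm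
      | succ j ih =>
        intro t
        rw [pow_succ', pow_succ', MulAut.mul_apply, hcb, ih t, autFn_mul _ _ (hT.1 t.2)]
    have hcq : c ^ q = 1 := MulEquiv.ext fun t => Subtype.ext <| by
      rw [hpow, ← hbo, pow_orderOf_eq_one]
      exact autFn_coe (1 : MulAut S) ⟨t, hT.1 t.2⟩
    obtain ⟨j, hj⟩ := hproper _ hTS ⟨c, hc⟩
    have hc1 : c = 1 := orderOf_eq_one_iff.1 (Nat.eq_one_of_dvd_coprimes
      (((Nat.coprime_primes hq hp).2 hqp).pow_right j) (orderOf_dvd_of_pow_eq_one hcq)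
      (orderOf_dvd_of_pow_eq_one (congrArg Subtype.val hj)))
    refine hb1 (MulEquiv.ext fun x => ?_)
    have hy : ((x⁻¹ * (b : MulAut S) x : S) : Ω) ∈ F.hyperfocalSubgroup p := by
      refine Subgroup.subset_closure ⟨S, b, x, le_rfl, Subgroup.subset_closure ?_, rfl⟩
      show Nat.Coprime (orderOf b) p
      rw [← Subgroup.orderOf_coe]
      exact hbc
    have hyfix : (b : MulAut S) (x⁻¹ * (b : MulAut S) x) = x⁻¹ * (b : MulAut S) x := Subtype.ext <| by
      rw [← autFn_coe, ← hcb ⟨_, hy⟩, hc1]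
      rfl
    generalize hyd : x⁻¹ * (b : MulAut S) x = y at hyfix
    have hx1 : (b : MulAut S) x = x * y := by rw [← hyd, mul_inv_cancel_left]
    have hxp : ∀ k : ℕ, ((b : MulAut S) ^ k) x = x * y ^ k := by
      intro k
      induction k with
      | zero => simp
      | succ k ih' => rw [pow_succ', MulAut.mul_apply, ih', map_mul, map_pow, hyfix, hx1, mul_assoc, ← pow_succ']
    have h1 := hxp q
    rw [← hbo, pow_orderOf_eq_one] at h1
    have hyn : y ^ orderOf (b : MulAut S) = 1 := by simpa using h1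
    obtain ⟨i, hi⟩ := hS y
    rw [hx1, orderOf_eq_one_iff.1 (Nat.eq_one_of_dvd_coprimes (hbc.pow_right i)
      (orderOf_dvd_of_pow_eq_one hyn) (orderOf_dvd_of_pow_eq_one hi)), mul_one]
    rfl
  refine ⟨hnorm, ?_, hhyp, q, b, hq, hqp, b.2, hbo, hA⟩
  rw [focal_eq_hyperfocal_sup hS hF, hhyp, sup_eq_left.2 ((Subgroup.commutator_le).2 fun a ha b hb =>
    S.mul_mem (S.mul_mem (S.mul_mem ha hb) (S.inv_mem ha)) (S.inv_mem hb))]

end Finite

end CfsgLib.Fsys
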