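import Cfsg.Agent.Lib.FusionSystem.ModelData
import Cfsg.Agent.Lib.FusionSystem.Models
/-
The model theorem: a constrained saturated fusion system over a finite `p`-group has a model, unique up to
a unique isomorphism class fixing the Sylow subgroup.  The model is built as a quotient of the group of
lifts of `Aut_F(Q)` inside the wreath product of `S` with the permutations of the cosets of `Aut_S(Q)`.
-/
set_option autoImplicit false

namespace CfsgLib.Fsys

open Cfsg
open Cfsg.FusionSystem (centralizerIn normalizerIn)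

universe u

variable {Ω : Type u} [Group Ω] {S : Subgroup Ω} {F : FusionSystem S} {Q : Subgroup Ω}

/-- `Aut_F(Q)` acting on functions on the cosets. -/
noncomputable def cosShift (hQ : F.IsNormal Q) : F.autGroup Q →* MulAut (Cos hQ → S) where
  toFun a :=
    { toFun := fun f k => f (k.act a)
      invFun := fun f k => f (k.act a⁻¹)
      left_inv := fun f => funext fun k => by
        show f ((k.act a⁻¹).act a) = f k
        rw [Cos.act_mul, inv_mul_cancel, Cos.act_one]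
      right_inv := fun f => funext fun k => by
        show f ((k.act a).act a⁻¹) = f k
        rw [Cos.act_mul, mul_inv_cancel, Cos.act_one]
      map_mul' := fun f g => rfl }
  map_one' := MulEquiv.ext fun f => funext fun k => by
    show f (k.act 1) = f k
    rw [Cos.act_one]
  map_mul' a b := MulEquiv.ext fun f => funext fun k => by
    show f (k.act (a * b)) = f ((k.act a).act b)
    rw [Cos.act_mul]

/-- The ambient wreath-like product. -/
abbrev Wr (hQ : F.IsNormal Q) : Type u := (Cos hQ → S) ⋊[cosShift hQ] F.autGroup Q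

theorem Wr.mul_left_apply {hQ : F.IsNormal Q} (w v : Wr hQ) (k : Cos hQ) :
    (w * v).left k = w.left k * v.left (k.act w.right) := rfl

theorem Wr.inv_left_apply {hQ : F.IsNormal Q} (w : Wr hQ) (k : Cos hQ) :
    w⁻¹.left k = (w.left (k.act w.right⁻¹))⁻¹ := rfl

/-- The group of lifts. -/
noncomputable def lifts (hQ : F.IsNormal Q) : Subgroup (Wr hQ) where
  carrier := {w | ∀ k, normalConj hQ (w.left k) = k.pr w.right}
  mul_mem' {w v} hw hv k := by
    rw [Wr.mul_left_apply, map_mul, hw, hv, SemidirectProduct.mul_right, Cos.pr_mul]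
  one_mem' k := by
    rw [SemidirectProduct.one_left, SemidirectProduct.one_right, Pi.one_apply, map_one, Cos.pr_one]
  inv_mem' {w} hw k := by
    rw [Wr.inv_left_apply, map_inv, hw, SemidirectProduct.inv_right, inv_eq_iff_mul_eq_one]
    have e := Cos.pr_mul k w.right⁻¹ w.right
    rw [inv_mul_cancel, Cos.pr_one] at e
    exact mul_eq_one_comm.1 e.symm

/-- The projection onto `Aut_F(Q)`. -/
noncomputable def liftProj (hQ : F.IsNormal Q) : lifts hQ →* F.autGroup Q :=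
  SemidirectProduct.rightHom.comp (lifts hQ).subtype

theorem liftProj_apply {hQ : F.IsNormal Q} (w : lifts hQ) : liftProj hQ w = (w : Wr hQ).right := rfl

theorem liftProj_surjective (hQ : F.IsNormal Q) : Function.Surjective (liftProj hQ) := by
  intro a
  have h : ∀ k : Cos hQ, ∃ x, normalConj hQ x = k.pr a := fun k => Cos.pr_mem k a
  choose f hf using h
  exact ⟨⟨⟨f, a⟩, hf⟩, rfl⟩

theorem lifts_mem_ker {hQ : F.IsNormal Q} (w : lifts hQ) (hw : liftProj hQ w = 1) (k : Cos hQ) :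
    normalConj hQ ((w : Wr hQ).left k) = 1 := by
  rw [w.2 k, ← liftProj_apply, hw, Cos.pr_one]

variable [Finite S]

instance cos_finite {hQ : F.IsNormal Q} : Finite (Cos hQ) := by
  have := finite_of_le_base hQ.1
  have : Finite (MulAut Q) := inferInstance
  infer_instance

/-- The kernel of `S → Aut_F(Q)` is abelian. -/
noncomputable abbrev kerCommGroup (hQ : F.IsNormal Q) (hc : F.IsCentric Q) : CommGroup (normalConj hQ).ker :=
  { (inferInstance : Group (normalConj hQ).ker) with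
    mul_comm := fun a b => Subtype.ext (ker_normalConj_comm hQ hc a.2 b.2) }

/-- The action of `Aut_F(Q)` on the kernel. -/
noncomputable def kerAct (hQ : F.IsNormal Q) (hc : F.IsCentric Q) (a : F.autGroup Q) :
    (normalConj hQ).ker →* (normalConj hQ).ker :=
  MonoidHom.mk'
    (fun z => ⟨⟨aFn a ((z : S) : Ω), hQ.1 (aFn_mem a (normalConj_eq_one hQ hc z.2).1)⟩, by
      rw [MonoidHom.mem_ker, ← normalConj_conj hQ a (normalConj_eq_one hQ hc z.2).1,
        show normalConj hQ ⟨_, hQ.1 (normalConj_eq_one hQ hc z.2).1⟩ = 1 from z.2, mul_one, mul_inv_cancel]⟩)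
    fun x y => Subtype.ext <| Subtype.ext <|
      (fn_aFn hQ.1 a).map_mul (normalConj_eq_one hQ hc x.2).1 (normalConj_eq_one hQ hc y.2).1

theorem coe_kerAct {hQ : F.IsNormal Q} {hc : F.IsCentric Q} (a : F.autGroup Q) (z : (normalConj hQ).ker) :
    (((kerAct hQ hc a z : (normalConj hQ).ker) : S) : Ω) = aFn a ((z : S) : Ω) := rfl

theorem kerAct_mul {hQ : F.IsNormal Q} {hc : F.IsCentric Q} (a b : F.autGroup Q) (z : (normalConj hQ).ker) :
    kerAct hQ hc (a * b) z = kerAct hQ hc a (kerAct hQ hc b z) :=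
  Subtype.ext <| Subtype.ext <| aFn_mul a b (normalConj_eq_one hQ hc z.2).1

/-- The twisted product over the cosets. -/
noncomputable def coordProd (hQ : F.IsNormal Q) (hc : F.IsCentric Q) :
    (liftProj hQ).ker →* (normalConj hQ).ker :=
  letI := kerCommGroup hQ hc
  letI := Fintype.ofFinite (Cos hQ)
  MonoidHom.mk'
    (fun w => ∏ k : Cos hQ, kerAct hQ hc k.out⁻¹ ⟨((w : lifts hQ) : Wr hQ).left k, lifts_mem_ker _ w.2 k⟩)
    fun w v => by
      rw [← Finset.prod_mul_distrib]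
      refine Finset.prod_congr rfl fun k _ => ?_
      rw [← map_mul]
      refine congrArg _ (Subtype.ext ?_)
      show (((w : lifts hQ) : Wr hQ) * ((v : lifts hQ) : Wr hQ)).left k = _
      have h : ((w : lifts hQ) : Wr hQ).right = 1 := w.2
      rw [Wr.mul_left_apply, h, Cos.act_one]
      rfl

theorem coordProd_conj (hQ : F.IsNormal Q) (hc : F.IsCentric Q) (w : lifts hQ) (u : (liftProj hQ).ker) :
    coordProd hQ hc ⟨w * u * w⁻¹, (MonoidHom.normal_ker _).conj_mem _ u.2 w⟩ =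
      kerAct hQ hc (liftProj hQ w) (coordProd hQ hc u) := by
  let _ := kerCommGroup hQ hc
  let _ := Fintype.ofFinite (Cos hQ)
  show ∏ k : Cos hQ, _ = kerAct hQ hc (liftProj hQ w) (∏ k : Cos hQ, _)
  rw [map_prod]
  let e : Cos hQ ≃ Cos hQ :=
    { toFun := fun k => k.act (liftProj hQ w)
      invFun := fun k => k.act (liftProj hQ w)⁻¹
      left_inv := fun k => by
        show (k.act _).act _ = k
        rw [Cos.act_mul, mul_inv_cancel, Cos.act_one]
      right_inv := fun k => by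
        show (k.act _).act _ = k
        rw [Cos.act_mul, inv_mul_cancel, Cos.act_one] }
  refine Fintype.prod_equiv e _ _ fun k => ?_
  have hval : ((w : Wr hQ) * (u : lifts hQ) * (w : Wr hQ)⁻¹).left k =
      (w : Wr hQ).left k * ((u : lifts hQ) : Wr hQ).left (e k) * ((w : Wr hQ).left k)⁻¹ := by
    have h : ((u : lifts hQ) : Wr hQ).right = 1 := u.2
    rw [Wr.mul_left_apply, Wr.mul_left_apply, Wr.inv_left_apply, SemidirectProduct.mul_right, h, mul_one,
      Cos.act_mul, mul_inv_cancel, Cos.act_one]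
    rfl
  rw [← kerAct_mul]
  have hq := (normalConj_eq_one hQ hc (lifts_mem_ker _ u.2 (e k))).1
  refine Subtype.ext (Subtype.ext ?_)
  rw [coe_kerAct, coe_kerAct]
  show aFn k.out⁻¹ ((((w : Wr hQ) * (u : lifts hQ) * (w : Wr hQ)⁻¹).left k : S) : Ω) = _
  rw [hval, Subgroup.coe_mul, Subgroup.coe_mul, Subgroup.coe_inv, ← aFn_normalConj hQ _ hq, w.2 k,
    ← aFn_mul _ _ hq]
  refine congrArg (fun a => aFn a _) ?_
  show k.out⁻¹ * k.pr (w : Wr hQ).right = liftProj hQ w * (k.act (liftProj hQ w)).out⁻¹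
  rw [Cos.pr, ← liftProj_apply]
  group

/-- The kernel that is divided out. -/
noncomputable def modelKer (hQ : F.IsNormal Q) (hc : F.IsCentric Q) : Subgroup (lifts hQ) :=
  (coordProd hQ hc).ker.map (liftProj hQ).ker.subtype

instance modelKer_normal (hQ : F.IsNormal Q) (hc : F.IsCentric Q) : (modelKer hQ hc).Normal := by
  refine ⟨?_⟩
  rintro _ ⟨u, hu, rfl⟩ w
  refine ⟨⟨w * (u : lifts hQ) * w⁻¹, (MonoidHom.normal_ker _).conj_mem _ u.2 w⟩, ?_, rfl⟩
  show coordProd hQ hc _ = 1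
  rw [coordProd_conj, show coordProd hQ hc u = 1 from hu, map_one]

/-- The model. -/
abbrev ModelGroup (hQ : F.IsNormal Q) (hc : F.IsCentric Q) : Type u := lifts hQ ⧸ modelKer hQ hc

/-- The projection of the model. -/
noncomputable def modelProj (hQ : F.IsNormal Q) (hc : F.IsCentric Q) : ModelGroup hQ hc →* F.autGroup Q :=
  QuotientGroup.lift _ (liftProj hQ) fun w hw => by
    obtain ⟨u, -, rfl⟩ := hw
    exact u.2

theorem modelProj_mk {hQ : F.IsNormal Q} {hc : F.IsCentric Q} (w : lifts hQ) :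
    modelProj hQ hc (QuotientGroup.mk' _ w) = (w : Wr hQ).right := rfl

theorem modelProj_surjective (hQ : F.IsNormal Q) (hc : F.IsCentric Q) :
    Function.Surjective (modelProj hQ hc) := fun a => by
  obtain ⟨w, hw⟩ := liftProj_surjective hQ a
  exact ⟨QuotientGroup.mk' _ w, hw⟩

/-- The embedding of `S`. -/
noncomputable def modelEmb {hQ : F.IsNormal Q} (hc : F.IsCentric Q) {L : Cos hQ → S → S}
    (hL : IsLifting hQ L) : S →* ModelGroup hQ hc :=
  (QuotientGroup.mk' (modelKer hQ hc)).comp <|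
    MonoidHom.mk' (fun x => ⟨⟨fun k => L k x, normalConj hQ x⟩, fun k => hL.proj k x⟩) fun x y =>
      Subtype.ext <| SemidirectProduct.ext (funext fun k => hL.cocycle k x y) (map_mul _ x y)

theorem modelProj_modelEmb {hQ : F.IsNormal Q} (hc : F.IsCentric Q) {L : Cos hQ → S → S} (hL : IsLifting hQ L)
    (x : S) : modelProj hQ hc (modelEmb hc hL x) = normalConj hQ x := rfl

theorem modelGroup_finite (hQ : F.IsNormal Q) (hc : F.IsCentric Q) : Finite (ModelGroup hQ hc) := by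
  have := finite_of_le_base hQ.1
  have : Finite (MulAut Q) := inferInstance
  have : Finite (Wr hQ) := Finite.of_equiv _ SemidirectProduct.equivProd.symm
  infer_instance

section Props

variable {p : ℕ} [Fact p.Prime] (hS : IsPGroup p S) (hF : F.IsSaturated p) {hQ : F.IsNormal Q}
  (hc : F.IsCentric Q) {L : Cos hQ → S → S} (hL : IsLifting hQ L)
include hS hF

theorem index_range_coprime (hQ : F.IsNormal Q) : ¬ p ∣ (normalConj hQ).range.index := by
  obtain ⟨hA, -⟩ := fullyNormalized_good hS hF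
    (fullyNormalized_of_weaklyClosed (weaklyClosed_of_stronglyClosed (normal_stronglyClosed hQ)))
  obtain ⟨-, T, hT⟩ := hA
  have := finite_of_le_base hQ.1
  have e : (normalConj hQ).range = (T : Subgroup (F.autGroup Q)) := by
    rw [hT]
    ext a
    rw [Subgroup.mem_subgroupOf, mem_autInducedBy]
    constructor
    · rintro ⟨x, rfl⟩
      exact ⟨x, x.2, fun q => rfl⟩
    · rintro ⟨g, hg, h⟩
      exact ⟨⟨g, hg⟩, Subtype.ext <| MulEquiv.ext fun q => Subtype.ext (h q).symm⟩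
  rw [e]
  exact T.not_dvd_index

theorem card_ker_coprime (hQ : F.IsNormal Q) :
    (Nat.card (normalConj hQ).ker).Coprime (Nat.card (Cos hQ)) := by
  obtain ⟨n, hn⟩ := (hS.to_subgroup (normalConj hQ).ker).exists_card_eq
  rw [hn]
  refine ((Fact.out : p.Prime).coprime_iff_not_dvd.2 ?_).pow_left n
  have := finite_of_le_base hQ.1
  rw [Nat.card_congr (QuotientGroup.quotientRightRelEquivQuotientLeftRel (normalConj hQ).range)]
  exact index_range_coprime hS hF hQ

omit hS hF in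
include hL in
theorem coordProd_emb {z : S} (hz : normalConj hQ z = 1) (u : (liftProj hQ).ker)
    (hu : ∀ k, ((u : lifts hQ) : Wr hQ).left k = L k z) :
    letI := kerCommGroup hQ hc
    coordProd hQ hc u = (⟨z, hz⟩ : (normalConj hQ).ker) ^ Nat.card (Cos hQ) := by
  let _ := kerCommGroup hQ hc
  let _ := Fintype.ofFinite (Cos hQ)
  show ∏ k : Cos hQ, _ = _
  rw [Nat.card_eq_fintype_card, ← Finset.card_univ]
  refine Finset.prod_eq_pow_card fun k _ => Subtype.ext (Subtype.ext ?_)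
  rw [coe_kerAct]
  show aFn k.out⁻¹ ((((u : lifts hQ) : Wr hQ).left k : S) : Ω) = _
  have hq := (normalConj_eq_one hQ hc hz).1
  rw [hu, show ((L k z : S) : Ω) = aFn k.out (z : Ω) from hL.on_Q k z hq, ← aFn_mul _ _ hq, inv_mul_cancel,
    aFn_one hq]

theorem modelEmb_injective : Function.Injective (modelEmb hc hL) := by
  refine (injective_iff_map_eq_one _).2 fun x hx => ?_
  have hx' := (QuotientGroup.eq_one_iff _).1 hx
  obtain ⟨u, hu, e⟩ := hx'
  have hc1 : normalConj hQ x = 1 := by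
    rw [← modelProj_modelEmb hc hL x, hx, map_one]
  let _ := kerCommGroup hQ hc
  have h := coordProd_emb hc hL hc1 u fun k => congrArg (fun w : lifts hQ => (w : Wr hQ).left k) e
  rw [show coordProd hQ hc u = 1 from hu] at h
  have := (powCoprime (card_ker_coprime hS hF hQ)).injective
    (a₁ := (⟨x, hc1⟩ : (normalConj hQ).ker)) (a₂ := 1) (h.symm.trans (one_pow _).symm)
  exact congrArg Subtype.val this

theorem modelProj_ker {g : ModelGroup hQ hc} (hg : modelProj hQ hc g = 1) :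
    ∃ z, normalConj hQ z = 1 ∧ g = modelEmb hc hL z := by
  obtain ⟨w, rfl⟩ := QuotientGroup.mk'_surjective _ g
  have hw : liftProj hQ w = 1 := hg
  let _ := kerCommGroup hQ hc
  let z := (powCoprime (card_ker_coprime hS hF hQ)).symm (coordProd hQ hc ⟨w, hw⟩)
  have hz : z ^ Nat.card (Cos hQ) = coordProd hQ hc ⟨w, hw⟩ :=
    (powCoprime (card_ker_coprime hS hF hQ)).apply_symm_apply _
  refine ⟨z, z.2, ?_⟩
  let v : lifts hQ := ⟨⟨fun k => L k z, normalConj hQ z⟩, fun k => hL.proj k z⟩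
  show QuotientGroup.mk' _ w = QuotientGroup.mk' _ v
  have hv : liftProj hQ v = 1 := z.2
  refine QuotientGroup.eq.2 ⟨(⟨w, hw⟩ : (liftProj hQ).ker)⁻¹ * ⟨v, hv⟩, ?_, rfl⟩
  show coordProd hQ hc _ = 1
  rw [map_mul, map_inv, coordProd_emb hc hL z.2 ⟨v, hv⟩ fun k => rfl, hz, inv_mul_cancel]

omit hS hF in
theorem modelEmb_conj_Q (g : ModelGroup hQ hc) {q : Ω} (hq : q ∈ Q) :
    g * modelEmb hc hL ⟨q, hQ.1 hq⟩ =
      modelEmb hc hL ⟨aFn (modelProj hQ hc g) q, hQ.1 (aFn_mem _ hq)⟩ * g := by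
  obtain ⟨w, rfl⟩ := QuotientGroup.mk'_surjective _ g
  rw [modelEmb, MonoidHom.comp_apply, MonoidHom.comp_apply, ← map_mul, ← map_mul]
  refine congrArg _ (Subtype.ext (SemidirectProduct.ext (funext fun k => ?_) ?_))
  · rw [Subgroup.coe_mul, Subgroup.coe_mul, Wr.mul_left_apply, Wr.mul_left_apply]
    have ha : modelProj hQ hc (QuotientGroup.mk' _ w) = (w : Wr hQ).right := rfl
    show (w : Wr hQ).left k * L (k.act (w : Wr hQ).right) ⟨q, hQ.1 hq⟩ =
      L k ⟨aFn _ q, _⟩ * (w : Wr hQ).left (k.act (normalConj hQ ⟨aFn _ q, _⟩))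
    rw [Cos.act_normalConj_mem k (aFn_mem _ hq)]
    refine Subtype.ext ?_
    rw [Subgroup.coe_mul, Subgroup.coe_mul, hL.on_Q, hL.on_Q, ← mul_inv_eq_iff_eq_mul,
      ← aFn_normalConj hQ _ (aFn_mem _ hq), w.2 k, ← aFn_mul _ _ hq, ← aFn_mul _ _ hq]
    refine congrArg (fun a => aFn a q) ?_
    rw [ha, Cos.pr]
    group
    all_goals first | exact hq | exact aFn_mem _ hq
  · show (w : Wr hQ).right * normalConj hQ ⟨q, _⟩ = normalConj hQ ⟨aFn _ q, _⟩ * (w : Wr hQ).right
    exact mul_inv_eq_iff_eq_mul.1 (normalConj_conj hQ _ hq)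

/-- Every element of `Aut_F(Q)` has a lift realizing an extension of it on the whole extension domain. -/
theorem exists_good_lift (a : F.autGroup Q) :
    ∃ (g : ModelGroup hQ hc) (φ : extDom hQ a →* S), modelProj hQ hc g = a ∧ SMor F (extDom hQ a) φ ∧
      ∀ x : extDom hQ a, modelEmb hc hL (φ x) * g = g * modelEmb hc hL x := by
  obtain ⟨φ, hφm, hφQ, hφc⟩ := exists_extension hS hF hQ a
  have hkey : ∀ (k : Cos hQ) (x : extDom hQ a),
      (k.act a).act (normalConj hQ (x : S)) = (k.act (normalConj hQ (φ x))).act a := fun k x => by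
    rw [Cos.act_mul, Cos.act_mul, hφc, inv_mul_cancel_right]
  have hstep : ∀ (k : Cos hQ) (x : extDom hQ a) (d : S), normalConj hQ d = k.pr a →
      normalConj hQ ((L k (φ x))⁻¹ * d * L (k.act a) (x : S)) = (k.act (normalConj hQ (φ x))).pr a := by
    intro k x d hd
    rw [map_mul, map_mul, map_inv, hd, hL.proj, hL.proj, mul_assoc, inv_mul_eq_iff_eq_mul, ← Cos.pr_mul,
      ← Cos.pr_mul, hφc, inv_mul_cancel_right]
  have hseed : ∀ k : Cos hQ, ∃ d, normalConj hQ d = k.pr a ∧ ∀ x : extDom hQ a,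
      k.act (normalConj hQ (φ x)) = k → L k (φ x) * d = d * L (k.act a) (x : S) := by
    intro k
    let act' : Cos hQ → extDom hQ a → Cos hQ := fun k x => k.act (normalConj hQ (φ x))
    let Y : Subgroup (extDom hQ a) :=
      { carrier := {x | act' k x = k}
        one_mem' := by show k.act _ = k; rw [map_one, map_one, Cos.act_one]
        mul_mem' := fun {x y} hx hy => by
          show k.act _ = k
          rw [map_mul, map_mul, ← Cos.act_mul]
          rw [show k.act (normalConj hQ (φ x)) = k from hx]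
          exact hy
        inv_mem' := fun {x} hx => by
          show k.act _ = k
          have h : k.act (normalConj hQ (φ x)) = k := hx
          rw [map_inv, map_inv]
          conv_lhs => rw [← h]
          rw [Cos.act_mul, mul_inv_cancel, Cos.act_one] }
    let X : Subgroup S := Y.map (extDom hQ a).subtype
    have hXle : X ≤ extDom hQ a := Subgroup.map_subtype_le _
    have hXmem : ∀ x : X, k.act (normalConj hQ (φ ⟨x, hXle x.2⟩)) = k := by
      rintro ⟨_, x, hx, rfl⟩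
      exact hx
    have hXq : ∀ q (hq : q ∈ Q), (⟨q, hQ.1 hq⟩ : S) ∈ X := fun q hq => by
      refine ⟨⟨_, le_extDom a hq⟩, ?_, rfl⟩
      show k.act _ = k
      rw [show φ ⟨_, le_extDom a hq⟩ = ⟨aFn a q, hQ.1 (aFn_mem a hq)⟩ from Subtype.ext (hφQ q hq)]
      exact Cos.act_normalConj_mem k (aFn_mem a hq)
    obtain ⟨f₁, hf₁⟩ : ∃ s, normalConj hQ s = k.pr a := Cos.pr_mem k a
    have hstab : ∀ x ∈ X, (k.act a).act (normalConj hQ x) = k.act a := fun x hx => by
      rw [hkey k ⟨x, hXle hx⟩, hXmem ⟨x, hx⟩]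
    let M' : Subgroup S :=
      { carrier := {y | k.act (normalConj hQ y) = k}
        one_mem' := by show k.act _ = k; rw [map_one, Cos.act_one]
        mul_mem' := fun {x y} hx hy => by
          show k.act _ = k
          rw [map_mul, ← Cos.act_mul, show k.act (normalConj hQ x) = k from hx]
          exact hy
        inv_mem' := fun {x} hx => by
          show k.act _ = k
          have h : k.act (normalConj hQ x) = k := hx
          rw [map_inv]
          conv_lhs => rw [← h]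
          rw [Cos.act_mul, mul_inv_cancel, Cos.act_one] }
    have h₁ := (hφm.restrict hXle).comp (hL.mor k M' fun y hy => hy) hXmem
    have h₂ := (hL.mor (k.act a) X hstab).conj_right f₁
    obtain ⟨z, hz, he⟩ := smor_unique hS hF hQ hc hXq h₂ h₁ fun q hq => Subtype.ext <| by
      beta_reduce
      rw [Subgroup.coe_mul, Subgroup.coe_mul, Subgroup.coe_inv, hL.on_Q,
        ← aFn_normalConj hQ _ (aFn_mem _ hq), hf₁, ← aFn_mul _ _ hq]
      show _ = ((L k (φ ⟨⟨q, _⟩, _⟩) : S) : Ω)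
      rw [show φ ⟨⟨q, hQ.1 hq⟩, le_extDom a hq⟩ = ⟨aFn a q, hQ.1 (aFn_mem a hq)⟩ from Subtype.ext (hφQ q hq),
        hL.on_Q, ← aFn_mul _ _ hq, Cos.pr]
      exact congrArg (fun b => aFn b q) (by group)
      all_goals first | exact hq | exact aFn_mem _ hq
    refine ⟨z * f₁, by rw [map_mul, hz, one_mul, hf₁], fun x hx => ?_⟩
    have e : L k (φ x) = z * (f₁ * L (k.act a) (x : S) * f₁⁻¹) * z⁻¹ :=
      he ⟨(x : S), x, hx, rfl⟩
    rw [e]
    group
  obtain ⟨f, hf⟩ := exists_propagate (fun k x => k.act (normalConj hQ (φ x)))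
    (fun k => by rw [map_one, map_one, Cos.act_one])
    (fun k x y => by rw [Cos.act_mul, ← map_mul, ← map_mul])
    (Λ := fun k x => L k (φ x)) (M := fun k x => L (k.act a) (x : S))
    (fun k x y => by
      beta_reduce
      rw [map_mul]
      exact hL.cocycle k _ _)
    (fun k x y => by
      beta_reduce
      rw [Subgroup.coe_mul, hL.cocycle]
      beta_reduce
      rw [hkey])
    (fun k d => normalConj hQ d = k.pr a) hstep hseed
  let w : lifts hQ := ⟨⟨f, a⟩, fun k => (hf k).1⟩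
  refine ⟨QuotientGroup.mk' _ w, φ, rfl, hφm, fun x => ?_⟩
  rw [modelEmb, MonoidHom.comp_apply, MonoidHom.comp_apply, ← map_mul, ← map_mul]
  refine congrArg _ (Subtype.ext (SemidirectProduct.ext (funext fun k => (hf k).2 x) ?_))
  show normalConj hQ (φ x) * a = a * normalConj hQ (x : S)
  rw [hφc, inv_mul_cancel_right]

theorem modelEmb_conj_eq_mor {x : S} {g : ModelGroup hQ hc} {y : S}
    (h : modelEmb hc hL y * g = g * modelEmb hc hL x) : x ∈ extDom hQ (modelProj hQ hc g) := by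
  refine mem_extDom.2 ⟨y, ?_⟩
  have := congrArg (modelProj hQ hc) h
  rw [map_mul, map_mul, modelProj_modelEmb, modelProj_modelEmb] at this
  exact eq_mul_inv_iff_mul_eq.2 this

theorem model_isModel : F.IsModel p (ModelGroup hQ hc) (modelEmb hc hL) := by
  have := modelGroup_finite hQ hc
  have hinj := modelEmb_injective hS hF hc hL
  refine ⟨this, ⟨hinj, fun P hP φ hφS => ⟨fun hφ => ?_, ?_⟩⟩, ?_, ?_⟩
  · obtain ⟨ψ, hψ, hψe, hψi⟩ := (normal_iff_fn.1 hQ).2 P (ofHom φ) (fn_ofHom hφ)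
    obtain ⟨α, hα, hαe⟩ := exists_aut_of_fn (hψ.mono le_sup_right) hψi
    let a : F.autGroup Q := ⟨α, hα⟩
    have ha : ∀ q ∈ Q, aFn a q = ψ q := fun q hq => (autFn_coe α ⟨q, hq⟩).trans (hαe ⟨q, hq⟩)
    obtain ⟨g, φa, hga, hφam, hφa⟩ := exists_good_lift hS hF hc hL a
    have hPQ : P ⊔ Q ≤ S := hψ.le
    let X : Subgroup S := (P ⊔ Q).subgroupOf S
    have hXN : X ≤ extDom hQ a := fun x hx => mem_extDom.2 ⟨⟨ψ (x : Ω), hψ.mem hx⟩, by
      rw [eq_mul_inv_iff_mul_eq]
      refine aFn_ext fun q hq => ?_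
      have hxq : (x : Ω) * q * (x : Ω)⁻¹ ∈ Q := sc_conj (normal_stronglyClosed hQ) x.2 hq
      rw [aFn_mul _ _ hq, aFn_mul _ _ hq, aFn_normalConj hQ _ (aFn_mem a hq), aFn_normalConj hQ _ hq, ha q hq,
        ha _ hxq]
      exact (hψ.map_conj hx (Subgroup.mem_sup_right hq)).symm⟩
    have hψm : SMor F X (fun x => ⟨ψ ((x : S) : Ω), hψ.mem x.2⟩) :=
      ⟨ψ, by rw [Subgroup.map_subgroupOf_eq_of_le hPQ]; exact hψ, fun x => rfl⟩
    have hXq : ∀ q (hq : q ∈ Q), (⟨q, hQ.1 hq⟩ : S) ∈ X := fun q hq => Subgroup.mem_sup_right hq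
    obtain ⟨z, hz, he⟩ := smor_unique hS hF hQ hc hXq (hφam.restrict hXN) hψm fun q hq => Subtype.ext <| by
      show (((φa ⟨⟨q, _⟩, _⟩ : S)) : Ω) = ψ q
      rw [← ha q hq]
      have h1 := congrArg (modelProj hQ hc) (hφa ⟨_, le_extDom a hq⟩)
      have h2 := modelEmb_conj_Q hc hL g hq
      rw [hga] at h2
      have := hinj (mul_right_cancel ((hφa ⟨_, le_extDom a hq⟩).trans h2))
      exact congrArg Subtype.val this
    refine ⟨modelEmb hc hL z * g, fun x => ?_⟩
    have hx : (⟨x, hP x.2⟩ : S) ∈ X := Subgroup.mem_sup_left x.2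
    have e := he ⟨_, hx⟩
    have e' : (⟨φ x, hφS x⟩ : S) = ⟨ψ x, hψ.mem hx⟩ := Subtype.ext <| by
      show φ x = ψ (x : Ω)
      rw [hψe x x.2, ofHom_coe]
    rw [e', e, map_mul, map_mul, map_inv, eq_mul_inv_iff_mul_eq.2 (hφa ⟨_, hXN hx⟩)]
    group
  · rintro ⟨g, hg⟩
    obtain ⟨g₀, φa, hga, hφam, hφa⟩ := exists_good_lift hS hF hc hL (modelProj hQ hc g)
    obtain ⟨z, hz, hgz⟩ := modelProj_ker hS hF hc hL (g := g₀⁻¹ * g) (by rw [map_mul, map_inv, hga, inv_mul_cancel])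
    have hgz' : g = g₀ * modelEmb hc hL z := by rw [← hgz, mul_inv_cancel_left]
    have hXN : ∀ x : P, z * ⟨x, hP x.2⟩ * z⁻¹ ∈ extDom hQ (modelProj hQ hc g) := fun x => by
      have hx : (⟨x, hP x.2⟩ : S) ∈ extDom hQ (modelProj hQ hc g) :=
        modelEmb_conj_eq_mor hS hF hc hL (y := ⟨φ x, hφS x⟩) (by rw [hg x, inv_mul_cancel_right])
      have hzN : z ∈ extDom hQ (modelProj hQ hc g) := le_extDom _ (normalConj_eq_one hQ hc hz).1
      exact mul_mem (mul_mem hzN hx) (inv_mem hzN)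
    have hm : SMor F (P.subgroupOf S) (fun x => φa ⟨z * x * z⁻¹, hXN ⟨_, x.2⟩⟩) :=
      (sMor_conj z _).comp hφam fun x => hXN ⟨_, x.2⟩
    obtain ⟨f, hf, hfe⟩ := hm
    rw [Subgroup.map_subgroupOf_eq_of_le hP] at hf
    refine mem_hom_of_fn hf fun x => ?_
    refine Eq.trans ?_ (hfe ⟨⟨x, hP x.2⟩, x.2⟩).symm
    refine congrArg Subtype.val (a₁ := (⟨φ x, hφS x⟩ : S)) (hinj ?_)
    rw [hg x, eq_mul_inv_iff_mul_eq.2 (hφa ⟨_, hXN x⟩), map_mul, map_mul, map_inv, hgz']
    group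
  · have hp : IsPGroup p (modelEmb hc hL).range := hS.of_surjective _ (modelEmb hc hL).rangeRestrict_surjective
    have e : (modelEmb hc hL).range = (normalConj hQ).range.comap (modelProj hQ hc) := by
      ext g
      constructor
      · rintro ⟨x, rfl⟩
        exact ⟨x, (modelProj_modelEmb hc hL x).symm⟩
      · rintro ⟨x, hx⟩
        obtain ⟨z, -, hz⟩ := modelProj_ker hS hF hc hL (g := (modelEmb hc hL x)⁻¹ * g)
          (by rw [map_mul, map_inv, modelProj_modelEmb, hx, inv_mul_cancel])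
        exact ⟨x * z, by rw [map_mul, ← hz, mul_inv_cancel_left]⟩
    refine ⟨hp.toSylow ?_, rfl⟩
    rw [e, Subgroup.index_comap_of_surjective _ (modelProj_surjective hQ hc)]
    exact index_range_coprime hS hF hQ
  · have hQ1p : IsPGroup p ((Q.subgroupOf S).map (modelEmb hc hL)) :=
      (hS.to_subgroup _).map _
    have hn : ((Q.subgroupOf S).map (modelEmb hc hL)).Normal := by
      refine ⟨?_⟩
      rintro _ ⟨q, hq, rfl⟩ g
      refine ⟨⟨_, hQ.1 (aFn_mem (modelProj hQ hc g) hq)⟩, aFn_mem (modelProj hQ hc g) hq, ?_⟩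
      exact eq_mul_inv_iff_mul_eq.2 (modelEmb_conj_Q hc hL g hq).symm
    have hle := LocalEven.SylowIn.le_pCore (hN := hn) hQ1p
    intro g hg
    refine hle ?_
    have hga : modelProj hQ hc g = 1 := aFn_ext fun q hq => by
      have h1 := Subgroup.mem_centralizer_iff.1 hg (modelEmb hc hL ⟨q, hQ.1 hq⟩)
        (hle (Subgroup.mem_map_of_mem _ (show (⟨q, hQ.1 hq⟩ : S) ∈ Q.subgroupOf S from hq)))
      rw [modelEmb_conj_Q hc hL g hq] at h1
      rw [aFn_one hq]
      exact (congrArg Subtype.val (hinj (mul_right_cancel h1))).symm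
    obtain ⟨z, hz, e⟩ := modelProj_ker hS hF hc hL hga
    exact ⟨z, (normalConj_eq_one hQ hc hz).1, e.symm⟩

end Props

/-! ### Uniqueness -/

section Unique

variable {p : ℕ} [Fact p.Prime] {hQ : F.IsNormal Q} (hc : F.IsCentric Q) {G₁ : Type*} [Group G₁] {ι₁ : S →* G₁}
  (h₁ : F.IsModel p G₁ ι₁)
include hQ h₁

/-- In a model, every element induces an automorphism of `Q` lying in `Aut_F(Q)`. -/
theorem model_normalizes (g : G₁) :
    ∃ a : F.autGroup Q, ∀ q (hq : q ∈ Q),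
      g * ι₁ ⟨q, hQ.1 hq⟩ = ι₁ ⟨aFn a q, hQ.1 (aFn_mem a hq)⟩ * g := by
  obtain ⟨hfin, ⟨hinj, hreal⟩, ⟨T, hT⟩, hcent⟩ := h₁
  have hp : IsPGroup p (pCore p G₁) := LocalEven.SylowIn.isPGroup_pCore G₁ p
  have := LocalEven.SylowIn.pCore_normal G₁ p
  have hO : pCore p G₁ ≤ ι₁.range := hT ▸ hp.le_sylow_of_normal T
  let P : Subgroup Ω := ((pCore p G₁).comap ι₁).map S.subtype
  have hP : P ≤ S := Subgroup.map_subtype_le _
  have hmem : ∀ x : P, ι₁ ⟨(x : Ω), hP x.2⟩ ∈ pCore p G₁ := by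
    rintro ⟨_, x, hx, rfl⟩
    exact hx
  have hex : ∀ x : P, ∃ y : S, ι₁ y = g * ι₁ ⟨(x : Ω), hP x.2⟩ * g⁻¹ := fun x =>
    hO (Subgroup.Normal.conj_mem inferInstance _ (hmem x) g)
  choose y hy using hex
  let φ : P →* Ω := MonoidHom.mk' (fun x => (y x : Ω)) fun a b => congrArg Subtype.val <|
    show y (a * b) = y a * y b from hinj <| by
      rw [map_mul, hy, hy, hy, show (⟨((a * b : P) : Ω), hP (a * b).2⟩ : S) = ⟨(a : Ω), hP a.2⟩ * ⟨(b : Ω), hP b.2⟩
        from rfl, map_mul]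
      group
  have hφ : φ ∈ F.Hom P := (hreal P hP φ fun x => (y x).2).2 ⟨g, fun x => hy x⟩
  obtain ⟨ψ, hψ, hψe, hψi⟩ := (normal_iff_fn.1 hQ).2 P _ (fn_ofHom hφ)
  obtain ⟨φ', hφ', hφ'e⟩ := id hψ
  have hφS : ∀ x, φ' x ∈ S := (F.le_of_mem hφ').2
  obtain ⟨h, hh⟩ := (hreal _ hψ.le φ' hφS).1 hφ'
  obtain ⟨α, hα, hαe⟩ := exists_aut_of_fn (hψ.mono le_sup_right) hψi
  have hha : ∀ q (hq : q ∈ Q),
      h * ι₁ ⟨q, hQ.1 hq⟩ * h⁻¹ = ι₁ ⟨aFn (⟨α, hα⟩ : F.autGroup Q) q, hQ.1 (aFn_mem _ hq)⟩ := fun q hq => by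
    rw [← hh ⟨q, Subgroup.mem_sup_right hq⟩]
    refine congrArg ι₁ (Subtype.ext ?_)
    show φ' ⟨q, _⟩ = autFn α q
    rw [hφ'e]
    exact ((autFn_coe α ⟨q, hq⟩).trans (hαe ⟨q, hq⟩)).symm
  have hgh : h⁻¹ * g ∈ Subgroup.centralizer ((pCore p G₁ : Subgroup G₁) : Set G₁) := by
    refine Subgroup.mem_centralizer_iff.2 fun z hz => ?_
    obtain ⟨x, hx⟩ := hO hz
    have hxP : (x : Ω) ∈ P := ⟨x, show ι₁ x ∈ _ from hx.symm ▸ hz, rfl⟩
    have e1 := hy ⟨x, hxP⟩
    have e2 := hh ⟨x, Subgroup.mem_sup_left hxP⟩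
    have e3 : (⟨φ' ⟨x, Subgroup.mem_sup_left hxP⟩, hφS _⟩ : S) = y ⟨x, hxP⟩ := Subtype.ext <| by
      show φ' _ = _
      rw [hφ'e]
      show ψ (x : Ω) = _
      rw [hψe _ hxP, ofHom_apply φ hxP]
      rfl
    rw [e3, e1] at e2
    change g * ι₁ x * g⁻¹ = h * ι₁ x * h⁻¹ at e2
    rw [← hx]
    calc ι₁ x * (h⁻¹ * g) = h⁻¹ * (h * ι₁ x * h⁻¹) * g := by group
      _ = h⁻¹ * (g * ι₁ x * g⁻¹) * g := by rw [e2]
      _ = h⁻¹ * g * ι₁ x := by group
  obtain ⟨s, hs⟩ := hO (hcent hgh)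
  refine ⟨⟨α, hα⟩ * normalConj hQ s, fun q hq => ?_⟩
  have hsq : (s : Ω) * q * (s : Ω)⁻¹ ∈ Q := sc_conj (normal_stronglyClosed hQ) s.2 hq
  have e := hha _ hsq
  have hg' : g = h * ι₁ s := by rw [hs, mul_inv_cancel_left]
  rw [show (⟨aFn (⟨α, hα⟩ * normalConj hQ s) q, hQ.1 (aFn_mem _ hq)⟩ : S) =
      ⟨aFn (⟨α, hα⟩ : F.autGroup Q) ((s : Ω) * q * (s : Ω)⁻¹), hQ.1 (aFn_mem _ hsq)⟩ from Subtype.ext <| by
    show aFn (_ * _) q = _
    rw [aFn_mul _ _ hq, aFn_normalConj hQ s hq], ← e, hg',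
    show (⟨(s : Ω) * q * (s : Ω)⁻¹, hQ.1 hsq⟩ : S) = s * ⟨q, hQ.1 hq⟩ * s⁻¹ from rfl, map_mul, map_mul, map_inv]
  group

/-- The projection of a model onto `Aut_F(Q)`, with kernel in the image of `S`. -/
theorem exists_model_proj :
    ∃ pj : G₁ →* F.autGroup Q, (∀ g q (hq : q ∈ Q),
        g * ι₁ ⟨q, hQ.1 hq⟩ = ι₁ ⟨aFn (pj g) q, hQ.1 (aFn_mem _ hq)⟩ * g) ∧
      (∀ x, pj (ι₁ x) = normalConj hQ x) := by
  choose a ha using model_normalizes (hQ := hQ) h₁
  have hinj : Function.Injective ι₁ := h₁.2.1.1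
  have huniq : ∀ g (b : F.autGroup Q),
      (∀ q (hq : q ∈ Q), g * ι₁ ⟨q, hQ.1 hq⟩ = ι₁ ⟨aFn b q, hQ.1 (aFn_mem b hq)⟩ * g) → a g = b := fun g b hb =>
    aFn_ext fun q hq => congrArg Subtype.val (hinj (mul_right_cancel ((ha g q hq).symm.trans (hb q hq))))
  refine ⟨MonoidHom.mk' a fun g g' => huniq _ _ fun q hq => ?_, ha, fun x => huniq _ _ fun q hq => ?_⟩
  · rw [show (⟨aFn (a g * a g') q, hQ.1 (aFn_mem _ hq)⟩ : S) = ⟨aFn (a g) (aFn (a g') q), hQ.1 (aFn_mem _ (aFn_mem _ hq))⟩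
      from Subtype.ext (aFn_mul _ _ hq), mul_assoc, ha g' q hq, ← mul_assoc, ha g _ (aFn_mem _ hq), mul_assoc]
  · rw [show (⟨aFn (normalConj hQ x) q, hQ.1 (aFn_mem _ hq)⟩ : S) = x * ⟨q, hQ.1 hq⟩ * x⁻¹
      from Subtype.ext (aFn_normalConj hQ x hq), map_mul, map_mul, map_inv, inv_mul_cancel_right]

include hc in
theorem model_proj_ker {pj : G₁ →* F.autGroup Q}
    (hpj : ∀ g q (hq : q ∈ Q), g * ι₁ ⟨q, hQ.1 hq⟩ = ι₁ ⟨aFn (pj g) q, hQ.1 (aFn_mem _ hq)⟩ * g) {g : G₁}
    (hg : pj g = 1) : ∃ z, normalConj hQ z = 1 ∧ g = ι₁ z := by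
  obtain ⟨hfin, ⟨hinj, -⟩, ⟨T, hT⟩, hcent⟩ := h₁
  have hcq : ∀ c : G₁, pj c = 1 → ∀ q (hq : q ∈ Q), c * ι₁ ⟨q, hQ.1 hq⟩ = ι₁ ⟨q, hQ.1 hq⟩ * c := fun c hc1 q hq => by
    have h := hpj c q hq
    rw [hc1] at h
    rw [h]
    exact congrArg (fun s => ι₁ s * c) (Subtype.ext (aFn_one hq))
  have hTker : ∀ x : S, pj (ι₁ x) = 1 → normalConj hQ x = 1 := fun x hx =>
    normalConj_eq_one_of hQ fun q hq => by
      have h := hinj (a₁ := x * ⟨q, hQ.1 hq⟩) (a₂ := ⟨q, hQ.1 hq⟩ * x) (by rw [map_mul, map_mul, hcq _ hx q hq])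
      exact (congrArg Subtype.val h).symm
  have hp : IsPGroup p (pCore p G₁) := LocalEven.SylowIn.isPGroup_pCore G₁ p
  have := LocalEven.SylowIn.pCore_normal G₁ p
  have hO : pCore p G₁ ≤ (T : Subgroup G₁) := hp.le_sylow_of_normal T
  have hkp : IsPGroup p pj.ker := by
    rintro ⟨c, hc1⟩
    obtain ⟨k, m, hm, e⟩ := Nat.exists_eq_pow_mul_and_not_dvd (orderOf_pos c).ne' p (Fact.out : p.Prime).ne_one
    refine ⟨k, Subtype.ext ?_⟩
    show c ^ p ^ k = 1
    have hd : (c ^ p ^ k) ^ m = 1 := by rw [← pow_mul, ← e, pow_orderOf_eq_one]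
    have hdk : pj (c ^ p ^ k) = 1 := by rw [map_pow, show pj c = 1 from hc1, one_pow]
    generalize c ^ p ^ k = d at hd hdk ⊢
    have hcop : ∀ z : G₁, z ∈ (T : Subgroup G₁) → z ^ m = 1 → z = 1 := fun z hz hzm => by
      obtain ⟨j, hj⟩ := T.2 ⟨z, hz⟩
      have hj' : z ^ p ^ j = 1 := congrArg Subtype.val hj
      exact orderOf_eq_one_iff.1 (Nat.eq_one_of_dvd_coprimes
        (((Fact.out : p.Prime).coprime_iff_not_dvd.2 hm).pow_left j) (orderOf_dvd_of_pow_eq_one hj')
        (orderOf_dvd_of_pow_eq_one hzm))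
    have hdC : d ∈ Subgroup.centralizer ((pCore p G₁ : Subgroup G₁) : Set G₁) := by
      refine Subgroup.mem_centralizer_iff.2 fun x hx => ?_
      let z := d * x * d⁻¹ * x⁻¹
      have hz : z ∈ pCore p G₁ := mul_mem (Subgroup.Normal.conj_mem inferInstance _ hx d) (inv_mem hx)
      have hzk : pj z = 1 := by simp [z, hdk]
      obtain ⟨s, hs⟩ := (hT.le (hO hz) : z ∈ ι₁.range)
      have hsQ := (normalConj_eq_one hQ hc (hTker s (hs.symm ▸ hzk))).1
      have hdz : d * z = z * d := hs ▸ hcq d hdk _ hsQ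
      have key : ∀ n : ℕ, d ^ n * x = z ^ n * x * d ^ n := by
        intro n
        induction n with
        | zero => simp
        | succ n ih =>
          have h1 : d * z ^ n = z ^ n * d := (show Commute d z from hdz).pow_right n
          calc d ^ (n + 1) * x = d * (d ^ n * x) := by rw [pow_succ']; group
            _ = z ^ n * (d * x) * d ^ n := by rw [ih, ← mul_assoc, ← mul_assoc, h1]; group
            _ = z ^ n * (z * x * d) * d ^ n := by simp [z]
            _ = z ^ (n + 1) * x * d ^ (n + 1) := by rw [pow_succ z, pow_succ' d]; group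
      have hzm : z ^ m = 1 := by
        have h := key m
        rw [hd, one_mul, mul_one] at h
        exact right_eq_mul.1 h
      have hz1 := hcop z (hO hz) hzm
      have := key 1
      rw [hz1, one_pow, one_mul, pow_one] at this
      exact this.symm
    exact hcop d (hO (hcent hdC)) hd
  obtain ⟨x, hx⟩ := (hT.le (hkp.le_sylow_of_normal T hg) : g ∈ ι₁.range)
  exact ⟨x, hTker x (hx.symm ▸ hg), hx.symm⟩

include hc in
/-- A model is isomorphic, over `S`, to the one constructed. -/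
theorem model_iso_std (hS : IsPGroup p S) (hF : F.IsSaturated p) {L : Cos hQ → S → S} (hL : IsLifting hQ L) :
    ∃ Θ : G₁ ≃* ModelGroup hQ hc, ∀ x : S, Θ (ι₁ x) = modelEmb hc hL x := by
  obtain ⟨pj, hpj, hpjι⟩ := exists_model_proj (hQ := hQ) h₁
  have hker := fun g => model_proj_ker (hQ := hQ) (g := g) hc h₁ hpj
  obtain ⟨-, ⟨hinj, hreal⟩, -, -⟩ := id h₁
  have hseed : ∀ k : Cos hQ, ∃ d, pj d = k.out ∧
      ∀ x : S, k.act (normalConj hQ x) = k → ι₁ (L k x) * d = d * ι₁ x := by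
    intro k
    let X : Subgroup S :=
      { carrier := {y | k.act (normalConj hQ y) = k}
        one_mem' := by show k.act _ = k; rw [map_one, Cos.act_one]
        mul_mem' := fun {x y} hx hy => by
          show k.act _ = k
          rw [map_mul, ← Cos.act_mul, show k.act (normalConj hQ x) = k from hx]
          exact hy
        inv_mem' := fun {x} hx => by
          show k.act _ = k
          have h : k.act (normalConj hQ x) = k := hx
          rw [map_inv]
          conv_lhs => rw [← h]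
          rw [Cos.act_mul, mul_inv_cancel, Cos.act_one] }
    obtain ⟨f, hf, hfe⟩ := hL.mor k X fun y hy => hy
    obtain ⟨φ, hφ, hφe⟩ := id hf
    have hφS := (F.le_of_mem hφ).2
    obtain ⟨g, hg⟩ := (hreal _ hf.le φ hφS).1 hφ
    have hgx : ∀ x ∈ X, ι₁ (L k x) * g = g * ι₁ x := fun x hx => by
      have h := hg ⟨(x : Ω), ⟨x, hx, rfl⟩⟩
      have e : L k x = (⟨φ ⟨(x : Ω), ⟨x, hx, rfl⟩⟩, hφS _⟩ : S) :=
        Subtype.ext (((hφe _).trans (hfe ⟨x, hx⟩)).symm)
      rw [e, h, inv_mul_cancel_right]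
    refine ⟨g, aFn_ext fun q hq => ?_, hgx⟩
    have hqX : (⟨q, hQ.1 hq⟩ : S) ∈ X := Cos.act_normalConj_mem k hq
    rw [← hL.on_Q k q hq]
    exact (congrArg Subtype.val (hinj (mul_right_cancel ((hgx _ hqX).trans (hpj g q hq))))).symm
  obtain ⟨γ, hγ⟩ := exists_propagate (fun (k : Cos hQ) (x : S) => k.act (normalConj hQ x))
    (fun k => by rw [map_one, Cos.act_one]) (fun k x y => by rw [Cos.act_mul, ← map_mul])
    (Λ := fun k x => ι₁ (L k x)) (M := fun _ x => ι₁ x)
    (fun k x y => by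
      beta_reduce
      rw [← map_mul]
      exact congrArg ι₁ (hL.cocycle k x y))
    (fun k x y => map_mul ι₁ x y) (fun k d => pj d = k.out)
    (fun k x d hd => by
      rw [map_mul, map_mul, map_inv, hd, hpjι, hpjι, hL.proj, Cos.pr]
      group)
    hseed
  have hlift : ∀ (g : G₁) (k : Cos hQ),
      ∃ s, normalConj hQ s = k.pr (pj g) ∧ ι₁ s = γ k * g * (γ (k.act (pj g)))⁻¹ := by
    intro g k
    obtain ⟨s, hs⟩ := Cos.pr_mem k (pj g)
    obtain ⟨z, hz, hze⟩ := hker ((ι₁ s)⁻¹ * (γ k * g * (γ (k.act (pj g)))⁻¹)) (by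
      rw [map_mul, map_mul, map_mul, map_inv, map_inv, hpjι, hs, (hγ _).1, (hγ _).1, Cos.pr]
      group)
    exact ⟨s * z, by rw [map_mul, hs, hz, mul_one], by rw [map_mul, ← hze, mul_inv_cancel_left]⟩
  choose θ hθ hθe using hlift
  have hθmul : ∀ g g' k, θ (g * g') k = θ g k * θ g' (k.act (pj g)) := fun g g' k => hinj <| by
    rw [map_mul, hθe, hθe, hθe, map_mul pj, Cos.act_mul]
    group
  let Θ : G₁ →* ModelGroup hQ hc := (QuotientGroup.mk' (modelKer hQ hc)).comp <|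
    MonoidHom.mk' (fun g => ⟨⟨θ g, pj g⟩, hθ g⟩) fun g g' =>
      Subtype.ext <| SemidirectProduct.ext (funext fun k => hθmul g g' k) (map_mul pj g g')
  have hΘι : ∀ x, Θ (ι₁ x) = modelEmb hc hL x := fun x => by
    refine congrArg (QuotientGroup.mk' _) (Subtype.ext (SemidirectProduct.ext (funext fun k => hinj ?_) (hpjι x)))
    show ι₁ (θ (ι₁ x) k) = ι₁ (L k x)
    rw [hθe, hpjι, mul_inv_eq_iff_eq_mul]
    exact ((hγ k).2 x).symm
  have hproj : ∀ g, modelProj hQ hc (Θ g) = pj g := fun g => rfl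
  have hΘinj : Function.Injective Θ := by
    refine (injective_iff_map_eq_one _).2 fun g hg => ?_
    obtain ⟨z, -, rfl⟩ := hker g (by rw [← hproj, hg, map_one])
    rw [hΘι] at hg
    rw [(injective_iff_map_eq_one _).1 (modelEmb_injective hS hF hc hL) z hg, map_one]
  have hsurj : Function.Surjective Θ := by
    intro y
    obtain ⟨φ, hφ⟩ : ∃ g, pj g = modelProj hQ hc y := by
      let a := modelProj hQ hc y
      have hfn : Fn F Q (aFn a) := fn_aFn hQ.1 a
      obtain ⟨φ, hφ, hφe⟩ := id hfn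
      obtain ⟨g, hg⟩ := (hreal _ hQ.1 φ (F.le_of_mem hφ).2).1 hφ
      refine ⟨g, aFn_ext fun q hq => ?_⟩
      have h := hg ⟨q, hq⟩
      rw [eq_mul_inv_iff_mul_eq] at h
      exact ((congrArg Subtype.val (hinj (mul_right_cancel (h.trans (hpj g q hq))))).symm).trans (hφe ⟨q, hq⟩)
    obtain ⟨z, -, hz⟩ := modelProj_ker hS hF hc hL (g := (Θ φ)⁻¹ * y)
      (by rw [map_mul, map_inv, hproj, hφ, inv_mul_cancel])
    exact ⟨φ * ι₁ z, by rw [map_mul, hΘι, ← hz, mul_inv_cancel_left]⟩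
  exact ⟨MulEquiv.ofBijective Θ ⟨hΘinj, hsurj⟩, hΘι⟩

end Unique

/-- Existence of models. -/
theorem exists_model {p : ℕ} [Fact p.Prime] (hS : IsPGroup p S) (hF : F.IsConstrained p) :
    ∃ (G : Type u) (_ : Group G) (ι : S →* G), F.IsModel p G ι := by
  obtain ⟨hsat, Q, hQ, hc⟩ := hF
  obtain ⟨L, hL⟩ := exists_lifting hS hsat hQ
  exact ⟨ModelGroup hQ hc, inferInstance, modelEmb hc hL, model_isModel hS hsat hc hL⟩

/-- Uniqueness of models. -/
theorem model_unique {p : ℕ} [Fact p.Prime] (hS : IsPGroup p S) (hF : F.IsConstrained p) {G₁ G₂ : Type*}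
    [Group G₁] [Group G₂] {ι₁ : S →* G₁} {ι₂ : S →* G₂} (h₁ : F.IsModel p G₁ ι₁) (h₂ : F.IsModel p G₂ ι₂) :
    ∃ φ : G₁ ≃* G₂, ∀ x : S, φ (ι₁ x) = ι₂ x := by
  obtain ⟨hsat, Q, hQ, hc⟩ := hF
  obtain ⟨L, hL⟩ := exists_lifting hS hsat hQ
  obtain ⟨e₁, he₁⟩ := model_iso_std hc h₁ hS hsat hL
  obtain ⟨e₂, he₂⟩ := model_iso_std hc h₂ hS hsat hL
  refine ⟨e₁.trans e₂.symm, fun x => ?_⟩
  rw [MulEquiv.trans_apply, he₁, ← he₂, MulEquiv.symm_apply_apply]

end CfsgLib.Fsys
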