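import Cfsg.Agent.Lib.FusionSystem.TateFusion
import Cfsg.Agent.Lib.FusionSystem.BisetTransfer
import Cfsg.Agent.Lib.FusionSystem.Inner

/-! The focal part of Tate's theorem for fusion systems. -/

set_option autoImplicit false

open Cfsg Cfsg.FusionSystem
open scoped commutatorElement

namespace CfsgLib.Fsys

open CfsgLib.Fsys.CharBiset

universe u

variable {Ω : Type u} [Group Ω] {S : Subgroup Ω} {F H : FusionSystem S}

theorem focalSubgroup_le : F.focalSubgroup ≤ S := (Subgroup.closure_le _).2 fun _ ⟨_, _, x, hφ, e⟩ =>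
  e ▸ S.mul_mem (S.inv_mem ((F.le_of_mem hφ).1 x.2)) ((F.le_of_mem hφ).2 x)

theorem focal_mono (hHF : H.IsSubsystemOf F) : H.focalSubgroup ≤ F.focalSubgroup :=
  Subgroup.closure_mono fun _ ⟨P, φ, x, hφ, e⟩ => ⟨P, φ, x, hHF P hφ, e⟩

variable [Finite S] {p : ℕ} [Fact p.Prime]

theorem commutator_le_focal : ⁅S, S⁆ ≤ F.focalSubgroup := by
  rw [Subgroup.commutator_le]
  intro a ha b hb
  refine Subgroup.subset_closure ⟨S, Cfsg.conjHom S b, ⟨a⁻¹, S.inv_mem ha⟩, F.conj_mem le_rfl hb, ?_⟩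
  show _ = (a⁻¹)⁻¹ * (b * a⁻¹ * b⁻¹)
  simp [commutatorElement_def, mul_assoc]

/-- The focal part of Tate's theorem. -/
theorem focal_eq_of_frattini_sup (hS : IsPGroup p S) (hF : F.IsSaturated p) (hHF : H.IsSubsystemOf F)
    (h : F.focalSubgroup ≤ (frattini S).map S.subtype ⊔ H.focalSubgroup) :
    F.focalSubgroup = H.focalSubgroup := by
  classical
  refine le_antisymm ?_ (focal_mono hHF)
  let N : Subgroup S := H.focalSubgroup.subgroupOf S
  have hcN : commutator S ≤ N := fun x hx => by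
    have : (x : Ω) ∈ ⁅S, S⁆ := by
      rw [← Subgroup.map_subtype_commutator S]
      exact ⟨x, hx, rfl⟩
    exact commutator_le_focal (F := H) this
  have hN : N.Normal := ⟨fun x hx g => by
    have h1 := N.mul_mem (hcN (Subgroup.commutator_mem_commutator (Subgroup.mem_top g) (Subgroup.mem_top x))) hx
    simpa [commutatorElement_def] using h1⟩
  let lam : S →* S ⧸ N := QuotientGroup.mk' N
  let _ : CommGroup (S ⧸ N) :=
    { (inferInstance : Group (S ⧸ N)) with
      mul_comm := fun u v => by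
        obtain ⟨a, rfl⟩ := QuotientGroup.mk'_surjective N u
        obtain ⟨b, rfl⟩ := QuotientGroup.mk'_surjective N v
        rw [← map_mul, ← map_mul]
        refine QuotientGroup.eq.2 ?_
        have h1 := hcN (Subgroup.commutator_mem_commutator (Subgroup.mem_top b⁻¹) (Subgroup.mem_top a⁻¹))
        simpa [commutatorElement_def, mul_assoc] using h1 }
  obtain ⟨m, tr, hm, hst, -, hmod⟩ := exists_transfer hS hF lam
  have hker : F.focalSubgroup ≤ tr.ker.map S.subtype := by
    refine (Subgroup.closure_le _).2 ?_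
    rintro _ ⟨P, φ, y, hφ, rfl⟩
    have hf := fn_ofHom hφ
    refine ⟨(⟨(y : Ω), hf.le y.2⟩ : S)⁻¹ * ⟨_, hf.mem y.2⟩, ?_, ?_⟩
    · show tr _ = 1
      rw [map_mul, map_inv, hst P _ hf ⟨(y : Ω), hf.le y.2⟩ y.2, inv_mul_cancel]
    · show (y : Ω)⁻¹ * ofHom φ y = _
      rw [ofHom_coe]
  have hkill : N ≤ tr.ker := fun x hx => by
    obtain ⟨v, hv, hvx⟩ := hker (focal_mono hHF hx)
    rwa [← show v = x from Subtype.ext hvx]
  -- the induced endomorphism is the `m`-th power modulo Frattini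
  let ψ : S ⧸ N →* S ⧸ N := QuotientGroup.lift N tr hkill
  let B : Subgroup (S ⧸ N) := (frattini S).map lam
  have hB : B ≤ frattini (S ⧸ N) :=
    Subgroup.map_le_iff_le_comap.2 (frattini_le_comap_frattini_of_surjective (QuotientGroup.mk'_surjective N))
  have hfocB : ∀ x : S, (x : Ω) ∈ F.focalSubgroup → lam x ∈ B := by
    intro x hx
    have hx' := h hx
    have hnorm : S ≤ Subgroup.normalizer (((frattini S).map S.subtype : Subgroup Ω) : Set Ω) := by
      intro s hs
      refine Subgroup.mem_normalizer_iff.2 fun z => ⟨?_, ?_⟩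
      · rintro ⟨w, hw, rfl⟩
        exact ⟨_, Subgroup.Normal.conj_mem inferInstance w hw ⟨s, hs⟩, rfl⟩
      · rintro ⟨w, hw, e⟩
        refine ⟨_, Subgroup.Normal.conj_mem inferInstance w hw ⟨s, hs⟩⁻¹, ?_⟩
        show s⁻¹ * (w : Ω) * s⁻¹⁻¹ = z
        rw [show (w : Ω) = s * z * s⁻¹ from e]
        group
    rw [← SetLike.mem_coe, Subgroup.coe_mul_of_right_le_normalizer_left ((frattini S).map S.subtype)
      H.focalSubgroup (focalSubgroup_le.trans hnorm)] at hx'
    obtain ⟨_, ⟨u, hu, rfl⟩, v, hv, e⟩ := hx'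
    refine ⟨u, hu, ?_⟩
    rw [show x = u * ⟨v, focalSubgroup_le hv⟩ from Subtype.ext e.symm, map_mul]
    rw [show lam ⟨v, focalSubgroup_le hv⟩ = 1 from (QuotientGroup.eq_one_iff _).2 hv, mul_one]
  have hψ : ∀ a : S ⧸ N, (a ^ m)⁻¹ * ψ a ∈ B := by
    intro a
    obtain ⟨s, rfl⟩ := QuotientGroup.mk'_surjective N a
    refine hmod B s fun Q f t hf ht k hk => ?_
    rw [← map_inv, ← map_mul]
    refine hfocB _ ?_
    obtain ⟨φ, hφ, hφf⟩ := hf
    exact Subgroup.subset_closure ⟨Q, φ, ⟨t, ht⟩, hφ, by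
      show (t : Ω)⁻¹ * ((s ^ k : S) : Ω) = _
      rw [hk, hφf]⟩
  have hsur : Function.Surjective ψ := by
    rw [← MonoidHom.range_eq_top]
    refine frattini_nongenerating (eq_top_iff.2 fun a _ => ?_)
    obtain ⟨j, hj⟩ := (hS.to_quotient N) a
    have hcop : Nat.Coprime m (orderOf a) :=
      ((((Fact.out : p.Prime).coprime_iff_not_dvd).2 hm).symm.pow_right j).coprime_dvd_right
        (orderOf_dvd_of_pow_eq_one hj)
    obtain ⟨n, hn⟩ := exists_pow_eq_self_of_coprime hcop
    rw [← hn]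
    refine Subgroup.pow_mem _ ?_ n
    rw [show a ^ m = ψ a * ((a ^ m)⁻¹ * ψ a)⁻¹ by group]
    exact Subgroup.mul_mem _ (Subgroup.mem_sup_left ⟨a, rfl⟩)
      (Subgroup.mem_sup_right (hB (B.inv_mem (hψ a))))
  intro x hx
  obtain ⟨v, hv, rfl⟩ := hker hx
  have h1 : ψ (lam v) = ψ 1 := hv.trans (map_one ψ).symm
  exact (QuotientGroup.eq_one_iff v).1 ((Finite.injective_iff_surjective.2 hsur) h1)

/-- A system whose top automizer is inner and whose focal subgroup is in the Frattini subgroup is inner. -/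
theorem inner_of_focal_le_frattini (hS : IsPGroup p S) (hF : F.IsSaturated p)
    (h : F.focalSubgroup ≤ (frattini S).map S.subtype) : F = innerFusionSystem S := by
  have hsub : (innerFusionSystem S).IsSubsystemOf F := inner_subsystem le_rfl
  have hIS : (innerFusionSystem S).IsSaturated p := inner_saturated hS
  have h1 := focal_eq_of_frattini_sup hS hF hsub (h.trans le_sup_left)
  have h2 := hyperfocal_eq_of_focal_eq hS hF hIS hsub h1
  refine Cfsg.Agent.S5083.result p hS F hF fun P hP => ?_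
  have := finite_of_le_base hP
  refine isPGroup_of_forall_coprime fun a ha => Subtype.ext (MulEquiv.ext fun x => Subtype.ext ?_)
  have hbot : (innerFusionSystem S).hyperfocalSubgroup p ≤ ⊥ := hyperfocal_le_of_coprime fun Q hQ α hα hc y => by
    have := finite_of_le_base hQ
    have hα' : ∃ g ∈ S, ∀ z : Q, ((α z : Q) : Ω) = g * (z : Ω) * g⁻¹ := ((mem_autGroup hQ).1 hα).2
    obtain ⟨g, hg, hgα⟩ := hα'
    have hin : α ∈ autInducedBy S Q := mem_autInducedBy.2 ⟨g, hg, hgα⟩
    obtain ⟨j, hj⟩ := isPGroup_autInducedBy hS ⟨α, hin⟩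
    have hα1 : α = 1 := orderOf_eq_one_iff.1 (Nat.eq_one_of_dvd_coprimes (hc.pow_right j) dvd_rfl
      (orderOf_dvd_of_pow_eq_one (congrArg Subtype.val hj)))
    simp [hα1]
  have hy : (x : Ω)⁻¹ * (((a : MulAut P) x : P) : Ω) ∈ F.hyperfocalSubgroup p :=
    Subgroup.subset_closure ⟨P, a, x, hP, Subgroup.subset_closure ha, rfl⟩
  rw [h2] at hy
  exact (inv_mul_eq_one.1 (Subgroup.mem_bot.1 (hbot hy))).symm

end CfsgLib.Fsys
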