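import Cfsg.Agent.Lib.FusionSystem.ControlW
import Cfsg.Agent.Lib.FusionSystem.BisetTransfer
import Cfsg.Agent.Lib.FusionSystem.Models
import Cfsg.Agent.Lib.FusionSystem.ModelTheorem
import Mathlib.GroupTheory.Focal
import Cfsg.Agent.Lib.FusionSystem.TateFocal

/-! A positive characteristic functor with the local property controls transfer in saturated systems. -/

set_option autoImplicit false

namespace CfsgLib.Fsys

open Cfsg
open Cfsg.FusionSystem (centralizerIn normalizerIn imageAlong preimageAlong)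
open scoped commutatorElement

universe u

variable {Ω : Type u} [Group Ω] {S : Subgroup Ω} {F : FusionSystem S} {P V : Subgroup Ω}

/-- The displacements of the maps normalising `V`. -/
def moves (F : FusionSystem S) (V : Subgroup Ω) : Subgroup Ω :=
  Subgroup.closure {y : Ω | ∃ (M : Subgroup Ω) (f : Ω → Ω) (x : Ω), Fn F M f ∧ V ≤ M ∧
    M ≤ normalizerIn S V ∧ img f V = V ∧ x ∈ M ∧ y = x⁻¹ * f x}

theorem move_mem {M : Subgroup Ω} {f : Ω → Ω} (hf : Fn F M f) (hV : V ≤ M) (hM : M ≤ normalizerIn S V)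
    (hi : img f V = V) {x : Ω} (hx : x ∈ M) : x⁻¹ * f x ∈ moves F V :=
  Subgroup.subset_closure ⟨M, f, x, hf, hV, hM, hi, hx, rfl⟩

theorem moves_le : moves F V ≤ S := (Subgroup.closure_le _).2 (by
  rintro _ ⟨M, f, x, hf, -, -, -, hx, rfl⟩
  exact S.mul_mem (S.inv_mem (hf.le hx)) (hf.mem hx))

theorem moves_le_focal : moves F V ≤ F.focalSubgroup := (Subgroup.closure_le _).2 (by
  rintro _ ⟨M, f, x, hf, -, -, -, hx, rfl⟩
  obtain ⟨φ, hφ, hφf⟩ := hf
  exact Subgroup.subset_closure ⟨M, φ, ⟨x, hx⟩, hφ, by rw [hφf]⟩)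

theorem card_lt_base {A B : Subgroup Ω} [Finite S] (hB : B ≤ S) (h : A < B) : Nat.card A < Nat.card B := by
  have := finite_of_le_base hB
  simpa only [SetLike.coe_sort_coe] using Set.Finite.card_lt_card (Set.toFinite (B : Set Ω)) h

theorem commutator_le_moves (hV : V ≤ S) (hn : S ≤ Subgroup.normalizer (V : Set Ω)) :
    ⁅S, S⁆ ≤ moves F V := by
  rw [Subgroup.commutator_le]
  intro a ha b hb
  have hi : img (fun x => b * x * b⁻¹) V = V := by
    rw [fn_conj_img (S := S) hV hb]
    refine le_antisymm ?_ fun x hx => ⟨b⁻¹ * x * b, ?_, ?_⟩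
    · rintro _ ⟨x, hx, rfl⟩
      exact (Subgroup.mem_normalizer_iff.1 (hn hb) x).1 hx
    · simpa using (Subgroup.mem_normalizer_iff.1 (hn (S.inv_mem hb)) x).1 hx
    · show b * (b⁻¹ * x * b) * b⁻¹ = x
      group
  have h := move_mem (F := F) (fn_conj le_rfl hb) hV (le_inf le_rfl hn) hi (S.inv_mem ha)
  convert h using 1
  simp [commutatorElement_def, mul_assoc]

section Functor

variable {p : ℕ} [Fact p.Prime] {W : ∀ (Q : Type u) [Group Q], Subgroup Q}

/-- Elements normalising `A` normalise `W(A)`. -/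
theorem wOf_conj
    (hW2 : ∀ (Q R : Type u) [Group Q] [Group R] [Finite Q], IsPGroup p Q → ∀ φ : Q ≃* R, (W Q).map φ.toMonoidHom = W R)
    [Finite S] (hS : IsPGroup p S) {A : Subgroup Ω} (hA : A ≤ S) {f : Ω → Ω} (hf : Fn F A f)
    (hi : img f A = A) : img f (wOf W A) = wOf W A := by
  rw [map_wOf hW2 hS hf, hi]

theorem normalizerIn_le_wOf
    (hW2 : ∀ (Q R : Type u) [Group Q] [Group R] [Finite Q], IsPGroup p Q → ∀ φ : Q ≃* R, (W Q).map φ.toMonoidHom = W R)
    [Finite S] (hS : IsPGroup p S) {A : Subgroup Ω} (hA : A ≤ S) :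
    normalizerIn S A ≤ normalizerIn S (wOf W A) := by
  intro s hs
  refine ⟨hs.1, ?_⟩
  haveI := finite_of_le_base hA
  haveI := finite_of_le_base ((wOf_le (W := W) A).trans hA)
  have hi : img (fun x => s * x * s⁻¹) A = A :=
    (fn_conj (F := innerFusionSystem S) hA hs.1).img_eq_self
      fun x hx => (Subgroup.mem_normalizer_iff.1 hs.2 x).1 hx
  have h := map_wOf (W := W) hW2 hS (fn_conj (F := innerFusionSystem S) hA hs.1)
  rw [hi] at h
  exact mem_normalizer_of_map_le fun x hx => h.le (mem_img_of_mem hx)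

/-- A positive functor with the local property controls transfer. -/
theorem focal_le_moves (hW1 : ∀ (Q : Type u) [Group Q] [Finite Q], IsPGroup p Q → Nontrivial Q → W Q ≠ ⊥)
    (hW2 : ∀ (Q R : Type u) [Group Q] [Group R] [Finite Q], IsPGroup p Q → ∀ φ : Q ≃* R, (W Q).map φ.toMonoidHom = W R)
    (hT : ∀ (G : Type u) [Group G] [Finite G] (P : Sylow p G),
      Subgroup.centralizer ((pCore p G : Subgroup G) : Set G) ≤ pCore p G →
      pCore p G ⊓ commutator G = pCore p G ⊓ (commutator ↥(Subgroup.normalizer ((wOf W (P : Subgroup G) : Subgroup G) : Set G))).map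
        (Subgroup.normalizer ((wOf W (P : Subgroup G) : Subgroup G) : Set G)).subtype)
    [Finite S] (hS : IsPGroup p S) (hF : F.IsSaturated p) : F.focalSubgroup ≤ moves F (wOf W S) := by
  suffices key : ∀ n : ℕ, ∀ {Ω : Type u} [Group Ω] (S : Subgroup Ω) [Finite S], Nat.card S = n → IsPGroup p S →
      ∀ m : ℕ, ∀ (F : FusionSystem S), (homSet F).ncard = m → F.IsSaturated p →
        F.focalSubgroup ≤ moves F (wOf W S) from key _ S rfl hS _ F rfl hF
  clear hS hF
  intro n
  induction n using Nat.strong_induction_on with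
  | _ n ihn =>
  intro Ω _ S _ hn hS m
  induction m using Nat.strong_induction_on with
  | _ m ihm =>
  intro F hm hF
  classical
  set WS := wOf W S with hWSdef
  set M₀ := moves F WS with hM₀
  have hWS : WS ≤ S := wOf_le S
  have hSWS : S ≤ normalizerIn S WS := fun s hs =>
    normalizerIn_le_wOf hW2 hS le_rfl ⟨hs, Subgroup.le_normalizer hs⟩
  have hSn : S ≤ Subgroup.normalizer (WS : Set Ω) := fun s hs => (hSWS hs).2
  have hfix : ∀ {f : Ω → Ω}, Fn F S f → img f WS = WS := fun {f} hf =>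
    wOf_conj hW2 hS le_rfl hf (hf.img_eq_self fun x hx => hf.mem hx)
  have hSmove : ∀ {f : Ω → Ω}, Fn F S f → ∀ x ∈ S, x⁻¹ * f x ∈ M₀ := fun {f} hf x hx =>
    move_mem hf hWS hSWS (hfix hf) hx
  -- proper subsystems over `S`
  have ihF : ∀ E : FusionSystem S, E ≤ F → ¬ F ≤ E → E.IsSaturated p → E.focalSubgroup ≤ M₀ := by
    intro E hle hne hsat
    refine (ihm _ (hm ▸ homSet_lt hle hne) E rfl hsat).trans (Subgroup.closure_mono ?_)
    rintro y ⟨M, f, x, hf, h⟩
    exact ⟨M, f, x, fn_of_le hle hf, h⟩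
  -- normalizer systems over `S`
  have hnormS : ∀ U : Subgroup Ω, F.IsFullyNormalized U → normalizerIn S U = S → ¬ F.IsNormal U →
      moves F U ≤ M₀ := by
    intro U hU he hne
    obtain ⟨N, hN⟩ := exists_normalizerSystem F hU.1
    obtain ⟨E, hE⟩ := exists_cast he N
    have hfn : ∀ {P : Subgroup Ω} {f : Ω → Ω}, Fn E P f ↔ Fn N P f := fun {P f} => by rw [Fn, Fn, hE]
    have hsat : E.IsSaturated p :=
      system_cast (C := fun _ E => E.IsSaturated p) he hE (normalizerSystem_saturated hS hF hU hN)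
    refine le_trans ?_ (ihF E (fun P φ hφ => normalizerSystem_sub hN P (hE P ▸ hφ)) ?_ hsat)
    · refine (Subgroup.closure_le _).2 ?_
      rintro _ ⟨M, f, x, hf, hVM, hMN, hi, hx, rfl⟩
      obtain ⟨φ, hφ, hφf⟩ : Fn E M f := hfn.2 ((fn_normalizerSystem hN).2 ⟨hMN,
        fun y hy => he.ge (hf.mem hy), f, by rwa [sup_eq_left.2 hVM], fun y _ => rfl, hi⟩)
      exact Subgroup.subset_closure ⟨M, φ, ⟨x, hx⟩, hφ, by rw [hφf]⟩
    · intro hle
      have hn' : E.IsNormal U :=
        system_cast (C := fun _ E => E.IsNormal U) he hE (normalizerSystem_normal hN hU.1)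
      exact hne (by rwa [system_ext (E := F) (E' := E) fun P => (hle P).antisymm
        (fun φ hφ => normalizerSystem_sub hN P (hE P ▸ hφ))])
  set Q := F.core with hQdef
  have hQ : F.IsNormal Q := core_normal
  have hsc := normal_stronglyClosed hQ
  by_cases hQ1 : Q = ⊥
  · -- no normal subgroup
    have claim : ∀ U : Subgroup Ω, F.IsFullyNormalized U → U ≠ ⊥ → moves F U ≤ M₀ := by
      suffices h : ∀ k, ∀ U : Subgroup Ω, Nat.card S - Nat.card (normalizerIn S U) = k →
          F.IsFullyNormalized U → U ≠ ⊥ → moves F U ≤ M₀ from fun U => h _ U rfl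
      intro k
      induction k using Nat.strong_induction_on with
      | _ k ihk =>
      intro U hk hU hU1
      have hUn : ¬ F.IsNormal U := fun h => hU1 (le_bot_iff.1 ((le_core h).trans hQ1.le))
      by_cases he : normalizerIn S U = S
      · exact hnormS U hU he hUn
      have hPS : normalizerIn S U < S := lt_of_le_of_ne normalizerIn_le he
      set P := normalizerIn S U with hPdef
      haveI : Finite P := finite_of_le_base normalizerIn_le
      have hUP : U ≤ P := le_normalizerIn hU.1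
      obtain ⟨N, hN⟩ := exists_normalizerSystem F hU.1
      have hsat := normalizerSystem_saturated hS hF hU hN
      have hcardP : Nat.card P < n := hn ▸ card_lt_base le_rfl hPS
      have hfocN := ihn _ hcardP P rfl (hS.to_le normalizerIn_le) _ N rfl hsat
      have hVP : wOf W P ≤ P := wOf_le _
      set V := wOf W P with hV
      have hP1 : P ≠ ⊥ := fun h => hU1 (le_bot_iff.1 (hUP.trans h.le))
      have hV1 : V ≠ ⊥ := wOf_ne_bot hW1 (hS.to_le normalizerIn_le) hP1
      have hNPV : normalizerIn S P ≤ normalizerIn S V := normalizerIn_le_wOf hW2 hS normalizerIn_le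
      have hPlt : P < normalizerIn S V := lt_of_lt_of_le (lt_normalizerIn hS hPS) hNPV
      obtain ⟨V', hVV', hV'n⟩ := exists_fullyNormalized (F := F) (hVP.trans normalizerIn_le)
      obtain ⟨hA', -⟩ := fullyNormalized_good hS hF hV'n
      obtain ⟨ψ, hψ, hψn, hψi⟩ := exists_normalizer_map hS hA' (fullyNormalized_receptive hS hF hV'n) hVV'
      have hPcard : Nat.card P < Nat.card (normalizerIn S V) :=
        card_lt_base normalizerIn_le hPlt
      -- maps on larger subgroups
      have hbig : ∀ {D : Subgroup Ω} {g : Ω → Ω}, Fn F D g → Nat.card P < Nat.card D →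
          ∀ x ∈ D, x⁻¹ * g x ∈ M₀ := by
        let C : Subgroup Ω → (Ω → Ω) → Prop := fun D g => Nat.card P < Nat.card D → ∀ x ∈ D, x⁻¹ * g x ∈ M₀
        have hSmem : ∀ s ∈ S, ∀ x ∈ S, x⁻¹ * (s * x * s⁻¹) ∈ M₀ := fun s hs x hx =>
          hSmove (fn_conj le_rfl hs) x hx
        let E := predSystem F C (fun D f g he _ h hc x hx => he x hx ▸ h hc x hx)
          (fun D hD s hs _ x hx => hSmem s hs x (hD hx))
          (fun D R f g hf hg hm h h' hc x hx => by
            have hR : Nat.card P < Nat.card R := by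
              refine lt_of_lt_of_le hc ?_
              rw [← hf.card_img]
              have := finite_of_le_base hg.le
              exact Subgroup.card_le_of_le (img_le hm)
            simpa [mul_assoc] using M₀.mul_mem (h hc x hx) (h' hR _ (hm x hx)))
          (fun D f g hf _ he h hc y hy => by
            obtain ⟨x, hx, rfl⟩ := hf.mem_img.1 hy
            rw [hf.card_img] at hc
            rw [he x hx]
            simpa using M₀.inv_mem (h hc x hx))
        have hgen : ∀ R : Subgroup Ω, R = S ∨ F.IsFullyNormalized R → F.autGroup R ≤ E.autGroup R := by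
          intro R hR α hα
          have hRS : R ≤ S := hR.elim (fun e => e.le) fun h => h.1
          refine (mem_autGroup_iff_fn hRS).2 (fn_predSystem.2 ⟨(mem_autGroup_iff_fn hRS).1 hα, ?_⟩)
          intro hc x hx
          rcases hR with rfl | hR
          · exact hSmove ((mem_autGroup_iff_fn le_rfl).1 hα) x hx
          · have hlt : Nat.card S - Nat.card (normalizerIn S R) < k := by
              have h1 : Nat.card P < Nat.card (normalizerIn S R) := by
                have := finite_of_le_base (normalizerIn_le (S := S) (P := R))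
                exact lt_of_lt_of_le hc (Subgroup.card_le_of_le (le_normalizerIn hRS))
              have h2 : Nat.card P < Nat.card S := card_lt_base le_rfl hPS
              rw [← hk]
              exact Nat.sub_lt_sub_left h2 h1
            refine ihk _ hlt R rfl hR (fun h => ?_)
              (move_mem ((mem_autGroup_iff_fn hRS).1 hα) le_rfl (le_normalizerIn hRS) (img_autFn α) hx)
            rw [h, Subgroup.card_bot] at hc
            have := Nat.card_pos (α := P)
            omega
        intro D g hg hc x hx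
        have hle : F ≤ E := alperin hS hF E (hgen S (Or.inl rfl)) fun R _ hR => hgen R (Or.inr hR.2.1)
        obtain ⟨φ, hφ, hφg⟩ := hg
        have h := (hle D hφ).2 hc x hx
        rwa [ofHom_apply φ hx, hφg] at h
      have hV'1 : V' ≠ ⊥ := fun h => by
        haveI := finite_of_le_base (hVP.trans normalizerIn_le)
        have hc := isConj_card hVV'
        rw [h, Subgroup.card_bot] at hc
        exact hV1 (Subgroup.eq_bot_of_card_eq _ hc.symm)
      have hV'moves : moves F V' ≤ M₀ := by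
        have h1 : Nat.card (normalizerIn S V) ≤ Nat.card (normalizerIn S V') := by
          rw [← hψ.card_img]
          have := finite_of_le_base (normalizerIn_le (S := S) (P := V'))
          exact Subgroup.card_le_of_le (img_le hψn)
        have h2 : Nat.card P < Nat.card S := card_lt_base le_rfl hPS
        exact ihk _ (hk ▸ Nat.sub_lt_sub_left h2 (lt_of_lt_of_le hPcard h1)) V' rfl hV'n hV'1
      refine le_trans ?_ (le_trans hfocN ?_)
      · refine (Subgroup.closure_le _).2 ?_
        rintro _ ⟨M, f, x, hf, hUM, hMN, hi, hx, rfl⟩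
        have hm : ∀ y ∈ M, f y ∈ P := fun y hy => by
          haveI := finite_of_le_base hU.1
          refine ⟨hf.mem hy, mem_normalizer_of_map_le fun z hz => ?_⟩
          obtain ⟨w, hw, rfl⟩ := (hf.mono hUM).mem_img.1 (hi.ge hz)
          rw [← hf.map_conj hy (hUM hw)]
          exact hi.le (mem_img_of_mem ((Subgroup.mem_normalizer_iff.1 (hMN hy).2 w).1 hw))
        obtain ⟨φ, hφ, hφf⟩ : Fn N M f := (fn_normalizerSystem hN).2 ⟨hMN, hm, f,
          by rwa [sup_eq_left.2 hUM], fun y _ => rfl, hi⟩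
        exact Subgroup.subset_closure ⟨M, φ, ⟨x, hx⟩, hφ, by rw [hφf]⟩
      · refine (Subgroup.closure_le _).2 ?_
        rintro _ ⟨M, f, x, hf, hVM, hMN, hi, hx, rfl⟩
        have hfF : Fn F M f := Fn.of_subsystem (normalizerSystem_sub hN) hf
        have hMP : M ≤ P := hMN.trans normalizerIn_le
        have hMV : M ≤ normalizerIn S V := hMP.trans hPlt.le
        have hfm : ∀ y ∈ M, f y ∈ normalizerIn S V := fun y hy => hPlt.le (hf.mem hy)
        obtain ⟨ψ', hψ', hψ'ψ, -⟩ := hψ.exists_inv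
        have hsub : img ψ M ≤ img ψ (normalizerIn S V) := img_mono hMV
        have hf' : Fn F (img ψ M) (ψ ∘ f ∘ ψ') := by
          refine ((hψ'.mono hsub).comp hfF fun y hy => ?_).comp hψ fun y hy => ?_
          · obtain ⟨z, hz, rfl⟩ := (hψ.mono hMV).mem_img.1 hy
            rw [hψ'ψ z (hMV hz)]
            exact hz
          · obtain ⟨z, hz, rfl⟩ := (hψ.mono hMV).mem_img.1 hy
            show f (ψ' (ψ z)) ∈ _
            rw [hψ'ψ z (hMV hz)]
            exact hfm z hz
        have hV'M : V' ≤ img ψ M := hψi ▸ img_mono hVM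
        have hi' : img (ψ ∘ f ∘ ψ') V' = V' := by
          have := finite_of_le_base hV'n.1
          refine (hf'.mono hV'M).img_eq_self fun y hy => ?_
          rw [← hψi] at hy ⊢
          obtain ⟨z, hz, rfl⟩ := (hψ.mono (hVM.trans hMV)).mem_img.1 hy
          show ψ (f (ψ' (ψ z))) ∈ _
          rw [hψ'ψ z (hMV (hVM hz))]
          exact mem_img_of_mem (hi.le (mem_img_of_mem hz))
        have hMN' : img ψ M ≤ normalizerIn S V' := img_le fun y hy => hψn y (hMV hy)
        have hxψ : ψ x ∈ img ψ M := mem_img_of_mem hx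
        have h1 := hbig hψ hPcard x (hMV hx)
        have h2 := hV'moves (move_mem hf' hV'M hMN' hi' hxψ)
        have h3 := hbig hψ hPcard (f x) (hfm x hx)
        rw [show (ψ ∘ f ∘ ψ') (ψ x) = ψ (f x) by simp [hψ'ψ x (hMV hx)]] at h2
        have h4 := M₀.mul_mem (M₀.mul_mem h1 h2) (M₀.inv_mem h3)
        simpa [mul_assoc] using h4
    -- Alperin
    let C : Subgroup Ω → (Ω → Ω) → Prop := fun D g => ∀ x ∈ D, x⁻¹ * g x ∈ M₀
    let E := predSystem F C (fun D f g he _ h x hx => he x hx ▸ h x hx)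
      (fun D hD s hs x hx => hSmove (fn_conj le_rfl hs) x (hD hx))
      (fun D R f g _ _ hm h h' x hx => by
        simpa [mul_assoc] using M₀.mul_mem (h x hx) (h' _ (hm x hx)))
      (fun D f g hf _ he h y hy => by
        obtain ⟨x, hx, rfl⟩ := hf.mem_img.1 hy
        rw [he x hx]
        simpa using M₀.inv_mem (h x hx))
    have hgen : ∀ R : Subgroup Ω, R = S ∨ F.IsFullyNormalized R → F.autGroup R ≤ E.autGroup R := by
      intro R hR α hα
      have hRS : R ≤ S := hR.elim (fun e => e.le) fun h => h.1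
      refine (mem_autGroup_iff_fn hRS).2 (fn_predSystem.2 ⟨(mem_autGroup_iff_fn hRS).1 hα, ?_⟩)
      intro x hx
      rcases hR with rfl | hR
      · exact hSmove ((mem_autGroup_iff_fn le_rfl).1 hα) x hx
      · by_cases hR1 : R = ⊥
        · subst hR1
          rw [Subgroup.mem_bot] at hx
          rw [hx, inv_one, one_mul, ((mem_autGroup_iff_fn hRS).1 hα).map_one]
          exact M₀.one_mem
        · exact claim R hR hR1
            (move_mem ((mem_autGroup_iff_fn hRS).1 hα) le_rfl (le_normalizerIn hRS) (img_autFn α) hx)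
    have hle : F ≤ E := alperin hS hF E (hgen S (Or.inl rfl)) fun R _ hR => hgen R (Or.inr hR.2.1)
    refine (Subgroup.closure_le _).2 ?_
    rintro _ ⟨D, φ, x, hφ, rfl⟩
    have h := (hle D hφ).2 x x.2
    rwa [ofHom_coe] at h
  -- a nontrivial normal subgroup
  have hQn : (Q.subgroupOf S).Normal := ⟨fun x hx s => sc_conj hsc s.2 hx⟩
  let θ : S →* S ⧸ Q.subgroupOf S := QuotientGroup.mk' _
  have hθ : ∀ s : S, θ s = 1 ↔ (s : Ω) ∈ Q := fun s => QuotientGroup.eq_one_iff s
  obtain ⟨E, hE⟩ := exists_factorSystem (F := F) hsc θ hθ (S' := ⊤)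
    (MonoidHom.range_eq_top.2 (QuotientGroup.mk'_surjective _))
  have hsur := factor_surjectiveMorphism hS hF hsc hE
  have hEs := surjectiveMorphism_saturated hS hF hsur
  have hcard : Nat.card (⊤ : Subgroup (S ⧸ Q.subgroupOf S)) < n := by
    rw [← hn, Subgroup.card_top, (Q.subgroupOf S).card_eq_card_quotient_mul_card_subgroup]
    refine lt_mul_of_one_lt_right Nat.card_pos ?_
    rw [Nat.card_congr (Subgroup.subgroupOfEquivOfLe hQ.1).toEquiv]
    have := finite_of_le_base hQ.1
    exact (Subgroup.one_lt_card_iff_ne_bot _).2 hQ1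
  have hp' : IsPGroup p (⊤ : Subgroup (S ⧸ Q.subgroupOf S)) := (hS.to_quotient _).to_subgroup ⊤
  have hfocE := ihn _ hcard ⊤ rfl hp' _ E rfl hEs
  set W' := wOf W (⊤ : Subgroup (S ⧸ Q.subgroupOf S)) with hW'
  set V := preimageAlong θ W' with hVdef
  have hVS : V ≤ S := preimageAlong_le
  have hQV : Q ≤ V := fun x hx => mem_preimageAlong.2 ⟨hQ.1 hx, by
    rw [th_apply (hQ.1 hx), (hθ _).2 hx]; exact W'.one_mem⟩
  have hW'n : ∀ y : S ⧸ Q.subgroupOf S, y ∈ Subgroup.normalizer (W' : Set (S ⧸ Q.subgroupOf S)) := fun y =>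
    (normalizerIn_le_wOf (S := (⊤ : Subgroup (S ⧸ Q.subgroupOf S))) hW2 hp' le_rfl
      ⟨trivial, Subgroup.le_normalizer trivial⟩).2
  have hVn : normalizerIn S V = S := by
    refine le_antisymm normalizerIn_le fun s hs => ⟨hs, ?_⟩
    haveI := finite_of_le_base hVS
    refine mem_normalizer_of_map_le fun x hx => ?_
    obtain ⟨hxS, hxW⟩ := mem_preimageAlong.1 hx
    refine mem_preimageAlong.2 ⟨S.mul_mem (S.mul_mem hs hxS) (S.inv_mem hs), ?_⟩
    rw [th_conj hs hxS]
    exact (Subgroup.mem_normalizer_iff.1 (hW'n _) _).1 hxW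
  have hVfull : F.IsFullyNormalized V := ⟨hVS, fun R hR => by
    rw [hVn]
    exact Subgroup.card_le_of_le normalizerIn_le⟩
  have hfoc : ∀ y ∈ F.focalSubgroup, ∃ z ∈ M₀, z⁻¹ * y ∈ Q := by
    by_cases hQS : Q = S
    · exact fun y hy => ⟨1, M₀.one_mem, by
        rw [inv_one, one_mul, hQS]
        exact focalSubgroup_le hy⟩
    have hW'1 : W' ≠ ⊥ := by
      refine wOf_ne_bot hW1 hp' fun h => hQS (le_antisymm hQ.1 fun x hx => ?_)
      have hx' : θ ⟨x, hx⟩ ∈ (⊤ : Subgroup (S ⧸ Q.subgroupOf S)) := trivial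
      rw [h, Subgroup.mem_bot] at hx'
      exact (hθ _).1 hx'
    have hVnot : ¬ F.IsNormal V := fun h => by
      refine hW'1 ((Subgroup.eq_bot_iff_forall _).2 fun y hy => ?_)
      obtain ⟨s, rfl⟩ := QuotientGroup.mk'_surjective _ y
      refine (hθ s).2 (le_core h (mem_preimageAlong.2 ⟨s.2, ?_⟩))
      rwa [th_apply s.2]
    have hlift : moves E W' ≤ imageAlong θ (moves F V) := by
      refine (Subgroup.closure_le _).2 ?_
      rintro _ ⟨M', f', y, hf', hWM, -, hi, hy, rfl⟩
      obtain ⟨g, hg, hge⟩ := surjective_fn hsur hf'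
      have hyr : y ∈ θ.range := ⟨_, (QuotientGroup.mk'_surjective _ y).choose_spec⟩
      obtain ⟨s, hsy⟩ := hyr
      have hs : (s : Ω) ∈ preimageAlong θ M' := mem_preimageAlong.2 ⟨s.2, by rw [th_apply s.2, show θ ⟨(s : Ω), s.2⟩ = y from hsy]; exact hy⟩
      have hVM : V ≤ preimageAlong θ M' := fun x hx => by
        obtain ⟨hxS, hxW⟩ := mem_preimageAlong.1 hx
        exact mem_preimageAlong.2 ⟨hxS, hWM hxW⟩
      haveI := finite_of_le_base hVS
      have hgi : img g V = V := (hg.mono hVM).img_eq_self fun x hx => by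
        refine mem_preimageAlong.2 ⟨hg.mem (hVM hx), ?_⟩
        rw [← hge x (hVM hx)]
        exact hi.le (mem_img_of_mem (mem_preimageAlong.1 hx).2)
      refine mem_imageAlong.2 ⟨(s : Ω)⁻¹ * g s,
        move_mem hg hVM (preimageAlong_le.trans hVn.ge) hgi hs, S.mul_mem (S.inv_mem s.2) (hg.mem hs), ?_⟩
      rw [th_mul (S.inv_mem s.2) (hg.mem hs), th_inv s.2, ← hge _ hs, th_apply s.2, hsy]
    intro y hy
    have hyS : y ∈ S := focalSubgroup_le hy
    have himg : th θ y ∈ imageAlong θ (moves F V) := by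
      refine hlift (hfocE ?_)
      have hle : F.focalSubgroup ≤ (E.focalSubgroup.comap θ).map S.subtype := by
        refine (Subgroup.closure_le _).2 ?_
        rintro _ ⟨D, φ, x, hφ, rfl⟩
        have hf := fn_ofHom hφ
        obtain ⟨f', hf', hfe⟩ := morphism_fn hsur.1 hf
        obtain ⟨φ', hφ', hφf'⟩ := id hf'
        refine ⟨(⟨(x : Ω), hf.le x.2⟩ : S)⁻¹ * ⟨_, hf.mem x.2⟩, ?_, ?_⟩
        · show θ _ ∈ E.focalSubgroup
          refine Subgroup.subset_closure ⟨_, φ', ⟨th θ x, th_mem_imageAlong x.2 (hf.le x.2)⟩, hφ', ?_⟩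
          rw [hφf', map_mul, map_inv]
          show _ = (th θ (x : Ω))⁻¹ * f' (th θ (x : Ω))
          rw [hfe x x.2, th_apply (hf.le x.2), th_apply (hf.mem x.2)]
        · show (x : Ω)⁻¹ * ofHom φ x = _
          rw [ofHom_coe]
      obtain ⟨v, hv, hvy⟩ := hle hy
      rw [show v = (⟨y, hyS⟩ : S) from Subtype.ext hvy] at hv
      rwa [th_apply hyS]
    obtain ⟨z, hz, hzS, hzy⟩ := mem_imageAlong.1 himg
    refine ⟨z, hnormS V hVfull hVn hVnot hz, ?_⟩
    refine (hθ ⟨z⁻¹ * y, S.mul_mem (S.inv_mem hzS) hyS⟩).1 ?_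
    rw [← th_apply, th_mul (S.inv_mem hzS) hyS, th_inv hzS, hzy, inv_mul_cancel]
  -- automorphisms of the core
  have hAutQ : ∀ {g : Ω → Ω}, Fn F Q g → img g Q = Q → ∀ q ∈ Q, q⁻¹ * g q ∈ M₀ := by
    intro g hg hgi q hq
    by_cases hcen : centralizerIn S Q ≤ Q
    · obtain ⟨L, _, ι, hLfin, hι, ⟨T, hT'⟩, hcL⟩ := exists_model hS ⟨hF, Q, hQ, normal_centric hQ hcen⟩
      obtain ⟨α, hα, hαs⟩ := exists_realization_morphism hι hT'
      -- the core maps into `O_p(L)`
      let Q'' : Subgroup L := (Q.subgroupOf S).map ι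
      have hO : pCore p L ≤ ι.range := hT' ▸ CfsgLib.Solvable.Cores.pCore_le_sylow T
      have hQO : Q'' ≤ pCore p L := by
        refine le_sSup (s := {N : Subgroup L | N.Normal ∧ IsPGroup p N}) ⟨⟨?_⟩, ?_⟩
        · rintro _ ⟨a, ha, rfl⟩ l
          set D := (pCore p L).comap ι
          have hDS : D.map S.subtype ≤ S := Subgroup.map_subtype_le _
          have hDl : ∀ d ∈ D, l * ι d * l⁻¹ ∈ pCore p L := fun d hd => (inferInstance : (pCore p L).Normal).conj_mem _ hd l
          have hfn : Fn (groupFusionSystem (T : Subgroup L)) (pCore p L) (fun y => l * y * l⁻¹) :=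
            ⟨conjHom _ l, ⟨hT'.symm ▸ hO, fun y => hT'.symm ▸ hO ((inferInstance : (pCore p L).Normal).conj_mem _ y.2 l),
              l, fun _ => rfl⟩, fun _ => rfl⟩
          obtain ⟨f', hf', hfe⟩ := morphism_fn hαs.1 hfn
          obtain ⟨g', hg', hge, hgQ⟩ := (normal_iff_fn.1 hQ).2 _ f' hf'
          obtain ⟨φ, hφ, hφg⟩ := id hg'
          obtain ⟨hP, hφS⟩ := F.le_of_mem hφ
          obtain ⟨l', hl'⟩ := (hι.2 _ hP φ hφS).1 hφ
          have hcent : l'⁻¹ * l ∈ Subgroup.centralizer ((pCore p L : Subgroup L) : Set L) := by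
            rw [Subgroup.mem_centralizer_iff]
            intro y hy
            obtain ⟨d, rfl⟩ := hO hy
            have hdm : (d : Ω) ∈ imageAlong α (pCore p L) :=
              hα d ▸ th_mem_imageAlong hy (hT'.symm ▸ hO hy)
            obtain ⟨d', hd'⟩ := hO (hDl d hy)
            have h1 : φ ⟨(d : Ω), Subgroup.mem_sup_left hdm⟩ = (d' : Ω) := by
              rw [hφg, hge _ hdm, ← hα d, hfe _ hy, ← hd', hα]
            have h2 := hl' ⟨(d : Ω), Subgroup.mem_sup_left hdm⟩
            rw [show (⟨φ ⟨(d : Ω), Subgroup.mem_sup_left hdm⟩, hφS _⟩ : S) = d' from Subtype.ext h1, hd'] at h2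
            calc ι d * (l'⁻¹ * l) = l'⁻¹ * (l' * ι d * l'⁻¹) * l := by group
              _ = l'⁻¹ * (l * ι d * l⁻¹) * l := by
                rw [h2]
              _ = l'⁻¹ * l * ι d := by group
          obtain ⟨c, hc⟩ := hO (hcL hcent)
          have hca : ((c * a * c⁻¹ : S) : Ω) ∈ Q := sc_conj hsc c.2 ha
          have hu : φ ⟨_, Subgroup.mem_sup_right hca⟩ ∈ Q := by
            rw [hφg]
            exact hgQ.le (mem_img_of_mem hca)
          refine ⟨⟨φ ⟨_, Subgroup.mem_sup_right hca⟩, hQ.1 hu⟩, hu, ?_⟩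
          rw [hl' ⟨_, Subgroup.mem_sup_right hca⟩, show l = l' * ι c by rw [hc]; group]
          show l' * ι (c * a * c⁻¹) * l'⁻¹ = _
          rw [map_mul, map_mul, map_inv]
          group
        · exact (hS.to_subgroup _).map ι
      obtain ⟨φ, hφ, hφg⟩ := id hg
      obtain ⟨hP, hφS⟩ := F.le_of_mem hφ
      obtain ⟨l, hl⟩ := (hι.2 Q hP φ hφS).1 hφ
      let q' : S := ⟨q, hQ.1 hq⟩
      let r' : S := ⟨g q, hg.mem hq⟩
      have hr : ι r' = l * ι q' * l⁻¹ := by
        rw [← hl ⟨q, hq⟩]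
        exact congrArg ι (Subtype.ext (hφg ⟨q, hq⟩).symm)
      have hmem : ι (q'⁻¹ * r') ∈ pCore p L ⊓ commutator L := by
        refine ⟨hQO ⟨_, ?_, rfl⟩, ?_⟩
        · exact Q.mul_mem (Q.inv_mem hq) (hgi.le (mem_img_of_mem hq))
        · rw [map_mul, map_inv, hr]
          have := Subgroup.commutator_mem_commutator (Subgroup.mem_top (ι q')⁻¹) (Subgroup.mem_top l)
          simpa [commutator_def, commutatorElement_def, mul_assoc] using this
      rw [hT L T hcL] at hmem
      -- the focal subgroup of the normalizer of `W(T)`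
      set WT := wOf W (T : Subgroup L)
      set NL := Subgroup.normalizer (WT : Set L)
      have hTN : (T : Subgroup L) ≤ NL := fun t ht =>
        (normalizerIn_le_wOf (S := (T : Subgroup L)) hW2 T.2 le_rfl ⟨ht, Subgroup.le_normalizer ht⟩).2
      have hzT : ι (q'⁻¹ * r') ∈ (T : Subgroup L) := hT'.symm ▸ ⟨_, rfl⟩
      obtain ⟨w, hw, hwz⟩ := hmem.2
      have hwf : w ∈ ((T.subtype hTN : Sylow p NL) : Subgroup NL).focalSubgroup := by
        rw [← Subgroup.commutator_inf_eq_focalSubgroup (T.subtype hTN)]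
        refine ⟨hw, ?_⟩
        rw [Sylow.coe_subtype]
        show (w : L) ∈ (T : Subgroup L)
        rw [show (w : L) = ι (q'⁻¹ * r') from hwz]
        exact hzT
      let e : S ≃* (T : Subgroup L) := (MonoidHom.ofInjective hι.1).trans (MulEquiv.subgroupCongr hT'.symm)
      have he : ∀ s : S, ((e s : (T : Subgroup L)) : L) = ι s := fun s => rfl
      have hWe := hW2 ↥S ↥(T : Subgroup L) hS e
      have hWT : ∀ {x : L}, x ∈ WT ↔ ∃ s : S, (s : Ω) ∈ WS ∧ ι s = x := by
        intro x
        constructor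
        · rintro ⟨t, ht, rfl⟩
          rw [← hWe] at ht
          obtain ⟨s, hs, rfl⟩ := ht
          exact ⟨s, ⟨s, hs, rfl⟩, (he s).symm⟩
        · rintro ⟨s, ⟨s', hs', hss⟩, rfl⟩
          obtain rfl : s' = s := Subtype.ext hss
          exact ⟨e s', hWe ▸ ⟨s', hs', rfl⟩, he s'⟩
      have hgen : ((T.subtype hTN : Sylow p NL) : Subgroup NL).focalSubgroup ≤
          ((M₀.subgroupOf S).map ι).comap NL.subtype := by
        rw [Subgroup.focalSubgroup_def, Subgroup.closure_le]
        rintro _ ⟨hz, x, hx, u, rfl⟩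
        rw [Sylow.coe_subtype] at hx hz
        have hy0 : (x : L)⁻¹ ∈ (T : Subgroup L) := Subgroup.inv_mem _ hx
        have huy : (u : L) * (x : L)⁻¹ * (u : L)⁻¹ ∈ (T : Subgroup L) := by
          have := Subgroup.mul_mem _ hy0 hz
          simpa [commutatorElement_def, mul_assoc] using this
        have hWTn : ∀ y ∈ WT, (u : L) * y * (u : L)⁻¹ ∈ WT := fun y hy =>
          (Subgroup.mem_normalizer_iff.1 u.2 y).1 hy
        set D : Subgroup L := Subgroup.zpowers (x : L)⁻¹ ⊔ WT
        have hDT : D ≤ (T : Subgroup L) := sup_le (Subgroup.zpowers_le.2 hy0) (wOf_le _)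
        have hDimg : D ≤ ((T : Subgroup L)).comap (MulAut.conj (u : L)).toMonoidHom := by
          refine sup_le (Subgroup.zpowers_le.2 huy) fun y hy => wOf_le (T : Subgroup L) (hWTn y hy)
        have hfn : Fn (groupFusionSystem (T : Subgroup L)) D (fun y => (u : L) * y * (u : L)⁻¹) :=
          ⟨conjHom _ u, ⟨hDT, fun y => hDimg y.2, u, fun _ => rfl⟩, fun _ => rfl⟩
        obtain ⟨f', hf', hfe⟩ := morphism_fn hαs.1 hfn
        have hVD : WS ≤ imageAlong α D := fun s hs => by
          have h := th_mem_imageAlong (α := α) (Subgroup.mem_sup_right (hWT.2 ⟨⟨s, hWS hs⟩, hs, rfl⟩) :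
            ι ⟨s, hWS hs⟩ ∈ D) (hT'.symm ▸ ⟨_, rfl⟩)
          rwa [hα] at h
        have hfi : img f' WS = WS := by
          haveI := finite_of_le_base hWS
          refine (hf'.mono hVD).img_eq_self fun s hs => ?_
          have hsW : ι ⟨s, hWS hs⟩ ∈ WT := hWT.2 ⟨_, hs, rfl⟩
          have e1 := hfe _ (Subgroup.mem_sup_right hsW : ι ⟨s, hWS hs⟩ ∈ D)
          rw [hα] at e1
          obtain ⟨s', hs', hss'⟩ := hWT.1 (hWTn _ hsW)
          rw [e1, ← hss', hα]
          exact hs'
        obtain ⟨a, ha⟩ : (x : L)⁻¹ ∈ ι.range := hT' ▸ hy0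
        obtain ⟨b, hb⟩ : (u : L) * (x : L)⁻¹ * (u : L)⁻¹ ∈ ι.range := hT' ▸ huy
        have haD : (a : Ω) ∈ imageAlong α D := by
          have h := th_mem_imageAlong (α := α) (Subgroup.mem_sup_left (Subgroup.mem_zpowers _) : (x : L)⁻¹ ∈ D) hy0
          rw [show th α (x : L)⁻¹ = (a : Ω) by rw [← ha, hα]] at h
          exact h
        have hfa : f' a = (b : Ω) := by
          have e1 := hfe _ (Subgroup.mem_sup_left (Subgroup.mem_zpowers _) : (x : L)⁻¹ ∈ D)
          rw [← hb, ← ha, hα, hα] at e1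
          exact e1
        refine ⟨a⁻¹ * b, ?_, ?_⟩
        · show (a : Ω)⁻¹ * (b : Ω) ∈ M₀
          rw [← hfa]
          exact move_mem hf' hVD (hf'.le.trans hSWS) hfi haD
        · show ι (a⁻¹ * b) = (x : L) * (u : L) * (x : L)⁻¹ * (u : L)⁻¹
          rw [map_mul, map_inv, ha, hb]
          group
      obtain ⟨s, hs, hsz⟩ := hgen hwf
      have hsq : s = q'⁻¹ * r' := hι.1 (hsz.trans hwz)
      rw [hsq] at hs
      exact hs
    · -- through `Q C_S(Q)`
      set X := Q ⊔ centralizerIn S Q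
      have hXsc : F.StronglyClosed X := stronglyClosed_sup_centralizer hS hF hsc
      have hXn : normalizerIn S X = S := inf_eq_left.2 (sc_le_normalizer hXsc)
      have hXnot : ¬ F.IsNormal X := fun h => hcen (le_sup_right.trans (le_core h))
      have hr := fullyNormalized_receptive hS hF
        (fullyNormalized_of_weaklyClosed (weaklyClosed_of_stronglyClosed hsc))
      obtain ⟨N, h, hh, hQN, hN, hhe⟩ := receptive_extend hr hg hgi
      have hXN : X ≤ N := by
        refine sup_le hQN fun c hc => (hN c).2 ⟨hc.1, sc_le_normalizer hsc hc.1, 1, S.one_mem, fun x hx => ?_⟩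
        rw [one_mul, inv_one, mul_one,
          show c * x * c⁻¹ = x by rw [← Subgroup.mem_centralizer_iff.1 hc.2 x hx]; group]
      have hX' : X ≤ normalizerIn S X := hXn.symm ▸ hXsc.1
      have := hnormS X (fullyNormalized_of_weaklyClosed (weaklyClosed_of_stronglyClosed hXsc)) hXn hXnot
        (move_mem (hh.mono hXN) le_rfl hX' (sc_img hXsc le_rfl (hh.mono hXN)) (Subgroup.mem_sup_left hq))
      rwa [hhe q hq] at this
  -- transfer
  have hM₀n : (M₀.subgroupOf S).Normal := ⟨fun x hx g => by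
    have h1 : ((g : Ω) * x * (g : Ω)⁻¹ * (x : Ω)⁻¹) ∈ M₀ := by
      have := commutator_le_moves (F := F) hWS hSn (Subgroup.commutator_mem_commutator g.2 x.2)
      rwa [commutatorElement_def] at this
    have h2 := M₀.mul_mem h1 hx
    simpa [Subgroup.mem_subgroupOf] using h2⟩
  let A := S ⧸ M₀.subgroupOf S
  let lam : S →* A := QuotientGroup.mk' _
  let _ : CommGroup A :=
    { (inferInstance : Group A) with
      mul_comm := fun u v => by
        obtain ⟨a, rfl⟩ := QuotientGroup.mk'_surjective _ u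
        obtain ⟨b, rfl⟩ := QuotientGroup.mk'_surjective _ v
        rw [← map_mul, ← map_mul]
        refine QuotientGroup.eq.2 ?_
        have h := commutator_le_moves (F := F) hWS hSn
          (Subgroup.commutator_mem_commutator (S.inv_mem b.2) (S.inv_mem a.2))
        rw [commutatorElement_def] at h
        simpa [Subgroup.mem_subgroupOf, mul_assoc] using h }
  obtain ⟨k, tr, hk, hst, heq, -⟩ := CharBiset.exists_transfer hS hF lam
  have hker : F.focalSubgroup ≤ tr.ker.map S.subtype := by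
    refine (Subgroup.closure_le _).2 ?_
    rintro _ ⟨D, φ, y, hφ, rfl⟩
    have hf := fn_ofHom hφ
    refine ⟨(⟨(y : Ω), hf.le y.2⟩ : S)⁻¹ * ⟨_, hf.mem y.2⟩, ?_, ?_⟩
    · show tr _ = 1
      rw [map_mul, map_inv, hst D _ hf ⟨(y : Ω), hf.le y.2⟩ y.2, inv_mul_cancel]
    · show (y : Ω)⁻¹ * ofHom φ y = _
      rw [ofHom_coe]
  intro y hy
  obtain ⟨z, hz, hzy⟩ := hfoc y hy
  have hyS : z⁻¹ * y ∈ S := hQ.1 hzy
  have hfocz : z⁻¹ * y ∈ F.focalSubgroup :=
    Subgroup.mul_mem _ (Subgroup.inv_mem _ (moves_le_focal hz)) hy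
  have hstab : CharBiset.StableAt F lam ⟨z⁻¹ * y, hyS⟩ := by
    intro D f t hf ht j hj
    obtain ⟨g, hg, hge, hgi⟩ := (normal_iff_fn.1 hQ).2 D f hf
    have hqj : ((⟨z⁻¹ * y, hyS⟩ ^ j : S) : Ω) ∈ Q := by
      rw [SubgroupClass.coe_zpow]
      exact Q.zpow_mem hzy j
    have hgt : g (t : Ω) = ((⟨z⁻¹ * y, hyS⟩ ^ j : S) : Ω) := by rw [hge _ ht, hj]
    have htQ : (t : Ω) ∈ Q :=
      (hg.map_mem_iff le_sup_right (Subgroup.mem_sup_left ht)).1 (by rw [hgi, hgt]; exact hqj)
    have h1 := hAutQ (hg.mono le_sup_right) hgi _ htQ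
    rw [hgt] at h1
    exact ((QuotientGroup.eq (s := M₀.subgroupOf S) (a := t) (b := ⟨z⁻¹ * y, hyS⟩ ^ j)).2 h1).symm
  have h1 : lam ⟨z⁻¹ * y, hyS⟩ ^ k = 1 := by
    rw [← heq _ hstab]
    obtain ⟨v, hv, hvy⟩ := hker hfocz
    rw [← show v = ⟨z⁻¹ * y, hyS⟩ from Subtype.ext hvy]
    exact hv
  obtain ⟨j, hj⟩ := (hS.to_quotient (M₀.subgroupOf S)) (lam ⟨z⁻¹ * y, hyS⟩)
  have h2 : lam ⟨z⁻¹ * y, hyS⟩ = 1 := orderOf_eq_one_iff.1 (Nat.eq_one_of_dvd_coprimes
    ((((Fact.out : p.Prime).coprime_iff_not_dvd).2 hk).pow_left j)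
    (orderOf_dvd_of_pow_eq_one hj) (orderOf_dvd_of_pow_eq_one h1))
  have h3 : z⁻¹ * y ∈ M₀ := (QuotientGroup.eq_one_iff (N := M₀.subgroupOf S) (⟨z⁻¹ * y, hyS⟩ : S)).1 h2
  simpa using M₀.mul_mem hz h3

end Functor

end CfsgLib.Fsys
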