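import Cfsg.Agent.Lib.FusionSystem.Generation
import Cfsg.Agent.Lib.FusionSystem.Inner
import Cfsg.Agent.Lib.OddOrder.OmegaLemma
import Cfsg.Agent.Lib.PGroup.Frattini
import Cfsg.Agent.S0093
import Cfsg.Agent.S0121
/-
Elements of small order detect coprime automorphisms; normality and nilpotency criteria for fusion systems.
-/
set_option autoImplicit false

namespace CfsgLib.Fsys

open Cfsg
open Cfsg.FusionSystem (centralizerIn normalizerIn)
open scoped commutatorElement

variable {p : ℕ} [Fact p.Prime]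

/-- Order dividing `p`, or `4` for `p = 2`. -/
def SmallElt (p : ℕ) {G : Type*} [Group G] (x : G) : Prop := x ^ p = 1 ∨ (p = 2 ∧ x ^ 4 = 1)

/-- An element moved by a coprime-order automorphism by a fixed element of a `p`-group is fixed. -/
theorem fixed_of_fixed_shift {G : Type*} [Group G] (hG : IsPGroup p G) {a : MulAut G}
    (ha : Nat.Coprime (orderOf a) p) {x : G} (hy : a (x⁻¹ * a x) = x⁻¹ * a x) : a x = x := by
  generalize hyd : x⁻¹ * a x = y at hy
  have hx1 : a x = x * y := by rw [← hyd, mul_inv_cancel_left]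
  have hpow : ∀ k : ℕ, (a ^ k) x = x * y ^ k := by
    intro k
    induction k with
    | zero => simp
    | succ k ih => rw [pow_succ', MulAut.mul_apply, ih, map_mul, map_pow, hy, hx1, mul_assoc, ← pow_succ']
  have h1 := hpow (orderOf a)
  rw [pow_orderOf_eq_one] at h1
  have hyn : y ^ orderOf a = 1 := by simpa using h1
  obtain ⟨j, hj⟩ := hG y
  rw [hx1, orderOf_eq_one_iff.1 (Nat.eq_one_of_dvd_coprimes (ha.pow_right j)
    (orderOf_dvd_of_pow_eq_one hyn) (orderOf_dvd_of_pow_eq_one hj)), mul_one]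

/-- A characteristic subgroup of small exponent detecting coprime automorphisms. -/
theorem exists_small_detector {G : Type*} [Group G] [Finite G] (hG : IsPGroup p G) :
    ∃ D : Subgroup G, (∀ a : MulAut G, ∀ x ∈ D, a x ∈ D) ∧ (∀ x ∈ D, SmallElt p x) ∧
      ∀ a : MulAut G, Nat.Coprime (orderOf a) p → (∀ x ∈ D, a x = x) → a = 1 := by
  classical
  obtain ⟨H, hH, h1, h2, h3⟩ := Cfsg.Agent.S0093.result hG
  have hHc : ∀ a : MulAut G, ∀ x ∈ H, a x ∈ H := fun a x hx =>
    (Subgroup.characteristic_iff_map_le.1 hH a) ⟨x, hx, rfl⟩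
  let n : ℕ := if p = 2 then 4 else p
  have hz : ∀ u ∈ H, ∀ v ∈ H, Commute ⁅v, u⁆ v ∧ Commute ⁅v, u⁆ u ∧ ⁅v, u⁆ ^ p = 1 := by
    intro u hu v hv
    have hc := Subgroup.mem_centralizer_iff.1 (h2 (Subgroup.commutator_mem_commutator hv (Subgroup.mem_top u))).2
    have c1 : Commute ⁅v, u⁆ v := (hc v hv).symm
    have c2 : Commute ⁅v, u⁆ u := (hc u hu).symm
    refine ⟨c1, c2, ?_⟩
    have hvp : v ^ p ∈ (frattini H).map H.subtype :=
      ⟨(⟨v, hv⟩ : H) ^ p, CfsgLib.PGroup.Frattini.pow_mem_frattini (hG.to_subgroup H) ⟨v, hv⟩, rfl⟩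
    have hcomm : u * v ^ p = v ^ p * u := Subgroup.mem_centralizer_iff.1 (h1 hvp) u hu
    have h := CfsgLib.OddOrder.OmegaLemma.pow_mul_comm_central (u := u) (v := v) (z := ⁅v, u⁆)
      (by rw [commutatorElement_def]; group) c1 c2 p
    rw [hcomm] at h
    exact mul_eq_right.1 h.symm
  have hpn : p ∣ n.choose 2 := by
    by_cases hp : p = 2
    · simp only [n, hp, if_true]
      decide
    · simp only [n, hp, if_false]
      exact (Fact.out : p.Prime).dvd_choose_self two_ne_zero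
        (lt_of_le_of_ne (Fact.out : p.Prime).two_le (Ne.symm hp))
  have hpow : ∀ u ∈ H, ∀ v ∈ H, (u * v) ^ n = u ^ n * v ^ n := fun u hu v hv => by
    obtain ⟨c1, c2, hzp⟩ := hz u hu v hv
    rw [CfsgLib.OddOrder.OmegaLemma.mul_pow_central (z := ⁅v, u⁆) (by rw [commutatorElement_def]; group) c1 c2 n]
    obtain ⟨k, hk⟩ := hpn
    rw [hk, pow_mul, hzp, one_pow, one_mul]
  let D : Subgroup G :=
    { carrier := {x | x ∈ H ∧ x ^ n = 1}
      one_mem' := ⟨H.one_mem, one_pow n⟩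
      mul_mem' := fun {u v} hu hv => ⟨H.mul_mem hu.1 hv.1, by rw [hpow u hu.1 v hv.1, hu.2, hv.2, one_mul]⟩
      inv_mem' := fun {u} hu => ⟨H.inv_mem hu.1, by rw [inv_pow, hu.2, inv_one]⟩ }
  refine ⟨D, fun a x hx => ⟨hHc a x hx.1, by rw [← map_pow, hx.2, map_one]⟩, fun x hx => ?_, fun a ha hfix => ?_⟩
  · by_cases hp : p = 2
    · exact Or.inr ⟨hp, by simpa [n, hp] using hx.2⟩
    · exact Or.inl (by simpa [n, hp] using hx.2)
  · refine Cfsg.Agent.S0121.result hG H hH h1 h2 h3 a ha fun x hx => ?_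
    obtain ⟨k, hk⟩ := hG x
    induction k generalizing x with
    | zero =>
      rw [pow_zero, pow_one] at hk
      rw [hk, map_one]
    | succ k ih =>
      have hxp : a (x ^ p) = x ^ p := ih (x ^ p) (H.pow_mem hx p) (by rw [← pow_mul, ← pow_succ', hk])
      have hy : x⁻¹ * a x ∈ H := H.mul_mem (H.inv_mem hx) (hHc a x hx)
      refine fixed_of_fixed_shift hG ha (hfix _ ⟨hy, ?_⟩)
      generalize hyd : x⁻¹ * a x = y at hy
      obtain ⟨c1, c2, hzp⟩ := hz x hx y hy
      have h := CfsgLib.OddOrder.OmegaLemma.mul_pow_central (z := ⁅y, x⁆)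
        (by rw [commutatorElement_def]; group) c1 c2 p
      rw [show x * y = a x by rw [← hyd, mul_inv_cancel_left], ← map_pow, hxp] at h
      by_cases hp : p = 2
      · subst hp
        have e : ⁅y, x⁆ * y ^ 2 = 1 := by
          have h' : x ^ 2 = ⁅y, x⁆ * (x ^ 2 * y ^ 2) := by simpa using h
          rw [← mul_assoc, (c2.pow_right 2).eq, mul_assoc] at h'
          exact mul_eq_left.1 h'.symm
        show y ^ (4 : ℕ) = 1
        rw [show (4 : ℕ) = 2 * 2 from rfl, pow_mul, eq_inv_of_mul_eq_one_right e, inv_pow, hzp, inv_one]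
      · obtain ⟨m, hm⟩ : p ∣ p.choose 2 := (Fact.out : p.Prime).dvd_choose_self two_ne_zero
          (lt_of_le_of_ne (Fact.out : p.Prime).two_le (Ne.symm hp))
        rw [hm, pow_mul, hzp, one_pow, one_mul] at h
        simp only [n, hp, if_false]
        exact mul_eq_left.1 h.symm

variable {Ω : Type*} [Group Ω] {S : Subgroup Ω} [Finite S] {F : FusionSystem S} {P Q H₀ : Subgroup Ω}
variable (hS : IsPGroup p S) (hF : F.IsSaturated p)
include hS hF

omit hF in
/-- A small detector inside a strongly closed subgroup containing the hyperfocal one. -/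
theorem exists_detector_in (hH₀ : F.StronglyClosed H₀) (hhyp : F.hyperfocalSubgroup p ≤ H₀) (hP : P ≤ S) :
    ∃ D : Subgroup Ω, D ≤ P ⊓ H₀ ∧ (∀ x ∈ D, SmallElt p x) ∧
      (∀ a ∈ F.autGroup P, ∀ x ∈ D, autFn a x ∈ D) ∧
      ∀ a ∈ F.autGroup P, Nat.Coprime (orderOf a) p → (∀ x ∈ D, autFn a x = x) → a = 1 := by
  have hQS : P ⊓ H₀ ≤ S := inf_le_left.trans hP
  have := finite_of_le_base hQS
  have := finite_of_le_base hP
  obtain ⟨D, hDc, hDs, hDd⟩ := exists_small_detector (hS.to_le hQS)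
  have hinv : ∀ a ∈ F.autGroup P, ∀ x ∈ P ⊓ H₀, autFn a x ∈ P ⊓ H₀ := fun a ha x hx =>
    ⟨autFn_mem a hx.1, (stronglyClosed_iff_fn.1 hH₀).2 _ _ ((mem_autGroup_iff_fn hP).1 ha) x hx.1 hx.2⟩
  have hres : ∀ a : F.autGroup P, ∃ b : MulAut ↥(P ⊓ H₀),
      ∀ x : ↥(P ⊓ H₀), ((b x : ↥(P ⊓ H₀)) : Ω) = autFn (a : MulAut P) x := fun a => by
    have hf := ((mem_autGroup_iff_fn hP).1 a.2).mono (inf_le_left : P ⊓ H₀ ≤ P)
    obtain ⟨b, -, hb⟩ := exists_aut_of_fn hf (hf.img_eq_self (hinv a a.2))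
    exact ⟨b, hb⟩
  choose r hr using hres
  let R : F.autGroup P →* MulAut ↥(P ⊓ H₀) := MonoidHom.mk' r fun a b => MulEquiv.ext fun x => Subtype.ext <| by
    rw [hr, Subgroup.coe_mul, autFn_mul _ _ x.2.1, ← hr b x, ← hr a]
    rfl
  refine ⟨D.map (P ⊓ H₀).subtype, Subgroup.map_subtype_le _, ?_, ?_, fun a ha hcop hfix => ?_⟩
  · rintro _ ⟨x, hx, rfl⟩
    rcases hDs x hx with h | ⟨h2, h⟩
    · exact Or.inl (by rw [← map_pow, h, map_one])
    · exact Or.inr ⟨h2, by rw [← map_pow, h, map_one]⟩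
  · rintro a ha _ ⟨x, hx, rfl⟩
    exact ⟨r ⟨a, ha⟩ x, hDc _ x hx, hr ⟨a, ha⟩ x⟩
  · have hcop' : Nat.Coprime (orderOf (⟨a, ha⟩ : F.autGroup P)) p := by rwa [← Subgroup.orderOf_coe]
    have hR1 : R ⟨a, ha⟩ = 1 := hDd _ (hcop'.coprime_dvd_left (orderOf_map_dvd R _)) fun x hx =>
      Subtype.ext ((hr ⟨a, ha⟩ x).trans (hfix _ ⟨x, hx, rfl⟩))
    refine MulEquiv.ext fun x => fixed_of_fixed_shift (hS.to_le hP) hcop ?_
    have hy : ((x⁻¹ * a x : P) : Ω) ∈ H₀ := hhyp (Subgroup.subset_closure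
      ⟨P, ⟨a, ha⟩, x, hP, Subgroup.subset_closure hcop', rfl⟩)
    have h2 : (((R ⟨a, ha⟩) ⟨_, (x⁻¹ * a x).2, hy⟩ : ↥(P ⊓ H₀)) : Ω) = ((x⁻¹ * a x : P) : Ω) := by
      rw [hR1]
      rfl
    exact Subtype.ext (((autFn_coe a _).symm.trans (hr ⟨a, ha⟩ ⟨_, (x⁻¹ * a x).2, hy⟩).symm).trans h2)

/-- An essential subgroup has no normal stabilizer subgroup containing `Aut_S(P)` free of coprime elements. -/
theorem not_essential_of_stabilizer (hess : F.IsEssential p P) (M : Subgroup (MulAut P))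
    (hn : ∀ b ∈ F.autGroup P, ∀ a ∈ F.autGroup P, a ∈ M → b * a * b⁻¹ ∈ M)
    (hle : autInducedBy S P ≤ M)
    (hcop : ∀ a ∈ F.autGroup P, a ∈ M → Nat.Coprime (orderOf a) p → a = 1) : False := by
  have hPS := essential_lt hS hF hess
  have := finite_of_le_base hPS.le
  have : (M.subgroupOf (F.autGroup P)).Normal := ⟨fun a ha b => hn b b.2 a a.2 ha⟩
  have hp : IsPGroup p (M.subgroupOf (F.autGroup P)) := isPGroup_of_forall_coprime fun a ha => by
    refine Subtype.ext (Subtype.ext (hcop _ (a : F.autGroup P).2 a.2 ?_))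
    rwa [Subgroup.orderOf_coe, Subgroup.orderOf_coe]
  obtain ⟨n, hn', hnP⟩ := SetLike.exists_of_lt (lt_normalizerIn hS hPS)
  have hmem : conjAut P hn'.2 ∈ (pCore p (F.autGroup P)).map (F.autGroup P).subtype := by
    refine ⟨⟨conjAut P hn'.2, autInducedBy_le_autGroup hPS.le (conjAut_mem_autInducedBy hn'.2 hn'.1)⟩, ?_, rfl⟩
    exact le_sSup (s := {N : Subgroup (F.autGroup P) | N.Normal ∧ IsPGroup p N}) ⟨inferInstance, hp⟩
      (hle (conjAut_mem_autInducedBy hn'.2 hn'.1))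
  rw [(essential_radical hS hess).2] at hmem
  exact hnP ((conjAut_mem_inn_iff (centralizer_le_of_centric hess.1) hn' hPS.le).1 hmem)

/-- `S` is normal once no proper subgroup is essential. -/
theorem normal_top_of_no_essential (h : ∀ P, ¬ F.IsEssential p P) : F.IsNormal S := by
  refine normal_of_generators hS hF le_rfl Subgroup.le_normalizer fun P hP => ?_
  rcases hP with rfl | hP
  · exact ⟨le_rfl, fun α _ x hx => autFn_mem α hx⟩
  · exact absurd hP (h P)

omit hF in
theorem lowerCentral_step {k : ℕ} {x s : Ω} (hx : x ∈ S.lowerCentralSeries k) (hs : s ∈ S) :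
    x⁻¹ * (s * x * s⁻¹) ∈ S.lowerCentralSeries (k + 1) := by
  rw [Subgroup.lowerCentralSeries_succ]
  have := Subgroup.commutator_mem_commutator ((S.lowerCentralSeries k).inv_mem hx) hs
  simpa [commutatorElement_def, mul_assoc] using this

omit hF in
/-- Coprime automorphisms acting on small elements inside the series act trivially. -/
theorem fixed_of_series {a : MulAut P} (hP : P ≤ S) (ha : Nat.Coprime (orderOf a) p) {D : Subgroup Ω}
    (hDP : D ≤ P) (hDi : ∀ x ∈ D, autFn a x ∈ D)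
    (hstep : ∀ k, ∀ x ∈ D, x ∈ S.lowerCentralSeries k → x⁻¹ * autFn a x ∈ S.lowerCentralSeries (k + 1)) :
    ∀ x ∈ D, autFn a x = x := by
  obtain ⟨n, hn⟩ := (Subgroup.isNilpotent_iff_lowerCentralSeries S).1 hS.isNilpotent
  suffices h : ∀ j, ∀ x ∈ D, x ∈ S.lowerCentralSeries (n - j) → autFn a x = x from
    fun x hx => h n x hx (by simpa using hP (hDP hx))
  intro j
  induction j with
  | zero =>
    intro x hx hxL
    rw [Nat.sub_zero, hn, Subgroup.mem_bot] at hxL
    subst hxL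
    exact (autFn_coe a 1).trans (by rw [map_one]; rfl)
  | succ j ih =>
    intro x hx hxL
    have hy := D.mul_mem (D.inv_mem hx) (hDi x hx)
    have hy' := S.lowerCentralSeries_antitone (show n - j ≤ n - (j + 1) + 1 by omega) (hstep _ x hx hxL)
    have h1 := ih _ hy hy'
    lift x to P using hDP hx
    rw [autFn_coe] at h1 ⊢
    rw [show (x : Ω)⁻¹ * ((a x : P) : Ω) = ((x⁻¹ * a x : P) : Ω) by simp, autFn_coe] at h1
    exact congrArg Subtype.val (fixed_of_fixed_shift (hS.to_le hP) ha (Subtype.ext h1))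

/-- If small elements of the hyperfocal subgroup only move inside the lower central series, `S` is normal. -/
theorem normal_top_of_small_series
    (h : ∀ x ∈ F.hyperfocalSubgroup p, SmallElt p x → ∀ (M : Subgroup Ω) (f : Ω → Ω), Fn F M f → x ∈ M →
      f x ∈ F.hyperfocalSubgroup p → ∀ k, x ∈ S.lowerCentralSeries k → f x ∈ S.lowerCentralSeries k) :
    F.IsNormal S := by
  refine normal_top_of_no_essential hS hF fun P hess => ?_
  have hPS := (essential_lt hS hF hess).le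
  have hH := hyperfocal_stronglyClosed hS hF
  obtain ⟨D, hD, hDs, hDi, hDd⟩ := exists_detector_in hS hH le_rfl hPS
  have hmove : ∀ a ∈ F.autGroup P, ∀ x ∈ D, ∀ k, x ∈ S.lowerCentralSeries k →
      autFn a x ∈ S.lowerCentralSeries k := fun a ha x hx =>
    h x (hD hx).2 (hDs x hx) P _ ((mem_autGroup_iff_fn hPS).1 ha) (hD hx).1 (hD (hDi a ha x hx)).2
  let M : Subgroup (MulAut P) :=
    { carrier := {a | a ∈ F.autGroup P ∧ ∀ k, ∀ x ∈ D, x ∈ S.lowerCentralSeries k →
        x⁻¹ * autFn a x ∈ S.lowerCentralSeries (k + 1)}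
      one_mem' := ⟨Subgroup.one_mem _, fun k x hx _ => by
        rw [show autFn (1 : MulAut P) x = x from autFn_coe 1 ⟨x, (hD hx).1⟩, inv_mul_cancel]
        exact Subgroup.one_mem _⟩
      mul_mem' := fun {a b} ha hb => ⟨mul_mem ha.1 hb.1, fun k x hx hxL => by
        have := Subgroup.mul_mem _ (hb.2 k x hx hxL) (ha.2 k _ (hDi b hb.1 x hx) (hmove b hb.1 x hx k hxL))
        rw [autFn_mul _ _ (hD hx).1]
        simpa [mul_assoc] using this⟩
      inv_mem' := fun {a} ha => ⟨inv_mem ha.1, fun k x hx hxL => by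
        have := Subgroup.inv_mem _ (ha.2 k _ (hDi a⁻¹ (inv_mem ha.1) x hx) (hmove a⁻¹ (inv_mem ha.1) x hx k hxL))
        rw [autFn_apply_inv a (hD hx).1] at this
        simpa using this⟩ }
  refine not_essential_of_stabilizer hS hF hess M (fun b hb a ha haM => ⟨mul_mem (mul_mem hb ha) (inv_mem hb),
    fun k x hx hxL => ?_⟩) (fun a ha => ⟨autInducedBy_le_autGroup hPS ha, fun k x hx hxL => ?_⟩)
    fun a ha haM hc => hDd a ha hc (fixed_of_series hS hPS hc (hD.trans inf_le_left) (hDi a ha) fun k => haM.2 k)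
  · have hy := hDi b⁻¹ (inv_mem hb) x hx
    have hw := haM.2 k _ hy (hmove b⁻¹ (inv_mem hb) x hx k hxL)
    have hwD := D.mul_mem (D.inv_mem hy) (hDi a ha _ hy)
    have h2 := hmove b hb _ hwD (k + 1) hw
    have hbF := (mem_autGroup_iff_fn hPS).1 hb
    rw [hbF.map_mul (P.inv_mem (hD hy).1) (autFn_mem a (hD hy).1), hbF.map_inv (hD hy).1,
      autFn_apply_inv b (hD hx).1, ← autFn_mul _ _ (hD hy).1, ← autFn_mul _ _ (hD hx).1] at h2
    exact h2
  · obtain ⟨s, hs, hsa⟩ := mem_autInducedBy.1 ha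
    rw [show autFn a x = s * x * s⁻¹ from (autFn_coe a ⟨x, (hD hx).1⟩).trans (hsa ⟨x, (hD hx).1⟩)]
    exact lowerCentral_step hS hxL hs

/-- If small elements of the hyperfocal subgroup are only fused by `S`, the system is inner. -/
theorem inner_of_small_inner
    (h : ∀ x ∈ F.hyperfocalSubgroup p, SmallElt p x → ∀ (M : Subgroup Ω) (f : Ω → Ω), Fn F M f → x ∈ M →
      f x ∈ F.hyperfocalSubgroup p → ∃ s ∈ S, f x = s * x * s⁻¹) :
    F = innerFusionSystem S := by
  refine Cfsg.Agent.S5083.result p hS F hF fun P hP => ?_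
  have := finite_of_le_base hP
  obtain ⟨D, hD, hDs, hDi, hDd⟩ := exists_detector_in hS (hyperfocal_stronglyClosed hS hF) le_rfl hP
  refine isPGroup_of_forall_coprime fun a ha => Subtype.ext ?_
  have hc : Nat.Coprime (orderOf (a : MulAut P)) p := by rwa [Subgroup.orderOf_coe]
  refine hDd _ a.2 hc (fixed_of_series hS hP hc (hD.trans inf_le_left) (hDi _ a.2) fun k x hx hxL => ?_)
  obtain ⟨s, hs, hsx⟩ := h x (hD hx).2 (hDs x hx) P _ ((mem_autGroup_iff_fn hP).1 a.2) (hD hx).1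
    (hD (hDi _ a.2 x hx)).2
  rw [hsx]
  exact lowerCentral_step hS hxL hs

/-- If small elements of the focal subgroup generate normal subgroups, `S` is normal. -/
theorem normal_top_of_small_normal
    (h : ∀ x ∈ F.focalSubgroup, SmallElt p x → ∀ s ∈ S, s * x * s⁻¹ ∈ Subgroup.zpowers x) :
    F.IsNormal S := by
  refine normal_top_of_no_essential hS hF fun P hess => ?_
  have hPS := (essential_lt hS hF hess).le
  have := finite_of_le_base hPS
  have hfoc : F.StronglyClosed F.focalSubgroup := by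
    refine stronglyClosed_iff_fn.2 ⟨(Subgroup.closure_le _).2 ?_, fun M f hf x hx hxF => ?_⟩
    · rintro _ ⟨M, φ, x, hφ, rfl⟩
      exact S.mul_mem (S.inv_mem ((F.le_of_mem hφ).1 x.2)) ((F.le_of_mem hφ).2 x)
    · obtain ⟨φ, hφ, hφf⟩ := hf
      have h2 : x⁻¹ * f x ∈ F.focalSubgroup :=
        Subgroup.subset_closure ⟨M, φ, ⟨x, hx⟩, hφ, by rw [hφf]⟩
      simpa using F.focalSubgroup.mul_mem hxF h2
  obtain ⟨D, hD, hDs, hDi, hDd⟩ := exists_detector_in hS hfoc
    (le_sup_left.trans (focal_eq_hyperfocal_sup hS hF).ge) hPS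
  let M₀ : Submonoid (MulAut P) :=
    { carrier := {a | a ∈ F.autGroup P ∧ ∀ x ∈ D, autFn a x ∈ Subgroup.zpowers x ∧ (x ^ p = 1 → autFn a x = x)}
      one_mem' := ⟨Subgroup.one_mem _, fun x hx => by
        rw [show autFn (1 : MulAut P) x = x from autFn_coe 1 ⟨x, (hD hx).1⟩]
        exact ⟨Subgroup.mem_zpowers x, fun _ => rfl⟩⟩
      mul_mem' := fun {a b} ha hb => ⟨mul_mem ha.1 hb.1, fun x hx => by
        obtain ⟨hb1, hb2⟩ := hb.2 x hx
        rw [autFn_mul _ _ (hD hx).1]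
        refine ⟨(Subgroup.zpowers_le.2 hb1) (ha.2 _ (hDi b hb.1 x hx)).1, fun hxp => ?_⟩
        rw [hb2 hxp, (ha.2 x hx).2 hxp]⟩ }
  let M : Subgroup (MulAut P) :=
    { toSubmonoid := M₀
      inv_mem' := fun {a} ha => by
        have h2 : a⁻¹ = a ^ (orderOf a - 1) := inv_eq_of_mul_eq_one_left (by
          rw [← pow_succ, Nat.sub_add_cancel (orderOf_pos a), pow_orderOf_eq_one])
        rw [h2]
        exact pow_mem (show a ∈ M₀ from ha) _ }
  refine not_essential_of_stabilizer hS hF hess M (fun b hb a ha haM =>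
    ⟨mul_mem (mul_mem hb ha) (inv_mem hb), fun x hx => ?_⟩) (fun a ha => ⟨autInducedBy_le_autGroup hPS ha,
      fun x hx => ?_⟩) fun a ha haM hc => hDd a ha hc fun x hx => ?_
  · have hbF := (mem_autGroup_iff_fn hPS).1 hb
    have hy := hDi b⁻¹ (inv_mem hb) x hx
    obtain ⟨h1, h2⟩ := haM.2 _ hy
    rw [autFn_mul _ _ (hD hx).1, autFn_mul _ _ (hD hy).1]
    refine ⟨?_, fun hxp => ?_⟩
    · obtain ⟨j, hj⟩ := Subgroup.mem_zpowers_iff.1 h1
      rw [← hj]
      refine Subgroup.mem_zpowers_iff.2 ⟨j, ?_⟩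
      lift x to P using (hD hx).1
      rw [autFn_coe, ← SubgroupClass.coe_zpow, ← SubgroupClass.coe_zpow, autFn_coe, map_zpow,
        MulAut.apply_inv_self]
    · rw [h2, autFn_apply_inv b (hD hx).1]
      lift x to P using (hD hx).1
      rw [autFn_coe, ← SubmonoidClass.coe_pow, ← map_pow,
        show x ^ p = 1 from Subtype.ext (by simpa using hxp), map_one]
      rfl
  · obtain ⟨s, hs, hsa⟩ := mem_autInducedBy.1 ha
    rw [show autFn a x = s * x * s⁻¹ from (autFn_coe a ⟨x, (hD hx).1⟩).trans (hsa ⟨x, (hD hx).1⟩)]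
    have hsx := h x (hD hx).2 (hDs x hx) s hs
    refine ⟨hsx, fun hxp => ?_⟩
    obtain ⟨k, hk⟩ := Subgroup.mem_zpowers_iff.1 hsx
    obtain ⟨m, hm⟩ := hS ⟨s, hs⟩
    have hpw : ∀ j : ℕ, s ^ j * x * (s ^ j)⁻¹ = x ^ (k ^ j) := by
      intro j
      induction j with
      | zero => simp
      | succ j ih =>
        rw [pow_succ', mul_inv_rev, show s * s ^ j * x * ((s ^ j)⁻¹ * s⁻¹) = s * (s ^ j * x * (s ^ j)⁻¹) * s⁻¹
          by group, ih, ← conj_zpow, ← hk, ← zpow_mul, ← pow_succ']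
    have h1 := hpw (p ^ m)
    rw [show s ^ p ^ m = 1 from congrArg Subtype.val hm] at h1
    simp only [one_mul, inv_one, mul_one] at h1
    have hdvd : (p : ℤ) ∣ k ^ p ^ m - k := by
      rw [← ZMod.intCast_zmod_eq_zero_iff_dvd]
      push_cast
      rw [ZMod.pow_card_pow, sub_self]
    obtain ⟨c, hc⟩ := hdvd
    rw [← hk]
    conv_rhs => rw [h1, show k ^ p ^ m = (p : ℤ) * c + k by omega, zpow_add, zpow_mul, zpow_natCast, hxp,
      one_zpow, one_mul]
  · obtain ⟨h1, h2⟩ := haM.2 x hx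
    rcases hDs x hx with hxp | ⟨hp2, hx4⟩
    · exact h2 hxp
    · lift x to P using (hD hx).1
      have hyD : ((x⁻¹ * a x : P) : Ω) ∈ D := by
        have := D.mul_mem (D.inv_mem hx) (hDi a ha _ hx)
        rwa [autFn_coe] at this
      have hx2 : a (x ^ 2) = x ^ 2 := Subtype.ext <| by
        rw [← autFn_coe]
        refine (haM.2 _ ?_).2 ?_
        · rw [SubmonoidClass.coe_pow]
          exact D.pow_mem hx 2
        · subst hp2
          rw [SubmonoidClass.coe_pow, ← pow_mul]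
          exact hx4
      rw [autFn_coe] at h1
      obtain ⟨j, hj⟩ := Subgroup.mem_zpowers_iff.1 h1
      have hcomm : Commute x (a x) := Subtype.ext <| by
        show (x : Ω) * (a x : P) = (a x : P) * x
        rw [← hj]
        exact ((Commute.refl (x : Ω)).zpow_right j).eq
      rw [autFn_coe]
      refine congrArg Subtype.val (fixed_of_fixed_shift (hS.to_le hPS) hc (Subtype.ext ?_))
      rw [← autFn_coe]
      refine (haM.2 _ hyD).2 ?_
      subst hp2
      rw [← SubmonoidClass.coe_pow, hcomm.inv_left.mul_pow, ← map_pow, hx2, inv_pow, inv_mul_cancel]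
      rfl

end CfsgLib.Fsys
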