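import Cfsg.Agent.Lib.FusionSystem.Inner
import Cfsg.Agent.Lib.FusionSystem.SmallElements
/-
Coprime automorphisms of dihedral, quaternion and abelian 2-groups with distinct invariants are trivial.
-/
set_option autoImplicit false

namespace CfsgLib.Fsys

open Cfsg

/-- An odd-order automorphism of a 2-group with a cyclic maximal subgroup containing all elements of
that order is trivial. -/
theorem eq_one_of_cyclic_max {G : Type*} [Group G] [Finite G] (hG : IsPGroup 2 G) {r : G} {m : ℕ}
    (hr : orderOf r = 2 ^ (m + 1)) (hidx : Nat.card G = 2 ^ (m + 2))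
    (hall : ∀ x : G, orderOf x = 2 ^ (m + 1) → x ∈ Subgroup.zpowers r) {a : MulAut G}
    (ha : Nat.Coprime (orderOf a) 2) : a = 1 := by
  have hi : (Subgroup.zpowers r).index = 2 := by
    have h := Subgroup.card_mul_index (Subgroup.zpowers r)
    rw [Nat.card_zpowers, hr, hidx, pow_succ 2 (m + 1)] at h
    exact Nat.eq_of_mul_eq_mul_left (by positivity) h
  have har : a r ∈ Subgroup.zpowers r := hall _ (by rw [MulEquiv.orderOf_eq, hr])
  obtain ⟨k, hk⟩ := mem_powers_iff_mem_zpowers.2 har
  have hodd : Odd k := by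
    by_contra h
    obtain ⟨j, hj⟩ := Nat.not_odd_iff_even.1 h
    have h1 : (a r) ^ 2 ^ m = 1 := by
      rw [← hk, ← pow_mul, show k * 2 ^ m = 2 ^ (m + 1) * j by rw [hj, pow_succ]; ring, pow_mul, ← hr,
        pow_orderOf_eq_one, one_pow]
    have h2 := orderOf_dvd_of_pow_eq_one h1
    rw [MulEquiv.orderOf_eq, hr] at h2
    have := Nat.le_of_dvd (by positivity) h2
    have : 2 ^ m < 2 ^ (m + 1) := Nat.pow_lt_pow_right (by norm_num) (by omega)
    omega
  have hfix : ∀ i ≤ m + 1, a (r ^ 2 ^ (m + 1 - i)) = r ^ 2 ^ (m + 1 - i) := by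
    intro i
    induction i with
    | zero => exact fun _ => by rw [Nat.sub_zero, ← hr, pow_orderOf_eq_one, map_one]
    | succ i ih =>
      intro hi'
      refine fixed_of_fixed_shift hG ha ?_
      obtain ⟨j, hj⟩ := hodd
      rw [show (r ^ 2 ^ (m + 1 - (i + 1)))⁻¹ * a (r ^ 2 ^ (m + 1 - (i + 1))) = (r ^ 2 ^ (m + 1 - i)) ^ j by
        rw [map_pow, ← hk, ← pow_mul, ← pow_mul, inv_mul_eq_iff_eq_mul, ← pow_add,
          show m + 1 - i = m + 1 - (i + 1) + 1 by omega, pow_succ, hj]
        ring_nf, map_pow, ih (by omega)]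
  have hrfix : a r = r := by simpa using hfix (m + 1) le_rfl
  have hR : ∀ y ∈ Subgroup.zpowers r, a y = y := fun y hy => by
    obtain ⟨j, rfl⟩ := Subgroup.mem_zpowers_iff.1 hy
    rw [map_zpow, hrfix]
  refine MulEquiv.ext fun x => fixed_of_fixed_shift hG ha (hR _ ?_)
  by_cases hx : x ∈ Subgroup.zpowers r
  · rw [hR x hx, inv_mul_cancel]
    exact Subgroup.one_mem _
  · refine (Subgroup.mul_mem_iff_of_index_two hi).2 ⟨fun h => absurd ((Subgroup.inv_mem_iff _).1 h) hx,
      fun h => absurd ?_ hx⟩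
    have h2 := hR _ h
    rwa [a.injective h2] at h

theorem dihedral_quaternion_aut {G : Type*} [Group G] [Finite G] (n : ℕ) (hn : 4 ≤ n)
    (hshape : Nonempty (G ≃* DihedralGroup (2 ^ (n - 1))) ∨ Nonempty (G ≃* QuaternionGroup (2 ^ (n - 2))))
    {a : MulAut G} (ha : Nat.Coprime (orderOf a) 2) : a = 1 := by
  obtain ⟨m, rfl⟩ : ∃ m, n = m + 4 := ⟨n - 4, by omega⟩
  rcases hshape with h | h
  · rw [show m + 4 - 1 = m + 2 + 1 by omega] at h
    obtain ⟨e⟩ := h
    have hcard : Nat.card G = 2 ^ (m + 2 + 2) := by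
      rw [Nat.card_congr e.toEquiv, DihedralGroup.nat_card]
      ring
    refine eq_one_of_cyclic_max (IsPGroup.of_card hcard) (r := e.symm (DihedralGroup.r 1)) ?_ hcard
      (fun x hx => ?_) ha
    · rw [MulEquiv.orderOf_eq, DihedralGroup.orderOf_r_one]
    · rw [← MulEquiv.orderOf_eq e] at hx
      cases hex : e x with
      | r i =>
        refine ⟨(i.val : ℤ), ?_⟩
        show e.symm (DihedralGroup.r 1) ^ (i.val : ℤ) = x
        rw [zpow_natCast, ← map_pow, DihedralGroup.r_one_pow, ZMod.natCast_zmod_val, ← hex, e.symm_apply_apply]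
      | sr i =>
        rw [hex, DihedralGroup.orderOf_sr] at hx
        exfalso
        have : 2 ^ 2 ≤ 2 ^ (m + 2 + 1) := Nat.pow_le_pow_right (by norm_num) (by omega)
        omega
  · rw [show m + 4 - 2 = m + 2 by omega] at h
    obtain ⟨e⟩ := h
    have hcard : Nat.card G = 2 ^ (m + 2 + 2) := by
      rw [Nat.card_congr e.toEquiv, Nat.card_eq_fintype_card, QuaternionGroup.card]
      ring
    refine eq_one_of_cyclic_max (IsPGroup.of_card hcard) (r := e.symm (QuaternionGroup.a 1)) ?_ hcard
      (fun x hx => ?_) ha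
    · rw [MulEquiv.orderOf_eq, QuaternionGroup.orderOf_a_one]
      ring
    · rw [← MulEquiv.orderOf_eq e] at hx
      cases hex : e x with
      | a i =>
        refine ⟨(i.val : ℤ), ?_⟩
        show e.symm (QuaternionGroup.a 1) ^ (i.val : ℤ) = x
        rw [zpow_natCast, ← map_pow, QuaternionGroup.a_one_pow, ZMod.natCast_zmod_val, ← hex, e.symm_apply_apply]
      | xa i =>
        rw [hex, QuaternionGroup.orderOf_xa] at hx
        exfalso
        have : 2 ^ 3 ≤ 2 ^ (m + 2 + 1) := Nat.pow_le_pow_right (by norm_num) (by omega)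
        omega

theorem two_torsion_zmod {k : ℕ} (x : ZMod (2 ^ (k + 1))) (hx : x + x = 0) :
    x = 0 ∨ x = ((2 ^ k : ℕ) : ZMod (2 ^ (k + 1))) := by
  have h : ((x.val + x.val : ℕ) : ZMod (2 ^ (k + 1))) = 0 := by
    push_cast
    rw [ZMod.natCast_zmod_val]
    exact hx
  rw [ZMod.natCast_eq_zero_iff] at h
  obtain ⟨c, hc⟩ := h
  have hlt := ZMod.val_lt x
  rw [← ZMod.natCast_zmod_val x]
  have hpk : 2 ^ (k + 1) = 2 ^ k * 2 := pow_succ 2 k
  generalize x.val = xv at hc hlt ⊢
  generalize 2 ^ (k + 1) = N at hc hlt hpk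
  have hc2 : c < 2 := by
    by_contra h
    nlinarith
  interval_cases c
  · left
    rw [show xv = 0 by omega, Nat.cast_zero]
  · right
    rw [show xv = 2 ^ k by omega]

theorem two_pow_shift {k j : ℕ} (x : ZMod (2 ^ k)) (hx : x + x = 0) (hj : j < k) :
    ∃ w : ZMod (2 ^ k), x = (2 ^ j : ℕ) • w := by
  obtain ⟨k, rfl⟩ : ∃ k', k = k' + 1 := ⟨k - 1, by omega⟩
  rcases two_torsion_zmod x hx with rfl | rfl
  · exact ⟨0, by rw [nsmul_zero]⟩
  · exact ⟨((2 ^ (k - j) : ℕ) : ZMod _), by
      rw [nsmul_eq_mul, ← Nat.cast_mul, ← pow_add, show j + (k - j) = k by omega]⟩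

theorem abelian_distinct_aut {G : Type*} [Group G] [Finite G] (n : ℕ) (a : Fin n → ℕ) (ha : StrictMono a)
    (e : G ≃* Multiplicative ((i : Fin n) → ZMod (2 ^ a i))) (hG : IsPGroup 2 G)
    {σ : MulAut G} (hσ : Nat.Coprime (orderOf σ) 2) : σ = 1 := by
  let v : G → (i : Fin n) → ZMod (2 ^ a i) := fun x => Multiplicative.toAdd (e x)
  have hv2 : ∀ x : G, x ^ 2 = 1 → ∀ i, v x i + v x i = 0 := fun x hx i => by
    have := congrArg v hx
    simp only [v, map_pow, map_one, toAdd_pow, toAdd_one] at this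
    have h := congrFun this i
    simpa [two_nsmul, two_mul, v] using h
  have hlev : ∀ (j : ℕ) (x : G), x ^ 2 = 1 → ((∃ w : G, x = w ^ 2 ^ j) ↔ ∀ i, a i ≤ j → v x i = 0) := by
    intro j x hx
    constructor
    · rintro ⟨w, rfl⟩ i hi
      obtain ⟨c, hc⟩ := Nat.exists_eq_add_of_le hi
      simp only [v, map_pow, toAdd_pow, Pi.smul_apply, nsmul_eq_mul]
      rw [hc, pow_add, Nat.cast_mul, ZMod.natCast_self, zero_mul, zero_mul]
    · intro h
      have : ∀ i, ∃ w : ZMod (2 ^ a i), v x i = (2 ^ j : ℕ) • w := fun i => by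
        rcases le_or_gt (a i) j with hi | hi
        · exact ⟨0, by rw [h i hi, nsmul_zero]⟩
        · exact two_pow_shift _ (hv2 x hx i) hi
      choose w hw using this
      refine ⟨e.symm (Multiplicative.ofAdd w), e.injective ?_⟩
      rw [map_pow, MulEquiv.apply_symm_apply]
      exact Multiplicative.toAdd.injective (funext fun i => by
        rw [toAdd_pow, toAdd_ofAdd, Pi.smul_apply]; exact hw i)
  obtain ⟨J, hJ⟩ : ∃ J, ∀ i, a i ≤ J := ⟨Finset.univ.sup a, fun i => Finset.le_sup (Finset.mem_univ i)⟩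
  have hsq : ∀ k ≤ J, ∀ x : G, x ^ 2 = 1 → (∃ w : G, x = w ^ 2 ^ (J - k)) → σ x = x := by
    intro k
    induction k with
    | zero =>
      intro _ x hx hw
      have h0 : v x = 0 := funext fun i => (hlev J x hx).1 (by simpa using hw) i (hJ i)
      have : e x = 1 := Multiplicative.toAdd.injective h0
      rw [(MulEquiv.map_eq_one_iff e).1 this, map_one]
    | succ k ih =>
      intro hk x hx hw
      have hσx : (σ x) ^ 2 = 1 := by rw [← map_pow, hx, map_one]
      have hσw : ∃ w : G, σ x = w ^ 2 ^ (J - (k + 1)) := by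
        obtain ⟨w, rfl⟩ := hw
        exact ⟨σ w, map_pow _ _ _⟩
      refine fixed_of_fixed_shift hG hσ (ih (by omega) _ ?_ ?_)
      · have hc : Commute x⁻¹ (σ x) := by
          refine e.injective ?_
          rw [map_mul, map_mul, mul_comm]
        rw [hc.mul_pow, inv_pow, hx, hσx, inv_one, one_mul]
      · have hy : (x⁻¹ * σ x) ^ 2 = 1 := by
          have hc : Commute x⁻¹ (σ x) := by
            refine e.injective ?_
            rw [map_mul, map_mul, mul_comm]
          rw [hc.mul_pow, inv_pow, hx, hσx, inv_one, one_mul]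
        refine (hlev _ _ hy).2 fun i hi => ?_
        have hvy : v (x⁻¹ * σ x) i = - v x i + v (σ x) i := by
          simp [v]
        rw [hvy]
        rcases lt_or_eq_of_le (show a i ≤ J - (k + 1) + 1 by omega) with hlt | heq
        · rw [(hlev _ x hx).1 hw i (by omega), (hlev _ _ hσx).1 hσw i (by omega), neg_zero, zero_add]
        · -- the unique coordinate of exponent `J - k`
          have key : ∀ y : G, y ^ 2 = 1 → (∃ w : G, y = w ^ 2 ^ (J - (k + 1))) →
              (v y i = 0 ↔ ∃ w : G, y = w ^ 2 ^ (J - k)) := by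
            intro y hy' hyw
            rw [hlev _ y hy']
            refine ⟨fun h0 l hl => ?_, fun h => h i hi⟩
            rcases lt_or_eq_of_le (show a l ≤ J - (k + 1) + 1 by omega) with hl' | hl'
            · exact (hlev _ y hy').1 hyw l (by omega)
            · obtain rfl : l = i := ha.injective (by omega)
              exact h0
          have hiff : v x i = 0 ↔ v (σ x) i = 0 := by
            rw [key x hx hw, key _ hσx hσw]
            refine ⟨fun ⟨w, hw'⟩ => ⟨σ w, by rw [hw', map_pow]⟩, fun ⟨w, hw'⟩ => ⟨σ.symm w, ?_⟩⟩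
            rw [← map_pow, ← hw', MulEquiv.symm_apply_apply]
          have tors : ∀ y : G, y ^ 2 = 1 → v y i = 0 ∨ v y i = ((2 ^ (J - (k + 1)) : ℕ) : ZMod (2 ^ a i)) := by
            intro y hy'
            have hy2 := hv2 y hy' i
            revert hy2
            generalize v y i = z
            generalize hai : a i = c at z ⊢
            obtain rfl : c = J - (k + 1) + 1 := hai ▸ heq
            exact two_torsion_zmod z
          rcases tors x hx with h1 | h1
          · rw [h1, hiff.1 h1, neg_zero, zero_add]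
          · rcases tors _ hσx with h2 | h2
            · rw [h2, hiff.2 h2, neg_zero, zero_add]
            · rw [h1, h2, neg_add_cancel]
  have htor : ∀ x : G, x ^ 2 = 1 → σ x = x := fun x hx =>
    hsq J le_rfl x hx ⟨x, by rw [Nat.sub_self, pow_zero, pow_one]⟩
  refine MulEquiv.ext fun x => ?_
  show σ x = x
  obtain ⟨k, hk⟩ := hG x
  induction k generalizing x with
  | zero => rw [pow_zero, pow_one] at hk; rw [hk, map_one]
  | succ k ih =>
    refine fixed_of_fixed_shift hG hσ (ih _ ?_)
    have hc : Commute x⁻¹ (σ x) := e.injective (by rw [map_mul, map_mul, mul_comm])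
    have h2 : (x ^ 2 ^ k) ^ 2 = 1 := by rw [← pow_mul, ← pow_succ, hk]
    rw [hc.mul_pow, inv_pow, ← map_pow, htor _ h2, inv_mul_cancel]

end CfsgLib.Fsys
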