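import Cfsg.Agent.Lib.FusionSystem.Normal
import Cfsg.Agent.Lib.FusionSystem.StronglyEmbedded
import Cfsg.Agent.Lib.KGroups.TISL2

/-! Essential subgroups of order `p²`. -/

set_option autoImplicit false

open Cfsg Cfsg.FusionSystem

namespace CfsgLib.Fsys

open scoped Matrix

section Abstract

variable {H : Type*} [Group H] [Finite H] {p : ℕ} [Fact p.Prime]

omit [Finite H] [Fact p.Prime] in
theorem mulAut_comm_of_cyclic (hc : IsCyclic H) (α β : MulAut H) : α * β = β * α := by
  obtain ⟨g, hg⟩ := hc.exists_generator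
  obtain ⟨i, hi⟩ := Subgroup.mem_zpowers_iff.1 (hg (α g))
  obtain ⟨j, hj⟩ := Subgroup.mem_zpowers_iff.1 (hg (β g))
  have key : α (β g) = β (α g) := by
    rw [← hi, ← hj, map_zpow, map_zpow, ← hi, ← hj, ← zpow_mul, ← zpow_mul, mul_comm]
  ext x
  obtain ⟨n, rfl⟩ := Subgroup.mem_zpowers_iff.1 (hg x)
  rw [MulAut.mul_apply, MulAut.mul_apply, map_zpow, map_zpow, map_zpow, map_zpow, key]

theorem exists_fix_ne_one (hH : IsPGroup p H) [Nontrivial H] {a : MulAut H} (ha : a ^ p = 1) :
    ∃ v : H, v ≠ 1 ∧ a v = v := by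
  obtain ⟨k, -, hk⟩ := (Nat.dvd_prime_pow Fact.out).1
    (orderOf_dvd_of_pow_eq_one (show a ^ p ^ 1 = 1 by rwa [pow_one]))
  have hp : IsPGroup p (Subgroup.zpowers a) := IsPGroup.of_card ((Nat.card_zpowers a).trans hk)
  have hdvd : p ∣ Nat.card H := by
    obtain ⟨n, hn, e⟩ := hH.nontrivial_iff_card.1 inferInstance
    exact e ▸ dvd_pow_self p hn.ne'
  obtain ⟨v, hv, hne⟩ := hp.exists_fixed_point_of_prime_dvd_card_of_fixed_point H hdvd
    (a := 1) (fun g => map_one (g : MulAut H))
  exact ⟨v, hne.symm, hv ⟨a, Subgroup.mem_zpowers a⟩⟩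

/-- `SL(2,p)` inside a group of automorphisms of an elementary abelian group of order `p²`. -/
theorem exists_sl_two (hcard : Nat.card H = p ^ 2) (hexp : ∀ x : H, x ^ p = 1)
    (A : Subgroup (MulAut H)) {a b : MulAut H} (ha : a ∈ A) (hb : b ∈ A) (hap : a ^ p = 1) (hbp : b ^ p = 1)
    (ha1 : a ≠ 1) (hba : b ∉ Subgroup.zpowers a) :
    ∃ K : Subgroup A, Nonempty (↥K ≃* Matrix.SpecialLinearGroup (Fin 2) (ZMod p)) := by
  have hp := (Fact.out : p.Prime)
  have hH : IsPGroup p H := IsPGroup.of_card hcard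
  have : Nontrivial H := hH.nontrivial_iff_card.2 ⟨2, by norm_num, hcard⟩
  have hcomm : ∀ x y : H, x * y = y * x := fun x y =>
    (IsPGroup.isMulCommutative_of_card_eq_prime_sq hcard).1.1 x y
  have hpm : ∀ (x : H) (n : ℕ), x ^ (n % p) = x ^ n := fun x n => (pow_eq_pow_mod n (hexp x)).symm
  -- coordinates with respect to two independent elements
  have coords : ∀ v w : H, v ≠ 1 → w ∉ Subgroup.zpowers v →
      ∃ f : Multiplicative (Fin 2 → ZMod p) ≃* H,
        ∀ x, f x = v ^ (Multiplicative.toAdd x 0).val * w ^ (Multiplicative.toAdd x 1).val := by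
    intro v w hv hw
    let g : Multiplicative (Fin 2 → ZMod p) →* H := MonoidHom.mk'
      (fun x => v ^ (Multiplicative.toAdd x 0).val * w ^ (Multiplicative.toAdd x 1).val) fun x y => by
        simp only [toAdd_mul, Pi.add_apply, ZMod.val_add, hpm, pow_add]
        exact (show Commute (v ^ (Multiplicative.toAdd y 0).val) (w ^ (Multiplicative.toAdd x 1).val) from hcomm _ _).mul_mul_mul_comm _ _
    have hinj : Function.Injective g := by
      refine (injective_iff_map_eq_one g).2 fun x hx => ?_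
      change v ^ (Multiplicative.toAdd x 0).val * w ^ (Multiplicative.toAdd x 1).val = 1 at hx
      have h1 : Multiplicative.toAdd x 1 = 0 := by
        by_contra h1
        have hco : Nat.Coprime (Multiplicative.toAdd x 1).val p := by
          refine ((hp.coprime_iff_not_dvd).2 fun hd => h1 ?_).symm
          rw [← ZMod.natCast_zmod_val (Multiplicative.toAdd x 1)]
          exact (ZMod.natCast_eq_zero_iff _ _).2 hd
        obtain ⟨m, -, hm⟩ := Nat.exists_mul_mod_eq_one_of_coprime hco hp.one_lt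
        refine hw ?_
        have hw' : w ^ (Multiplicative.toAdd x 1).val ∈ Subgroup.zpowers v := by
          rw [eq_inv_of_mul_eq_one_right hx]
          exact Subgroup.inv_mem _ (Subgroup.pow_mem _ (Subgroup.mem_zpowers v) _)
        have := Subgroup.pow_mem _ hw' m
        rwa [← pow_mul, ← hpm, hm, pow_one] at this
      have h0 : Multiplicative.toAdd x 0 = 0 := by
        by_contra h0
        have hne : (Multiplicative.toAdd x 0).val ≠ 0 := fun h => h0 ((ZMod.val_eq_zero _).1 h)
        rw [h1, ZMod.val_zero, pow_zero, mul_one] at hx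
        have hlt : (Multiplicative.toAdd x 0).val < p := ZMod.val_lt _
        have ho : orderOf v = p := orderOf_eq_prime (hexp v) hv
        have := Nat.le_of_dvd (Nat.pos_of_ne_zero hne) (orderOf_dvd_of_pow_eq_one hx)
        omega
      apply Multiplicative.toAdd.injective
      funext i
      fin_cases i
      · exact h0
      · exact h1
    have hbij : Function.Bijective g := by
      refine (Nat.bijective_iff_injective_and_card g).2 ⟨hinj, ?_⟩
      rw [hcard, Nat.card_congr Multiplicative.toAdd, Nat.card_fun, Nat.card_zmod, Nat.card_fin]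
    exact ⟨MulEquiv.ofBijective g hbij, fun x => rfl⟩
  have shear : ∀ (v w : H), v ≠ 1 → w ∉ Subgroup.zpowers v → ∀ c : MulAut H, c ^ p = 1 → c v = v →
      ∃ i : ℕ, c w = v ^ i * w := by
    intro v w hv hw c hc hcv
    obtain ⟨f, hf⟩ := coords v w hv hw
    obtain ⟨x, hx⟩ := f.surjective (c w)
    rw [hf] at hx
    set i := (Multiplicative.toAdd x 0).val
    set j := (Multiplicative.toAdd x 1).val
    have hn : ∀ n : ℕ, ∃ k : ℕ, (c ^ n) w = v ^ k * w ^ (j ^ n) := by
      intro n
      induction n with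
      | zero => exact ⟨0, by simp⟩
      | succ n ih =>
        obtain ⟨k, hk⟩ := ih
        refine ⟨k + i * j ^ n, ?_⟩
        rw [pow_succ' c, MulAut.mul_apply, hk, map_mul, map_pow, map_pow, hcv, ← hx,
          (show Commute (v ^ i) (w ^ j) from hcomm _ _).mul_pow, ← pow_mul, ← pow_mul, ← mul_assoc, ← pow_add,
          pow_succ' j]
    obtain ⟨k, hk⟩ := hn p
    rw [hc] at hk
    change w = v ^ k * w ^ (j ^ p) at hk
    have hj : (j : ZMod p) = 1 := by
      have e : f (Multiplicative.ofAdd ![(0 : ZMod p), 1]) =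
          f (Multiplicative.ofAdd ![(k : ZMod p), ((j ^ p : ℕ) : ZMod p)]) := by
        rw [hf, hf]
        simp only [toAdd_ofAdd, Matrix.cons_val_zero, Matrix.cons_val_one, ZMod.val_zero, pow_zero, one_mul,
          ZMod.val_one, pow_one, ZMod.val_natCast, hpm]
        exact hk
      have := congrArg (fun y : Multiplicative (Fin 2 → ZMod p) => Multiplicative.toAdd y 1) (f.injective e)
      simp only [toAdd_ofAdd, Matrix.cons_val_one, Nat.cast_pow, ZMod.pow_card] at this
      exact this.symm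
    refine ⟨i, ?_⟩
    rw [← hx]
    congr 1
    have hj' : j % p = 1 := by
      have := congrArg ZMod.val hj
      rwa [ZMod.val_natCast, ZMod.val_one] at this
    rw [← hpm, hj', pow_one]
  obtain ⟨v, hv, hav⟩ := exists_fix_ne_one hH hap
  obtain ⟨w, hw, hbw⟩ := exists_fix_ne_one hH hbp
  have hind : w ∉ Subgroup.zpowers v := by
    intro hwv
    obtain ⟨u, hu⟩ : ∃ u : H, u ∉ Subgroup.zpowers v := by
      by_contra hall
      push_neg at hall
      have := Subgroup.card_le_of_le (show (⊤ : Subgroup H) ≤ Subgroup.zpowers v from fun x _ => hall x)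
      rw [Subgroup.card_top, Nat.card_zpowers, hcard, orderOf_eq_prime (hexp v) hv] at this
      nlinarith [hp.one_lt]
    have hbv : b v = v := by
      obtain ⟨k, rfl⟩ := Subgroup.mem_zpowers_iff.1 hwv
      have hne : ¬ (p : ℤ) ∣ k := fun ⟨l, hl⟩ => hw (by rw [hl, _root_.zpow_mul, zpow_natCast, hexp, one_zpow])
      obtain ⟨s, t, hst⟩ := (Prime.coprime_iff_not_dvd (Nat.prime_iff_prime_int.1 hp)).2 hne
      have hvk : v = (v ^ k) ^ t := by
        conv_lhs => rw [← zpow_one v, ← hst, _root_.zpow_add, mul_comm s, mul_comm t, _root_.zpow_mul,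
          _root_.zpow_mul, zpow_natCast, hexp, one_zpow, one_mul]
      rw [hvk, map_zpow, hbw]
    obtain ⟨i, hi⟩ := shear v u hv hu a hap hav
    obtain ⟨j, hj⟩ := shear v u hv hu b hbp hbv
    have hi0 : ¬ p ∣ i := fun ⟨l, hl⟩ => ha1 (by
      obtain ⟨f, hf⟩ := coords v u hv hu
      ext x
      obtain ⟨y, rfl⟩ := f.surjective x
      rw [hf, map_mul, map_pow, map_pow, hav, hi, hl, pow_mul, hexp, one_pow, one_mul]
      rfl)
    obtain ⟨m, -, hm⟩ := Nat.exists_mul_mod_eq_one_of_coprime ((hp.coprime_iff_not_dvd).2 hi0).symm hp.one_lt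
    refine hba ?_
    have hpowa : ∀ n : ℕ, (a ^ n) v = v ∧ (a ^ n) u = v ^ (i * n) * u := by
      intro n
      induction n with
      | zero => simp
      | succ n ih =>
        refine ⟨by rw [pow_succ' a, MulAut.mul_apply, ih.1, hav], ?_⟩
        rw [pow_succ' a, MulAut.mul_apply, ih.2, map_mul, map_pow, hav, hi, ← mul_assoc, ← pow_add, mul_add_one]
    have : b = a ^ (m * j) := by
      obtain ⟨f, hf⟩ := coords v u hv hu
      ext x
      obtain ⟨y, rfl⟩ := f.surjective x
      rw [hf, map_mul, map_pow, map_pow, hbv, hj, map_mul, map_pow, map_pow, (hpowa _).1, (hpowa _).2,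
        show i * (m * j) = i * m * j by ring, pow_mul v (i * m), ← hpm v (i * m), hm, pow_one]
    rw [this]
    exact Subgroup.pow_mem _ (Subgroup.mem_zpowers a) _
  obtain ⟨f, hf⟩ := coords v w hv hind
  obtain ⟨i, hi⟩ := shear v w hv hind a hap hav
  have hind' : v ∉ Subgroup.zpowers w := fun h => by
    obtain ⟨k, hk⟩ := Subgroup.mem_zpowers_iff.1 h
    have hne : ¬ (p : ℤ) ∣ k := fun ⟨l, hl⟩ => hv (by rw [← hk, hl, _root_.zpow_mul, zpow_natCast, hexp, one_zpow])
    obtain ⟨s, t, hst⟩ := (Prime.coprime_iff_not_dvd (Nat.prime_iff_prime_int.1 hp)).2 hne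
    refine hind ⟨t, ?_⟩
    show v ^ t = w
    rw [← hk, ← _root_.zpow_mul]
    conv_rhs => rw [← zpow_one w, ← hst, _root_.zpow_add, mul_comm s, _root_.zpow_mul, zpow_natCast, hexp, one_zpow,
      one_mul, mul_comm t]
  obtain ⟨j, hj⟩ := shear w v hw hind' b hbp hbw
  have hnd : ∀ (c : MulAut H) (x y : H) (n : ℕ), c ≠ 1 → c x = x → c y = x ^ n * y →
      (∀ z, ∃ k l : ℕ, z = x ^ k * y ^ l) → ¬ p ∣ n := fun c x y n hc hx hy hz ⟨l, hl⟩ => hc (by
    ext z
    obtain ⟨k, m, rfl⟩ := hz z
    rw [map_mul, map_pow, map_pow, hx, hy, hl, pow_mul, hexp, one_pow, one_mul]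
    rfl)
  have hspan : ∀ z, ∃ k l : ℕ, z = v ^ k * w ^ l := fun z => by
    obtain ⟨y, rfl⟩ := f.surjective z
    exact ⟨_, _, hf y⟩
  have hb1 : b ≠ 1 := fun h => hba (h ▸ Subgroup.one_mem _)
  have hi0 := hnd a v w i ha1 hav hi hspan
  have hj0 := hnd b w v j hb1 hbw hj fun z => by
    obtain ⟨k, l, rfl⟩ := hspan z
    exact ⟨l, k, hcomm _ _⟩
  -- the representation
  let θ : Matrix.SpecialLinearGroup (Fin 2) (ZMod p) →* MulAut H :=
    MonoidHom.mk' (fun M => (MulAut.congr f) (AddEquiv.toMultiplicative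
      { toFun := fun x => M.1 *ᵥ x
        invFun := fun x => (M⁻¹).1 *ᵥ x
        left_inv := fun x => by
          simp only [Matrix.mulVec_mulVec, ← Matrix.SpecialLinearGroup.coe_mul, inv_mul_cancel,
            Matrix.SpecialLinearGroup.coe_one, Matrix.one_mulVec]
        right_inv := fun x => by
          simp only [Matrix.mulVec_mulVec, ← Matrix.SpecialLinearGroup.coe_mul, mul_inv_cancel,
            Matrix.SpecialLinearGroup.coe_one, Matrix.one_mulVec]
        map_add' := fun x y => Matrix.mulVec_add _ _ _ })) fun M N => by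
      ext x
      obtain ⟨y, rfl⟩ := f.surjective x
      simp [MulAut.congr, ← Matrix.mulVec_mulVec]
  have hθ : ∀ M x, θ M (f (Multiplicative.ofAdd x)) = f (Multiplicative.ofAdd (M.1 *ᵥ x)) := fun M x => by
    simp [θ, MulAut.congr]
  have hinj : Function.Injective θ := by
    intro M N h
    apply Subtype.ext
    refine Matrix.toLin'.injective (LinearMap.ext fun x => ?_)
    have := DFunLike.congr_fun h (f (Multiplicative.ofAdd x))
    rw [hθ, hθ] at this
    simpa [Matrix.toLin'_apply] using Multiplicative.ofAdd.injective (f.injective this)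
  have hagree : ∀ (M : Matrix.SpecialLinearGroup (Fin 2) (ZMod p)) (c : MulAut H),
      θ M v = c v → θ M w = c w → θ M = c := fun M c h1 h2 => by
    ext z
    obtain ⟨k, l, rfl⟩ := hspan z
    rw [map_mul, map_mul, map_pow, map_pow, map_pow, map_pow, h1, h2]
  have hone : (1 : ℕ) % p = 1 := Nat.one_mod_eq_one.2 hp.ne_one
  have hfv : f (Multiplicative.ofAdd ![1, 0]) = v := by
    rw [hf]; simp [ZMod.val_one]
  have hfw : f (Multiplicative.ofAdd ![0, 1]) = w := by
    rw [hf]; simp [ZMod.val_one]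
  have hup : ∀ n : ℕ, θ (CfsgLib.KGroups.TILarge.upT ((i * n : ℕ) : ZMod p)) = a ^ n := by
    intro n
    have hpa : (a ^ n) v = v ∧ (a ^ n) w = v ^ (i * n) * w := by
      induction n with
      | zero => simp
      | succ n ih =>
        refine ⟨by rw [pow_succ' a, MulAut.mul_apply, ih.1, hav], ?_⟩
        rw [pow_succ' a, MulAut.mul_apply, ih.2, map_mul, map_pow, hav, hi, ← mul_assoc, ← pow_add, mul_add_one]
    refine hagree _ _ ?_ ?_
    · rw [← hfv, hθ, hfv, hpa.1, hf]
      simp [CfsgLib.KGroups.TILarge.upT, Matrix.mulVec, dotProduct, Fin.sum_univ_two, ZMod.val_one]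
    · rw [← hfw, hθ, hfw, hpa.2, hf]
      simp [CfsgLib.KGroups.TILarge.upT, Matrix.mulVec, dotProduct, Fin.sum_univ_two, ZMod.val_one, ← Nat.cast_mul,
        ZMod.val_natCast, hpm]
  have hlow : ∀ n : ℕ, θ (CfsgLib.KGroups.TILarge.lowT ((j * n : ℕ) : ZMod p)) = b ^ n := by
    intro n
    have hpb : (b ^ n) w = w ∧ (b ^ n) v = w ^ (j * n) * v := by
      induction n with
      | zero => simp
      | succ n ih =>
        refine ⟨by rw [pow_succ' b, MulAut.mul_apply, ih.1, hbw], ?_⟩
        rw [pow_succ' b, MulAut.mul_apply, ih.2, map_mul, map_pow, hbw, hj, ← mul_assoc, ← pow_add, mul_add_one]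
    refine hagree _ _ ?_ ?_
    · rw [← hfv, hθ, hfv, hpb.2, hf]
      simp [CfsgLib.KGroups.TILarge.lowT, Matrix.mulVec, dotProduct, Fin.sum_univ_two, ZMod.val_one, ← Nat.cast_mul,
        ZMod.val_natCast, hpm]
      exact hcomm _ _
    · rw [← hfw, hθ, hfw, hpb.1, hf]
      simp [CfsgLib.KGroups.TILarge.lowT, Matrix.mulVec, dotProduct, Fin.sum_univ_two, ZMod.val_one]
  have hall : ∀ M, θ M ∈ A := by
    have hsolve : ∀ n : ℕ, ¬ p ∣ n → ∀ σ : ZMod p, ∃ k : ℕ, σ = ((n * k : ℕ) : ZMod p) := fun n hn σ => by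
      refine ⟨(σ * (n : ZMod p)⁻¹).val, ?_⟩
      have hne : (n : ZMod p) ≠ 0 := fun h => hn ((ZMod.natCast_eq_zero_iff _ _).1 h)
      rw [Nat.cast_mul, ZMod.natCast_zmod_val]
      field_simp
    intro M
    refine CfsgLib.KGroups.TILarge.transvections_generate (K := A.comap θ) (fun σ => ?_) (fun σ => ?_) M
    · obtain ⟨k, rfl⟩ := hsolve i hi0 σ
      show θ _ ∈ A
      rw [hup]
      exact A.pow_mem ha k
    · obtain ⟨k, rfl⟩ := hsolve j hj0 σ
      show θ _ ∈ A
      rw [hlow]
      exact A.pow_mem hb k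
  let θA : Matrix.SpecialLinearGroup (Fin 2) (ZMod p) →* A := θ.codRestrict A hall
  exact ⟨θA.range, ⟨(MonoidHom.ofInjective fun M N h => hinj (congrArg Subtype.val h)).symm⟩⟩

end Abstract

variable {Ω : Type*} [Group Ω] {S P : Subgroup Ω} {F : FusionSystem S} {p : ℕ} [Fact p.Prime] [Finite S]

theorem essential_order_prime_sq (hH : F.IsEssential p P) (hcard : Nat.card P = p ^ 2) :
    IsElementaryAbelian p P ∧
      ∃ K : Subgroup ↥(F.autGroup P), Nonempty (↥K ≃* Matrix.SpecialLinearGroup (Fin 2) (ZMod p)) := by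
  have := finite_of_le_base hH.1.1
  have hp := (Fact.out : p.Prime)
  have hcomm := IsPGroup.isMulCommutative_of_card_eq_prime_sq hcard
  obtain ⟨hnorm, E, hE⟩ := hH.2.2
  have hInn : Inn P = ⊥ := by
    refine (MonoidHom.range_eq_bot_iff).2 ?_
    ext x y
    simp [hcomm.1.1 x y]
  set N := (Inn P).subgroupOf (F.autGroup P) with hN
  have hN0 : N = ⊥ := by rw [hN, hInn, Subgroup.bot_subgroupOf]
  let e : (F.autGroup P ⧸ N) ≃* F.autGroup P :=
    (QuotientGroup.quotientMulEquivOfEq hN0).trans QuotientGroup.quotientBot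
  have hcore : pCore p (F.autGroup P ⧸ N) = ⊥ := pCore_eq_bot_of_stronglyPEmbedded hE
  have hdvd : p ∣ Nat.card (F.autGroup P) := Nat.card_congr e.toEquiv ▸ hE.1
  obtain ⟨a, ha⟩ := exists_prime_orderOf_dvd_card' p hdvd
  have hnn : ∃ g : F.autGroup P, g * a * g⁻¹ ∉ Subgroup.zpowers a := by
    by_contra hall
    push_neg at hall
    have : (Subgroup.zpowers a).Normal := ⟨fun x hx g => by
      obtain ⟨k, rfl⟩ := Subgroup.mem_zpowers_iff.1 hx
      rw [← conj_zpow]
      exact Subgroup.zpow_mem _ (hall g) k⟩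
    have hZn := this.map e.symm.toMonoidHom e.symm.surjective
    have hZp : IsPGroup p (Subgroup.zpowers a) := IsPGroup.of_card (n := 1) (by rw [Nat.card_zpowers, ha, pow_one])
    have hle : (Subgroup.zpowers a).map e.symm.toMonoidHom ≤ pCore p _ :=
      CfsgLib.Solvable.Cores.le_pCore (hn := hZn) (hZp.map _)
    rw [hcore, le_bot_iff, Subgroup.map_eq_bot_iff_of_injective _ e.symm.injective] at hle
    have : a = 1 := Subgroup.mem_bot.1 (hle ▸ Subgroup.mem_zpowers a)
    rw [this, orderOf_one] at ha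
    exact hp.ne_one ha.symm
  obtain ⟨g, hg⟩ := hnn
  have hexp : ∀ x : P, x ^ p = 1 := by
    intro x
    by_contra hx
    have hord : orderOf x = p ^ 2 := by
      have hd : orderOf x ∣ p ^ 2 := hcard ▸ orderOf_dvd_natCard x
      obtain ⟨k, hk, e⟩ := (Nat.dvd_prime_pow hp).1 hd
      have h2 : k = 2 := by
        by_contra h2
        refine hx (orderOf_dvd_iff_pow_eq_one.1 (e ▸ ?_))
        interval_cases k
        · simp
        · simp
        · exact absurd rfl h2
      rw [e, h2]
    have hc : IsCyclic P := isCyclic_of_orderOf_eq_card x (hord.trans hcard.symm)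
    refine hg ?_
    have : g * a * g⁻¹ = a := Subtype.ext (by
      show (g : MulAut P) * (a : MulAut P) * (g : MulAut P)⁻¹ = (a : MulAut P)
      rw [mulAut_comm_of_cyclic hc (g : MulAut P) a, mul_inv_cancel_right])
    exact this.symm ▸ Subgroup.mem_zpowers a
  refine ⟨⟨hcomm, fun x hx => congrArg Subtype.val (hexp ⟨x, hx⟩)⟩, ?_⟩
  have hap : (a : MulAut P) ^ p = 1 := congrArg Subtype.val (ha ▸ pow_orderOf_eq_one a)
  refine exists_sl_two hcard hexp _ a.2 (g * a * g⁻¹).2 hap ?_ (fun h => ?_) fun h => hg ?_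
  · show ((g * a * g⁻¹ : F.autGroup P) : MulAut P) ^ p = 1
    have : (g * a * g⁻¹) ^ p = 1 := by rw [conj_pow, ← ha, pow_orderOf_eq_one, mul_one, mul_inv_cancel]
    exact congrArg Subtype.val this
  · have : a = 1 := Subtype.ext h
    rw [this, orderOf_one] at ha
    exact hp.ne_one ha.symm
  · obtain ⟨k, hk⟩ := Subgroup.mem_zpowers_iff.1 h
    exact ⟨k, Subtype.ext (by simpa using hk)⟩

end CfsgLib.Fsys
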