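import Cfsg.Agent.Lib.FusionSystem.KSaturated
/-
Normalizer and centralizer systems as given by predicates; equality of systems with equal maps.
-/
set_option autoImplicit false

namespace CfsgLib.Fsys

open Cfsg
open Cfsg.FusionSystem (centralizerIn normalizerIn)

variable {Ω : Type*} [Group Ω] {S : Subgroup Ω} {F : FusionSystem S} {Q : Subgroup Ω}

theorem system_ext {E E' : FusionSystem S} (h : ∀ P, E.Hom P = E'.Hom P) : E = E' := by
  cases E
  cases E'
  congr 1
  exact funext h

theorem system_cast {C : ∀ T : Subgroup Ω, FusionSystem T → Prop} {T T' : Subgroup Ω} (h : T = T')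
    {E : FusionSystem T} {E' : FusionSystem T'} (he : ∀ P, E'.Hom P = E.Hom P) (hC : C T E) :
    C T' E' := by
  subst h
  rwa [system_ext he]

theorem normalizerSystem_saturated [Finite S] {p : ℕ} [Fact p.Prime] (hS : IsPGroup p S)
    (hF : F.IsSaturated p) (hQ : F.IsFullyNormalized Q) {E : FusionSystem (normalizerIn S Q)}
    (hE : F.IsNormalizerSystem Q E) : E.IsSaturated p :=
  system_cast (C := fun _ E => E.IsSaturated p) kN_top
    (fun P => (hE P).trans (Set.ext fun _ => normalizerHom_iff))
    (kSystem_isSaturated hS hF hQ.1 (kGood_top hS hF hQ))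

theorem centralizerSystem_saturated [Finite S] {p : ℕ} [Fact p.Prime] (hS : IsPGroup p S)
    (hF : F.IsSaturated p) (hQ : F.IsFullyCentralized Q) {E : FusionSystem (centralizerIn S Q)}
    (hE : F.IsCentralizerSystem Q E) : E.IsSaturated p :=
  system_cast (C := fun _ E => E.IsSaturated p) kN_bot
    (fun P => (hE P).trans (Set.ext fun _ => centralizerHom_iff))
    (kSystem_isSaturated hS hF hQ.1 (kGood_bot hS hF hQ))

end CfsgLib.Fsys
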