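import Cfsg.Agent.Lib.FusionSystem.Alperin
import Cfsg.Agent.Lib.FusionSystem.Subsystems
/-
Subgroups normal, central, strongly closed in a fusion system; criteria for normality in saturated systems.
-/
set_option autoImplicit false

namespace CfsgLib.Fsys

open Cfsg
open Cfsg.FusionSystem (centralizerIn normalizerIn)
open scoped commutatorElement

variable {Ω : Type*} [Group Ω] {S : Subgroup Ω} {F : FusionSystem S} {P Q R : Subgroup Ω}

theorem normal_iff_fn : F.IsNormal Q ↔ Q ≤ S ∧ ∀ P f, Fn F P f →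
    ∃ g, Fn F (P ⊔ Q) g ∧ (∀ x ∈ P, g x = f x) ∧ img g Q = Q := by
  refine and_congr_right fun hQ => ⟨fun h P f hf => ?_, fun h P φ hφ => ?_⟩
  · obtain ⟨φ, hφ, hφf⟩ := hf
    obtain ⟨ψ, hψ, he, hi⟩ := h P φ hφ
    have hg : ∀ x, ψ x = ofHom ψ x := fun x => (ofHom_coe ψ x).symm
    exact ⟨_, fn_ofHom hψ, fun x hx => ((extends_iff hg).1 he x hx).trans
      ((ofHom_apply φ hx).trans (hφf ⟨x, hx⟩)), (map_subgroupOf_eq_img hg le_sup_right).symm.trans hi⟩
  · obtain ⟨g, hgF, he, hi⟩ := h P _ (fn_ofHom hφ)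
    obtain ⟨ψ, hψ, hg⟩ := id hgF
    exact ⟨ψ, hψ, (extends_iff hg).2 he, (map_subgroupOf_eq_img hg le_sup_right).trans hi⟩

theorem central_iff_fn : F.IsCentral Q ↔ Q ≤ S ∧ ∀ P f, Fn F P f →
    ∃ g, Fn F (P ⊔ Q) g ∧ (∀ x ∈ P, g x = f x) ∧ ∀ x ∈ Q, g x = x := by
  refine and_congr_right fun hQ => ⟨fun h P f hf => ?_, fun h P φ hφ => ?_⟩
  · obtain ⟨φ, hφ, hφf⟩ := hf
    obtain ⟨ψ, hψ, he, hi⟩ := h P φ hφ
    have hg : ∀ x, ψ x = ofHom ψ x := fun x => (ofHom_coe ψ x).symm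
    exact ⟨_, fn_ofHom hψ, fun x hx => ((extends_iff hg).1 he x hx).trans
      ((ofHom_apply φ hx).trans (hφf ⟨x, hx⟩)),
      fun x hx => (hg ⟨x, Subgroup.mem_sup_right hx⟩).symm.trans (hi ⟨x, hx⟩)⟩
  · obtain ⟨g, hgF, he, hi⟩ := h P _ (fn_ofHom hφ)
    obtain ⟨ψ, hψ, hg⟩ := id hgF
    exact ⟨ψ, hψ, (extends_iff hg).2 he, fun x => (hg _).trans (hi x x.2)⟩

theorem stronglyClosed_iff_fn : F.StronglyClosed Q ↔
    Q ≤ S ∧ ∀ P f, Fn F P f → ∀ x ∈ P, x ∈ Q → f x ∈ Q := by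
  refine and_congr_right fun hQ => ⟨fun h P f hf x hx hxQ => ?_, fun h R hR φ hφ x => ?_⟩
  · obtain ⟨φ, hφ, hφf⟩ := hf.mono (inf_le_left : P ⊓ Q ≤ P)
    exact hφf ⟨x, hx, hxQ⟩ ▸ h _ inf_le_right φ hφ _
  · exact ofHom_coe φ x ▸ h R _ (fn_ofHom hφ) x x.2 (hR x.2)

theorem weaklyClosed_img (h : F.WeaklyClosed Q) {f : Ω → Ω} (hQ : Q ≤ P) (hf : Fn F P f) :
    img f Q = Q := by
  obtain ⟨φ, hφ, hφf⟩ := hf.mono hQ
  exact (Fn.range_eq_img hφf).symm.trans (h.2 φ hφ)

theorem weaklyClosed_of_stronglyClosed [Finite S] (h : F.StronglyClosed Q) : F.WeaklyClosed Q := by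
  refine ⟨h.1, fun φ hφ => ?_⟩
  rw [Fn.range_eq_img fun x => (ofHom_coe φ x).symm]
  exact (fn_ofHom hφ).img_eq_self fun x hx => (stronglyClosed_iff_fn.1 h).2 _ _ (fn_ofHom hφ) x hx hx

theorem sc_conj (h : F.StronglyClosed Q) {s x : Ω} (hs : s ∈ S) (hx : x ∈ Q) : s * x * s⁻¹ ∈ Q :=
  (stronglyClosed_iff_fn.1 h).2 S _ (fn_conj le_rfl hs) x (h.1 hx) hx

theorem sc_le_normalizer (h : F.StronglyClosed Q) : S ≤ Subgroup.normalizer (Q : Set Ω) :=
  fun s hs => mem_normalizer_iff'.2 ⟨fun _ hx => sc_conj h hs hx,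
    fun x hx => by simpa using sc_conj h (S.inv_mem hs) hx⟩

theorem normal_stronglyClosed (h : F.IsNormal Q) : F.StronglyClosed Q := by
  obtain ⟨hQ, h⟩ := normal_iff_fn.1 h
  refine stronglyClosed_iff_fn.2 ⟨hQ, fun P f hf x hx hxQ => ?_⟩
  obtain ⟨g, hg, he, hi⟩ := h P f hf
  rw [← he x hx]
  exact hi.le (mem_img_of_mem hxQ)

theorem central_normal (h : F.IsCentral Q) : F.IsNormal Q := by
  obtain ⟨hQ, h⟩ := central_iff_fn.1 h
  refine normal_iff_fn.2 ⟨hQ, fun P f hf => ?_⟩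
  obtain ⟨g, hg, he, hfix⟩ := h P f hf
  exact ⟨g, hg, he, (img_congr (g := id) hfix).trans (img_id Q)⟩

theorem normal_bot : F.IsNormal ⊥ := by
  refine normal_iff_fn.2 ⟨bot_le, fun P f hf => ⟨f, by rwa [sup_bot_eq], fun _ _ => rfl, ?_⟩⟩
  refine le_antisymm (img_le fun x hx => ?_) bot_le
  rw [Subgroup.mem_bot.1 hx, hf.map_one]
  exact Subgroup.one_mem _

theorem central_bot : F.IsCentral ⊥ :=
  central_iff_fn.2 ⟨bot_le, fun P f hf => ⟨f, by rwa [sup_bot_eq], fun _ _ => rfl,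
    fun x hx => by rw [Subgroup.mem_bot.1 hx, hf.map_one]⟩⟩

theorem normal_sup (h₁ : F.IsNormal Q) (h₂ : F.IsNormal R) : F.IsNormal (Q ⊔ R) := by
  rw [normal_iff_fn] at *
  refine ⟨sup_le h₁.1 h₂.1, fun P f hf => ?_⟩
  obtain ⟨g, hg, he, hi⟩ := h₁.2 P f hf
  obtain ⟨k, hk, hke, hki⟩ := h₂.2 _ g hg
  rw [sup_assoc] at hk
  refine ⟨k, hk, fun x hx => (hke x (Subgroup.mem_sup_left hx)).trans (he x hx), ?_⟩
  rw [(hk.mono le_sup_right).img_sup, hki,
    img_congr (f := k) (g := g) fun x hx => hke x (Subgroup.mem_sup_right hx), hi]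

theorem central_sup (h₁ : F.IsCentral Q) (h₂ : F.IsCentral R) : F.IsCentral (Q ⊔ R) := by
  rw [central_iff_fn] at *
  refine ⟨sup_le h₁.1 h₂.1, fun P f hf => ?_⟩
  obtain ⟨g, hg, he, hi⟩ := h₁.2 P f hf
  obtain ⟨k, hk, hke, hki⟩ := h₂.2 _ g hg
  rw [sup_assoc] at hk
  refine ⟨k, hk, fun x hx => (hke x (Subgroup.mem_sup_left hx)).trans (he x hx), ?_⟩
  obtain ⟨φ, hφ, hφk⟩ := hk.mono (le_sup_right : Q ⊔ R ≤ P ⊔ (Q ⊔ R))
  intro x hx
  have h0 : (⊤ : Subgroup ↥(Q ⊔ R)) ≤ φ.eqLocus (Q ⊔ R).subtype := by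
    rw [← Subgroup.subgroupOf_self, Subgroup.subgroupOf_sup le_sup_left le_sup_right]
    refine sup_le (fun y hy => ?_) (fun y hy => ?_)
    · show φ y = (y : Ω)
      exact (hφk y).trans ((hke _ (Subgroup.mem_sup_right hy)).trans (hi _ hy))
    · show φ y = (y : Ω)
      exact (hφk y).trans (hki _ hy)
  exact (hφk ⟨x, hx⟩).symm.trans (h0 (Subgroup.mem_top (⟨x, hx⟩ : ↥(Q ⊔ R))))

theorem sSup_mem [Finite S] {C : Subgroup Ω → Prop} (hS : ∀ Q, C Q → Q ≤ S) (hb : C ⊥)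
    (hsup : ∀ A B, C A → C B → C (A ⊔ B)) : C (sSup {Q | C Q}) := by
  have hfin : {Q | C Q}.Finite := finite_subgroups_le.subset hS
  have : ∀ s : Finset (Subgroup Ω), (∀ Q ∈ s, C Q) → C (s.sup id) := fun s hs =>
    Finset.sup_induction hb (fun a ha b hb => hsup a b ha hb) hs
  have := this hfin.toFinset fun Q hQ => hfin.mem_toFinset.1 hQ
  rwa [Finset.sup_id_eq_sSup, hfin.coe_toFinset] at this

theorem core_normal [Finite S] : F.IsNormal F.core :=
  sSup_mem (C := F.IsNormal) (fun _ h => h.1) normal_bot fun _ _ => normal_sup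

theorem le_core (h : F.IsNormal Q) : Q ≤ F.core := le_sSup h

theorem core_le_base : F.core ≤ S := sSup_le fun _ h => h.1

theorem center_central [Finite S] : F.IsCentral F.center :=
  sSup_mem (C := F.IsCentral) (fun _ h => h.1) central_bot fun _ _ => central_sup

theorem le_center (h : F.IsCentral Q) : Q ≤ F.center := le_sSup h

/-! ### Images of commutator subgroups -/

theorem Fn.map_commutator {M A B C : Subgroup Ω} {f : Ω → Ω} (hf : Fn F M f) (hA : A ≤ M) (hB : B ≤ M)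
    (h : ∀ a ∈ A, ∀ b ∈ B, ⁅f a, f b⁆ ∈ C) {x : Ω} (hx : x ∈ ⁅A, B⁆) : f x ∈ C := by
  obtain ⟨φ, hφ, hφf⟩ := id hf
  have hle : ⁅A, B⁆ ≤ (C.comap φ).map M.subtype := by
    rw [Subgroup.commutator_le]
    intro a ha b hb
    refine ⟨⁅(⟨a, hA ha⟩ : M), (⟨b, hB hb⟩ : M)⁆, ?_, map_commutatorElement M.subtype _ _⟩
    show φ _ ∈ C
    rw [map_commutatorElement, hφf, hφf]
    exact h a ha b hb
  obtain ⟨y, hy, rfl⟩ := hle hx
  exact hφf y ▸ hy

theorem map_lowerCentral {M : Subgroup Ω} {f : Ω → Ω} (hf : Fn F M f) (hQ : Q ≤ M)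
    (hi : img f Q = Q) (n : ℕ) : ∀ x ∈ Q.lowerCentralSeries n, f x ∈ Q.lowerCentralSeries n := by
  induction n with
  | zero => exact fun x hx => hi.le (mem_img_of_mem hx)
  | succ n ih =>
    intro x hx
    rw [Subgroup.lowerCentralSeries_succ] at hx
    refine hf.map_commutator ((Q.lowerCentralSeries_le_self n).trans hQ) hQ ?_ hx
    exact fun a ha b hb => Subgroup.commutator_mem_commutator (ih a ha) (hi.le (mem_img_of_mem hb))

theorem normal_char [Finite S] (hQ : F.IsNormal Q) {U : Subgroup Ω} (hU : U ≤ Q)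
    (hc : ∀ α : MulAut Q, ∀ x : Q, (x : Ω) ∈ U → ((α x : Q) : Ω) ∈ U) : F.IsNormal U := by
  obtain ⟨hQS, h⟩ := normal_iff_fn.1 hQ
  refine normal_iff_fn.2 ⟨hU.trans hQS, fun P f hf => ?_⟩
  obtain ⟨g, hg, he, hi⟩ := h P f hf
  obtain ⟨α, -, hαg⟩ := exists_aut_of_fn (hg.mono le_sup_right) hi
  have hg' := hg.mono (sup_le_sup_left hU P)
  refine ⟨g, hg', he, (hg'.mono le_sup_right).img_eq_self fun x hx => ?_⟩
  rw [show g x = ((α ⟨x, hU hx⟩ : Q) : Ω) from (hαg ⟨x, hU hx⟩).symm]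
  exact hc α _ hx

section Saturated

variable [Finite S] {p : ℕ} [Fact p.Prime] (hS : IsPGroup p S) (hF : F.IsSaturated p)
include hS

theorem essential_radical (hP : F.IsEssential p P) : F.IsRadical p P := by
  have hPS : P ≤ S := hP.1.1
  refine ⟨hPS, ?_⟩
  obtain ⟨-, -, hN, Y, hY⟩ := hP
  have := finite_of_le_base hPS
  refine le_antisymm ?_ fun α hα => ?_
  · rintro _ ⟨a, ha, rfl⟩
    have hn : ((pCore p (F.autGroup P)).map
        (QuotientGroup.mk' ((Inn P).subgroupOf (F.autGroup P)))).Normal :=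
      Subgroup.Normal.map inferInstance _ (QuotientGroup.mk'_surjective _)
    have hle := @CfsgLib.Solvable.Cores.le_pCore _ _ p _ hn
      ((CfsgLib.Solvable.Cores.isPGroup_pCore p).map _)
    have h2 := hle (Subgroup.mem_map_of_mem _ ha)
    rw [pCore_eq_bot_of_stronglyPEmbedded hY, Subgroup.mem_bot] at h2
    exact (QuotientGroup.eq_one_iff a).1 h2
  · haveI := inn_normal_aut (F := F) (P := P)
    exact ⟨⟨α, inn_le_autGroup hPS hα⟩, CfsgLib.Solvable.Cores.le_pCore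
      (((isPGroup_autInducedBy hS).to_le (inn_le_autInducedBy hPS)).comap_of_injective _
        (Subgroup.subtype_injective _)) (show α ∈ Inn P from hα), rfl⟩

/-- An element of `N_S(P)` stabilizing a series of `Aut_F(P)`-invariant subgroups of a centric radical
subgroup `P` lies in `P`. -/
theorem mem_of_series (hc : F.IsCentric P) (hr : F.IsRadical p P) (A : ℕ → Subgroup Ω) (n : ℕ)
    (h0 : A 0 = ⊥) (hn : A n = P) (hAP : ∀ i ≤ n, A i ≤ P)
    (hinv : ∀ i ≤ n, ∀ α ∈ F.autGroup P, ∀ x ∈ A i, autFn α x ∈ A i) {t : Ω}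
    (ht : t ∈ normalizerIn S P) (hst : ∀ i < n, ∀ x ∈ A (i + 1), x⁻¹ * (t * x * t⁻¹) ∈ A i) :
    t ∈ P := by
  have := finite_of_le_base hc.1
  let Z : Subgroup (F.autGroup P) :=
    { carrier := {a | ∀ i < n, ∀ x ∈ A (i + 1), x⁻¹ * autFn (a : MulAut P) x ∈ A i}
      one_mem' := fun i hi x hx => by
        rw [show autFn ((1 : F.autGroup P) : MulAut P) x = x from autFn_coe (1 : MulAut P) ⟨x, hAP _ hi hx⟩,
          inv_mul_cancel]
        exact Subgroup.one_mem _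
      mul_mem' := fun {a b} ha hb i hi x hx => by
        have hxP := hAP _ hi hx
        rw [show autFn ((a * b : F.autGroup P) : MulAut P) x = autFn (a : MulAut P) (autFn (b : MulAut P) x)
          from autFn_mul _ _ hxP]
        have h2 := ha i hi _ (hinv _ hi _ b.2 x hx)
        have := Subgroup.mul_mem _ (hb i hi x hx) h2
        rwa [mul_assoc, mul_inv_cancel_left] at this
      inv_mem' := fun {a} ha i hi x hx => by
        have hy := hinv _ hi _ (a⁻¹).2 x hx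
        have h1 := ha i hi _ hy
        rw [show autFn (a : MulAut P) (autFn ((a⁻¹ : F.autGroup P) : MulAut P) x) = x from
          autFn_apply_inv _ (hAP _ hi hx)] at h1
        simpa using Subgroup.inv_mem _ h1 }
  have hZn : Z.Normal := ⟨fun a ha g i hi x hx => by
    have hy := hinv _ hi _ (g⁻¹).2 x hx
    have hxP := hAP _ hi hx
    have hyP := hAP _ hi hy
    have hf := (mem_autGroup_iff_fn hc.1).1 g.2
    have h1 := hinv i hi.le _ g.2 _ (ha i hi _ hy)
    rw [hf.map_mul (P.inv_mem hyP) (autFn_mem _ hyP), hf.map_inv hyP,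
      show autFn (g : MulAut P) (autFn ((g⁻¹ : F.autGroup P) : MulAut P) x) = x from
        autFn_apply_inv _ hxP] at h1
    rw [show ((g * a * g⁻¹ : F.autGroup P) : MulAut P) = (g : MulAut P) * a * ((g⁻¹ : F.autGroup P) : MulAut P)
      from rfl, autFn_mul _ _ hxP, autFn_mul _ _ (autFn_mem _ hxP)]
    exact h1⟩
  have key : ∀ a ∈ Z, ∀ m : ℕ, m.Coprime p → a ^ m = 1 → a = 1 := by
    intro a ha m hm ham
    have htriv : ∀ i ≤ n, ∀ x ∈ A i, autFn (a : MulAut P) x = x := by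
      intro i
      induction i with
      | zero =>
        intro _ x hx
        rw [h0, Subgroup.mem_bot] at hx
        subst hx
        exact (autFn_coe (a : MulAut P) 1).trans (by simp)
      | succ i ih =>
        intro hi x hx
        have hb := ha i hi x hx
        have hfb := ih (Nat.le_of_succ_le hi) _ hb
        have hxP := hAP _ hi hx
        have hbP := hAP _ (Nat.le_of_succ_le hi) hb
        have hf := (mem_autGroup_iff_fn hc.1).1 a.2
        have hpow : ∀ k : ℕ, autFn ((a : MulAut P) ^ k) x = x * (x⁻¹ * autFn (a : MulAut P) x) ^ k := by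
          intro k
          induction k with
          | zero => rw [pow_zero, pow_zero, mul_one]; exact autFn_coe (1 : MulAut P) ⟨x, hxP⟩
          | succ k ihk =>
            rw [pow_succ', autFn_mul _ _ hxP, ihk, hf.map_mul hxP (P.pow_mem hbP k)]
            have hbk : autFn (a : MulAut P) ((x⁻¹ * autFn (a : MulAut P) x) ^ k) =
                (x⁻¹ * autFn (a : MulAut P) x) ^ k := ih (Nat.le_of_succ_le hi) _ ((A i).pow_mem hb k)
            rw [hbk, pow_succ', ← mul_assoc x, ← mul_assoc x x⁻¹, mul_inv_cancel, one_mul]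
        have h1 := hpow m
        rw [show (a : MulAut P) ^ m = 1 from congrArg Subtype.val ham,
          show autFn (1 : MulAut P) x = x from autFn_coe (1 : MulAut P) ⟨x, hxP⟩] at h1
        have h2 : (⟨_, hbP⟩ : P) ^ m = 1 := Subtype.ext (by simpa using h1.symm)
        obtain ⟨k, hk⟩ := (hS.to_le hc.1) ⟨_, hbP⟩
        have h3 : (⟨_, hbP⟩ : P) = 1 := orderOf_eq_one_iff.1 (Nat.eq_one_of_dvd_coprimes (hm.pow_right k)
          (orderOf_dvd_of_pow_eq_one h2) (orderOf_dvd_of_pow_eq_one hk))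
        rwa [Subtype.ext_iff, Subgroup.coe_one, inv_mul_eq_one, eq_comm] at h3
    refine Subtype.ext (mulAut_ext fun x hx => ?_)
    rw [htriv n le_rfl x (hn.symm ▸ hx)]
    exact (autFn_coe (1 : MulAut P) ⟨x, hx⟩).symm
  have hZp : IsPGroup p Z := by
    intro a
    obtain ⟨k, m, hpm, hord⟩ := Nat.exists_eq_pow_mul_and_not_dvd (orderOf_pos a).ne' p (Fact.out : p.Prime).ne_one
    refine ⟨k, Subtype.ext (key _ (a ^ p ^ k).2 m ((Fact.out : p.Prime).coprime_iff_not_dvd.2 hpm).symm ?_)⟩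
    rw [← Subgroup.coe_pow, ← pow_mul, ← hord, pow_orderOf_eq_one]
    rfl
  have hmem : (⟨conjAut P ht.2, autInducedBy_le_autGroup hc.1 (conjAut_mem_autInducedBy ht.2 ht.1)⟩ :
      F.autGroup P) ∈ Z := fun i hi x hx => by
    rw [show autFn (conjAut P ht.2) x = t * x * t⁻¹ from autFn_coe _ ⟨x, hAP _ hi hx⟩]
    exact hst i hi x hx
  have := hr.2.le ⟨_, CfsgLib.Solvable.Cores.le_pCore (hn := hZn) hZp hmem, rfl⟩
  exact (conjAut_mem_inn_iff (centralizer_le_of_centric hc) ht hc.1).1 this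

theorem le_of_forall_normalizer (hPS : P ≤ S) (hQS : Q ≤ S)
    (hPQ : P ≤ Subgroup.normalizer (Q : Set Ω))
    (h : ∀ t ∈ Q, t ∈ Subgroup.normalizer (P : Set Ω) → t ∈ P) : Q ≤ P := by
  by_contra hne
  obtain ⟨t, ht, htN, htP⟩ := exists_mem_normalizer_not_mem hS (sup_le hPS hQS)
    (lt_of_le_of_ne le_sup_left fun e => hne (le_sup_right.trans e.ge) : P < P ⊔ Q)
  rw [← SetLike.mem_coe, Subgroup.coe_mul_of_left_le_normalizer_right _ _ hPQ] at ht
  obtain ⟨x, hx, q, hq, rfl⟩ := ht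
  have hqN : q ∈ Subgroup.normalizer (P : Set Ω) := by
    simpa using Subgroup.mul_mem _ (Subgroup.inv_mem _ (Subgroup.le_normalizer hx)) htN.2
  exact htP (P.mul_mem hx (h q hq hqN))

/-- A central series of strongly closed subgroups puts `Q` inside every centric radical subgroup. -/
theorem le_centricRadical (hQ : F.StronglyClosed Q) (C : ℕ → Subgroup Ω) (n : ℕ) (h0 : C 0 = ⊥)
    (hn : C n = Q) (hsc : ∀ i ≤ n, F.StronglyClosed (C i))
    (hcomm : ∀ i < n, ⁅Q, C (i + 1)⁆ ≤ C i) (hc : F.IsCentric P) (hr : F.IsRadical p P) : Q ≤ P := by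
  refine le_of_forall_normalizer hS hc.1 hQ.1 (hc.1.trans (sc_le_normalizer hQ)) fun t ht htN => ?_
  refine mem_of_series hS hc hr (fun i => if i ≤ n then P ⊓ C i else P) (n + 1) ?_ ?_ ?_ ?_
    ⟨hQ.1 ht, htN⟩ ?_
  · simp [h0]
  · simp
  · intro i _
    split_ifs
    · exact inf_le_left
    · exact le_rfl
  · intro i _ α hα x hx
    split_ifs at hx ⊢ with h
    · exact ⟨autFn_mem α hx.1, (stronglyClosed_iff_fn.1 (hsc i h)).2 _ _
        ((mem_autGroup_iff_fn hc.1).1 hα) x hx.1 hx.2⟩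
    · exact autFn_mem α hx
  · intro i hi x hx
    have hile : i ≤ n := Nat.lt_succ_iff.1 hi
    simp only [hile, if_true]
    have hxP : x ∈ P := by
      split_ifs at hx
      · exact hx.1
      · exact hx
    have hconjP : x⁻¹ * (t * x * t⁻¹) ∈ P :=
      P.mul_mem (P.inv_mem hxP) ((mem_normalizer_iff'.1 htN).1 x hxP)
    refine ⟨hconjP, ?_⟩
    rcases eq_or_lt_of_le hile with rfl | hlt
    · rw [hn]
      have h1 := sc_conj hQ (S.inv_mem (hc.1 hxP)) ht
      have := Q.mul_mem h1 (Q.inv_mem ht)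
      simpa [mul_assoc] using this
    · rw [if_pos (Nat.succ_le_of_lt hlt)] at hx
      have h1 := hcomm i hlt (Subgroup.commutator_mem_commutator ht hx.2)
      have h2 := sc_conj (hsc i hile) (S.inv_mem ((hsc (i + 1) hlt).1 hx.2)) h1
      simpa [commutatorElement_def, mul_assoc] using h2

include hF

/-- Alperin criterion for normality. -/
theorem normal_of_generators (hQS : Q ≤ S) (hQn : S ≤ Subgroup.normalizer (Q : Set Ω))
    (h : ∀ P : Subgroup Ω, P = S ∨ F.IsEssential p P →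
      Q ≤ P ∧ ∀ α ∈ F.autGroup P, ∀ x ∈ Q, autFn α x ∈ Q) : F.IsNormal Q := by
  have hN : kN S Q (⊤ : Subgroup (MulAut Q)) = S := kN_top.trans (inf_eq_left.2 hQn)
  obtain ⟨E, hE⟩ := exists_cast hN (kSystem F Q hQS ⊤)
  have key : ∀ P : Subgroup Ω, P = S ∨ F.IsEssential p P → F.autGroup P ≤ E.autGroup P := by
    intro P hP α hα
    have hPS : P ≤ S := by
      rcases hP with rfl | hP
      · exact le_rfl
      · exact hP.1.1
    refine (mem_autGroup hPS).2 ?_
    rw [hE]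
    refine mem_hom_of_fn (f := autFn α) (fn_kSystem.2 ⟨hN.symm ▸ hPS,
      fun x hx => hN.symm ▸ hPS (autFn_mem α hx), autFn α, ?_, fun x _ => rfl, ?_⟩)
      fun x => (autFn_coe α x).symm
    · rw [sup_eq_left.2 (h P hP).1]
      exact (mem_autGroup_iff_fn hPS).1 hα
    · have hf := (mem_autGroup_iff_fn hPS).1 hα
      exact (ind_top_iff hf (h P hP).1).2 ((hf.mono (h P hP).1).img_eq_self ((h P hP).2 α hα))
  have hle : F ≤ E := alperin hS hF E (key S (Or.inl rfl)) fun P _ hP => key P (Or.inr hP)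
  refine normal_iff_fn.2 ⟨hQS, fun P f hf => ?_⟩
  obtain ⟨φ, hφ, hφf⟩ := hf
  have := hle P hφ
  rw [hE] at this
  obtain ⟨-, -, g, hg, hge, hgQ⟩ : KMap F Q ⊤ P (ofHom φ) := this
  exact ⟨g, hg, fun x hx => (hge x hx).trans ((ofHom_apply φ hx).trans (hφf ⟨x, hx⟩)), hgQ.img_eq⟩

theorem normal_of_stronglyClosed_of_le (hQ : F.StronglyClosed Q)
    (h : ∀ P : Subgroup Ω, F.IsCentric P → F.IsRadical p P → Q ≤ P) : F.IsNormal Q := by
  refine normal_of_generators hS hF hQ.1 (sc_le_normalizer hQ) fun P hP => ⟨?_, fun α hα x hx => ?_⟩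
  · rcases hP with rfl | hP
    · exact hQ.1
    · exact h P hP.1 (essential_radical hS hP)
  · rcases hP with rfl | hP
    · exact (stronglyClosed_iff_fn.1 hQ).2 _ _ ((mem_autGroup_iff_fn le_rfl).1 hα) x (hQ.1 hx) hx
    · exact (stronglyClosed_iff_fn.1 hQ).2 _ _ ((mem_autGroup_iff_fn hP.1.1).1 hα) x
        (h P hP.1 (essential_radical hS hP) hx) hx

theorem normal_of_series (hQ : F.StronglyClosed Q) (C : ℕ → Subgroup Ω) (n : ℕ) (h0 : C 0 = ⊥)
    (hn : C n = Q) (hsc : ∀ i ≤ n, F.StronglyClosed (C i))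
    (hcomm : ∀ i < n, ⁅Q, C (i + 1)⁆ ≤ C i) : F.IsNormal Q :=
  normal_of_stronglyClosed_of_le hS hF hQ fun _ hc hr => le_centricRadical hS hQ C n h0 hn hsc hcomm hc hr

omit hF in
theorem normal_series (hQ : F.IsNormal Q) :
    ∃ (C : ℕ → Subgroup Ω) (n : ℕ), C 0 = ⊥ ∧ C n = Q ∧ Monotone C ∧
      (∀ i ≤ n, F.StronglyClosed (C i)) ∧ ∀ i < n, ⁅Q, C (i + 1)⁆ ≤ C i := by
  have := finite_of_le_base hQ.1
  obtain ⟨n, hn⟩ := (Subgroup.isNilpotent_iff_lowerCentralSeries Q).1 (hS.to_le hQ.1).isNilpotent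
  refine ⟨fun i => Q.lowerCentralSeries (n - i), n, by simpa using hn, by simp,
    fun a b hab => Q.lowerCentralSeries_antitone (by omega), fun i _ => ?_, fun i hi => ?_⟩
  · refine stronglyClosed_iff_fn.2 ⟨(Q.lowerCentralSeries_le_self _).trans hQ.1, fun P f hf x hx hxQ => ?_⟩
    obtain ⟨g, hg, he, hg'⟩ := (normal_iff_fn.1 hQ).2 P f hf
    rw [← he x hx]
    exact map_lowerCentral hg le_sup_right hg' _ x hxQ
  · rw [Subgroup.commutator_comm]
    show ⁅Q.lowerCentralSeries (n - (i + 1)), Q⁆ ≤ Q.lowerCentralSeries (n - i)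
    rw [show n - i = n - (i + 1) + 1 by omega, Subgroup.lowerCentralSeries_succ]

omit hF in
theorem normal_le_centricRadical (hQ : F.IsNormal Q) (hc : F.IsCentric P) (hr : F.IsRadical p P) :
    Q ≤ P := by
  obtain ⟨C, n, h0, hn, -, hsc, hcomm⟩ := normal_series hS hQ
  exact le_centricRadical hS (normal_stronglyClosed hQ) C n h0 hn hsc hcomm hc hr

end Saturated

end CfsgLib.Fsys
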