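import Mathlib
import Cfsg.Agent.Lib.FusionSystem.Normal
import Cfsg.Agent.Lib.FusionSystem.SmallElements
import Cfsg.Agent.Lib.FusionSystem.EssentialRankTwo
import Cfsg.Agent.Lib.OddOrder.Metacyclic
import Cfsg.Agent.Lib.PGroup.FrattiniAct

/-! A strongly closed metacyclic subgroup is normal in the fusion system, `p` odd. -/

set_option autoImplicit false
set_option linter.style.haveILetI false
set_option linter.unusedSectionVars false

open Cfsg Cfsg.FusionSystem
open scoped Pointwise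

namespace CfsgLib.Fsys

namespace MetaNormal

variable {V : Type*} [Group V] [Finite V] {p : ℕ} [hp : Fact p.Prime]

/-- A `p`-element automorphism preserving a subgroup of order `p` fixes it pointwise. -/
theorem fix_of_invariant {W : Subgroup V} (hW : Nat.card W = p) {τ : MulAut V}
    (hτ : τ ^ p = 1) (hinv : ∀ w ∈ W, τ w ∈ W) : ∀ w ∈ W, τ w = w := by
  haveI : IsCyclic W := isCyclic_of_prime_card hW
  obtain ⟨g, hg⟩ := IsCyclic.exists_generator (α := W)
  have hWp : ∀ w ∈ W, w ^ p = 1 := fun w hw => by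
    have : (⟨w, hw⟩ : W) ^ p = 1 := hW ▸ pow_card_eq_one'
    simpa using congrArg Subtype.val this
  obtain ⟨k, hk⟩ := Subgroup.mem_zpowers_iff.mp (hg ⟨τ g, hinv _ g.2⟩)
  have hk' : (g : V) ^ k = τ g := congrArg Subtype.val hk
  have hiter : ∀ j : ℕ, (τ ^ j) (g : V) = (g : V) ^ (k ^ j) := by
    intro j
    induction j with
    | zero => simp
    | succ j ih => rw [pow_succ', MulAut.mul_apply, ih, map_zpow, ← hk', ← zpow_mul, pow_succ']
  have hgk : (g : V) ^ (k ^ p) = (g : V) ^ (1 : ℤ) := by rw [← hiter p, hτ, zpow_one]; rfl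
  have hg1 : τ (g : V) = (g : V) := by
    rw [← hk']
    by_cases h1 : (g : V) = 1
    · rw [h1, one_zpow]
    have hord : orderOf (g : V) = p := orderOf_eq_prime (hWp _ g.2) h1
    have h2 : ((k ^ p : ℤ) : ZMod p) = ((1 : ℤ) : ZMod p) := by
      rw [ZMod.intCast_eq_intCast_iff]
      have := zpow_eq_zpow_iff_modEq.mp hgk
      rwa [hord] at this
    rw [Int.cast_pow, ZMod.pow_card, Int.cast_one] at h2
    conv_rhs => rw [← zpow_one (g : V)]
    rw [zpow_eq_zpow_iff_modEq, hord, ← ZMod.intCast_eq_intCast_iff, Int.cast_one, h2]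
  intro w hw
  obtain ⟨j, hj⟩ := Subgroup.mem_zpowers_iff.mp (hg ⟨w, hw⟩)
  have hj' : (g : V) ^ j = w := congrArg Subtype.val hj
  rw [← hj', map_zpow, hg1]

variable (hcard : Nat.card V = p ^ 2) (hexp : ∀ v : V, v ^ p = 1)
include hcard hexp

theorem card_proper {W : Subgroup V} (h0 : W ≠ ⊥) (h1 : W ≠ ⊤) : Nat.card W = p := by
  obtain ⟨k, hk, hW⟩ := (Nat.dvd_prime_pow hp.out).mp (hcard ▸ Subgroup.card_subgroup_dvd_card W)
  interval_cases k
  · exact absurd ((Subgroup.card_le_one_iff_eq_bot W).mp (by simp [hW])) h0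
  · simpa using hW
  · exact absurd (Subgroup.eq_top_of_card_eq W (by rw [hW, hcard])) h1

/-- `p`-groups of automorphisms of a group of order `p²` and exponent `p` have order at most `p`. -/
theorem card_pGroup_le (T : Subgroup (MulAut V)) (hT : IsPGroup p T) : Nat.card T ≤ p := by
  haveI : Fintype V := Fintype.ofFinite V
  obtain ⟨v, hv, hv1⟩ : ∃ v ∈ MulAction.fixedPoints T V, (1 : V) ≠ v :=
    hT.exists_fixed_point_of_prime_dvd_card_of_fixed_point V (hcard ▸ dvd_pow_self p two_ne_zero)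
      (a := 1) (fun τ => map_one (τ : MulAut V))
  set L := Subgroup.zpowers v
  have hL : Nat.card L = p := by rw [Nat.card_zpowers, orderOf_eq_prime (hexp v) (Ne.symm hv1)]
  haveI hab : IsMulCommutative V := IsPGroup.isMulCommutative_of_card_eq_prime_sq hcard
  obtain ⟨w, hw⟩ : ∃ w, w ∉ L := by
    by_contra h
    push Not at h
    have : L = ⊤ := eq_top_iff.mpr fun x _ => h x
    rw [this, Subgroup.card_top, hcard] at hL
    have : p ^ 2 = p ^ 1 := by rw [hL, pow_one]
    exact absurd (Nat.pow_right_injective hp.out.two_le this) (by norm_num)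
  have hgen : ∀ x : V, x ∈ L ⊔ Subgroup.zpowers w := fun x => by
    suffices L ⊔ Subgroup.zpowers w = ⊤ from this ▸ Subgroup.mem_top x
    by_contra htop
    have h1 := card_proper hcard hexp (fun h => hv1 (Subgroup.mem_bot.mp
      (h ▸ Subgroup.mem_sup_left (Subgroup.mem_zpowers v))).symm) htop
    have := Subgroup.eq_of_le_of_card_ge (le_sup_left : L ≤ L ⊔ Subgroup.zpowers w) (by rw [h1, hL])
    exact hw (this ▸ Subgroup.mem_sup_right (Subgroup.mem_zpowers w))
  -- `T` moves `w` inside its coset of `L`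
  haveI : L.Normal := ⟨fun a ha b => by rw [hab.1.1 b a, mul_inv_cancel_right]; exact ha⟩
  have hshift : ∀ τ : T, w⁻¹ * (τ : MulAut V) w ∈ L := by
    intro τ
    by_contra hn
    let g : ℕ → V ⧸ L := fun j => (((τ : MulAut V) ^ j) w : V ⧸ L)
    obtain ⟨k, hk⟩ : ∃ k : ℤ, ((w : V ⧸ L)) ^ k = ((τ : MulAut V) w : V ⧸ L) := by
      obtain ⟨l, hl, x, hx, hlx⟩ := Subgroup.mem_sup_of_normal_left.mp (hgen ((τ : MulAut V) w))
      obtain ⟨k, rfl⟩ := Subgroup.mem_zpowers_iff.mp hx
      refine ⟨k, ?_⟩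
      rw [← hlx, QuotientGroup.mk_mul, (QuotientGroup.eq_one_iff l).mpr hl, one_mul, QuotientGroup.mk_zpow]
    have hτL : ∀ u ∈ L, (τ : MulAut V) u = u := fun u hu => by
      obtain ⟨i, rfl⟩ := Subgroup.mem_zpowers_iff.mp hu
      rw [map_zpow]; exact congrArg (· ^ i) (hv τ)
    have hiter : ∀ j : ℕ, ((((τ : MulAut V) ^ j) w : V) : V ⧸ L) = (w : V ⧸ L) ^ (k ^ j) := by
      intro j
      induction j with
      | zero => simp
      | succ j ih =>
        obtain ⟨l, hl, hlw⟩ : ∃ l ∈ L, ((τ : MulAut V) ^ j) w = w ^ (k ^ j) * l := by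
          rw [← QuotientGroup.mk_zpow] at ih
          exact ⟨_, QuotientGroup.eq.mp ih.symm, (mul_inv_cancel_left _ _).symm⟩
        rw [pow_succ', MulAut.mul_apply, hlw, map_mul, map_zpow, hτL l hl, QuotientGroup.mk_mul,
          (QuotientGroup.eq_one_iff l).mpr hl, mul_one, QuotientGroup.mk_zpow, ← hk, ← zpow_mul, pow_succ']
    obtain ⟨m, hm⟩ := hT τ
    have hm' : (τ : MulAut V) ^ p ^ m = 1 := by simpa using congrArg Subtype.val hm
    have hord : orderOf (w : V ⧸ L) = p := orderOf_eq_prime (by rw [← QuotientGroup.mk_pow, hexp]; rfl)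
      fun h => hw ((QuotientGroup.eq_one_iff w).mp h)
    have h1 := hiter (p ^ m)
    rw [hm'] at h1
    have h2 : (w : V ⧸ L) ^ (1 : ℤ) = (w : V ⧸ L) ^ (k ^ p ^ m) := by rw [zpow_one]; exact h1
    rw [zpow_eq_zpow_iff_modEq, hord, ← ZMod.intCast_eq_intCast_iff, Int.cast_one, Int.cast_pow,
      ZMod.pow_card_pow] at h2
    refine hn (QuotientGroup.eq.mp ?_)
    conv_lhs => rw [← zpow_one (w : V ⧸ L)]
    rw [← hk, zpow_eq_zpow_iff_modEq, hord, ← ZMod.intCast_eq_intCast_iff, Int.cast_one, ← h2]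
  refine (Nat.card_le_card_of_injective (fun τ : T => (⟨w⁻¹ * (τ : MulAut V) w, hshift τ⟩ : L))
    fun a b hab' => ?_).trans hL.le
  apply Subtype.ext
  have hw' : (a : MulAut V) w = (b : MulAut V) w := mul_left_cancel (congrArg Subtype.val hab')
  refine MulEquiv.ext fun x => ?_
  have hle : L ⊔ Subgroup.zpowers w ≤ MonoidHom.eqLocus (a : MulAut V).toMonoidHom (b : MulAut V).toMonoidHom :=
    sup_le (Subgroup.zpowers_le.mpr ((hv a).trans (hv b).symm)) (Subgroup.zpowers_le.mpr hw')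
  exact hle (hgen x)

/-- Two non-commuting automorphisms of order `p` generate a group containing inversion. -/
theorem exists_inversion (hp2 : p ≠ 2) (A : Subgroup (MulAut V)) {a b : MulAut V} (ha : a ∈ A) (hb : b ∈ A)
    (hap : a ^ p = 1) (hbp : b ^ p = 1) (ha1 : a ≠ 1) (hba : b ∉ Subgroup.zpowers a) :
    ∃ ι ∈ A, ∀ v : V, ι v = v⁻¹ := by
  haveI hab : IsMulCommutative V := IsPGroup.isMulCommutative_of_card_eq_prime_sq hcard
  have hcomm : ∀ u v : V, u * v = v * u := fun u v => hab.1.1 u v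
  obtain ⟨K, ⟨e⟩⟩ := exists_sl_two hcard hexp A ha hb hap hbp ha1 hba
  haveI : Fact (2 < p) := ⟨by have := hp.out.two_le; omega⟩
  set m : Matrix.SpecialLinearGroup (Fin 2) (ZMod p) := -1 with hm
  have hm1 : m ≠ 1 := fun h => by
    have := congrArg (fun M : Matrix.SpecialLinearGroup (Fin 2) (ZMod p) => (M : Matrix (Fin 2) (Fin 2) (ZMod p)) 0 0) h
    simp [hm] at this
    exact ZMod.neg_one_ne_one this
  have hm2 : m * m = 1 := by rw [hm, neg_mul_neg, one_mul]
  have hmc : ∀ y, m * y = y * m := fun y => by rw [hm, neg_one_mul, mul_neg_one]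
  -- a nontrivial element of order `p`
  let T1 : Matrix.SpecialLinearGroup (Fin 2) (ZMod p) := ⟨!![1, 1; 0, 1], by simp⟩
  have hT1 : ∀ k : ℕ, ((T1 ^ k : Matrix.SpecialLinearGroup (Fin 2) (ZMod p)) :
      Matrix (Fin 2) (Fin 2) (ZMod p)) = !![1, (k : ZMod p); 0, 1] := by
    intro k
    induction k with
    | zero => simp [Matrix.one_fin_two]
    | succ k ih =>
      rw [pow_succ', Matrix.SpecialLinearGroup.coe_mul, ih]
      simp [T1, Matrix.mul_fin_two]
  have hT1p : T1 ^ p = 1 := Subtype.ext (by rw [hT1]; simp [Matrix.one_fin_two])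
  have hT11 : T1 ≠ 1 := fun h => by
    have := congrArg (fun M : Matrix.SpecialLinearGroup (Fin 2) (ZMod p) => (M : Matrix (Fin 2) (Fin 2) (ZMod p)) 0 1) h
    simp [T1] at this
  set ι : MulAut V := ((e.symm m : K) : A).1 with hι
  set τ : MulAut V := ((e.symm T1 : K) : A).1 with hτ
  refine ⟨ι, ((e.symm m : K) : A).2, ?_⟩
  let φ : Matrix.SpecialLinearGroup (Fin 2) (ZMod p) →* MulAut V :=
    A.subtype.comp (K.subtype.comp e.symm.toMonoidHom)
  have hφ : Function.Injective φ := A.subtype_injective.comp (K.subtype_injective.comp e.symm.injective)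
  have hφι : φ m = ι := rfl
  have hφτ : φ T1 = τ := rfl
  have hii : ∀ u, ι (ι u) = u := fun u => by
    rw [← MulAut.mul_apply, ← hφι, ← map_mul, hm2, map_one]; rfl
  have hit : ∀ u, ι (τ u) = τ (ι u) := fun u => by
    rw [← MulAut.mul_apply, ← MulAut.mul_apply, ← hφι, ← hφτ, ← map_mul, ← map_mul, hmc]
  have hτp : τ ^ p = 1 := by rw [← hφτ, ← map_pow, hT1p, map_one]
  have hτ1 : τ ≠ 1 := fun h => hT11 (hφ (by rw [hφτ, h, map_one]))
  let P : Subgroup V :=
    { carrier := {u | ι u = u}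
      one_mem' := map_one ι
      mul_mem' := fun {u v} (hu : ι u = u) (hv : ι v = v) => show ι (u * v) = u * v by rw [map_mul, hu, hv]
      inv_mem' := fun {u} (hu : ι u = u) => show ι u⁻¹ = u⁻¹ by rw [map_inv, hu] }
  let N : Subgroup V :=
    { carrier := {u | ι u = u⁻¹}
      one_mem' := by simp
      mul_mem' := fun {u v} (hu : ι u = u⁻¹) (hv : ι v = v⁻¹) => show ι (u * v) = (u * v)⁻¹ by
        rw [map_mul, hu, hv, mul_inv_rev, hcomm]
      inv_mem' := fun {u} (hu : ι u = u⁻¹) => show ι u⁻¹ = u⁻¹⁻¹ by rw [map_inv, hu] }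
  obtain ⟨c, hc⟩ : ∃ c : ℕ, p = 2 * c + 1 := by
    obtain ⟨c, hc⟩ := hp.out.odd_of_ne_two hp2
    exact ⟨c, hc⟩
  have hgen : P ⊔ N = ⊤ := eq_top_iff.mpr fun u _ => by
    have hP' : u * ι u ∈ P := show ι (u * ι u) = u * ι u by rw [map_mul, hii, hcomm]
    have hN' : (u⁻¹ * ι u)⁻¹ ∈ N := Subgroup.inv_mem _
      (show ι (u⁻¹ * ι u) = (u⁻¹ * ι u)⁻¹ by rw [map_mul, map_inv, hii, mul_inv_rev, inv_inv])
    have h2 := (P ⊔ N).mul_mem (Subgroup.mem_sup_left hP') (Subgroup.mem_sup_right hN')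
    rw [mul_inv_rev, inv_inv, mul_assoc, mul_inv_cancel_left] at h2
    have h3 := Subgroup.pow_mem _ h2 (c + 1)
    rwa [← pow_two, ← pow_mul, show 2 * (c + 1) = p + 1 by omega, pow_succ, hexp, one_mul] at h3
  by_cases hPb : P = ⊥
  · intro u
    have : u * ι u ∈ P := show ι (u * ι u) = u * ι u by rw [map_mul, hii, hcomm]
    rw [hPb, Subgroup.mem_bot] at this
    exact eq_inv_of_mul_eq_one_right this
  exfalso
  have hPt : P ≠ ⊤ := fun h => hm1 (hφ (by
    rw [hφι, map_one]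
    exact MulEquiv.ext fun u => (h ▸ Subgroup.mem_top u : u ∈ P)))
  have hN0 : N ≠ ⊥ := fun h => hPt (by rwa [h, sup_bot_eq] at hgen)
  have hNt : N ≠ ⊤ := fun h => hPb (eq_bot_iff.mpr fun u (hu : ι u = u) => by
    have h1 : ι u = u⁻¹ := (h ▸ Subgroup.mem_top u : u ∈ N)
    rw [hu] at h1
    have h2 : u ^ 2 = 1 := by rw [pow_two]; exact eq_inv_iff_mul_eq_one.mp h1
    have h4 := hexp u
    rw [hc, pow_succ, pow_mul, h2, one_pow, one_mul] at h4
    exact Subgroup.mem_bot.mpr h4)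
  have hPf := fix_of_invariant (card_proper hcard hexp hPb hPt) hτp fun u (hu : ι u = u) =>
    show ι (τ u) = τ u by rw [hit, hu]
  have hNf := fix_of_invariant (card_proper hcard hexp hN0 hNt) hτp fun u (hu : ι u = u⁻¹) =>
    show ι (τ u) = (τ u)⁻¹ by rw [hit, hu, map_inv]
  refine hτ1 (MulEquiv.ext fun u => ?_)
  have hle : P ⊔ N ≤ MonoidHom.eqLocus τ.toMonoidHom (MonoidHom.id V) := sup_le hPf hNf
  rw [hgen] at hle
  exact hle (Subgroup.mem_top u)

end MetaNormal

section Fixed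

variable {R : Type*} [Group R] [Finite R] {p : ℕ} [hp : Fact p.Prime]

/-- A coprime automorphism of a metacyclic group inverting the Frattini quotient fixes only `1`. -/
theorem eq_one_of_inverting (hp2 : p ≠ 2) (hR : IsPGroup p R) (hmc : Cfsg.IsMetacyclic R) {α : MulAut R}
    (hcop : (orderOf α).Coprime p) (hinv : ∀ v, PGroup.FrattiniAct.quot α v = v⁻¹) {w : R} (hw : α w = w) :
    w = 1 := by
  let A0 : Subgroup (MulAut R) := Subgroup.zpowers α
  let X := R ⋊[A0.subtype] A0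
  haveI : Finite X := Finite.of_equiv _ SemidirectProduct.equivProd.symm
  set T : Subgroup X := (SemidirectProduct.inl : R →* X).range
  set A : Subgroup X := (SemidirectProduct.inr : A0 →* X).range
  have hTc : T.Normal := by
    rw [show T = (SemidirectProduct.rightHom : X →* A0).ker from SemidirectProduct.range_inl_eq_ker_rightHom]
    infer_instance
  have hT : IsPGroup p T := hR.of_surjective _ (SemidirectProduct.inl : R →* X).rangeRestrict_surjective
  have hmcT : Cfsg.IsMetacyclic T := OddOrder.Metacyclic.of_surjective _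
    (SemidirectProduct.inl : R →* X).rangeRestrict_surjective hmc
  have hA : A ≤ Subgroup.normalizer (T : Set X) := fun a _ => Subgroup.normalizer_eq_top_iff.mpr hTc ▸ Subgroup.mem_top a
  have hcopA : (Nat.card A).Coprime p := by
    rw [← Nat.card_congr (MonoidHom.ofInjective (SemidirectProduct.inr_injective (φ := A0.subtype))).toEquiv,
      Nat.card_zpowers]
    exact hcop
  obtain ⟨-, -, hint, -⟩ := OddOrder.Metacyclic.split hp2 T A hT hmcT hA hcopA
  -- `[T, A] = T`
  set K := (⁅T, A⁆).comap (SemidirectProduct.inl : R →* X)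
  have hcomm : ∀ r : R, r * α r⁻¹ ∈ K := fun r => by
    show SemidirectProduct.inl (r * α r⁻¹) ∈ ⁅T, A⁆
    have := Subgroup.commutator_mem_commutator (show (SemidirectProduct.inl r : X) ∈ T from ⟨r, rfl⟩)
      (show (SemidirectProduct.inr (⟨α, Subgroup.mem_zpowers α⟩ : A0) : X) ∈ A from ⟨_, rfl⟩)
    rw [commutatorElement_def, mul_assoc (SemidirectProduct.inl r * _) _ _] at this
    rw [show (SemidirectProduct.inl (r * α r⁻¹) : X) = SemidirectProduct.inl r *
        (SemidirectProduct.inr (⟨α, Subgroup.mem_zpowers α⟩ : A0) * (SemidirectProduct.inl r)⁻¹ *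
          (SemidirectProduct.inr (⟨α, Subgroup.mem_zpowers α⟩ : A0))⁻¹) by
      rw [map_mul, ← map_inv SemidirectProduct.inl r, ← map_inv SemidirectProduct.inr,
        ← SemidirectProduct.inl_aut]
      rfl]
    simpa [mul_assoc] using this
  have hK : K = ⊤ := by
    refine frattini_nongenerating (eq_top_iff.mpr fun x _ => ?_)
    obtain ⟨c, hc⟩ : ∃ c : ℕ, p = 2 * c + 1 := hp.out.odd_of_ne_two hp2
    have hsq : ((x ^ (c + 1) * α (x ^ (c + 1))⁻¹ : R) : R ⧸ frattini R) = (x : R ⧸ frattini R) := by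
      rw [QuotientGroup.mk_mul, ← PGroup.FrattiniAct.quot_mk, hinv, QuotientGroup.mk_inv, inv_inv,
        QuotientGroup.mk_pow, ← pow_add, show c + 1 + (c + 1) = p + 1 by omega, pow_succ,
        PGroup.Frattini.quotient_pow_eq_one hR, one_mul]
    have h1 := QuotientGroup.eq.mp hsq
    have h2 := Subgroup.mul_mem _ (Subgroup.mem_sup_left (hcomm (x ^ (c + 1))))
      (Subgroup.mem_sup_right h1 : _ ∈ K ⊔ frattini R)
    rwa [mul_inv_cancel_left] at h2
  have hmem : (SemidirectProduct.inl w : X) ∈ ⁅T, A⁆ ⊓ (T ⊓ Subgroup.centralizer (A : Set X)) := by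
    refine ⟨(hK ▸ Subgroup.mem_top w : w ∈ K), ⟨w, rfl⟩, Subgroup.mem_centralizer_iff.mpr ?_⟩
    rintro _ ⟨b, rfl⟩
    obtain ⟨i, hi⟩ := Subgroup.mem_zpowers_iff.mp b.2
    have hfix : (b : MulAut R) w = w := by
      rw [← hi]
      have hst : α ∈ MulAction.stabilizer (MulAut R) w := hw
      exact zpow_mem hst i
    have h1 := SemidirectProduct.inl_aut (φ := A0.subtype) b w
    rw [show (A0.subtype b) w = w from hfix] at h1
    conv_rhs => rw [h1]
    rw [map_inv, inv_mul_cancel_right]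
  rw [hint, Subgroup.mem_bot] at hmem
  exact SemidirectProduct.inl_injective (hmem.trans (map_one SemidirectProduct.inl).symm)

end Fixed

variable {Ω : Type*} [Group Ω] {S P Q : Subgroup Ω} {F : FusionSystem S} {p : ℕ} [hp : Fact p.Prime] [Finite S]

theorem conjAut_mul {u v : Ω} (hu : u ∈ Subgroup.normalizer (Q : Set Ω))
    (hv : v ∈ Subgroup.normalizer (Q : Set Ω)) :
    conjAut Q (Subgroup.mul_mem _ hu hv) = conjAut Q hu * conjAut Q hv :=
  MulEquiv.ext fun x => Subtype.ext (by simp [conjAut_coe, mul_assoc])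

theorem metacyclic_le_essential (hS : IsPGroup p S) (hF : F.IsSaturated p) (hp2 : p ≠ 2)
    (hP : F.StronglyClosed P) (hm : Cfsg.IsMetacyclic P) (hQ : F.IsEssential p Q) : P ≤ Q := by
  classical
  refine le_of_forall_normalizer hS hQ.1.1 hP.1 (hQ.1.1.trans (sc_le_normalizer hP)) fun t htP htN => ?_
  by_contra htQ
  have hQS := hQ.1.1
  haveI := finite_of_le_base hQS
  haveI := finite_of_le_base hP.1
  -- the invariant subgroup
  let R : Subgroup Q := P.subgroupOf Q
  have hRinv : ∀ a ∈ F.autGroup Q, ∀ x : Q, x ∈ R → a x ∈ R := fun a ha x hx => by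
    have := (stronglyClosed_iff_fn.1 hP).2 _ _ ((mem_autGroup_iff_fn hQS).1 ha) x x.2 hx
    rwa [autFn_coe] at this
  let res : F.autGroup Q →* MulAut R := MonoidHom.mk'
    (fun a =>
      { toFun := fun x => ⟨(a : MulAut Q) x, hRinv _ a.2 _ x.2⟩
        invFun := fun x => ⟨((a⁻¹ : F.autGroup Q) : MulAut Q) x, hRinv _ (a⁻¹).2 _ x.2⟩
        left_inv := fun x => Subtype.ext (MulAut.inv_apply_self Q (a : MulAut Q) _)
        right_inv := fun x => Subtype.ext (MulAut.apply_inv_self Q (a : MulAut Q) _)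
        map_mul' := fun x y => Subtype.ext (map_mul (a : MulAut Q) _ _) })
    fun a b => MulEquiv.ext fun x => rfl
  have hRp : IsPGroup p R := (hS.to_le hQS).to_subgroup R
  have hRm : Cfsg.IsMetacyclic R := OddOrder.Metacyclic.of_injective
    (MonoidHom.mk' (fun x : R => (⟨((x : Q) : Ω), x.2⟩ : P)) fun x y => rfl)
    (fun x y e => Subtype.ext (Subtype.ext (congrArg (fun z : P => (z : Ω)) e))) hm
  let π : F.autGroup Q →* MulAut (R ⧸ frattini R) := PGroup.FrattiniAct.quot.comp res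
  have hexpV : ∀ v : R ⧸ frattini R, v ^ p = 1 := PGroup.Frattini.quotient_pow_eq_one hRp
  have hV2 : Nat.card (R ⧸ frattini R) ≤ p ^ 2 := OddOrder.Metacyclic.card_le_sq
    (OddOrder.Metacyclic.of_surjective (QuotientGroup.mk' _) (QuotientGroup.mk'_surjective _) hRm) hexpV
  -- automorphisms trivial on `Q / R`
  have hRn : ∀ (g : F.autGroup Q) (x : Q), x ∈ R ↔ (g : MulAut Q) x ∈ R := fun g x => ⟨hRinv _ g.2 x, fun h => by
    have := hRinv _ (g⁻¹).2 _ h
    rwa [show ((g⁻¹ : F.autGroup Q) : MulAut Q) ((g : MulAut Q) x) = x from MulAut.inv_apply_self Q _ _] at this⟩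
  let M0 : Subgroup (F.autGroup Q) :=
    { carrier := {a | ∀ x : Q, x⁻¹ * (a : MulAut Q) x ∈ R}
      one_mem' := fun x => by simp
      mul_mem' := fun {a b} ha hb x => by
        rw [Subgroup.coe_mul, MulAut.mul_apply,
          show x⁻¹ * (a : MulAut Q) ((b : MulAut Q) x) = (x⁻¹ * (b : MulAut Q) x) *
            (((b : MulAut Q) x)⁻¹ * (a : MulAut Q) ((b : MulAut Q) x)) by group]
        exact mul_mem (hb x) (ha _)
      inv_mem' := fun {a} ha x => by
        have h := inv_mem (ha ((((a⁻¹ : F.autGroup Q)) : MulAut Q) x))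
        rw [show (a : MulAut Q) (((a⁻¹ : F.autGroup Q) : MulAut Q) x) = x from MulAut.apply_inv_self Q _ _,
          mul_inv_rev, inv_inv] at h
        exact h }
  have hM0n : M0.Normal := ⟨fun a ha g x => by
    set y := ((g⁻¹ : F.autGroup Q) : MulAut Q) x with hy
    have hgy : (g : MulAut Q) y = x := MulAut.apply_inv_self Q _ _
    have := (hRn g _).mp (ha y)
    rw [map_mul, map_inv, hgy] at this
    exact this⟩
  have hctN : conjAut Q htN ∈ F.autGroup Q :=
    autInducedBy_le_autGroup hQS (conjAut_mem_autInducedBy htN (hP.1 htP))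
  let ct : F.autGroup Q := ⟨conjAut Q htN, hctN⟩
  have hct0 : ct ∈ M0 := fun x => by
    show ((x⁻¹ * conjAut Q htN x : Q) : Ω) ∈ P
    rw [Subgroup.coe_mul, Subgroup.coe_inv, conjAut_coe]
    have h1 := sc_conj hP (S.inv_mem (hQS x.2)) htP
    have := P.mul_mem h1 (P.inv_mem htP)
    simpa [mul_assoc] using this
  have hnorm : ∀ N : Subgroup (F.autGroup Q), N.Normal → IsPGroup p N → ct ∉ N := fun N hN hNp hct => htQ (by
    have := (essential_radical hS hQ).2.le ⟨ct, CfsgLib.Solvable.Cores.le_pCore (hn := hN) hNp hct, rfl⟩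
    exact (conjAut_mem_inn_iff (centralizer_le_of_centric hQ.1) ⟨hP.1 htP, htN⟩ hQS).1 this)
  have hnorm' : ∀ B : Subgroup (MulAut (R ⧸ frattini R)), IsPGroup p B →
      (∀ g, ∀ b ∈ B, b ∈ π.range → π g * b * (π g)⁻¹ ∈ B) → π ct ∉ B := fun B hBp hBn hct => by
    refine hnorm (M0 ⊓ B.comap π) ⟨fun a ha g => ⟨hM0n.conj_mem a ha.1 g, ?_⟩⟩ ?_ ⟨hct0, hct⟩
    · show π (g * a * g⁻¹) ∈ B
      rw [map_mul, map_mul, map_inv]
      exact hBn g _ ha.2 ⟨a, rfl⟩
    · refine isPGroup_of_forall_coprime fun a hcop => ?_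
      have hco : (orderOf ((a : F.autGroup Q) : MulAut Q)).Coprime p := by
        rwa [Subgroup.orderOf_coe, Subgroup.orderOf_coe]
      have hπ1 : π (a : F.autGroup Q) = 1 := by
        obtain ⟨k, hk⟩ := hBp ⟨_, a.2.2⟩
        have hk' : π (a : F.autGroup Q) ^ p ^ k = 1 := congrArg Subtype.val hk
        have hd : orderOf (π (a : F.autGroup Q)) ∣ orderOf ((a : F.autGroup Q) : MulAut Q) := by
          rw [Subgroup.orderOf_coe]; exact orderOf_map_dvd π _
        exact orderOf_eq_one_iff.mp (Nat.eq_one_of_dvd_coprimes (hco.pow_right k) hd (orderOf_dvd_of_pow_eq_one hk'))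
      have hres : res (a : F.autGroup Q) = 1 := PGroup.FrattiniAct.eq_one_of_quot hRp
        (hco.coprime_dvd_left (by rw [Subgroup.orderOf_coe]; exact orderOf_map_dvd res _)) hπ1
      refine Subtype.ext (Subtype.ext (MulEquiv.ext fun x => ?_))
      have hfix := congrArg (fun α : MulAut R => ((α ⟨_, a.2.1 x⟩ : R) : Q)) hres
      exact fixed_of_fixed_shift (hS.to_le hQS) hco hfix
  set τ := π ct with hτdef
  have hVcard : Nat.card (R ⧸ frattini R) = p ^ 2 := by
    obtain ⟨k, hk⟩ := IsPGroup.iff_card.mp (hRp.to_quotient (frattini R))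
    rw [hk] at hV2
    have hk2 := (Nat.pow_le_pow_iff_right hp.out.one_lt).mp hV2
    by_contra hne
    have hk1 : k ≤ 1 := by
      rcases Nat.lt_or_ge k 2 with h | h
      · omega
      · exact absurd (by rw [hk]; congr 1; omega) hne
    -- automorphisms of a group of order dividing `p` have no `p`-part
    haveI hcyc : IsCyclic (R ⧸ frattini R) := by
      rcases (show k = 0 ∨ k = 1 by omega) with rfl | rfl
      · haveI : Subsingleton (R ⧸ frattini R) := (Nat.card_eq_one_iff_unique.mp (by simpa using hk)).1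
        infer_instance
      · exact isCyclic_of_prime_card (p := p) (by simpa using hk)
    obtain ⟨n, hn⟩ := (isPGroup_autInducedBy (P := Q) hS) ⟨conjAut Q htN, conjAut_mem_autInducedBy htN (hP.1 htP)⟩
    have hctp : ct ^ p ^ n = 1 := Subtype.ext (by simpa [ct] using congrArg Subtype.val hn)
    have hτp : τ ^ p ^ n = 1 := by rw [hτdef, ← map_pow, hctp, map_one]
    have hτ1 : τ = 1 := by
      obtain ⟨g, hg⟩ := hcyc.exists_generator
      rcases (show k = 0 ∨ k = 1 by omega) with rfl | rfl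
      · haveI : Subsingleton (R ⧸ frattini R) := (Nat.card_eq_one_iff_unique.mp (by simpa using hk)).1
        exact MulEquiv.ext fun x => Subsingleton.elim _ _
      · have hordg : orderOf g = p := by rw [orderOf_eq_card_of_forall_mem_zpowers hg, hk, pow_one]
        obtain ⟨j, hj⟩ := Subgroup.mem_zpowers_iff.mp (hg (τ g))
        have hiter : ∀ i : ℕ, (τ ^ i) g = g ^ (j ^ i) := by
          intro i
          induction i with
          | zero => simp
          | succ i ih => rw [pow_succ', MulAut.mul_apply, ih, map_zpow, ← hj, ← zpow_mul, pow_succ']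
        have h1 := hiter (p ^ n)
        rw [hτp] at h1
        have h2 : g ^ (1 : ℤ) = g ^ (j ^ p ^ n) := by rw [zpow_one]; exact h1
        rw [zpow_eq_zpow_iff_modEq, hordg, ← ZMod.intCast_eq_intCast_iff, Int.cast_one, Int.cast_pow,
          ZMod.pow_card_pow] at h2
        have hfix : τ g = g := by
          rw [← hj]
          conv_rhs => rw [← zpow_one g]
          rw [zpow_eq_zpow_iff_modEq, hordg, ← ZMod.intCast_eq_intCast_iff, Int.cast_one, ← h2]
        refine MulEquiv.ext fun x => ?_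
        obtain ⟨i, rfl⟩ := Subgroup.mem_zpowers_iff.mp (hg x)
        rw [map_zpow, hfix]; rfl
    exact hnorm' ⊥ IsPGroup.of_bot (fun g b hb _ => by
      rw [Subgroup.mem_bot] at hb ⊢; rw [hb, mul_one, mul_inv_cancel]) (Subgroup.mem_bot.mpr hτ1)
  -- the image of `Aut_S(Q)`
  obtain ⟨⟨-, TS, hTS⟩, -⟩ := fullyNormalized_good hS hF hQ.2.1
  have hTbar : IsPGroup p ((TS : Subgroup (F.autGroup Q)).map π) := TS.2.map π
  have hctT : ct ∈ (TS : Subgroup (F.autGroup Q)) := by
    rw [hTS]; exact conjAut_mem_autInducedBy htN (hP.1 htP)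
  have hτ1 : τ ≠ 1 := fun h => hnorm' ⊥ IsPGroup.of_bot (fun g b hb _ => by
    rw [Subgroup.mem_bot] at hb ⊢; rw [hb, mul_one, mul_inv_cancel]) (Subgroup.mem_bot.mpr h)
  have hTeq : (TS : Subgroup (F.autGroup Q)).map π = Subgroup.zpowers τ := by
    refine (Subgroup.eq_of_le_of_card_ge (Subgroup.zpowers_le.mpr (Subgroup.mem_map_of_mem π hctT)) ?_).symm
    refine (MetaNormal.card_pGroup_le hVcard hexpV _ hTbar).trans ?_
    obtain ⟨k, hk⟩ := IsPGroup.iff_card.mp (hTbar.to_le (Subgroup.zpowers_le.mpr (Subgroup.mem_map_of_mem π hctT) :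
      Subgroup.zpowers τ ≤ _))
    rw [hk]
    refine Nat.le_self_pow (fun h0 => hτ1 ?_) p
    rw [h0, pow_zero, Nat.card_zpowers, orderOf_eq_one_iff] at hk
    exact hk
  have hτp : τ ^ p = 1 := by
    have h := MetaNormal.card_pGroup_le hVcard hexpV _ hTbar
    rw [hTeq, Nat.card_zpowers] at h
    obtain ⟨k, hk⟩ := IsPGroup.iff_card.mp (hTeq ▸ hTbar : IsPGroup p (Subgroup.zpowers τ))
    rw [Nat.card_zpowers] at hk
    rw [hk] at h
    refine orderOf_dvd_iff_pow_eq_one.mp (hk ▸ ?_)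
    have : k ≤ 1 := (Nat.pow_le_pow_iff_right hp.out.one_lt).mp (by rwa [pow_one])
    simpa using pow_dvd_pow p this
  have hzp : IsPGroup p (Subgroup.zpowers τ) := hTeq ▸ hTbar
  obtain ⟨g0, hg0⟩ : ∃ g : F.autGroup Q, π g * τ * (π g)⁻¹ ∉ Subgroup.zpowers τ := by
    by_contra hall
    push Not at hall
    refine hnorm' _ hzp (fun g b hb _ => ?_) (Subgroup.mem_zpowers τ)
    obtain ⟨i, rfl⟩ := Subgroup.mem_zpowers_iff.mp hb
    rw [← conj_zpow]
    exact Subgroup.zpow_mem _ (hall g) i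
  obtain ⟨ι, ⟨a0, ha0⟩, hι⟩ := MetaNormal.exists_inversion hVcard hexpV hp2 π.range (a := τ)
    (b := π g0 * τ * (π g0)⁻¹) ⟨ct, rfl⟩ ⟨g0 * ct * g0⁻¹, by rw [map_mul, map_mul, map_inv]⟩ hτp
    (by rw [conj_pow, hτp, mul_one, mul_inv_cancel]) hτ1 hg0
  have hιc : ∀ b : MulAut (R ⧸ frattini R), Commute ι b := fun b => MulEquiv.ext fun v => by
    rw [MulAut.mul_apply, MulAut.mul_apply, hι, hι, map_inv]
  -- normalize the Sylow subgroup
  set N0 := (Subgroup.zpowers τ).comap π
  have hTN0 : (TS : Subgroup (F.autGroup Q)) ≤ N0 := Subgroup.map_le_iff_le_comap.mp hTeq.le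
  have hT0' : MulAut.conj a0 • (TS : Subgroup (F.autGroup Q)) ≤ N0 := by
    rintro _ ⟨b, hb, rfl⟩
    show π (a0 * b * a0⁻¹) ∈ Subgroup.zpowers τ
    rw [map_mul, map_mul, map_inv, ha0, (hιc _).eq, mul_inv_cancel_right]
    exact hTN0 hb
  obtain ⟨n0, hn0⟩ := MulAction.exists_smul_eq N0
    ((a0 • TS : Sylow p (F.autGroup Q)).subtype (by rw [Sylow.coe_subgroup_smul]; exact hT0'))
    (TS.subtype hTN0)
  rw [Sylow.smul_subtype] at hn0
  have hn0' : ((n0 : F.autGroup Q) * a0) • TS = TS := by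
    rw [mul_smul]
    exact Sylow.subtype_injective hn0
  set a1 := (n0 : F.autGroup Q) * a0
  obtain ⟨i, hi⟩ := Subgroup.mem_zpowers_iff.mp n0.2
  have hπ1 : π a1 = τ ^ i * ι := by rw [map_mul, ha0, ← hi]
  have hιodd : ∀ m : ℕ, Odd m → ι ^ m = ι := by
    rintro m ⟨c, rfl⟩
    have h2 : ι ^ 2 = 1 := MulEquiv.ext fun v => by rw [pow_two, MulAut.mul_apply, hι, hι, inv_inv]; rfl
    rw [pow_succ, pow_mul, h2, one_pow, one_mul]
  have hπ2 : π (a1 ^ p) = ι := by
    rw [map_pow, hπ1, (hιc (τ ^ i)).symm.mul_pow, hιodd p (hp.out.odd_of_ne_two hp2), ← zpow_natCast,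
      ← zpow_mul, mul_comm, zpow_mul, zpow_natCast, hτp, one_zpow, one_mul]
  set m := orderOf (a1 ^ p) / 2 ^ (orderOf (a1 ^ p)).factorization 2
  have hmodd : Odd m := Nat.odd_iff.mpr (Nat.two_dvd_ne_zero.mp
    (Nat.not_dvd_ordCompl Nat.prime_two (orderOf_pos _).ne'))
  set a := (a1 ^ p) ^ m
  have hπa : π a = ι := by rw [map_pow, hπ2, hιodd m hmodd]
  have hacop : (orderOf a).Coprime p := by
    have h1 : orderOf a ∣ 2 ^ (orderOf (a1 ^ p)).factorization 2 := orderOf_dvd_of_pow_eq_one (by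
      rw [← pow_mul, Nat.div_mul_cancel (Nat.ordProj_dvd _ 2), pow_orderOf_eq_one])
    exact ((Nat.coprime_primes Nat.prime_two hp.out).mpr (Ne.symm hp2)).pow_left _ |>.coprime_dvd_left h1
  have haN : a • TS = TS := by
    have h1 : a1 ∈ MulAction.stabilizer (F.autGroup Q) TS := hn0'
    exact pow_mem (pow_mem h1 p) m
  have haconj : ∀ b ∈ (TS : Subgroup (F.autGroup Q)), a * b * a⁻¹ ∈ (TS : Subgroup (F.autGroup Q)) := fun b hb => by
    have h1 : MulAut.conj a b ∈ MulAut.conj a • (TS : Subgroup (F.autGroup Q)) :=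
      Subgroup.smul_mem_pointwise_smul b _ _ hb
    rwa [← Sylow.coe_subgroup_smul, haN] at h1
  -- extend to the normalizer
  obtain ⟨N, g, hg, hQN, hN, hge⟩ := receptive_extend (fullyNormalized_receptive hS hF hQ.2.1)
    ((mem_autGroup_iff_fn hQS).1 a.2) (img_autFn (a : MulAut Q))
  have hNN : ∀ n ∈ normalizerIn S Q, n ∈ N := fun n hn => by
    refine (hN n).2 ?_
    have hb : (⟨conjAut Q hn.2, autInducedBy_le_autGroup hQS (conjAut_mem_autInducedBy hn.2 hn.1)⟩ : F.autGroup Q)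
        ∈ (TS : Subgroup (F.autGroup Q)) := by
      rw [hTS]; exact conjAut_mem_autInducedBy hn.2 hn.1
    have h1 := haconj _ hb
    rw [hTS] at h1
    obtain ⟨s, hs, hsx⟩ := mem_autInducedBy.1 (show _ ∈ autInducedBy S Q from h1)
    refine ⟨hn.1, hn.2, s, hs, fun x hx => ?_⟩
    lift x to Q using hx
    have h : (((a : MulAut Q) (conjAut Q hn.2 x) : Q) : Ω) = s * (((a : MulAut Q) x : Q) : Ω) * s⁻¹ := by
      rw [← hsx ((a : MulAut Q) x)]
      exact congrArg (fun y : Q => (((a : MulAut Q) (conjAut Q hn.2 y) : Q) : Ω))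
        (MulAut.inv_apply_self Q (a : MulAut Q) x).symm
    rw [← conjAut_coe hn.2 x, autFn_coe, autFn_coe]
    exact h
  let U : Subgroup Ω := P ⊓ Subgroup.normalizer (Q : Set Ω)
  have hUN : U ≤ N := fun u hu => hNN u ⟨hP.1 hu.1, hu.2⟩
  haveI : Finite U := finite_of_le_base (inf_le_left.trans hP.1 : U ≤ S)
  have himg : img g Q = Q := by
    rw [img_congr fun x hx => hge x hx]
    exact img_autFn (a : MulAut Q)
  have hgU : ∀ u ∈ U, g u ∈ U := fun u hu =>
    ⟨(stronglyClosed_iff_fn.1 hP).2 _ _ hg u (hUN hu) hu.1,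
      (hg.map_normalizer hQN himg (hUN hu) hu.2).2⟩
  let cU : U →* F.autGroup Q := MonoidHom.mk'
    (fun u => ⟨conjAut Q u.2.2, autInducedBy_le_autGroup hQS (conjAut_mem_autInducedBy u.2.2 (hP.1 u.2.1))⟩)
    fun u v => Subtype.ext (conjAut_mul u.2.2 v.2.2)
  let θ : U →* U := MonoidHom.mk' (fun u => ⟨g u, hgU u u.2⟩)
    fun u v => Subtype.ext (hg.map_mul (hUN u.2) (hUN v.2))
  have hcθ : ∀ u : U, π (cU (θ u)) = π (cU u) := fun u => by
    have h1 : cU (θ u) = a * cU u * a⁻¹ := by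
      refine Subtype.ext (MulEquiv.ext fun y => ?_)
      obtain ⟨x, rfl⟩ := (a : MulAut Q).surjective y
      simp only [Subgroup.coe_mul, MulAut.mul_apply, InvMemClass.coe_inv, MulAut.inv_apply_self]
      apply Subtype.ext
      show ((conjAut Q (hgU u u.2).2 ((a : MulAut Q) x) : Q) : Ω) = (((a : MulAut Q) (conjAut Q u.2.2 x) : Q) : Ω)
      rw [conjAut_coe, ← autFn_coe (a : MulAut Q) x, ← autFn_coe (a : MulAut Q) (conjAut Q u.2.2 x),
        ← hge _ x.2, ← hge _ (conjAut Q u.2.2 x).2, conjAut_coe, hg.map_conj (hUN u.2) (hQN x.2)]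
    rw [h1, map_mul, map_mul, map_inv, hπa, (hιc _).eq, mul_inv_cancel_right]
  obtain ⟨u, hu1, hu⟩ : ∃ u : U, u ≠ 1 ∧ θ u = u := by
    by_contra hno
    push Not at hno
    let ψ : U → (π.comp cU).ker := fun u => ⟨u⁻¹ * θ u, by
      rw [MonoidHom.mem_ker, MonoidHom.comp_apply, map_mul, map_mul, hcθ, map_inv, map_inv, inv_mul_cancel]⟩
    have hψ : Function.Injective ψ := fun u v e => by
      have e' : u⁻¹ * θ u = v⁻¹ * θ v := congrArg Subtype.val e
      by_contra hne
      refine hno (v * u⁻¹) (fun h => hne (mul_inv_eq_one.mp h).symm) ?_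
      rw [map_mul, map_inv, show θ v = v * (u⁻¹ * θ u) by rw [e', mul_inv_cancel_left]]
      group
    have htop : (π.comp cU).ker = ⊤ := Subgroup.eq_top_of_le_card _ (Nat.card_le_card_of_injective ψ hψ)
    exact hτ1 (htop ▸ Subgroup.mem_top (⟨t, htP, htN⟩ : U) : (⟨t, htP, htN⟩ : U) ∈ (π.comp cU).ker)
  -- a fixed element of order `p`
  obtain ⟨w, hw1, hwp, hwfix⟩ : ∃ w : U, w ≠ 1 ∧ w ^ p = 1 ∧ θ w = w := by
    have hUp : IsPGroup p U := hS.to_le (inf_le_left.trans hP.1)
    obtain ⟨k, hk⟩ := hUp u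
    obtain ⟨j, hj, hj'⟩ : ∃ j, u ^ p ^ j ≠ 1 ∧ u ^ p ^ (j + 1) = 1 := by
      classical
      have hex : ∃ k, u ^ p ^ k = 1 := ⟨k, hk⟩
      have h0 : Nat.find hex ≠ 0 := fun h => hu1 (by simpa [h] using Nat.find_spec hex)
      exact ⟨Nat.find hex - 1, Nat.find_min hex (by omega), by
        rw [show Nat.find hex - 1 + 1 = Nat.find hex by omega]; exact Nat.find_spec hex⟩
    exact ⟨u ^ p ^ j, hj, by rw [← pow_mul, ← pow_succ]; exact hj', by rw [map_pow, hu]⟩
  have hwP : ((w : U) : Ω) ∈ P := w.2.1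
  have hwpΩ : ((w : U) : Ω) ^ p = 1 := by simpa using congrArg Subtype.val hwp
  -- `Ω₁(R)` is all of `Ω₁(P)`
  have hRnc : ¬ IsCyclic R := fun h => by
    haveI : IsCyclic (R ⧸ frattini R) := isCyclic_of_surjective (QuotientGroup.mk' _) (QuotientGroup.mk'_surjective _)
    have := Nat.le_of_dvd hp.out.pos
      ((IsCyclic.exponent_eq_card (α := R ⧸ frattini R)).symm ▸ Monoid.exponent_dvd_of_forall_pow_eq_one hexpV)
    rw [hVcard, sq] at this
    exact absurd this (not_le.mpr (lt_mul_of_one_lt_left hp.out.pos hp.out.one_lt))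
  have hPp : IsPGroup p P := hS.to_le hP.1
  obtain ⟨ER, hER, hERc, -⟩ : ∃ E : Subgroup R, Cfsg.IsElementaryAbelian p E ∧
      Nat.card E = p ^ 2 ∧ ∀ x : R, x ^ p = 1 → x ∈ E := by
    obtain ⟨N', hN', hNc, hQc⟩ := hRm
    haveI := hN'
    exact Fusion.OmegaMetacyclic.exists_eq_omega hRp hp2 hRnc hNc hQc
  let incR : R →* P := MonoidHom.mk' (fun x => ⟨((x : Q) : Ω), x.2⟩) fun x y => rfl
  have hincR : Function.Injective incR := fun x y e =>
    Subtype.ext (Subtype.ext (congrArg (fun z : P => (z : Ω)) e))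
  have hPnc : ¬ IsCyclic P := fun h => hRnc (isCyclic_of_injective incR hincR)
  obtain ⟨EP, -, hEPc, hEPall⟩ : ∃ E : Subgroup P, Cfsg.IsElementaryAbelian p E ∧
      Nat.card E = p ^ 2 ∧ ∀ x : P, x ^ p = 1 → x ∈ E := by
    obtain ⟨N', hN', hNc, hQc⟩ := hm
    haveI := hN'
    exact Fusion.OmegaMetacyclic.exists_eq_omega hPp hp2 hPnc hNc hQc
  have hle : ER.map incR ≤ EP := by
    rintro _ ⟨x, hx, rfl⟩
    exact hEPall _ (by rw [← map_pow, hER.2 x hx, map_one])
  have heq := Subgroup.eq_of_le_of_card_ge hle (by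
    rw [Subgroup.card_map_of_injective hincR, hERc, hEPc])
  obtain ⟨r, -, hrw⟩ : (⟨((w : U) : Ω), hwP⟩ : P) ∈ ER.map incR := by
    rw [heq]; exact hEPall _ (Subtype.ext (by simpa using hwpΩ))
  have hrw' : ((r : Q) : Ω) = ((w : U) : Ω) := congrArg (fun z : P => (z : Ω)) hrw
  -- it is fixed by an automorphism inverting the Frattini quotient of `R`
  have hr : res a r = r := Subtype.ext (Subtype.ext (by
    show (((a : MulAut Q) (r : Q) : Q) : Ω) = ((r : Q) : Ω)
    rw [← autFn_coe (a : MulAut Q) (r : Q), ← hge _ (r : Q).2, hrw']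
    exact congrArg Subtype.val hwfix))
  have := eq_one_of_inverting hp2 hRp hRm (hacop.coprime_dvd_left (orderOf_map_dvd res a))
    (fun v => by rw [show PGroup.FrattiniAct.quot (res a) = ι from hπa, hι]) hr
  apply hw1
  apply Subtype.ext
  rw [← hrw', this]
  rfl

theorem normal_of_metacyclic (hS : IsPGroup p S) (hF : F.IsSaturated p) (hp2 : p ≠ 2)
    (hP : F.StronglyClosed P) (hm : Cfsg.IsMetacyclic P) : F.IsNormal P := by
  refine normal_of_generators hS hF hP.1 (sc_le_normalizer hP) fun Q hQ => ⟨?_, fun α hα x hx => ?_⟩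
  · rcases hQ with rfl | hQ
    · exact hP.1
    · exact metacyclic_le_essential hS hF hp2 hP hm hQ
  · rcases hQ with rfl | hQ
    · exact (stronglyClosed_iff_fn.1 hP).2 _ _ ((mem_autGroup_iff_fn le_rfl).1 hα) x (hP.1 hx) hx
    · exact (stronglyClosed_iff_fn.1 hP).2 _ _ ((mem_autGroup_iff_fn hQ.1.1).1 hα) x
        (metacyclic_le_essential hS hF hp2 hP hm hQ hx) hx

end CfsgLib.Fsys
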