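import Mathlib
import Cfsg.Agent.Lib.FusionSystem.MetacyclicNormal
import Cfsg.Agent.Lib.Frobenius.MetacyclicTwoAut
import Cfsg.Agent.Lib.TwoGroups.MetacyclicSub

/-! A strongly closed metacyclic subgroup is normal in the fusion system, `p = 2`. -/

set_option autoImplicit false
set_option linter.style.haveILetI false
set_option linter.unusedSectionVars false

open Cfsg Cfsg.FusionSystem
open scoped Pointwise

namespace CfsgLib.Fsys

variable {Ω : Type*} [Group Ω] {S P Q : Subgroup Ω} {F : FusionSystem S} [Finite S]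

theorem two_quot_pow (R : Type*) [Group R] [Finite R] (hR : IsPGroup 2 R)
    (hmc : Cfsg.IsMetacyclic R) {T : Subgroup (MulAut (R ⧸ frattini R))} (hT : IsPGroup 2 T)
    {τ : MulAut (R ⧸ frattini R)} (hτ : τ ∈ T) : τ ^ 2 = 1 := by
  haveI : Fact (Nat.Prime 2) := ⟨Nat.prime_two⟩
  haveI := Fintype.ofFinite (R ⧸ frattini R)
  have hexp := PGroup.Frattini.quotient_pow_eq_one hR
  have h4 : Nat.card (R ⧸ frattini R) ≤ 2 ^ 2 := OddOrder.Metacyclic.card_le_sq
    (OddOrder.Metacyclic.of_surjective (QuotientGroup.mk' _) (QuotientGroup.mk'_surjective _) hmc) hexp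
  obtain ⟨k, hk⟩ := IsPGroup.iff_card.mp (hR.to_quotient (frattini R))
  rw [hk] at h4
  have hk2 := (Nat.pow_le_pow_iff_right (by norm_num)).mp h4
  rcases (show k ≤ 1 ∨ k = 2 by omega) with h | rfl
  · have h2 : Nat.card (R ⧸ frattini R) ≤ 2 := hk ▸ (Nat.pow_le_pow_right two_pos h)
    refine MulEquiv.ext fun v => ?_
    have hfix : τ v = v := by
      by_contra hne
      classical
      have hv1 : v ≠ 1 := fun e => hne (by rw [e, map_one])
      have hτv1 : τ v ≠ 1 := fun e => hv1 (τ.injective (by rw [e, map_one]))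
      have := Finset.card_le_univ ({1, v, τ v} : Finset (R ⧸ frattini R))
      rw [Finset.card_eq_three.mpr ⟨1, v, τ v, Ne.symm hv1, Ne.symm hτv1, Ne.symm hne, rfl⟩,
        ← Nat.card_eq_fintype_card] at this
      omega
    rw [pow_two, MulAut.mul_apply, hfix, hfix]; rfl
  · have hle := MetaNormal.card_pGroup_le hk hexp T hT
    obtain ⟨j, hj⟩ := IsPGroup.iff_card.mp hT
    rw [hj] at hle
    have hj1 : j ≤ 1 := (Nat.pow_le_pow_iff_right (a := 2) (by norm_num)).mp (by simpa using hle)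
    have h : (⟨τ, hτ⟩ : T) ^ 2 = 1 := orderOf_dvd_iff_pow_eq_one.mp
      ((orderOf_dvd_natCard _).trans (hj ▸ by simpa using pow_dvd_pow 2 hj1))
    exact congrArg Subtype.val h

theorem metacyclic_two_le_essential (hS : IsPGroup 2 S) (hF : F.IsSaturated 2)
    (hP : F.StronglyClosed P) (hm : Cfsg.IsMetacyclic P)
    (hd : ¬ ∃ m : ℕ, Nonempty (↥P ≃* DihedralGroup m)) (hq : ¬ ∃ m : ℕ, Nonempty (↥P ≃* QuaternionGroup m))
    (hsd : ¬ Cfsg.IsQuasiDihedral ↥P) (hQ : F.IsEssential 2 Q) : P ≤ Q := by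
  classical
  haveI : Fact (Nat.Prime 2) := ⟨Nat.prime_two⟩
  refine le_of_forall_normalizer hS hQ.1.1 hP.1 (hQ.1.1.trans (sc_le_normalizer hP)) fun t htP htN => ?_
  by_contra htQ
  have hQS := hQ.1.1
  haveI := finite_of_le_base hQS
  haveI := finite_of_le_base hP.1
  let R : Subgroup Q := P.subgroupOf Q
  have hRinv : ∀ a ∈ F.autGroup Q, ∀ x : Q, x ∈ R → a x ∈ R := fun a ha x hx => by
    have := (stronglyClosed_iff_fn.1 hP).2 _ _ ((mem_autGroup_iff_fn hQS).1 ha) x x.2 hx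
    rwa [autFn_coe] at this
  let res : F.autGroup Q →* MulAut R := MonoidHom.mk'
    (fun a =>
      { toFun := fun x => ⟨(a : MulAut Q) x, hRinv _ a.2 _ x.2⟩
        invFun := fun x => ⟨((a⁻¹ : F.autGroup Q) : MulAut Q) x, hRinv _ (a⁻¹).2 _ x.2⟩
        left_inv := fun x => Subtype.ext (MulAut.inv_apply_self Q (a : MulAut Q) _)
        right_inv := fun x => Subtype.ext (MulAut.apply_inv_self Q (a : MulAut Q) _)
        map_mul' := fun x y => Subtype.ext (map_mul (a : MulAut Q) _ _) })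
    fun a b => MulEquiv.ext fun x => rfl
  have hRp : IsPGroup 2 R := (hS.to_le hQS).to_subgroup R
  have hRm : Cfsg.IsMetacyclic R := OddOrder.Metacyclic.of_injective
    (MonoidHom.mk' (fun x : R => (⟨((x : Q) : Ω), x.2⟩ : P)) fun x y => rfl)
    (fun x y e => Subtype.ext (Subtype.ext (congrArg (fun z : P => (z : Ω)) e))) hm
  let π : F.autGroup Q →* MulAut (R ⧸ frattini R) := PGroup.FrattiniAct.quot.comp res
  have hRn : ∀ (g : F.autGroup Q) (x : Q), x ∈ R ↔ (g : MulAut Q) x ∈ R := fun g x => ⟨hRinv _ g.2 x, fun h => by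
    have := hRinv _ (g⁻¹).2 _ h
    rwa [show ((g⁻¹ : F.autGroup Q) : MulAut Q) ((g : MulAut Q) x) = x from MulAut.inv_apply_self Q _ _] at this⟩
  let M0 : Subgroup (F.autGroup Q) :=
    { carrier := {a | ∀ x : Q, x⁻¹ * (a : MulAut Q) x ∈ R}
      one_mem' := fun x => by simp
      mul_mem' := fun {a b} ha hb x => by
        rw [Subgroup.coe_mul, MulAut.mul_apply,
          show x⁻¹ * (a : MulAut Q) ((b : MulAut Q) x) = (x⁻¹ * (b : MulAut Q) x) *
            (((b : MulAut Q) x)⁻¹ * (a : MulAut Q) ((b : MulAut Q) x)) by group]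
        exact mul_mem (hb x) (ha _)
      inv_mem' := fun {a} ha x => by
        have h := inv_mem (ha ((((a⁻¹ : F.autGroup Q)) : MulAut Q) x))
        rw [show (a : MulAut Q) (((a⁻¹ : F.autGroup Q) : MulAut Q) x) = x from MulAut.apply_inv_self Q _ _,
          mul_inv_rev, inv_inv] at h
        exact h }
  have hM0n : M0.Normal := ⟨fun a ha g x => by
    set y := ((g⁻¹ : F.autGroup Q) : MulAut Q) x with hy
    have hgy : (g : MulAut Q) y = x := MulAut.apply_inv_self Q _ _
    have := (hRn g _).mp (ha y)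
    rw [map_mul, map_inv, hgy] at this
    exact this⟩
  let ct : ∀ u, u ∈ P → u ∈ Subgroup.normalizer (Q : Set Ω) → F.autGroup Q := fun u hu huN =>
    ⟨conjAut Q huN, autInducedBy_le_autGroup hQS (conjAut_mem_autInducedBy huN (hP.1 hu))⟩
  have hnorm : ∀ u (hu : u ∈ P) (huN : u ∈ Subgroup.normalizer (Q : Set Ω)), u ∉ Q →
      ∀ N : Subgroup (F.autGroup Q), N.Normal → IsPGroup 2 N → ct u hu huN ∉ N := fun u hu huN huQ N hN hNp hct =>
    huQ (by
      have := (essential_radical hS hQ).2.le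
        ⟨ct u hu huN, CfsgLib.Solvable.Cores.le_pCore (hn := hN) hNp hct, rfl⟩
      exact (conjAut_mem_inn_iff (centralizer_le_of_centric hQ.1) ⟨hP.1 hu, huN⟩ hQS).1 this)
  have hct0 : ∀ u (hu : u ∈ P) (huN : u ∈ Subgroup.normalizer (Q : Set Ω)), ct u hu huN ∈ M0 := fun u hu huN x => by
    show ((x⁻¹ * conjAut Q huN x : Q) : Ω) ∈ P
    rw [Subgroup.coe_mul, Subgroup.coe_inv, conjAut_coe]
    have h1 := sc_conj hP (S.inv_mem (hQS x.2)) hu
    have := P.mul_mem h1 (P.inv_mem hu)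
    simpa [mul_assoc] using this
  have hnorm' : ∀ u (hu : u ∈ P) (huN : u ∈ Subgroup.normalizer (Q : Set Ω)), u ∉ Q →
      ∀ B : Subgroup (MulAut (R ⧸ frattini R)), IsPGroup 2 B →
      (∀ g, ∀ b ∈ B, b ∈ π.range → π g * b * (π g)⁻¹ ∈ B) → π (ct u hu huN) ∉ B := fun u hu huN huQ B hBp hBn hct => by
    refine hnorm u hu huN huQ (M0 ⊓ B.comap π) ⟨fun a ha g => ⟨hM0n.conj_mem a ha.1 g, ?_⟩⟩ ?_ ⟨hct0 u hu huN, hct⟩
    · show π (g * a * g⁻¹) ∈ B
      rw [map_mul, map_mul, map_inv]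
      exact hBn g _ ha.2 ⟨a, rfl⟩
    · refine isPGroup_of_forall_coprime fun a hcop => ?_
      have hco : (orderOf ((a : F.autGroup Q) : MulAut Q)).Coprime 2 := by
        rwa [Subgroup.orderOf_coe, Subgroup.orderOf_coe]
      have hπ1 : π (a : F.autGroup Q) = 1 := by
        obtain ⟨k, hk⟩ := hBp ⟨_, a.2.2⟩
        have hk' : π (a : F.autGroup Q) ^ 2 ^ k = 1 := congrArg Subtype.val hk
        have hd : orderOf (π (a : F.autGroup Q)) ∣ orderOf ((a : F.autGroup Q) : MulAut Q) := by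
          rw [Subgroup.orderOf_coe]; exact orderOf_map_dvd π _
        exact orderOf_eq_one_iff.mp (Nat.eq_one_of_dvd_coprimes (hco.pow_right k) hd (orderOf_dvd_of_pow_eq_one hk'))
      have hres : res (a : F.autGroup Q) = 1 := PGroup.FrattiniAct.eq_one_of_quot hRp
        (hco.coprime_dvd_left (by rw [Subgroup.orderOf_coe]; exact orderOf_map_dvd res _)) hπ1
      refine Subtype.ext (Subtype.ext (MulEquiv.ext fun x => ?_))
      have hfix := congrArg (fun α : MulAut R => ((α ⟨_, a.2.1 x⟩ : R) : Q)) hres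
      exact fixed_of_fixed_shift (hS.to_le hQS) hco hfix
  have hne : ∀ u (hu : u ∈ P) (huN : u ∈ Subgroup.normalizer (Q : Set Ω)), u ∉ Q → π (ct u hu huN) ≠ 1 :=
    fun u hu huN huQ h => hnorm' u hu huN huQ ⊥ IsPGroup.of_bot (fun g b hb _ => by
      rw [Subgroup.mem_bot] at hb ⊢; rw [hb, mul_one, mul_inv_cancel]) (Subgroup.mem_bot.mpr h)
  -- the group of automorphisms of `R` is no 2-group
  have hA : ¬ IsPGroup 2 (MulAut R) := fun hA => by
    have h1 : IsPGroup 2 π.range := by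
      have := (hA.to_subgroup res.range).map PGroup.FrattiniAct.quot
      rwa [MonoidHom.map_range] at this
    exact hnorm' t htP htN htQ π.range h1 (fun g b hb _ =>
      mul_mem (mul_mem ⟨g, rfl⟩ hb) (inv_mem ⟨g, rfl⟩)) ⟨_, rfl⟩
  -- the square of `t` lies in `Q`
  have ht2 : t * t ∈ Q := by
    by_contra hno
    obtain ⟨⟨-, TS, hTS⟩, -⟩ := fullyNormalized_good hS hF hQ.2.1
    have hτ : π (ct t htP htN) ∈ (TS : Subgroup (F.autGroup Q)).map π := Subgroup.mem_map_of_mem π (by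
      rw [hTS]; exact conjAut_mem_autInducedBy htN (hP.1 htP))
    refine hne _ (P.mul_mem htP htP) (Subgroup.mul_mem _ htN htN) hno ?_
    rw [show ct (t * t) (P.mul_mem htP htP) (Subgroup.mul_mem _ htN htN) = ct t htP htN * ct t htP htN from
        Subtype.ext (conjAut_mul htN htN), map_mul, ← pow_two]
    exact two_quot_pow R hRp hRm (TS.2.map π) hτ
  -- `R` is self-centralising in `P`
  let R0 : Subgroup P := Q.subgroupOf P
  have hcent : Subgroup.centralizer (R0 : Set P) ≤ R0 := by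
    let H : Subgroup Ω := P ⊓ Subgroup.centralizer ((P ⊓ Q : Subgroup Ω) : Set Ω)
    have hHn : Q ≤ Subgroup.normalizer (H : Set Ω) := fun x hx => by
      have hconj : ∀ y ∈ Q, ∀ h ∈ H, y * h * y⁻¹ ∈ H := fun y hy h hh => by
        refine ⟨sc_conj hP (hQS hy) hh.1, Subgroup.mem_centralizer_iff.mpr fun r hr => ?_⟩
        have h1 : y⁻¹ * r * y ∈ P ⊓ Q :=
          ⟨by simpa using sc_conj hP (S.inv_mem (hQS hy)) hr.1, Q.mul_mem (Q.mul_mem (Q.inv_mem hy) hr.2) hy⟩
        calc r * (y * h * y⁻¹) = y * ((y⁻¹ * r * y) * h) * y⁻¹ := by group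
          _ = y * (h * (y⁻¹ * r * y)) * y⁻¹ := by rw [Subgroup.mem_centralizer_iff.mp hh.2 _ h1]
          _ = y * h * y⁻¹ * r := by group
      rw [Subgroup.mem_normalizer_iff]
      refine fun h => ⟨hconj x hx h, fun hh => ?_⟩
      simpa [mul_assoc] using hconj x⁻¹ (Q.inv_mem hx) _ hh
    have hHQ : H ≤ Q := le_of_forall_normalizer hS hQS (inf_le_left.trans hP.1) hHn fun u hu huN => by
      by_contra huQ
      refine hne u hu.1 huN huQ (MulEquiv.ext fun v => ?_)
      obtain ⟨r, rfl⟩ := QuotientGroup.mk'_surjective (frattini R) v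
      show ((res (ct u hu.1 huN) r : R) : R ⧸ frattini R) = (r : R ⧸ frattini R)
      congr 1
      apply Subtype.ext
      apply Subtype.ext
      show ((conjAut Q huN (r : Q) : Q) : Ω) = ((r : Q) : Ω)
      have hcu : ((r : Q) : Ω) * u = u * ((r : Q) : Ω) :=
        Subgroup.mem_centralizer_iff.mp hu.2 _ ⟨r.2, (r : Q).2⟩
      rw [conjAut_coe, ← hcu, mul_inv_cancel_right]
    intro x hx
    exact hHQ ⟨x.2, Subgroup.mem_centralizer_iff.mpr fun r hr =>
      congrArg Subtype.val (Subgroup.mem_centralizer_iff.mp hx ⟨r, hr.1⟩ hr.2)⟩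
  -- `t` moves something modulo squares
  have hmove : ¬ ∀ x ∈ R0, ∃ y ∈ R0, (⟨t, htP⟩ : P) * x * (⟨t, htP⟩ : P)⁻¹ * x⁻¹ = y * y := fun h => by
    refine hne t htP htN htQ (MulEquiv.ext fun v => ?_)
    obtain ⟨r, rfl⟩ := QuotientGroup.mk'_surjective (frattini R) v
    obtain ⟨y, hy, hxy⟩ := h ⟨((r : Q) : Ω), r.2⟩ (r : Q).2
    show ((res (ct t htP htN) r : R) : R ⧸ frattini R) = (r : R ⧸ frattini R)
    rw [show res (ct t htP htN) r = (⟨⟨(y : Ω), hy⟩, y.2⟩ : R) ^ 2 * r from Subtype.ext (Subtype.ext (by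
      show ((conjAut Q htN (r : Q) : Q) : Ω) = (y : Ω) ^ 2 * ((r : Q) : Ω)
      rw [conjAut_coe, pow_two, ← show t * ((r : Q) : Ω) * t⁻¹ * (((r : Q) : Ω))⁻¹ = (y : Ω) * y from
        congrArg Subtype.val hxy, inv_mul_cancel_right])), QuotientGroup.mk_mul, QuotientGroup.mk_pow,
      PGroup.Frattini.quotient_pow_eq_one hRp, one_mul]
  let e : R ≃* R0 :=
    { toFun := fun x => ⟨⟨((x : Q) : Ω), x.2⟩, (x : Q).2⟩
      invFun := fun x => ⟨⟨((x : P) : Ω), x.2⟩, (x : P).2⟩
      left_inv := fun x => rfl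
      right_inv := fun x => rfl
      map_mul' := fun x y => rfl }
  obtain ⟨N, hNn, hNc, hQc⟩ := hm
  haveI := hNn
  have hPp : IsPGroup 2 P := hS.to_le hP.1
  obtain ⟨M, hMn, hMc, hMq⟩ := hRm
  haveI := hMn
  rcases Frobenius.MetacyclicTwo.main hRp M hMc hMq hA with h | ⟨n, ⟨f⟩⟩
  · obtain ⟨f⟩ := h
    let g : QuaternionGroup 2 →* P := R0.subtype.comp (f.symm.trans e).toMonoidHom
    have hg : Function.Injective g := R0.subtype_injective.comp (f.symm.trans e).injective
    rcases TwoGroups.MetacyclicSub.quaternion_or_quasiDihedral (N := N) hPp hNc hQc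
      (i := g (.a 1)) (j := g (.xa 0)) (by rw [orderOf_injective g hg, QuaternionGroup.orderOf_a_one])
      (by rw [← map_mul, ← map_mul]; congr 1)
      (by rw [← map_inv g, ← map_mul, ← map_mul, ← map_inv g]; congr 1) with h | h
    · exact hq h
    · exact hsd h
  · have hcard : Nat.card R0 = 2 ^ (2 * n) := by
      rw [← Nat.card_congr (f.symm.trans e).toEquiv, Nat.card_prod, Nat.card_congr Multiplicative.toAdd,
        Nat.card_zmod, two_mul, pow_add]
    have hcomm : ∀ x ∈ R0, ∀ y ∈ R0, x * y = y * x := fun x hx y hy =>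
      congrArg Subtype.val (show (⟨x, hx⟩ : R0) * ⟨y, hy⟩ = ⟨y, hy⟩ * ⟨x, hx⟩ from
        (f.symm.trans e).symm.injective (by rw [map_mul, map_mul, mul_comm]))
    have hexp : ∀ x ∈ R0, x ^ 2 ^ n = 1 := fun x hx =>
      congrArg Subtype.val (show (⟨x, hx⟩ : R0) ^ 2 ^ n = 1 from (f.symm.trans e).symm.injective (by
        rw [map_pow, map_one]
        refine Prod.ext ?_ ?_ <;>
          (apply Multiplicative.toAdd.injective; simp)))
    rcases (show n = 0 ∨ n = 1 ∨ 2 ≤ n by omega) with rfl | rfl | hn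
    · refine hmove fun x hx => ⟨1, one_mem _, ?_⟩
      have hsub := (Nat.card_eq_one_iff_unique.mp (by simpa using hcard : Nat.card R0 = 1)).1
      have hx1 : x = 1 := congrArg Subtype.val (hsub.elim (⟨x, hx⟩ : R0) 1)
      simp [hx1]
    · rcases TwoGroups.MetacyclicSub.dihedral_or_quasiDihedral (N := N) hPp hNc hQc (by simpa using hcard)
        (fun x hx => by rw [← pow_two]; simpa using hexp x hx) hcent with h | h
      · exact hd h
      · exact hsd h
    · exact hmove fun x hx => TwoGroups.MetacyclicSub.square_mod (N := N) hPp hNc hQc hn hcard hcomm hexp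
        (t := (⟨t, htP⟩ : P)) htQ ht2 (fun x hx => (Subgroup.mem_normalizer_iff.mp htN x).mp hx) hx

theorem normal_of_metacyclic_two (hS : IsPGroup 2 S) (hF : F.IsSaturated 2)
    (hP : F.StronglyClosed P) (hm : Cfsg.IsMetacyclic P)
    (hd : ¬ ∃ m : ℕ, Nonempty (↥P ≃* DihedralGroup m)) (hq : ¬ ∃ m : ℕ, Nonempty (↥P ≃* QuaternionGroup m))
    (hsd : ¬ Cfsg.IsQuasiDihedral ↥P) : F.IsNormal P := by
  haveI : Fact (Nat.Prime 2) := ⟨Nat.prime_two⟩
  refine normal_of_generators hS hF hP.1 (sc_le_normalizer hP) fun Q hQ => ⟨?_, fun α hα x hx => ?_⟩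
  · rcases hQ with rfl | hQ
    · exact hP.1
    · exact metacyclic_two_le_essential hS hF hP hm hd hq hsd hQ
  · rcases hQ with rfl | hQ
    · exact (stronglyClosed_iff_fn.1 hP).2 _ _ ((mem_autGroup_iff_fn le_rfl).1 hα) x (hP.1 hx) hx
    · exact (stronglyClosed_iff_fn.1 hP).2 _ _ ((mem_autGroup_iff_fn hQ.1.1).1 hα) x
        (metacyclic_two_le_essential hS hF hP hm hd hq hsd hQ hx) hx

end CfsgLib.Fsys
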