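import Cfsg.Agent.Lib.FusionSystem.ControlW
/-
A nilpotency criterion: if a functor `W` detects constrained `p`-groups among constrained groups, then a
saturated system in which the automorphisms fixing `W(S)` are `p`-elements is the inner system.
-/
set_option autoImplicit false

namespace CfsgLib.Fsys

open Cfsg
open Cfsg.FusionSystem (centralizerIn normalizerIn imageAlong preimageAlong)

universe u

variable {Ω : Type u} [Group Ω] {S : Subgroup Ω} {F : FusionSystem S} {P Q : Subgroup Ω} {p : ℕ}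

/-- Every automorphism group of the system is a `p`-group. -/
def PAut (p : ℕ) (F : FusionSystem S) : Prop :=
  ∀ P : Subgroup Ω, P ≤ S → ∀ α ∈ F.autGroup P, ∃ k, α ^ p ^ k = 1

/-- The automorphisms fixing `W'` of subgroups containing it are `p`-elements. -/
def LocPAut (p : ℕ) (F : FusionSystem S) (W' : Subgroup Ω) : Prop :=
  ∀ P : Subgroup Ω, P ≤ S → W' ≤ P → ∀ α ∈ F.autGroup P, img (autFn α) W' = W' → ∃ k, α ^ p ^ k = 1

theorem autFn_id {x : Ω} (hx : x ∈ P) : autFn (1 : MulAut P) x = x := autFn_coe 1 ⟨x, hx⟩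

theorem autFn_pow_semiconj {Ω' : Type*} [Group Ω'] {P' : Subgroup Ω'} {α : MulAut P} {β : MulAut P'}
    {c : Ω → Ω'} (hc : ∀ x ∈ P, c x ∈ P') (h : ∀ x ∈ P, autFn β (c x) = c (autFn α x)) (n : ℕ) :
    ∀ x ∈ P, autFn (β ^ n) (c x) = c (autFn (α ^ n) x) := by
  induction n with
  | zero => intro x hx; rw [pow_zero, pow_zero, autFn_id (hc x hx), autFn_id hx]
  | succ n ih =>
    intro x hx
    rw [pow_succ, pow_succ, autFn_mul _ _ (hc x hx), autFn_mul _ _ hx, h x hx, ih _ (autFn_mem α hx)]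

theorem pow_eq_one_of_semiconj {P' : Subgroup Ω} {α : MulAut P} {β : MulAut P'} {c : Ω → Ω}
    (hf : Fn F P c) (hc : ∀ x ∈ P, c x ∈ P') (h : ∀ x ∈ P, autFn β (c x) = c (autFn α x)) {n : ℕ}
    (hn : β ^ n = 1) : α ^ n = 1 := mulAut_ext fun x hx => by
  have h1 := autFn_pow_semiconj hc h n x hx
  rw [hn, autFn_id (hc x hx)] at h1
  rw [autFn_id hx]
  exact hf.inj (autFn_mem _ hx) hx h1.symm

variable [Finite S]

theorem exists_transport_aut {D : Subgroup Ω} {c : Ω → Ω} (hc : Fn F D c) (hP : P ≤ D) {α : MulAut P}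
    (hα : α ∈ F.autGroup P) :
    ∃ β ∈ F.autGroup (img c P), ∀ x ∈ P, autFn β (c x) = c (autFn α x) := by
  have hPS : P ≤ S := hP.trans hc.le
  have hcP := hc.mono hP
  obtain ⟨d, hd, hdc, hdi⟩ := hcP.exists_inv
  have hdm : ∀ y ∈ img c P, d y ∈ P := fun y hy => hdi.le (mem_img_of_mem hy)
  have hm : ∀ y ∈ img c P, (c ∘ autFn α ∘ d) y ∈ img c P := fun y hy =>
    mem_img_of_mem (autFn_mem α (hdm y hy))
  have hfn : Fn F (img c P) (c ∘ autFn α ∘ d) :=
    (hd.comp ((mem_autGroup_iff_fn hPS).1 hα) hdm).comp hcP fun y hy => autFn_mem α (hdm y hy)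
  obtain ⟨β, hβ, hβe⟩ := exists_aut_of_fn hfn (hfn.img_eq_self hm)
  refine ⟨β, hβ, fun x hx => ?_⟩
  rw [show autFn β (c x) = ((β ⟨c x, mem_img_of_mem hx⟩ : img c P) : Ω) from autFn_coe β ⟨c x, mem_img_of_mem hx⟩, hβe]
  show c (autFn α (d (c x))) = _
  rw [hdc x hx]

theorem autFn_pow_conj {α : MulAut P} {s : Ω} (h : ∀ x ∈ P, autFn α x = s * x * s⁻¹) (n : ℕ) :
    ∀ x ∈ P, autFn (α ^ n) x = s ^ n * x * (s ^ n)⁻¹ := by
  induction n with
  | zero => intro x hx; rw [pow_zero, autFn_id hx]; simp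
  | succ n ih =>
    intro x hx
    rw [pow_succ, autFn_mul _ _ hx, ih _ (autFn_mem α hx), h x hx, pow_succ]
    group

theorem pPow_of_conj (hS : IsPGroup p S) {α : MulAut P} {s : Ω} (hs : s ∈ S)
    (h : ∀ x ∈ P, autFn α x = s * x * s⁻¹) : ∃ k, α ^ p ^ k = 1 := by
  obtain ⟨k, hk⟩ := hS ⟨s, hs⟩
  have hk' : s ^ p ^ k = 1 := congrArg Subtype.val hk
  refine ⟨k, mulAut_ext fun x hx => ?_⟩
  rw [autFn_pow_conj h _ x hx, hk', autFn_id hx]
  simp

theorem pAut_of_le_inner (hS : IsPGroup p S) (h : F ≤ innerFusionSystem S) : PAut p F := by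
  intro P hP α hα
  obtain ⟨φ, ⟨-, g, hg, hgx⟩, hφ⟩ := fn_of_le h ((mem_autGroup_iff_fn hP).1 hα)
  exact pPow_of_conj hS hg fun x hx => (hφ ⟨x, hx⟩).symm.trans (hgx ⟨x, hx⟩)

theorem autGroup_mono {E : FusionSystem S} (h : E ≤ F) (hP : P ≤ S) : E.autGroup P ≤ F.autGroup P :=
  fun _ hα => (mem_autGroup_iff_fn hP).2 (fn_of_le h ((mem_autGroup_iff_fn hP).1 hα))

variable [Fact p.Prime]

theorem le_inner_of_pAut (hS : IsPGroup p S) (hF : F.IsSaturated p) (h : PAut p F) :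
    F ≤ innerFusionSystem S := by
  have key : ∀ P : Subgroup Ω, F.IsFullyNormalized P → F.autGroup P ≤ (innerFusionSystem S).autGroup P := by
    intro P hP
    obtain ⟨-, R, hR⟩ := (fullyNormalized_good hS hF hP).1
    have hpg : IsPGroup p (⊤ : Subgroup (F.autGroup P)) := by
      rintro ⟨⟨α, hα⟩, -⟩
      obtain ⟨k, hk⟩ := h P hP.1 α hα
      exact ⟨k, Subtype.ext (Subtype.ext hk)⟩
    have hR' := R.3 hpg le_top
    intro α hα
    have h1 : (⟨α, hα⟩ : F.autGroup P) ∈ (R : Subgroup (F.autGroup P)) := hR' ▸ Subgroup.mem_top _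
    rw [hR] at h1
    exact autInducedBy_le_autGroup hP.1 h1
  exact le_of_automizers hS hF _ (key S (fullyNormalized_of_weaklyClosed (weaklyClosed_of_stronglyClosed sc_top)))
    fun P _ hP _ => key P hP

theorem hom_eq_inner_of_pAut (hS : IsPGroup p S) (hF : F.IsSaturated p) (h : PAut p F) (P : Subgroup Ω) :
    F.Hom P = (innerFusionSystem S).Hom P :=
  (le_inner_of_pAut hS hF h P).antisymm (inner_subsystem le_rfl P)

theorem exists_conj_of_pAut (hS : IsPGroup p S) (hF : F.IsSaturated p) (h : PAut p F) {f : Ω → Ω}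
    (hf : Fn F P f) : ∃ s ∈ S, ∀ x ∈ P, f x = s * x * s⁻¹ := by
  obtain ⟨φ, ⟨-, g, hg, hgx⟩, hφ⟩ := fn_of_le (le_inner_of_pAut hS hF h) hf
  exact ⟨g, hg, fun x hx => (hφ ⟨x, hx⟩).symm.trans (hgx ⟨x, hx⟩)⟩

variable {W : ∀ (Q : Type u) [Group Q], Subgroup Q}

/-- Maps normalizing a normal subgroup `U ≰ O_p(F)` of `S` are inner when the proper subsystems are. -/
theorem conj_of_proper_normalizer (hS : IsPGroup p S) (hF : F.IsSaturated p)
    (hprop : ∀ E : FusionSystem S, E ≤ F → ¬ F ≤ E → E.IsSaturated p → PAut p E) {U : Subgroup Ω}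
    (hU : F.IsFullyNormalized U) (he : normalizerIn S U = S) (hUQ : ¬ U ≤ F.core) :
    ∀ ⦃P : Subgroup Ω⦄ ⦃f : Ω → Ω⦄, Fn F P f → U ≤ P → img f U = U →
      ∃ s ∈ S, ∀ x ∈ P, f x = s * x * s⁻¹ := by
  obtain ⟨N, hN⟩ := exists_normalizerSystem F hU.1
  obtain ⟨E, hE⟩ := exists_cast he N
  have hfn : ∀ {P : Subgroup Ω} {f : Ω → Ω}, Fn E P f ↔ Fn N P f := fun {P f} => by rw [Fn, Fn, hE]
  have hEs : E.IsSaturated p :=
    system_cast (C := fun _ E => E.IsSaturated p) he hE (normalizerSystem_saturated hS hF hU hN)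
  have hEF : E ≤ F := fun P φ hφ => normalizerSystem_sub hN P (hE P ▸ hφ)
  have hEn : E.IsNormal U :=
    system_cast (C := fun _ E => E.IsNormal U) he hE (normalizerSystem_normal hN hU.1)
  have hP := hprop E hEF (fun hle => hUQ (le_core (by
    rwa [system_ext (E := F) (E' := E) fun P => (hle P).antisymm (hEF P)]))) hEs
  intro P f hf hle hi
  exact exists_conj_of_pAut hS hEs hP (hfn.2 ((fn_normalizerSystem hN).2 ⟨hf.le.trans he.ge,
    fun x hx => he.ge (hf.mem hx), f, by rwa [sup_eq_left.2 hle], fun x _ => rfl, hi⟩))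

/-- The local hypothesis passes to the factor system by the core. -/
theorem factor_locPAut (hW1 : ∀ (Q : Type u) [Group Q] [Finite Q], IsPGroup p Q → Nontrivial Q → W Q ≠ ⊥)
    (hW2 : ∀ (Q R : Type u) [Group Q] [Group R] [Finite Q], IsPGroup p Q → ∀ φ : Q ≃* R, (W Q).map φ.toMonoidHom = W R)
    (hS : IsPGroup p S) (hF : F.IsSaturated p)
    (hprop : ∀ E : FusionSystem S, E ≤ F → ¬ F ≤ E → E.IsSaturated p → PAut p E)
    {Ω' : Type u} [Group Ω'] {θ : S →* Ω'} {E : FusionSystem θ.range} (hE : F.IsFactorSystem F.core θ E)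
    (hne : ¬ S ≤ F.core) : LocPAut p E (wOf W θ.range) := by
  have hsc₀ : F.StronglyClosed F.core := normal_stronglyClosed core_normal
  have hker : ∀ x ∈ S, th θ x = 1 ↔ x ∈ F.core := fun x hx => factor_ker hE hx
  have hnormS := fun U hU he hUQ => conj_of_proper_normalizer (U := U) hS hF hprop hU he hUQ
  have hpr : IsPGroup p θ.range := hS.of_surjective θ.rangeRestrict θ.rangeRestrict_surjective
  have : Finite θ.range := Finite.of_surjective θ.rangeRestrict θ.rangeRestrict_surjective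
  set W' := wOf W θ.range with hW'
  set X := preimageAlong θ W' with hX
  have hXS : X ≤ S := preimageAlong_le
  have hXn : normalizerIn S X = S := by
    refine inf_eq_left.2 fun s hs => ?_
    have := finite_of_le_base hXS
    refine mem_normalizer_of_map_le fun x hx => ?_
    obtain ⟨hxS, hxW⟩ := mem_preimageAlong.1 hx
    refine mem_preimageAlong.2 ⟨S.mul_mem (S.mul_mem hs hxS) (S.inv_mem hs), ?_⟩
    rw [th_mul (S.mul_mem hs hxS) (S.inv_mem hs), th_mul hs hxS, th_inv hs]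
    have hf := fn_conj (F := E) (le_refl θ.range) (th_mem_range (α := θ) hs)
    have h := map_wOf hW2 hpr hf
    rw [hf.img_eq_self fun x hx => hf.mem hx] at h
    exact h.le (mem_img_of_mem hxW)
  have hXU : F.IsFullyNormalized X := ⟨hXS, fun R _ => hXn.symm ▸ Subgroup.card_le_of_le normalizerIn_le⟩
  have hXQ : ¬ X ≤ F.core := fun hle => by
    refine wOf_ne_bot hW1 hpr (fun hr => hne fun x hxS => ?_) (?_ : W' = ⊥)
    · have h1 := th_mem_range (α := θ) hxS
      rw [hr, Subgroup.mem_bot] at h1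
      exact (hker x hxS).1 h1
    · refine (Subgroup.eq_bot_iff_forall _).2 fun y hy => ?_
      rw [← imageAlong_preimageAlong (α := θ) (P' := W') (wOf_le _)] at hy
      obtain ⟨x, hx, hxS, rfl⟩ := mem_imageAlong.1 hy
      exact (hker x hxS).2 (hle hx)
  intro P' hP' hWP β hβ hβW
  obtain ⟨-, g, hg, hge⟩ := (factor_fn hsc₀ hE).1 ((mem_autGroup_iff_fn hP').1 hβ)
  have hm : ∀ x ∈ preimageAlong θ P', g x ∈ preimageAlong θ P' := fun x hx => by
    refine mem_preimageAlong.2 ⟨hg.mem hx, ?_⟩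
    rw [← hge x hx]
    exact autFn_mem β (mem_preimageAlong.1 hx).2
  have hXP : X ≤ preimageAlong θ P' := fun x hx =>
    mem_preimageAlong.2 ⟨(mem_preimageAlong.1 hx).1, hWP (mem_preimageAlong.1 hx).2⟩
  obtain ⟨s, hs, hse⟩ := hnormS X hXU hXn hXQ hg hXP ((hg.mono hXP).img_eq_self fun x hx => by
    refine mem_preimageAlong.2 ⟨hg.mem (hXP hx), ?_⟩
    rw [← hge x (hXP hx)]
    exact hβW.le (mem_img_of_mem (mem_preimageAlong.1 hx).2))
  refine pPow_of_conj hpr (th_mem_range (α := θ) hs) fun y hy => ?_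
  obtain ⟨⟨x, hxS⟩, hxe⟩ := hP' hy
  have hxy : th θ x = y := by rw [th_apply hxS]; exact hxe
  subst hxy
  have hxP : x ∈ preimageAlong θ P' := mem_preimageAlong.2 ⟨hxS, hy⟩
  rw [hge x hxP, hse x hxP, th_mul (S.mul_mem hs hxS) (S.inv_mem hs), th_mul hs hxS, th_inv hs]

/-- If every map is inner on the normal subgroup `Q₀` and the factor system is inner, so is the system. -/
theorem pAut_of_factor (hS : IsPGroup p S) {Q₀ : Subgroup Ω} (hsc₀ : F.StronglyClosed Q₀)
    (hinner : ∀ {P : Subgroup Ω} {f : Ω → Ω}, Fn F P f →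
      ∃ g, Fn F (P ⊔ Q₀) g ∧ (∀ x ∈ P, g x = f x) ∧ ∃ s ∈ S, ∀ x ∈ Q₀, g x = s * x * s⁻¹)
    {Ω' : Type*} [Group Ω'] {θ : S →* Ω'} {E : FusionSystem θ.range} (hE : F.IsFactorSystem Q₀ θ E)
    (hnE : PAut p E) : PAut p F := by
  have hker : ∀ x ∈ S, th θ x = 1 ↔ x ∈ Q₀ := fun x hx => factor_ker hE hx
  have : Finite θ.range := Finite.of_surjective θ.rangeRestrict θ.rangeRestrict_surjective
  intro P hP α hα
  obtain ⟨g, hg, hge, s, hs, hgs⟩ := hinner ((mem_autGroup_iff_fn hP).1 hα)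
  have hgQ : ∀ x ∈ Q₀, g x ∈ Q₀ := fun x hx => hgs x hx ▸ sc_conj hsc₀ hs hx
  obtain ⟨β, hβ, hβe⟩ := exists_aut_of_fn hg (hg.img_eq_self (by
    have h : img g (P ⊔ Q₀) ≤ P ⊔ Q₀ := by
      rw [hg.img_sup]
      exact sup_le_sup (img_le fun x hx => hge x hx ▸ autFn_mem α hx) (img_le hgQ)
    exact fun x hx => h (mem_img_of_mem hx)))
  have hβg : ∀ x ∈ P ⊔ Q₀, autFn β x = g x := fun x hx => (autFn_coe β ⟨x, hx⟩).trans (hβe ⟨x, hx⟩)
  suffices hβ1 : ∃ k, β ^ p ^ k = 1 by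
    obtain ⟨k, hk⟩ := hβ1
    exact ⟨k, pow_eq_one_of_semiconj (fn_id (F := F) hP) (fun x hx => Subgroup.mem_sup_left hx)
      (fun x hx => (hβg x (Subgroup.mem_sup_left hx)).trans (hge x hx)) hk⟩
  -- the induced automorphism of the image
  obtain ⟨φ', hφ'⟩ := exists_inducedHom hg fun y hy h => sc_th_one hsc₀ hker hg hy h
  have hPQ : P ⊔ Q₀ ≤ S := hg.le
  have hrng : imageAlong θ (P ⊔ Q₀) ≤ θ.range := fun y hy => by
    obtain ⟨z, -, hzS, rfl⟩ := mem_imageAlong.1 hy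
    exact th_mem_range hzS
  have e : preimageAlong θ (imageAlong θ (P ⊔ Q₀)) = P ⊔ Q₀ := by
    refine le_antisymm (fun y hy => ?_) (le_preimageAlong hPQ)
    obtain ⟨hyS, hyi⟩ := mem_preimageAlong.1 hy
    obtain ⟨z, hz, hzS, he⟩ := mem_imageAlong.1 hyi
    have : z⁻¹ * y ∈ Q₀ := (hker _ (S.mul_mem (S.inv_mem hzS) hyS)).1 (by
      rw [th_mul (S.inv_mem hzS) hyS, th_inv hzS, he, inv_mul_cancel])
    simpa using (P ⊔ Q₀).mul_mem hz (Subgroup.mem_sup_right this)
  have hfn : Fn E (imageAlong θ (P ⊔ Q₀)) (ofHom φ') :=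
    (factor_fn hsc₀ hE).2 ⟨hrng, g, by rwa [e], by rw [e]; exact hφ'⟩
  obtain ⟨γ, hγ, hγe⟩ := exists_aut_of_fn hfn (hfn.img_eq_self fun y hy => by
    obtain ⟨z, hz, hzS, rfl⟩ := mem_imageAlong.1 hy
    rw [hφ' z hz, ← hβg z hz]
    exact th_mem_imageAlong (autFn_mem β hz) (hPQ (autFn_mem β hz)))
  obtain ⟨k, hk⟩ := hnE _ hrng γ hγ
  obtain ⟨j, hj⟩ := hS ⟨s, hs⟩
  have hj' : s ^ p ^ j = 1 := congrArg Subtype.val hj
  set β₁ := β ^ p ^ (k + j) with hβ₁
  have hmodQ : ∀ x ∈ P ⊔ Q₀, x⁻¹ * autFn β₁ x ∈ Q₀ := by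
    intro x hx
    have h1 := autFn_pow_semiconj (α := β) (β := γ) (c := th θ)
      (fun x hx => th_mem_imageAlong hx (hPQ hx)) (fun x hx => by
        rw [show autFn γ (th θ x) = _ from
          autFn_coe γ ⟨th θ x, th_mem_imageAlong hx (hPQ hx)⟩, hγe, hφ' x hx, hβg x hx]) (p ^ (k + j)) x hx
    rw [show γ ^ p ^ (k + j) = 1 by rw [pow_add, pow_mul, hk, one_pow], autFn_id (th_mem_imageAlong hx (hPQ hx))] at h1
    have hm := hPQ (autFn_mem β₁ hx)
    rw [← hker _ (S.mul_mem (S.inv_mem (hPQ hx)) hm), th_mul (S.inv_mem (hPQ hx)) hm, th_inv (hPQ hx), hβ₁, ← h1,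
      inv_mul_cancel]
  have hfix : ∀ q ∈ Q₀, autFn β₁ q = q := fun q hq => by
    have hres : ∀ n : ℕ, ∀ q ∈ Q₀, autFn (β ^ n) q = s ^ n * q * (s ^ n)⁻¹ := by
      intro n
      induction n with
      | zero => intro q hq; rw [pow_zero, autFn_id (Subgroup.mem_sup_right hq)]; simp
      | succ n ih =>
        intro q hq
        rw [pow_succ, autFn_mul _ _ (Subgroup.mem_sup_right hq), hβg q (Subgroup.mem_sup_right hq), hgs q hq,
          ih _ (sc_conj hsc₀ hs hq), pow_succ]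
        group
    rw [hβ₁, hres _ q hq, pow_add, mul_comm, pow_mul, hj', one_pow]
    simp
  obtain ⟨l, hl⟩ := hS.exists_card_eq
  refine ⟨k + j + l, ?_⟩
  rw [pow_add, pow_mul, ← hβ₁, ← hl]
  refine mulAut_ext fun x hx => ?_
  have hpow : ∀ i : ℕ, autFn (β₁ ^ i) x = x * (x⁻¹ * autFn β₁ x) ^ i := by
    intro i
    induction i with
    | zero => rw [pow_zero, autFn_id hx, pow_zero, mul_one]
    | succ i ih =>
      have hq : (x⁻¹ * autFn β₁ x) ^ i ∈ Q₀ := pow_mem (hmodQ x hx) i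
      have hmul : autFn β₁ (x * (x⁻¹ * autFn β₁ x) ^ i) = autFn β₁ x * (x⁻¹ * autFn β₁ x) ^ i := by
        conv_rhs => rw [← hfix _ hq]
        have ha := congrArg Subtype.val (map_mul β₁ ⟨x, hx⟩ ⟨_, Subgroup.mem_sup_right hq⟩)
        rw [Subgroup.coe_mul, ← autFn_coe β₁, ← autFn_coe β₁, ← autFn_coe β₁] at ha
        exact ha
      rw [pow_succ', autFn_mul _ _ hx, ih, hmul]
      generalize autFn (β₁) x = y
      rw [pow_succ' (x⁻¹ * y), ← mul_assoc, ← mul_assoc, mul_inv_cancel, one_mul]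
  rw [hpow, autFn_id hx]
  have hq : x⁻¹ * autFn β₁ x ∈ S := hsc₀.1 (hmodQ x hx)
  have h1 : (⟨_, hq⟩ : S) ^ Nat.card S = 1 := pow_card_eq_one'
  rw [show (x⁻¹ * autFn β₁ x) ^ Nat.card S = 1 from congrArg Subtype.val h1, mul_one]

/-- Frattini decomposition along a normal subgroup `Q₀`. -/
theorem pAut_of_frattini (hS : IsPGroup p S) (hF : F.IsSaturated p) {Q₀ : Subgroup Ω} (hQ₀ : F.IsNormal Q₀)
    (hN₁ : ∀ ⦃P : Subgroup Ω⦄ ⦃f : Ω → Ω⦄, Fn F P f → Q₀ ⊔ centralizerIn S Q₀ ≤ P →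
      ∃ s ∈ S, ∀ x ∈ P, f x = s * x * s⁻¹)
    (hN₂ : ∀ ⦃P : Subgroup Ω⦄ ⦃f : Ω → Ω⦄, Fn F P f → Q₀ ≤ P → (∃ s ∈ S, ∀ x ∈ Q₀, f x = s * x * s⁻¹) →
      ∃ s ∈ S, ∀ x ∈ P, f x = s * x * s⁻¹) : PAut p F := by
  have hsc₀ := normal_stronglyClosed hQ₀
  intro P hP α hα
  obtain ⟨χ, hχ, hχe, hχi⟩ := (normal_iff_fn.1 hQ₀).2 P _ ((mem_autGroup_iff_fn hP).1 hα)
  obtain ⟨a', ha', ha'χ, ha'i⟩ := (hχ.mono le_sup_right).exists_inv
  rw [hχi] at ha' ha'i
  obtain ⟨M, b, hb, hQM, hM, hbe⟩ := receptive_extend (fullyNormalized_receptive hS hF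
    (fullyNormalized_of_weaklyClosed (weaklyClosed_of_stronglyClosed hsc₀))) ha' ha'i
  have hQ₁M : Q₀ ⊔ centralizerIn S Q₀ ≤ M := sup_le hQM fun c hc => (hM c).2 (inExt_of_commute hc)
  have hχM : img χ (P ⊔ Q₀) ≤ M := img_le fun x hx => by
    refine (hM _).2 ⟨hχ.mem hx, sc_le_normalizer hsc₀ (hχ.mem hx), x, hχ.le hx, fun y hy => ?_⟩
    obtain ⟨q, hq, rfl⟩ := (hχ.mono le_sup_right).mem_img.1 (hχi.ge hy)
    have hxq : x * q * x⁻¹ ∈ Q₀ := sc_conj hsc₀ (hχ.le hx) hq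
    rw [← hχ.map_conj hx (Subgroup.mem_sup_right hq), ha'χ _ hxq, ha'χ q hq]
  obtain ⟨t, ht, hte⟩ := hN₁ hb hQ₁M
  obtain ⟨s, hs, hse⟩ := hN₂ (hχ.comp hb fun x hx => hχM (mem_img_of_mem hx)) le_sup_right ⟨1, S.one_mem,
    fun x hx => by
      show b (χ x) = _
      rw [hbe _ (hχi.le (mem_img_of_mem hx)), ha'χ x hx]
      simp⟩
  refine pPow_of_conj hS (S.mul_mem (S.inv_mem ht) hs) fun x hx => ?_
  rw [← hχe x hx]
  have hx' : x ∈ P ⊔ Q₀ := Subgroup.mem_sup_left hx
  have h1 : t * χ x * t⁻¹ = s * x * s⁻¹ := (hte _ (hχM (mem_img_of_mem hx'))).symm.trans (hse x hx')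
  calc χ x = t⁻¹ * (t * χ x * t⁻¹) * t := by group
    _ = _ := by rw [h1]; group

/-- A system with nontrivial non-centric core all whose proper saturated subsystems are inner is inner,
provided the criterion holds over smaller groups. -/
theorem pAut_of_core (hW1 : ∀ (Q : Type u) [Group Q] [Finite Q], IsPGroup p Q → Nontrivial Q → W Q ≠ ⊥)
    (hW2 : ∀ (Q R : Type u) [Group Q] [Group R] [Finite Q], IsPGroup p Q → ∀ φ : Q ≃* R, (W Q).map φ.toMonoidHom = W R)
    (hS : IsPGroup p S) (hF : F.IsSaturated p)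
    (hprop : ∀ E : FusionSystem S, E ≤ F → ¬ F ≤ E → E.IsSaturated p → PAut p E)
    (hcrit : ∀ {Ω' : Type u} [Group Ω'] (S' : Subgroup Ω') [Finite S'], Nat.card S' < Nat.card S → IsPGroup p S' →
      ∀ E : FusionSystem S', E.IsSaturated p → LocPAut p E (wOf W S') → PAut p E)
    (hne : F.core ≠ ⊥) (hcent : ¬ centralizerIn S F.core ≤ F.core) : PAut p F := by
  have hQ₀ : F.IsNormal F.core := core_normal
  have hsc₀ := normal_stronglyClosed hQ₀
  have hsc₁ : F.StronglyClosed (F.core ⊔ centralizerIn S F.core) := stronglyClosed_sup_centralizer hS hF hsc₀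
  have hN₁ := conj_of_proper_normalizer hS hF hprop
    (fullyNormalized_of_weaklyClosed (weaklyClosed_of_stronglyClosed hsc₁))
    (inf_eq_left.2 (sc_le_normalizer hsc₁)) fun hle => hcent (le_sup_right.trans hle)
  obtain ⟨F₂, hF₂s, hF₂F, -, hF₂m, hF₂i⟩ := exists_innerOn hS hF hQ₀
  by_cases hall : F ≤ F₂
  · have hQn : (F.core.subgroupOf S).Normal := ⟨fun x hx s => sc_conj hsc₀ s.2 hx⟩
    let θ : S →* S ⧸ F.core.subgroupOf S := QuotientGroup.mk' _
    obtain ⟨E, hE⟩ := exists_factorSystem (F := F) hsc₀ θ (fun s => QuotientGroup.eq_one_iff s) rfl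
    have hcard : Nat.card θ.range < Nat.card S := by
      rw [MonoidHom.range_eq_top.2 (QuotientGroup.mk'_surjective _), Subgroup.card_top,
        (F.core.subgroupOf S).card_eq_card_quotient_mul_card_subgroup]
      refine lt_mul_of_one_lt_right Nat.card_pos ?_
      rw [Nat.card_congr (Subgroup.subgroupOfEquivOfLe hQ₀.1).toEquiv]
      have := finite_of_le_base hQ₀.1
      exact Subgroup.one_lt_card_iff_ne_bot _ |>.2 hne
    exact pAut_of_factor hS hsc₀ (fun hf => hF₂i (fn_of_le hall hf)) hE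
      (hcrit θ.range hcard (hS.of_surjective θ.rangeRestrict θ.rangeRestrict_surjective) E
        (surjectiveMorphism_saturated hS hF (factor_surjectiveMorphism hS hF hsc₀ hE))
        (factor_locPAut hW1 hW2 hS hF hprop hE fun hle => hcent (centralizerIn_le.trans hle)))
  · exact pAut_of_frattini hS hF hQ₀ (fun P f hf hle => hN₁ hf hle (sc_img hsc₁ hle hf)) fun P f hf hle hs =>
      exists_conj_of_pAut hS hF₂s (hprop F₂ hF₂F hall hF₂s) (hF₂m hf hle hs)

/-- The nilpotency criterion. -/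
theorem pAut_of_wOf (hW1 : ∀ (Q : Type u) [Group Q] [Finite Q], IsPGroup p Q → Nontrivial Q → W Q ≠ ⊥)
    (hW2 : ∀ (Q R : Type u) [Group Q] [Group R] [Finite Q], IsPGroup p Q → ∀ φ : Q ≃* R, (W Q).map φ.toMonoidHom = W R)
    (hW3 : ∀ (L : Type u) [Group L] [Finite L] (T : Sylow p L),
      Subgroup.centralizer ((pCore p L : Subgroup L) : Set L) ≤ pCore p L →
      Subgroup.normalizer (wOf W (T : Subgroup L) : Set L) ≤ T → (T : Subgroup L) = ⊤)
    (hS : IsPGroup p S) (hF : F.IsSaturated p) (hloc : LocPAut p F (wOf W S)) : PAut p F := by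
  suffices key : ∀ n : ℕ, ∀ {Ω : Type u} [Group Ω] (S : Subgroup Ω) [Finite S], Nat.card S = n → IsPGroup p S →
      ∀ m : ℕ, ∀ (F : FusionSystem S), (homSet F).ncard = m → F.IsSaturated p → LocPAut p F (wOf W S) →
        PAut p F from key _ S rfl hS _ F rfl hF hloc
  clear hloc hF hS
  intro n
  induction n using Nat.strong_induction_on with
  | _ n ihn =>
  intro Ω _ S _ hn hS m
  induction m using Nat.strong_induction_on with
  | _ m ihm =>
  intro F hm hF hloc
  have hWS : wOf W S ≤ S := wOf_le S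
  have ihF : ∀ E : FusionSystem S, E ≤ F → ¬ F ≤ E → E.IsSaturated p → PAut p E :=
    fun E hle hne hsat => ihm _ (hm ▸ homSet_lt hle hne) E rfl hsat fun P hP hWP α hα hi =>
      hloc P hP hWP α (autGroup_mono hle hP hα) hi
  set Q₀ := F.core with hQ₀def
  have hQ₀ : F.IsNormal Q₀ := core_normal
  have hsc₀ := normal_stronglyClosed hQ₀
  have hnormS := fun U hU he hUQ => conj_of_proper_normalizer (U := U) hS hF ihF hU he hUQ
  by_cases hcent : centralizerIn S Q₀ ≤ Q₀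
  · -- constrained: use the model
    obtain ⟨G, _, ι, hG⟩ := exists_model hS ⟨hF, Q₀, hQ₀, normal_centric hQ₀ hcent⟩
    obtain ⟨pj, hpj, -⟩ := exists_model_proj (hQ := hQ₀) hG
    obtain ⟨hfin, hι, ⟨T, hT⟩, hce⟩ := id hG
    have hWT : wOf W (T : Subgroup G) = ((wOf W S).subgroupOf S).map ι := by
      let e : S ≃* (T : Subgroup G) := (MonoidHom.ofInjective hι.1).trans (MulEquiv.subgroupCongr hT.symm)
      have hWe := hW2 ↥S ↥(T : Subgroup G) hS e
      unfold wOf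
      rw [← hWe, Subgroup.subgroupOf, Subgroup.comap_map_eq_self_of_injective S.subtype_injective, Subgroup.map_map]
      rfl
    have hTN : (T : Subgroup G) ≤ Subgroup.normalizer (wOf W (T : Subgroup G) : Set G) := by
      intro t ht
      refine Subgroup.mem_normalizer_iff.2 fun y => ?_
      have hsym : ∀ t ∈ (T : Subgroup G), ∀ y ∈ wOf W (T : Subgroup G), t * y * t⁻¹ ∈ wOf W (T : Subgroup G) := by
        rintro t ht _ ⟨z, hz, rfl⟩
        have h := hW2 ↥(T : Subgroup G) ↥(T : Subgroup G) T.isPGroup' (MulAut.conj (⟨t, ht⟩ : (T : Subgroup G)))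
        exact ⟨_, h.le ⟨z, hz, rfl⟩, rfl⟩
      exact ⟨hsym t ht y, fun h => by simpa [mul_assoc] using hsym t⁻¹ (inv_mem ht) _ h⟩
    have hNp : IsPGroup p (Subgroup.normalizer (wOf W (T : Subgroup G) : Set G)) := by
      rintro ⟨g, hg⟩
      -- `g` normalises the image of `P = Q₀ ⊔ W(S)`
      let P := Q₀ ⊔ wOf W S
      have hPS : P ≤ S := sup_le hQ₀.1 hWS
      have hgP : ∀ x : P, ∃ y : S, (y : Ω) ∈ P ∧ g * ι ⟨x, hPS x.2⟩ * g⁻¹ = ι y := by
        have h2 : P.subgroupOf S ≤ (((P.subgroupOf S).map ι).comap (MulAut.conj g).toMonoidHom).comap ι := by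
          rw [Subgroup.subgroupOf_sup hQ₀.1 hWS]
          refine sup_le (fun x hx => ?_) fun x hx => ?_
          · refine ⟨⟨aFn (pj g) x, hQ₀.1 (aFn_mem _ hx)⟩, ?_, ?_⟩
            · exact Subgroup.mem_sup_left (show (⟨aFn (pj g) (x : Ω), hQ₀.1 (aFn_mem _ hx)⟩ : S) ∈ Q₀.subgroupOf S from aFn_mem (pj g) hx)
            · show _ = g * ι x * g⁻¹
              rw [hpj g x hx, mul_inv_cancel_right]
          · have h1 : g * ι x * g⁻¹ ∈ wOf W (T : Subgroup G) := (Subgroup.mem_normalizer_iff.1 hg _).1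
              (hWT ▸ Subgroup.mem_map_of_mem ι hx)
            obtain ⟨y, hy, hye⟩ := hWT ▸ h1
            exact ⟨y, Subgroup.mem_sup_right hy, hye⟩
        intro x
        obtain ⟨y, hy, hye⟩ := h2 (x := ⟨x, hPS x.2⟩) x.2
        exact ⟨y, hy, hye.symm⟩
      choose y hyP hye using hgP
      let φ : P →* Ω := MonoidHom.mk' (fun x => (y x : Ω)) fun a b => by
        show ((y (a * b) : S) : Ω) = (y a : S) * (y b : S)
        rw [← Subgroup.coe_mul]
        refine congrArg Subtype.val (hι.1 ?_)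
        rw [map_mul, ← hye, ← hye, ← hye]
        show g * ι (⟨a, hPS a.2⟩ * ⟨b, hPS b.2⟩) * g⁻¹ = _
        rw [map_mul]
        group
      have hφ : φ ∈ F.Hom P := (hι.2 P hPS φ fun x => (y x).2).2 ⟨g, fun x => (hye x).symm⟩
      have hf : Fn F P (ofHom φ) := fn_ofHom hφ
      obtain ⟨α, hα, hαe⟩ := exists_aut_of_fn hf (hf.img_eq_self fun x hx => by
        rw [ofHom_apply φ hx]; exact hyP _)
      have hαy : ∀ x : P, autFn α x = (y x : Ω) := fun x => by
        rw [autFn_coe, hαe, ofHom_apply φ x.2]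
        rfl
      have hαW : img (autFn α) (wOf W S) = wOf W S := by
        refine (((mem_autGroup_iff_fn hPS).1 hα).mono le_sup_right).img_eq_self fun x hx => ?_
        rw [show autFn α x = _ from hαy ⟨x, Subgroup.mem_sup_right hx⟩]
        have h1 : ι (y ⟨x, Subgroup.mem_sup_right hx⟩) ∈ wOf W (T : Subgroup G) := by
          rw [← hye]
          exact (Subgroup.mem_normalizer_iff.1 hg _).1
            (hWT ▸ Subgroup.mem_map_of_mem ι (show (⟨x, hWS hx⟩ : S) ∈ (wOf W S).subgroupOf S from hx))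
        obtain ⟨z, hz, hze⟩ := hWT ▸ h1
        exact hι.1 hze ▸ hz
      obtain ⟨k, hk⟩ := hloc P hPS le_sup_right α hα hαW
      have hsem : ∀ q ∈ Q₀, autFn α (id q) = id (autFn (pj g : MulAut Q₀) q) := fun q hq => by
        rw [id, id, hαy ⟨q, Subgroup.mem_sup_left hq⟩]
        refine congrArg Subtype.val (hι.1 (a₂ := ⟨aFn (pj g) q, hQ₀.1 (aFn_mem _ hq)⟩) ?_)
        rw [← hye, hpj g q hq, mul_inv_cancel_right]
      have hpg : pj (g ^ p ^ k) = 1 := by
        rw [map_pow]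
        refine Subtype.ext ?_
        rw [SubgroupClass.coe_pow]
        exact pow_eq_one_of_semiconj (fn_id (F := F) hQ₀.1) (fun q hq => Subgroup.mem_sup_left hq) hsem hk
      obtain ⟨z, -, hz⟩ := model_proj_ker (hQ := hQ₀) (normal_centric hQ₀ hcent) hG hpj hpg
      obtain ⟨j, hj⟩ := hS z
      exact ⟨k + j, Subtype.ext (by
        rw [SubgroupClass.coe_pow, pow_add, pow_mul]
        show (g ^ p ^ k) ^ p ^ j = 1
        rw [hz, ← map_pow, hj, map_one])⟩
    have htop := hW3 G T hce (T.3 hNp hTN).le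
    intro P hP α hα
    obtain ⟨φ, hφ, hφe⟩ := (mem_autGroup_iff_fn hP).1 hα
    obtain ⟨g, hg⟩ := (hι.2 P hP φ fun x => (F.le_of_mem hφ).2 x).1 hφ
    obtain ⟨s, rfl⟩ : g ∈ ι.range := hT ▸ htop ▸ Subgroup.mem_top g
    refine pPow_of_conj hS s.2 fun x hx => ?_
    rw [← hφe ⟨x, hx⟩]
    have h := hg ⟨x, hx⟩
    rw [← map_inv, ← map_mul, ← map_mul] at h
    exact congrArg Subtype.val (hι.1 h)
  by_cases hQ₀1 : Q₀ ≠ ⊥
  · exact pAut_of_core hW1 hW2 hS hF ihF
      (fun S' _ hlt hp E hEs hEl => ihn _ (hn ▸ hlt) S' rfl hp _ E rfl hEs hEl) hQ₀1 hcent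
  -- trivial core
  push_neg at hQ₀1
  have hlev : ∀ k : ℕ, ∀ U : Subgroup Ω, U ≠ ⊥ → F.IsFullyNormalized U →
      Nat.card S - Nat.card (normalizerIn S U) < k →
      ∀ P : Subgroup Ω, U ≤ P → P ≤ normalizerIn S U → ∀ α ∈ F.autGroup P, img (autFn α) U = U →
        ∃ i, α ^ p ^ i = 1 := by
    intro k
    induction k with
    | zero => exact fun U _ _ h => absurd h (Nat.not_lt_zero _)
    | succ k ih =>
      intro U hU1 hUn hUk P hUP hPR α hα hαU
      set R := normalizerIn S U with hRdef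
      have hRS : R ≤ S := normalizerIn_le
      have hPS : P ≤ S := hPR.trans hRS
      have hfα := (mem_autGroup_iff_fn hPS).1 hα
      rcases eq_or_lt_of_le hRS with he | hlt
      · obtain ⟨s, hs, hse⟩ := hnormS U hUn he (fun hle => hU1 (le_bot_iff.1 (hQ₀1 ▸ hle))) hfα hUP hαU
        exact pPow_of_conj hS hs hse
      have hfinR := finite_of_le_base hRS
      obtain ⟨M, hM⟩ := exists_normalizerSystem F hUn.1
      have hMs := normalizerSystem_saturated hS hF hUn hM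
      have hMloc : LocPAut p M (wOf W R) := by
        intro P₁ hP₁ hWP₁ α₁ hα₁ hα₁W
        have hP₁S : P₁ ≤ S := hP₁.trans hRS
        have hα₁F : α₁ ∈ F.autGroup P₁ := (mem_autGroup_iff_fn hP₁S).2
          (((mem_autGroup_iff_fn hP₁).1 hα₁).of_subsystem (normalizerSystem_sub hM))
        set W₁ := wOf W R with hW₁
        have hW₁R : W₁ ≤ R := wOf_le R
        have hW₁S : W₁ ≤ S := hW₁R.trans hRS
        have hR1 : R ≠ ⊥ := fun h => hU1 (le_bot_iff.1 ((le_normalizerIn hUn.1).trans h.le))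
        have hW₁1 : W₁ ≠ ⊥ := wOf_ne_bot hW1 (hS.to_le hRS) hR1
        have hbig : R < normalizerIn S W₁ := by
          obtain ⟨s, hs, hsN, hsR⟩ := exists_mem_normalizer_not_mem hS le_rfl hlt
          have hR_le : ∀ r ∈ normalizerIn S R, r ∈ normalizerIn S W₁ := fun r hr => by
            have hfr := fn_conj (F := F) hRS hr.1
            have h := map_wOf hW2 hS hfr
            rw [hfr.img_eq_self fun x hx => (mem_normalizer_iff'.1 hr.2).1 x hx] at h
            have := finite_of_le_base hW₁S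
            exact ⟨hr.1, mem_normalizer_of_map_le fun x hx => h.le (mem_img_of_mem hx)⟩
          exact lt_of_le_of_ne (fun r hr => hR_le r ⟨hRS hr, Subgroup.le_normalizer hr⟩)
            fun e => hsR (e.ge (hR_le s hsN))
        obtain ⟨W₂, hW₁₂, hW₂n⟩ := exists_fullyNormalized (F := F) hW₁S
        obtain ⟨hauto, hcen⟩ := fullyNormalized_good hS hF hW₂n
        obtain ⟨c, hc, hcn, hci⟩ := exists_normalizer_map hS hauto (fullyCentralized_receptive hS hF hcen) hW₁₂
        have hN1S : normalizerIn S W₁ ≤ S := normalizerIn_le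
        have hcard1 : Nat.card R < Nat.card (normalizerIn S W₁) := by
          have := finite_of_le_base hN1S
          exact card_lt_of_lt' hbig
        have hc2 : Nat.card (normalizerIn S W₁) ≤ Nat.card (normalizerIn S W₂) :=
          card_le_of_map_le normalizerIn_le hc hcn
        have hle3 : Nat.card (normalizerIn S W₂) ≤ Nat.card S := Subgroup.card_le_of_le normalizerIn_le
        have hW₂1 : W₂ ≠ ⊥ := fun h => hW₁1 (by
          have h1 := isConj_card hW₁₂
          rw [h, Subgroup.card_bot] at h1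
          have := finite_of_le_base hW₁S
          exact Subgroup.card_eq_one.1 h1.symm)
        have hP₁N : P₁ ≤ normalizerIn S W₁ := hP₁.trans hbig.le
        obtain ⟨β, hβ, hβe⟩ := exists_transport_aut hc hP₁N hα₁F
        have hW₂P : W₂ ≤ img c P₁ := hci.ge.trans (img_mono hWP₁)
        have hfix : img (autFn β) W₂ = W₂ := by
          have hsub : img c P₁ ≤ S := (hc.mono hP₁N).img_le_base
          refine (((mem_autGroup_iff_fn hsub).1 hβ).mono hW₂P).img_eq_self fun y hy => ?_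
          obtain ⟨x, hx, rfl⟩ := (hc.mono (le_normalizerIn hW₁S)).mem_img.1 (hci.ge hy)
          rw [hβe x (hWP₁ hx)]
          exact hci.le (mem_img_of_mem (hα₁W.le (mem_img_of_mem hx)))
        obtain ⟨i, hi⟩ := ih W₂ hW₂1 hW₂n (by omega) _ hW₂P (img_le fun x hx => hcn x (hP₁N hx)) β hβ hfix
        exact ⟨i, pow_eq_one_of_semiconj (hc.mono hP₁N) (fun x hx => mem_img_of_mem hx) hβe hi⟩
      refine ihn _ (hn ▸ card_lt_of_lt' hlt) R rfl (hS.to_le hRS) _ M rfl hMs hMloc P hPR α ?_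
      refine (mem_autGroup_iff_fn hPR).2 ((fn_normalizerSystem hM).2 ⟨hPR, fun x hx => hPR (autFn_mem α hx),
        autFn α, by rwa [sup_eq_left.2 hUP], fun x _ => rfl, hαU⟩)
  intro P hP α hα
  by_cases hP1 : P = ⊥
  · exact ⟨0, mulAut_ext fun x hx => by
      rw [autFn_id hx]
      have h1 := autFn_mem (α ^ p ^ 0) hx
      subst hP1
      exact (Subgroup.mem_bot.1 h1).trans (Subgroup.mem_bot.1 hx).symm⟩
  obtain ⟨P', hPP', hP'n⟩ := exists_fullyNormalized (F := F) hP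
  obtain ⟨hauto, hcen⟩ := fullyNormalized_good hS hF hP'n
  obtain ⟨c, hc, hcn, hci⟩ := exists_normalizer_map hS hauto (fullyCentralized_receptive hS hF hcen) hPP'
  have hPN := le_normalizerIn (S := S) hP
  obtain ⟨β, hβ, hβe⟩ := exists_transport_aut hc hPN hα
  have hP'1 : img c P ≠ ⊥ := fun h => hP1 (by
    have h1 := (hc.mono hPN).card_img
    rw [h, Subgroup.card_bot] at h1
    have := finite_of_le_base hP
    exact Subgroup.card_eq_one.1 h1.symm)
  have hn' : F.IsFullyNormalized (img c P) := hci.symm ▸ hP'n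
  obtain ⟨i, hi⟩ := hlev _ (img c P) hP'1 hn' (Nat.lt_succ_self _) _ le_rfl
    (le_normalizerIn hn'.1) β hβ (img_autFn β)
  exact ⟨i, pow_eq_one_of_semiconj (hc.mono hPN) (fun x hx => mem_img_of_mem hx) hβe hi⟩

end CfsgLib.Fsys
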