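import Cfsg.Agent.Lib.FusionSystem.Factor
/-
Images of saturated systems are saturated; factor systems of group systems; hyperfocal subgroups of factors.
-/
set_option autoImplicit false

namespace CfsgLib.Fsys

open Cfsg
open Cfsg.FusionSystem (centralizerIn normalizerIn extender imageAlong preimageAlong InducedAlong)
open scoped Pointwise

variable {Ω : Type*} [Group Ω] {S : Subgroup Ω} [Finite S] {F : FusionSystem S} {P Q R : Subgroup Ω}
variable {Ω' : Type*} [Group Ω'] {S' : Subgroup Ω'} {F' : FusionSystem S'} {α : S →* Ω'}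
variable {P' : Subgroup Ω'} {p : ℕ} [Fact p.Prime]

omit [Finite S] in
theorem finite_target [Finite S] (h : F.IsSurjectiveMorphism F' α) : Finite S' := by
  have : Finite α.range := Finite.of_surjective α.rangeRestrict α.rangeRestrict_surjective
  exact h.2.1 ▸ this

theorem hyperfocal_le : F.hyperfocalSubgroup p ≤ S :=
  (Subgroup.closure_le _).2 fun _ ⟨P, a, x, hP, _, e⟩ =>
    e ▸ S.mul_mem (S.inv_mem (hP x.2)) (hP ((a : MulAut P) x).2)

/-- A surjective morphism induces surjections on automizers of full preimages. -/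
theorem exists_autHom_surjective (h : F.IsSurjectiveMorphism F' α) (hP' : P' ≤ S') :
    ∃ Φ : F.autGroup (preimageAlong α P') →* F'.autGroup P', Function.Surjective Φ ∧
      ∀ (a : F.autGroup (preimageAlong α P')), ∀ x ∈ preimageAlong α P',
        autFn (Φ a : MulAut P') (th α x) = th α (autFn (a : MulAut (preimageAlong α P')) x) := by
  have := finite_target h
  have hr : P' ≤ α.range := h.2.1.symm ▸ hP'
  obtain ⟨Φ, hΦ⟩ := exists_autHom h.1 (P := preimageAlong α P') preimageAlong_le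
    (imageAlong_preimageAlong hr)
  refine ⟨Φ, fun b => ?_, hΦ⟩
  obtain ⟨f, hf, he⟩ := surjective_fn h ((mem_autGroup_iff_fn hP').1 b.2)
  have hm : ∀ x ∈ preimageAlong α P', f x ∈ preimageAlong α P' := fun x hx =>
    mem_preimageAlong.2 ⟨hf.mem hx, he x hx ▸ autFn_mem _ (mem_preimageAlong.1 hx).2⟩
  obtain ⟨a, ha, haf⟩ := exists_aut_of_fn hf (hf.img_eq_self hm)
  refine ⟨⟨a, ha⟩, Subtype.ext (mulAut_ext fun y hy => ?_)⟩
  rw [← imageAlong_preimageAlong hr] at hy
  obtain ⟨x, hx, -, rfl⟩ := mem_imageAlong.1 hy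
  rw [hΦ _ x hx, he x hx]
  congr 1
  exact (autFn_coe a ⟨x, hx⟩).trans (haf ⟨x, hx⟩)

/-- The image of a saturated fusion system under a surjective morphism is saturated. -/
theorem surjectiveMorphism_saturated (hS : IsPGroup p S) (hF : F.IsSaturated p)
    (h : F.IsSurjectiveMorphism F' α) : F'.IsSaturated p := by
  have := finite_target h
  have hk := morphism_kernel_stronglyClosed h.1
  have hkpre : ∀ {P' : Subgroup Ω'}, α.ker.map S.subtype ≤ preimageAlong α P' := fun {P'} x hx => by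
    obtain ⟨hxS, hx1⟩ := mem_ker_map.1 hx
    exact mem_preimageAlong.2 ⟨hxS, hx1 ▸ P'.one_mem⟩
  intro P' hP'
  obtain ⟨Q, hPQ, hQ⟩ := exists_fullyNormalized (F := F) (P := preimageAlong α P') preimageAlong_le
  obtain ⟨⟨-, T, hT⟩, hfc⟩ := fullyNormalized_good hS hF hQ
  have hrec := fullyCentralized_receptive hS hF hfc
  obtain ⟨f₀, hf₀, rfl⟩ := isConj_iff.1 hPQ
  have hkQ : α.ker.map S.subtype ≤ img f₀ (preimageAlong α P') :=
    (sc_img hk hkpre hf₀).ge.trans (img_mono hkpre)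
  generalize img f₀ (preimageAlong α P') = Q at hPQ hQ T hT hfc hrec hkQ
  have hQ' : imageAlong α Q ≤ S' := by
    rintro _ ⟨x, -, rfl⟩
    exact h.1.1 x
  have hpreQ : preimageAlong α (imageAlong α Q) = Q := by
    refine le_antisymm (fun z hz => ?_) (le_preimageAlong hQ.1)
    obtain ⟨hzS, hz⟩ := mem_preimageAlong.1 hz
    obtain ⟨x, hx, hxS, hxz⟩ := mem_imageAlong.1 hz
    simpa using Q.mul_mem (hkQ (mem_ker_map.2 ⟨S.mul_mem hzS (S.inv_mem hxS),
      (th_eq_iff hzS hxS).1 hxz.symm⟩)) hx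
  refine ⟨imageAlong α Q, ?_, ?_, ?_⟩
  · obtain ⟨f, hf, hfi⟩ := isConj_iff.1 hPQ
    obtain ⟨f', hf', he⟩ := morphism_fn h.1 hf
    have hP'r : P' ≤ α.range := h.2.1.symm ▸ hP'
    rw [imageAlong_preimageAlong hP'r] at hf'
    refine isConj_iff.2 ⟨f', hf', le_antisymm (img_le fun y hy => ?_) fun y hy => ?_⟩
    · rw [← imageAlong_preimageAlong hP'r] at hy
      obtain ⟨x, hx, -, rfl⟩ := mem_imageAlong.1 hy
      rw [he x hx]
      exact th_mem_imageAlong (hfi.le (mem_img_of_mem hx)) (hf.mem hx)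
    · obtain ⟨z, hz, -, rfl⟩ := mem_imageAlong.1 hy
      obtain ⟨x, hx, rfl⟩ := hf.mem_img.1 (hfi.ge hz)
      rw [← he x hx]
      exact mem_img_of_mem (mem_preimageAlong.1 hx).2
  · obtain ⟨Φ, hΦs, hΦ⟩ := exists_autHom_surjective h hQ'
    revert Φ
    rw [hpreQ]
    intro Φ hΦs hΦ
    have := finite_of_le_base hQ.1
    have := finite_of_le_base hQ'
    refine ⟨hQ', T.mapSurjective hΦs, ?_⟩
    show (T : Subgroup (F.autGroup Q)).map Φ = _
    rw [hT]
    ext b
    constructor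
    · rintro ⟨a, ha, rfl⟩
      obtain ⟨g, hg, hga⟩ := mem_autInducedBy.1 (show (a : MulAut Q) ∈ autInducedBy S Q from ha)
      refine mem_autInducedBy.2 ⟨th α g, (th_apply (α := α) hg).symm ▸ h.1.1 ⟨g, hg⟩, fun y => ?_⟩
      obtain ⟨x, hx, hxS, hxy⟩ := mem_imageAlong.1 y.2
      show ((((Φ a : F'.autGroup (imageAlong α Q)) : MulAut (imageAlong α Q)) y : imageAlong α Q) : Ω') = _
      rw [← autFn_coe, ← hxy, hΦ a x hx, show autFn (a : MulAut Q) x = g * x * g⁻¹ from
        (autFn_coe _ ⟨x, hx⟩).trans (hga ⟨x, hx⟩), th_conj hg hxS]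
    · intro hb
      obtain ⟨g', hg', hgb⟩ := mem_autInducedBy.1 (show (b : MulAut (imageAlong α Q)) ∈ autInducedBy S' _ from hb)
      obtain ⟨g, rfl⟩ := h.2.1.ge hg'
      have hN : (g : Ω) ∈ Subgroup.normalizer (Q : Set Ω) := mem_normalizer_of_map_le fun x hx => by
        rw [← hpreQ]
        refine mem_preimageAlong.2 ⟨S.mul_mem (S.mul_mem g.2 (hQ.1 hx)) (S.inv_mem g.2), ?_⟩
        rw [th_conj g.2 (hQ.1 hx), th_coe, ← hgb ⟨_, th_mem_imageAlong hx (hQ.1 hx)⟩]
        exact ((b : MulAut (imageAlong α Q)) _).2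
      refine ⟨⟨conjAut Q hN, autInducedBy_le_autGroup hQ.1 (conjAut_mem_autInducedBy hN g.2)⟩,
        conjAut_mem_autInducedBy hN g.2, Subtype.ext (mulAut_ext fun y hy => ?_)⟩
      obtain ⟨x, hx, hxS, rfl⟩ := mem_imageAlong.1 hy
      rw [hΦ _ x hx]
      show th α (autFn (conjAut Q hN) ((⟨x, hx⟩ : Q) : Ω)) = _
      rw [autFn_coe, conjAut_coe, th_conj g.2 hxS, th_coe, ← hgb ⟨_, th_mem_imageAlong hx hxS⟩]
      exact (autFn_coe _ ⟨_, th_mem_imageAlong hx hxS⟩).symm
  · refine receptive_of_extend hQ' fun R' f' hf' hi' => ?_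
    obtain ⟨f, hf, he⟩ := surjective_fn h hf'
    have hfi : img f (preimageAlong α R') = Q := by
      refine le_antisymm (img_le fun x hx => ?_) fun z hz => ?_
      · rw [← hpreQ]
        refine mem_preimageAlong.2 ⟨hf.mem hx, ?_⟩
        rw [← he x hx, ← hi']
        exact mem_img_of_mem (mem_preimageAlong.1 hx).2
      · obtain ⟨y, hy, hyz⟩ := hf'.mem_img.1 (hi'.ge (th_mem_imageAlong hz (hQ.1 hz)))
        obtain ⟨s, hs⟩ := h.2.1.ge (hf'.le hy)
        have hsR : (s : Ω) ∈ preimageAlong α R' :=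
          mem_preimageAlong.2 ⟨s.2, (th_coe (α := α) s).symm ▸ hs.symm ▸ hy⟩
        have hzk : z * (f s)⁻¹ ∈ α.ker.map S.subtype := by
          refine mem_ker_map.2 ⟨S.mul_mem (hQ.1 hz) (S.inv_mem (hf.mem hsR)),
            (th_eq_iff (hQ.1 hz) (hf.mem hsR)).1 ?_⟩
          rw [← he _ hsR, th_coe, hs, hyz]
        rw [← sc_img hk hkpre hf] at hzk
        simpa using (img f (preimageAlong α R')).mul_mem (img_mono hkpre hzk) (mem_img_of_mem hsR)
    have hR := hf.le
    obtain ⟨e, hee, hmap⟩ := exists_transport hR hf hfi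
    obtain ⟨φ', hφ', hφf'⟩ := id hf'
    let N' := extender S' R' φ'
    have hN' : ∀ n, n ∈ N' ↔ InExt S' R' f' n := fun n => mem_extender hφf'
    let U := (autInducedBy (preimageAlong α N') (preimageAlong α R')).map (MulAut.congr e).toMonoidHom
    have hAS : autInducedBy (preimageAlong α N') (preimageAlong α R') ≤ autInducedBy S (preimageAlong α R') :=
      Subgroup.closure_mono fun _ ⟨g, hg, hx⟩ => ⟨g, preimageAlong_le hg, hx⟩
    have hUA : U ≤ F.autGroup Q :=
      hmap ▸ Subgroup.map_mono (hAS.trans (autInducedBy_le_autGroup hR))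
    have hUp : IsPGroup p (U.subgroupOf (F.autGroup Q)) :=
      (((isPGroup_autInducedBy hS).to_le hAS).map _).comap_of_injective _ (Subgroup.subtype_injective _)
    obtain ⟨Φ, -, hΦ⟩ := exists_autHom_surjective h hQ'
    revert Φ
    rw [hpreQ]
    intro Φ hΦ
    have := finite_of_le_base hQ.1
    have hUL : U.subgroupOf (F.autGroup Q) ≤ (T : Subgroup (F.autGroup Q)) ⊔ Φ.ker := by
      rintro ⟨u, hu⟩ ⟨c, hc, rfl⟩
      obtain ⟨n, hn, hnc⟩ := mem_autInducedBy.1 hc
      obtain ⟨hnS, hnN'⟩ := mem_preimageAlong.1 hn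
      obtain ⟨-, hnN, h', hh', hh'x⟩ := (hN' _).1 hnN'
      obtain ⟨g, rfl⟩ := h.2.1.ge hh'
      have key : ∀ x ∈ preimageAlong α R', th α (f (n * x * n⁻¹)) = α g * th α (f x) * (α g)⁻¹ := by
        intro x hx
        have hx' : n * x * n⁻¹ ∈ preimageAlong α R' := hnc ⟨x, hx⟩ ▸ (c ⟨x, hx⟩).2
        rw [← he _ hx', th_conj hnS (preimageAlong_le hx), hh'x _ (mem_preimageAlong.1 hx).2, he x hx]
      have hgN : (g : Ω) ∈ Subgroup.normalizer (Q : Set Ω) := mem_normalizer_of_map_le fun z hz => by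
        obtain ⟨x, hx, rfl⟩ := hf.mem_img.1 (hfi.ge hz)
        rw [← hpreQ]
        refine mem_preimageAlong.2 ⟨S.mul_mem (S.mul_mem g.2 (hf.mem hx)) (S.inv_mem g.2), ?_⟩
        rw [th_conj g.2 (hf.mem hx), th_coe, ← key x hx]
        have hx' : n * x * n⁻¹ ∈ preimageAlong α R' := hnc ⟨x, hx⟩ ▸ (c ⟨x, hx⟩).2
        exact th_mem_imageAlong (hfi.le (mem_img_of_mem hx')) (hf.mem hx')
      let t : F.autGroup Q :=
        ⟨conjAut Q hgN, autInducedBy_le_autGroup hQ.1 (conjAut_mem_autInducedBy hgN g.2)⟩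
      have ht : t ∈ (T : Subgroup (F.autGroup Q)) := hT.symm ▸ conjAut_mem_autInducedBy hgN g.2
      have hker : t⁻¹ * ⟨_, hu⟩ ∈ Φ.ker := by
        rw [MonoidHom.mem_ker, map_mul, map_inv, inv_mul_eq_one]
        refine Subtype.ext (mulAut_ext fun y hy => ?_)
        obtain ⟨z, hz, hzS, rfl⟩ := mem_imageAlong.1 hy
        rw [hΦ t z hz, hΦ _ z hz]
        obtain ⟨x, rfl⟩ : ∃ x, ((e x : Q) : Ω) = z :=
          ⟨e.symm ⟨z, hz⟩, by rw [MulEquiv.apply_symm_apply]⟩
        show th α (autFn (conjAut Q hgN) ((e x : Q) : Ω)) =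
          th α (autFn ((MulAut.congr e) c) ((e x : Q) : Ω))
        rw [autFn_coe, autFn_coe, conjAut_coe, th_conj g.2 hzS, th_coe, hee x, ← key x x.2]
        simp [MulAut.congr, hee, hnc]
      simpa using Subgroup.mul_mem _ (Subgroup.mem_sup_left ht : t ∈ (T : Subgroup (F.autGroup Q)) ⊔ Φ.ker)
        (Subgroup.mem_sup_right hker)
    obtain ⟨k, hkk, hkU⟩ := exists_conj_kernel T Φ.ker hUp hUL
    have hk1 : ∀ y ∈ Q, th α (autFn (k : MulAut Q) y) = th α y := fun y hy => by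
      rw [← hΦ k y hy, MonoidHom.mem_ker.1 hkk]
      exact autFn_coe (1 : MulAut (imageAlong α Q)) ⟨th α y, th_mem_imageAlong hy (hQ.1 hy)⟩
    have hcomp : Fn F (preimageAlong α R') (autFn (k : MulAut Q) ∘ f) :=
      hf.comp ((mem_autGroup_iff_fn hQ.1).1 k.2) fun x hx => hfi.le (mem_img_of_mem hx)
    have hci : img (autFn (k : MulAut Q) ∘ f) (preimageAlong α R') = Q := by
      rw [hf.img_comp, hfi, img_autFn]
    obtain ⟨M, g, hg, hRM, hM, hge⟩ := receptive_extend hrec hcomp hci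
    have hle : preimageAlong α N' ≤ M := fun n hn => by
      obtain ⟨hnS, hn'⟩ := mem_preimageAlong.1 hn
      have hnR : n ∈ Subgroup.normalizer (preimageAlong α R' : Set Ω) := by
        have := finite_of_le_base hR
        refine mem_normalizer_of_map_le fun x hx => ?_
        refine mem_preimageAlong.2 ⟨S.mul_mem (S.mul_mem hnS (hR hx)) (S.inv_mem hnS), ?_⟩
        rw [th_conj hnS (hR hx)]
        exact (mem_normalizer_iff'.1 ((hN' _).1 hn').2.1).1 _ (mem_preimageAlong.1 hx).2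
      have hmem : MulAut.congr e (conjAut _ hnR) ∈ U := ⟨_, conjAut_mem_autInducedBy hnR hn, rfl⟩
      have h3 : k * ⟨_, hUA hmem⟩ * k⁻¹ ∈ (T : Subgroup (F.autGroup Q)) := hkU ⟨_, hUA hmem⟩ hmem
      rw [hT] at h3
      obtain ⟨s, hs, hsx⟩ := mem_autInducedBy.1 h3
      refine (hM n).2 ⟨hnS, hnR, s, hs, fun x hx => ?_⟩
      lift x to preimageAlong α R' using hx
      have h4 := hsx ((k : MulAut Q) (e x))
      show autFn (k : MulAut Q) (f (n * (x : Ω) * n⁻¹)) = s * autFn (k : MulAut Q) (f (x : Ω)) * s⁻¹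
      rw [← conjAut_coe hnR x, ← hee, ← hee, autFn_coe, autFn_coe, ← h4]
      simp [MulAut.congr]
    obtain ⟨g', hg', hg'e⟩ := morphism_fn h.1 (hg.mono hle)
    have hN'r : N' ≤ α.range := fun n hn => h.2.1.ge ((hN' n).1 hn).1
    rw [imageAlong_preimageAlong hN'r] at hg'
    refine ⟨g', fun N hN => hg'.mono fun n hn => (hN' n).2 (hN n hn), fun y hy => ?_⟩
    obtain ⟨s, hs⟩ := h.2.1.ge (hf'.le hy)
    have hsR : (s : Ω) ∈ preimageAlong α R' :=
      mem_preimageAlong.2 ⟨s.2, (th_coe (α := α) s).symm ▸ hs.symm ▸ hy⟩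
    have hsN : (s : Ω) ∈ preimageAlong α N' :=
      mem_preimageAlong.2 ⟨s.2, (th_coe (α := α) s).symm ▸ hs.symm ▸ (hN' y).2 (inExt_of_mem hf' hy)⟩
    rw [← hs, ← th_coe (α := α) s, hg'e _ hsN, he _ hsR, hge _ hsR]
    exact hk1 _ (hfi.le (mem_img_of_mem hsR))

/-- The hyperfocal subgroup of the target of a surjective morphism. -/
theorem surjectiveMorphism_hyperfocal (h : F.IsSurjectiveMorphism F' α) :
    F'.hyperfocalSubgroup p = imageAlong α (F.hyperfocalSubgroup p) := by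
  have := finite_target h
  refine le_antisymm ((Subgroup.closure_le _).2 ?_) ?_
  · rintro y ⟨P', b, x', hP', hb, rfl⟩
    obtain ⟨Φ, hΦs, hΦ⟩ := exists_autHom_surjective h hP'
    have := finite_of_le_base (preimageAlong_le : preimageAlong α P' ≤ S)
    rw [← CfsgLib.Fusion.Basic.map_pResidual_eq Φ hΦs] at hb
    obtain ⟨a, ha, rfl⟩ := hb
    have hr : P' ≤ α.range := h.2.1.symm ▸ hP'
    obtain ⟨x, hx, hxS, hxy⟩ := mem_imageAlong.1 ((imageAlong_preimageAlong hr).ge x'.2)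
    have hax : autFn (a : MulAut (preimageAlong α P')) x ∈ S := preimageAlong_le (autFn_mem _ hx)
    refine mem_imageAlong.2 ⟨x⁻¹ * autFn (a : MulAut (preimageAlong α P')) x,
      Subgroup.subset_closure ⟨_, a, ⟨x, hx⟩, preimageAlong_le, ha, ?_⟩, S.mul_mem (S.inv_mem hxS) hax, ?_⟩
    · rw [← autFn_coe (a : MulAut (preimageAlong α P')) ⟨x, hx⟩]
    · rw [th_mul (S.inv_mem hxS) hax, th_inv hxS, ← hΦ a x hx, hxy, autFn_coe]
  · rintro y hy
    obtain ⟨x, hx, hxS, rfl⟩ := mem_imageAlong.1 hy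
    clear hy hxS
    induction hx using Subgroup.closure_induction with
    | mem z hz =>
      obtain ⟨P, a, x, hP, ha, rfl⟩ := hz
      obtain ⟨Φ, hΦ⟩ := exists_autHom h.1 hP rfl
      refine Subgroup.subset_closure ⟨_, Φ a, ⟨th α x, th_mem_imageAlong x.2 (hP x.2)⟩, ?_,
        CfsgLib.Fusion.Basic.map_pResidual_le Φ ⟨a, ha, rfl⟩, ?_⟩
      · rintro _ ⟨s, -, rfl⟩
        exact h.1.1 s
      · rw [th_mul (S.inv_mem (hP x.2)) (hP ((a : MulAut P) x).2), th_inv (hP x.2), ← autFn_coe (a : MulAut P),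
          ← hΦ a x x.2]
        exact congrArg _ (autFn_coe _ ⟨th α x, th_mem_imageAlong x.2 (hP x.2)⟩)
    | one => rw [th_one]; exact Subgroup.one_mem _
    | mul u v hu hv hu' hv' =>
      rw [th_mul (hyperfocal_le hu) (hyperfocal_le hv)]
      exact Subgroup.mul_mem _ hu' hv'
    | inv u hu hu' =>
      rw [th_inv (hyperfocal_le hu)]
      exact Subgroup.inv_mem _ hu'

/-- A conjugation of `G/H` between subgroups of the image of a Sylow subgroup lifts to `G`. -/
theorem exists_lift_conj {G : Type*} [Group G] [Finite G] {p : ℕ} [Fact p.Prime] (S : Sylow p G)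
    (H : Subgroup G) [H.Normal] {P : Subgroup G} (hP : P ≤ (S : Subgroup G)) (γ : G ⧸ H)
    (h : ∀ x ∈ P, γ * QuotientGroup.mk' H x * γ⁻¹ ∈ (S : Subgroup G).map (QuotientGroup.mk' H)) :
    ∃ g : G, ∀ x ∈ P, g * x * g⁻¹ ∈ S ∧
      QuotientGroup.mk' H (g * x * g⁻¹) = γ * QuotientGroup.mk' H x * γ⁻¹ := by
  obtain ⟨g, rfl⟩ := QuotientGroup.mk'_surjective H γ
  have hle : P.map (MulAut.conj g).toMonoidHom ≤ (S : Subgroup G) ⊔ H := by
    rintro _ ⟨x, hx, rfl⟩
    obtain ⟨s, hs, hsx⟩ := h x hx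
    rw [← map_inv, ← map_mul, ← map_mul] at hsx
    have h1 : s⁻¹ * (g * x * g⁻¹) ∈ H := QuotientGroup.eq.1 hsx
    simpa [mul_assoc] using Subgroup.mul_mem _ (Subgroup.mem_sup_left hs : s ∈ (S : Subgroup G) ⊔ H)
      (Subgroup.mem_sup_right h1)
  obtain ⟨k, hk, hkS⟩ := exists_conj_kernel S H ((S.2.to_le hP).map _) hle
  refine ⟨k * g, fun x hx => ⟨?_, ?_⟩⟩
  · have := hkS _ ⟨x, hx, rfl⟩
    simpa [mul_assoc] using this
  · have : QuotientGroup.mk' H k = 1 := (QuotientGroup.eq_one_iff k).2 hk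
    simp only [map_mul, map_inv, this, one_mul]

/-- The fusion system of a quotient group is the factor system. -/
theorem group_factorSystem {G : Type*} [Group G] [Finite G] {p : ℕ} [Fact p.Prime] (S : Sylow p G)
    (H : Subgroup G) [H.Normal] :
    (groupFusionSystem (S : Subgroup G)).IsFactorSystem ((S : Subgroup G) ⊓ H)
      ((QuotientGroup.mk' H).comp (S : Subgroup G).subtype)
      (groupFusionSystem ((S : Subgroup G).map (QuotientGroup.mk' H))) := by
  have hth : ∀ x ∈ (S : Subgroup G),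
      th ((QuotientGroup.mk' H).comp (S : Subgroup G).subtype) x = QuotientGroup.mk' H x :=
    fun x hx => th_apply hx
  refine ⟨inf_le_left, fun s => ?_, ?_, fun P' φ' => ⟨?_, ?_⟩⟩
  · exact (QuotientGroup.eq_one_iff (s : G)).trans ⟨fun h => ⟨s.2, h⟩, fun h => h.2⟩
  · rw [MonoidHom.range_comp, Subgroup.range_subtype]
  · rintro ⟨hP', hφ', γ, hγ⟩
    have hpre : preimageAlong ((QuotientGroup.mk' H).comp (S : Subgroup G).subtype) P' ≤ (S : Subgroup G) :=
      preimageAlong_le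
    have hm : ∀ x ∈ preimageAlong ((QuotientGroup.mk' H).comp (S : Subgroup G).subtype) P',
        QuotientGroup.mk' H x ∈ P' := fun x hx => hth x (hpre hx) ▸ (mem_preimageAlong.1 hx).2
    obtain ⟨g, hg⟩ := exists_lift_conj S H hpre γ fun x hx => hγ ⟨_, hm x hx⟩ ▸ hφ' _
    refine ⟨hP', conjHom _ g, ⟨hpre, fun x => (hg x x.2).1, g, fun x => rfl⟩, ?_⟩
    refine (inducedAlong_iff (f := fun x => g * x * g⁻¹) (fun x => rfl) (fun y => (ofHom_coe φ' y).symm)).2
      ⟨hpre, fun x hx => (hg x hx).1, fun x hx => (mem_preimageAlong.1 hx).2, fun x hx => ?_⟩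
    rw [hth x (hpre hx), hth _ (hg x hx).1, (hg x hx).2, ofHom_apply _ (hm x hx), hγ]
  · rintro ⟨hP', φ, ⟨hP, hφ, g, hg⟩, hind⟩
    obtain ⟨-, -, hm, he⟩ :=
      (inducedAlong_iff (fun x => (ofHom_coe φ x).symm) (fun y => (ofHom_coe φ' y).symm)).1 hind
    have key : ∀ y : P', φ' y = QuotientGroup.mk' H g * y * (QuotientGroup.mk' H g)⁻¹ ∧
        φ' y ∈ (S : Subgroup G).map (QuotientGroup.mk' H) := fun y => by
      obtain ⟨s, hs, hsy⟩ := hP' y.2
      have hsP : s ∈ preimageAlong ((QuotientGroup.mk' H).comp (S : Subgroup G).subtype) P' :=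
        mem_preimageAlong.2 ⟨hs, by rw [hth s hs, hsy]; exact y.2⟩
      have h1 := he s hsP
      rw [hth s hs, hsy, ofHom_coe, ofHom_apply φ hsP, hth _ (hφ ⟨s, hsP⟩)] at h1
      refine ⟨?_, h1 ▸ ⟨_, hφ ⟨s, hsP⟩, rfl⟩⟩
      rw [h1, hg, map_mul, map_mul, map_inv, hsy]
    exact ⟨hP', fun y => (key y).2, _, fun y => (key y).1⟩

end CfsgLib.Fsys
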