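import Cfsg.Agent.Lib.FusionSystem.Inner
import Cfsg.Agent.Lib.FusionSystem.Group
import Cfsg.Agent.S5102
/-
Normal subgroups give normal subsystems; strong invariance; realized systems and models.
-/
set_option autoImplicit false

namespace CfsgLib.Fsys

open Cfsg
open Cfsg.FusionSystem (centralizerIn normalizerIn extender imageAlong preimageAlong)
open CfsgLib.LocalEven.SylowIn (IsSylowIn)
open scoped Pointwise

section Group

variable {G : Type*} [Group G] {p : ℕ} [Fact p.Prime] {H T : Subgroup G}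

theorem fn_subgroupSystem (hTH : T ≤ H) {P : Subgroup G} {f : G → G} :
    Fn (fusionSystemOfSubgroup H T hTH) P f ↔
      P ≤ T ∧ (∀ x ∈ P, f x ∈ T) ∧ ∃ g ∈ H, ∀ x ∈ P, f x = g * x * g⁻¹ := by
  constructor
  · rintro ⟨φ, ⟨hP, hφ, g, hg, hφg⟩, hf⟩
    exact ⟨hP, fun x hx => hf ⟨x, hx⟩ ▸ hφ ⟨x, hx⟩, g, hg,
      fun x hx => (hf ⟨x, hx⟩).symm.trans (hφg ⟨x, hx⟩)⟩
  · rintro ⟨hP, hf, g, hg, hfg⟩
    exact ⟨conjHom P g, ⟨hP, fun x => show g * (x : G) * g⁻¹ ∈ T from hfg x x.2 ▸ hf x x.2, g, hg,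
      fun _ => rfl⟩, fun x => (hfg x x.2).symm⟩

/-- The fusion system of a subgroup on one of its Sylow subgroups is saturated. -/
theorem subgroupSystem_saturated [Finite H] (hT : IsSylowIn p T H) :
    (fusionSystemOfSubgroup H T hT.1).IsSaturated p := by
  obtain ⟨R, hR⟩ := (exists_sylow_iff hT.1).2 hT
  have hθ : ∀ {x : H}, x ∈ (R : Subgroup H) → th (H.subtype.comp (R : Subgroup H).subtype) x = (x : G) :=
    fun hx => th_apply hx
  have hmem : ∀ {x : H}, x ∈ (R : Subgroup H) → (x : G) ∈ T := fun {x} hx => by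
    rw [hR] at hx
    exact hx
  refine surjectiveMorphism_saturated (α := H.subtype.comp (R : Subgroup H).subtype) R.2
    (group_isSaturated R) ⟨⟨fun s => hmem s.2, ?_⟩, ?_, ?_⟩
  · intro P φ hφ
    obtain ⟨hP, hφR, g, hg⟩ := id hφ
    obtain ⟨φ', hφ'⟩ := exists_inducedHom (α := H.subtype.comp (R : Subgroup H).subtype) (fn_ofHom hφ)
      fun x hx h1 => by
        rw [hθ (hP hx)] at h1
        rw [show x = 1 from Subtype.ext h1, (fn_ofHom hφ).map_one, th_one]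
    have key : ∀ x (hx : x ∈ P), ofHom φ' (th (H.subtype.comp (R : Subgroup H).subtype) x) =
        (g : G) * x * (g : G)⁻¹ := fun x hx => by
      rw [hφ' x hx, ofHom_apply φ hx, hθ (hφR _), hg ⟨x, hx⟩]
      rfl
    refine ⟨φ', mem_hom_iff.2 ((fn_subgroupSystem hT.1).2 ⟨?_, fun y hy => ?_, g, g.2, fun y hy => ?_⟩),
      (inducedAlong_iff (fun x => (ofHom_coe φ x).symm) (fun y => (ofHom_coe φ' y).symm)).2
        ⟨hP, fun x hx => (fn_ofHom hφ).mem hx, fun x hx => th_mem_imageAlong hx (hP hx), hφ'⟩⟩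
    · rintro _ ⟨x, -, rfl⟩
      exact hmem x.2
    · obtain ⟨x, hx, -, rfl⟩ := mem_imageAlong.1 hy
      rw [hφ' x hx, hθ ((fn_ofHom hφ).mem hx)]
      exact hmem ((fn_ofHom hφ).mem hx)
    · obtain ⟨x, hx, -, rfl⟩ := mem_imageAlong.1 hy
      rw [key x hx, hθ (hP hx)]
  · rw [MonoidHom.range_comp, Subgroup.range_subtype, hR, Subgroup.map_subgroupOf_eq_of_le hT.1]
  · intro P' hP' φ' hφ'
    obtain ⟨-, hφT, g, hg, hφg⟩ := hφ'
    have hval : ∀ x ∈ preimageAlong (H.subtype.comp (R : Subgroup H).subtype) P',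
        ∃ h : (x : G) ∈ P', (⟨g, hg⟩ : H) * x * (⟨g, hg⟩ : H)⁻¹ ∈ (R : Subgroup H) ∧
          φ' ⟨x, h⟩ = g * x * g⁻¹ := fun x hx => by
      obtain ⟨hxR, hx'⟩ := mem_preimageAlong.1 hx
      rw [hθ hxR] at hx'
      refine ⟨hx', ?_, hφg _⟩
      rw [hR]
      show g * (x : G) * g⁻¹ ∈ T
      exact hφg ⟨x, hx'⟩ ▸ hφT ⟨x, hx'⟩
    refine ⟨conjHom _ (⟨g, hg⟩ : H), ⟨preimageAlong_le, fun x => (hval x x.2).2.1, _, fun _ => rfl⟩,
      (inducedAlong_iff (f := fun x => (⟨g, hg⟩ : H) * x * (⟨g, hg⟩ : H)⁻¹) (fun _ => rfl)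
        (fun y => (ofHom_coe φ' y).symm)).2
        ⟨preimageAlong_le, fun x hx => (hval x hx).2.1, fun x hx => (mem_preimageAlong.1 hx).2,
          fun x hx => ?_⟩⟩
    obtain ⟨hx', hm, he⟩ := hval x hx
    rw [hθ (preimageAlong_le hx), ofHom_apply φ' hx', he, hθ hm]
    rfl

variable [Finite G] (S : Sylow p G) [H.Normal]

theorem isSylowIn_inter_normal : IsSylowIn p ((S : Subgroup G) ⊓ H) H :=
  isSylowIn_inf (K := ⊤) ⟨le_top, S.2, fun U _ hU hle => S.3 hU hle⟩ le_top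
    (by rw [Subgroup.normalizer_eq_top])

/-- The fusion system of a normal subgroup is a normal subsystem. -/
theorem normal_subsystem_of_normal :
    (fusionSystemOfSubgroup H ((S : Subgroup G) ⊓ H) inf_le_right).IsNormalIn
      (groupFusionSystem (S : Subgroup G)) p := by
  have hT := isSylowIn_inter_normal (H := H) S
  have hHn : ∀ {a h : G}, h ∈ H → a * h * a⁻¹ ∈ H := fun hh => Subgroup.Normal.conj_mem inferInstance _ hh _
  have hsub : (fusionSystemOfSubgroup H ((S : Subgroup G) ⊓ H) inf_le_right).IsSubsystemOf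
      (groupFusionSystem (S : Subgroup G)) := fun P φ hφ =>
    let ⟨hP, hφT, g, _, hg⟩ := hφ
    ⟨hP.trans inf_le_left, fun x => (hφT x).1, g, hg⟩
  have hsc : (groupFusionSystem (S : Subgroup G)).StronglyClosed ((S : Subgroup G) ⊓ H) := by
    refine stronglyClosed_iff_fn.2 ⟨inf_le_left, fun P f hf x hx hxT => ⟨hf.mem hx, ?_⟩⟩
    obtain ⟨-, -, g, hg⟩ := fn_group_iff.1 hf
    rw [hg x hx]
    exact hHn hxT.2
  refine ⟨⟨subgroupSystem_saturated hT, group_isSaturated S, hsub, hsc, ?_, ?_⟩, ?_⟩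
  · intro P hP φ hφ α hα
    obtain ⟨-, hφT, h, hh, hφh⟩ := hφ
    rw [group_autGroup hsc.1, mem_autInducedBy] at hα
    obtain ⟨a, -, haα⟩ := hα
    have key : ∀ x : P, a * h * a⁻¹ * ((α ⟨x, hP x.2⟩ : ↥((S : Subgroup G) ⊓ H)) : G) * (a * h * a⁻¹)⁻¹ =
        ((α ⟨φ x, hφT x⟩ : ↥((S : Subgroup G) ⊓ H)) : G) := fun x => by
      rw [haα, haα]
      show a * h * a⁻¹ * (a * (x : G) * a⁻¹) * (a * h * a⁻¹)⁻¹ = a * φ x * a⁻¹
      rw [hφh]
      group
    refine ⟨conjHom _ (a * h * a⁻¹), ⟨?_, ?_, _, hHn hh, fun _ => rfl⟩, fun x hφx hαx => key x⟩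
    · rintro _ ⟨x, -, rfl⟩
      exact (α x).2
    · rintro ⟨_, x, hx, rfl⟩
      show a * h * a⁻¹ * ((α x : ↥((S : Subgroup G) ⊓ H)) : G) * (a * h * a⁻¹)⁻¹ ∈ _
      rw [key ⟨x, hx⟩]
      exact (α _).2
  · intro P hP φ hφ
    obtain ⟨-, hφS, g, hg⟩ := hφ
    have hU : ((S : Subgroup G) ⊓ H).map (MulAut.conj g).toMonoidHom ≤ H := by
      rintro _ ⟨x, hx, rfl⟩
      exact hHn hx.2
    obtain ⟨k, hk, hkT⟩ := sylow_conjugate_into hT hU (hT.2.1.map _)
    have hn : k * g ∈ Subgroup.normalizer (((S : Subgroup G) ⊓ H : Subgroup G) : Set G) :=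
      mem_normalizer_of_map_le fun x hx => by
        have := hkT ⟨_, ⟨x, hx, rfl⟩, rfl⟩
        simpa [mul_assoc] using this
    refine ⟨conjAut _ hn, ?_, conjHom P ((k * g)⁻¹ * g), ⟨hP, fun x => ?_, _, ?_, fun _ => rfl⟩, fun x hx => ?_⟩
    · rw [group_autGroup hsc.1]
      exact conjAut_mem_autInducedBy hn trivial
    · show (k * g)⁻¹ * g * (x : G) * ((k * g)⁻¹ * g)⁻¹ ∈ (S : Subgroup G) ⊓ H
      have h1 : g * (x : G) * g⁻¹ ∈ (S : Subgroup G) ⊓ H :=
        ⟨hg x ▸ hφS x, hHn (hP x.2).2⟩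
      have := (mem_normalizer_iff'.1 hn).2 _ h1
      simpa [mul_assoc] using this
    · have := hHn (a := g⁻¹) (H.inv_mem hk)
      simpa [mul_assoc] using this
    · rw [conjAut_coe]
      show φ x = k * g * ((k * g)⁻¹ * g * (x : G) * ((k * g)⁻¹ * g)⁻¹) * (k * g)⁻¹
      rw [hg]
      group
  · intro α hα
    obtain ⟨-, -, h, hh, hαh⟩ := (fn_subgroupSystem (inf_le_right : (S : Subgroup G) ⊓ H ≤ H)).1
      ((mem_autGroup_iff_fn le_rfl).1 hα)
    let T₀ : Subgroup G := (S : Subgroup G) ⊓ H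
    let C := centralizerIn (S : Subgroup G) T₀
    let A := Subgroup.centralizer (T₀ : Set G)
    have hCA : IsSylowIn p C A := (group_fullyCentralized_iff S hsc.1).1
      (fullyNormalized_good S.2 (group_isSaturated S)
        (fullyNormalized_of_weaklyClosed (weaklyClosed_of_stronglyClosed hsc))).2
    obtain ⟨R, hR⟩ := (exists_sylow_iff hCA.1).2 hCA
    have hhT : h ∈ Subgroup.normalizer (T₀ : Set G) := mem_normalizer_of_map_le fun x hx => by
      rw [← hαh x hx]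
      exact autFn_mem α hx
    have hhA : ∀ {c : G}, c ∈ A → h * c * h⁻¹ ∈ A := fun {c} hc => by
      refine Subgroup.mem_centralizer_iff.2 fun x hx => ?_
      have h2 := Subgroup.mem_centralizer_iff.1 hc _ ((mem_normalizer_iff'.1 hhT).2 x hx)
      calc x * (h * c * h⁻¹) = h * (h⁻¹ * x * h * c) * h⁻¹ := by group
        _ = h * (c * (h⁻¹ * x * h)) * h⁻¹ := by rw [h2]
        _ = h * c * h⁻¹ * x := by group
    have hCA' : C.map (MulAut.conj h).toMonoidHom ≤ A := by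
      rintro _ ⟨c, hc, rfl⟩
      exact hhA hc.2
    have : (H.subgroupOf A).Normal := Subgroup.normal_subgroupOf
    have hUL : (C.map (MulAut.conj h).toMonoidHom).subgroupOf A ≤ (R : Subgroup A) ⊔ H.subgroupOf A := by
      rintro ⟨u, huA⟩ ⟨c, hc, hcu⟩
      have huc : h * c * h⁻¹ = u := hcu
      have hc' : (⟨c, hc.2⟩ : A) ∈ (R : Subgroup A) := hR.symm ▸ hc
      have hH : (⟨c, hc.2⟩ : A)⁻¹ * ⟨u, huA⟩ ∈ H.subgroupOf A := by
        show c⁻¹ * u ∈ H
        rw [← huc]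
        have := H.mul_mem (hHn (a := c⁻¹) hh) (H.inv_mem hh)
        simpa [mul_assoc] using this
      simpa using Subgroup.mul_mem _ (Subgroup.mem_sup_left hc' : _ ∈ (R : Subgroup A) ⊔ H.subgroupOf A)
        (Subgroup.mem_sup_right hH)
    obtain ⟨⟨k, hkA⟩, hkH, hkU⟩ := exists_conj_kernel R (H.subgroupOf A)
      (((S.2.to_le inf_le_left).map _).comap_of_injective _ (Subgroup.subtype_injective _)) hUL
    have hkC : ∀ c ∈ C, k * h * c * (k * h)⁻¹ ∈ C := fun c hc => by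
      have h3 : (⟨k, hkA⟩ : A) * ⟨h * c * h⁻¹, hhA hc.2⟩ * (⟨k, hkA⟩ : A)⁻¹ ∈ (R : Subgroup A) :=
        hkU _ ⟨c, hc, rfl⟩
      rw [hR] at h3
      have h4 : k * (h * c * h⁻¹) * k⁻¹ ∈ C := h3
      simpa [mul_assoc] using h4
    have hkT : ∀ x ∈ T₀, k * h * x * (k * h)⁻¹ = autFn α x := fun x hx => by
      have h2 := Subgroup.mem_centralizer_iff.1 hkA _ (autFn_mem α hx)
      calc k * h * x * (k * h)⁻¹ = k * (h * x * h⁻¹) * k⁻¹ := by group
        _ = k * autFn α x * k⁻¹ := by rw [hαh x hx]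
        _ = autFn α x * k * k⁻¹ := by rw [h2]
        _ = autFn α x := by group
    have hn : k * h ∈ Subgroup.normalizer ((T₀ ⊔ C : Subgroup G) : Set G) := by
      refine mem_normalizer_of_map_le fun x hx => ?_
      have hle : (T₀ ⊔ C).map (MulAut.conj (k * h)).toMonoidHom ≤ T₀ ⊔ C := by
        rw [Subgroup.map_sup]
        refine sup_le ?_ ?_
        · rintro _ ⟨y, hy, rfl⟩
          exact Subgroup.mem_sup_left (show k * h * y * (k * h)⁻¹ ∈ T₀ from hkT y hy ▸ autFn_mem α hy)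
        · rintro _ ⟨y, hy, rfl⟩
          exact Subgroup.mem_sup_right (hkC y hy)
      exact hle ⟨x, hx, rfl⟩
    refine ⟨conjAut _ hn, ?_, fun x => ?_, fun c hc => ?_⟩
    · rw [group_autGroup (sup_le hsc.1 centralizerIn_le)]
      exact conjAut_mem_autInducedBy hn trivial
    · rw [conjAut_coe]
      exact (hkT x x.2).trans (autFn_coe α x)
    · rw [conjAut_coe]
      have hH1 : (c : G)⁻¹ * (k * h) * c * (k * h)⁻¹ ∈ H := by
        have := H.mul_mem (hHn (a := (c : G)⁻¹) (H.mul_mem hkH hh)) (H.inv_mem (H.mul_mem hkH hh))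
        simpa [mul_assoc] using this
      have hC1 : (c : G)⁻¹ * (k * h * c * (k * h)⁻¹) ∈ C := C.mul_mem (C.inv_mem hc) (hkC c hc)
      exact ⟨⟨hC1.1, by simpa [mul_assoc] using hH1⟩, hC1.2⟩

/-- A group with simple fusion system and minimal such is simple. -/
theorem isSimpleGroup_of_simple_fusion (hsimple : (groupFusionSystem (S : Subgroup G)).IsSimple p)
    (hcore : pPrimeCore p G = ⊥)
    (hmin : ∀ (K : Subgroup G) (hSK : (S : Subgroup G) ≤ K), K ≠ ⊤ → ∃ P : Subgroup G,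
      (fusionSystemOfSubgroup K (S : Subgroup G) hSK).Hom P ≠ (groupFusionSystem (S : Subgroup G)).Hom P) :
    IsSimpleGroup G := by
  obtain ⟨hsat, hne, hsimp⟩ := hsimple
  have : Nontrivial G := by
    have := (Subgroup.nontrivial_iff_ne_bot _).2 hne
    exact Subtype.coe_injective.nontrivial (α := ↥(S : Subgroup G))
  refine ⟨fun N hN => ?_⟩
  by_contra hcon
  push Not at hcon
  rcases hsimp _ _ (normal_subsystem_of_normal (H := N) S) with h | ⟨h, h'⟩
  · refine hcon.1 (le_bot_iff.1 (hcore ▸ le_sSup (s := {N : Subgroup G | N.Normal ∧ (Nat.card N).Coprime p})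
      ⟨hN, ?_⟩))
    refine Nat.Coprime.symm ((Fact.out : p.Prime).coprime_iff_not_dvd.2 fun hdvd => ?_)
    obtain ⟨z, hz⟩ := exists_prime_orderOf_dvd_card' p hdvd
    obtain ⟨R, hR⟩ := (exists_sylow_iff (inf_le_right : (S : Subgroup G) ⊓ N ≤ N)).2
      (isSylowIn_inter_normal (H := N) S)
    have := R.not_dvd_index
    rw [hR, h, Subgroup.bot_subgroupOf, Subgroup.index_bot] at this
    exact this hdvd
  · have hSN : (S : Subgroup G) ≤ N := h.ge.trans inf_le_right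
    obtain ⟨P, hP⟩ := hmin N hSN hcon.2
    refine hP ((Set.ext fun φ => ?_ : (fusionSystemOfSubgroup N (S : Subgroup G) hSN).Hom P =
      (fusionSystemOfSubgroup N ((S : Subgroup G) ⊓ N) inf_le_right).Hom P).trans (h' P))
    simp only [fusionSystemOfSubgroup, h]

end Group

/-! ### Strong invariance -/

section Invariance

variable {Ω : Type*} [Group Ω] {S T : Subgroup Ω} [Finite S] {F : FusionSystem S}
variable {p : ℕ} [Fact p.Prime]

/-- Strong invariance implies invariance. -/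
theorem invariant_of_strong (hS : IsPGroup p S) (hF : F.IsSaturated p) {E : FusionSystem T}
    (hE : E.IsSubsystemOf F) (hT : F.StronglyClosed T)
    (h : ∀ (P Q : Subgroup Ω) (g f : Ω → Ω), P ≤ Q → Q ≤ T → Fn E P g → (∀ x ∈ P, g x ∈ Q) → Fn F Q f →
      ∃ χ, Fn E (img f P) χ ∧ ∀ x ∈ P, χ (f x) = f (g x)) :
    E.IsInvariantIn F := by
  have := finite_of_le_base hT.1
  have haut : ∀ {P : Subgroup Ω} {g : Ω → Ω} {α : MulAut T}, Fn E P g → α ∈ F.autGroup T →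
      ∃ χ, Fn E (img (autFn α) P) χ ∧ ∀ x ∈ P, χ (autFn α x) = autFn α (g x) := fun hg hα =>
    h _ T _ _ hg.le le_rfl hg (fun x hx => hg.mem hx) ((mem_autGroup_iff_fn hT.1).1 hα)
  refine ⟨hE, hT, fun P hP φ hφ α hα => ?_, ?_⟩
  · obtain ⟨χ, hχ, he⟩ := haut (fn_ofHom hφ) hα
    obtain ⟨ψ, hψ, hψf⟩ := id hχ
    have e : (P.subgroupOf T).map (T.subtype.comp α.toMonoidHom) = img (autFn α) P := by
      refine le_antisymm ?_ (img_le fun x hx => ⟨⟨x, hP hx⟩, hx, (autFn_coe α ⟨x, hP hx⟩).symm⟩)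
      rintro _ ⟨x, hx, rfl⟩
      show ((α x : T) : Ω) ∈ _
      rw [← autFn_coe]
      exact mem_img_of_mem hx
    refine ⟨ψ.comp (MulEquiv.subgroupCongr e).toMonoidHom,
      mem_hom_of_fn (e.symm ▸ hχ) fun y => hψf _, fun x hφx hαx => ?_⟩
    refine (hψf _).trans ?_
    show χ ((α ⟨x, hP x.2⟩ : T) : Ω) = _
    rw [← autFn_coe α ⟨x, hP x.2⟩, he x x.2, ofHom_coe]
    exact autFn_coe α ⟨φ x, hφx⟩
  let Good : Subgroup Ω → (Ω → Ω) → Prop := fun P f =>
    ∃ α ∈ F.autGroup T, ∃ g, Fn E P g ∧ ∀ x ∈ P, f x = autFn α (g x)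
  have hcomp : ∀ {P R : Subgroup Ω} {f f' : Ω → Ω}, Good P f → Good R f' → (∀ x ∈ P, f x ∈ R) →
      Good P (f' ∘ f) := by
    rintro P R f f' ⟨α, hα, g, hg, hfg⟩ ⟨β, hβ, g', hg', hfg'⟩ hm
    obtain ⟨χ, hχ, hχe⟩ := haut hg' (inv_mem hα : α⁻¹ ∈ F.autGroup T)
    have hgm : ∀ x ∈ P, g x ∈ img (autFn α⁻¹) R := fun x hx => by
      have := mem_img_of_mem (f := autFn α⁻¹) (hm x hx)
      rwa [hfg x hx, autFn_inv_apply α (hg.mem hx)] at this
    refine ⟨β * α, mul_mem hβ hα, χ ∘ g, hg.comp hχ hgm, fun x hx => ?_⟩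
    show f' (f x) = autFn (β * α) (χ (g x))
    have h1 := hχe _ (hm x hx)
    rw [hfg x hx, autFn_inv_apply α (hg.mem hx), ← hfg x hx] at h1
    rw [autFn_mul _ _ (hχ.mem (hgm x hx)), h1, autFn_apply_inv α (hg'.mem (hm x hx)), hfg' _ (hm x hx)]
  have hinv : ∀ {P : Subgroup Ω} {f f₁ : Ω → Ω}, Fn F P f → Good P f → (∀ x ∈ P, f₁ (f x) = x) →
      Good (img f P) f₁ := by
    rintro P f f₁ hf ⟨α, hα, g, hg, hfg⟩ hf₁
    obtain ⟨g₁, hg₁, hg₁g, -⟩ := hg.exists_inv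
    obtain ⟨χ, hχ, hχe⟩ := haut hg₁ hα
    have e : img (autFn α) (img g P) = img f P := ((img_congr hfg).trans hg.img_comp).symm
    refine ⟨α⁻¹, inv_mem hα, χ, e ▸ hχ, fun y hy => ?_⟩
    obtain ⟨x, hx, rfl⟩ := hf.mem_img.1 hy
    rw [hf₁ x hx, hfg x hx, hχe _ (mem_img_of_mem hx), hg₁g x hx, autFn_inv_apply α (hg.le hx)]
  have hmono : ∀ {P M : Subgroup Ω} {f : Ω → Ω}, Good M f → P ≤ M → Good P f :=
    fun ⟨α, hα, g, hg, he⟩ hPM => ⟨α, hα, g, hg.mono hPM, fun x hx => he x (hPM hx)⟩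
  have hcongr : ∀ {P : Subgroup Ω} {f f' : Ω → Ω}, Good P f → (∀ x ∈ P, f x = f' x) → Good P f' :=
    fun ⟨α, hα, g, hg, he⟩ h' => ⟨α, hα, g, hg, fun x hx => (h' x hx).symm.trans (he x hx)⟩
  suffices hall : ∀ P : Subgroup Ω, P ≤ S → P ≤ T → ∀ f, Fn F P f → Good P f by
    intro P hP φ hφ
    obtain ⟨α, hα, g, hg, he⟩ := hall P (hP.trans hT.1) hP _ (fn_ofHom hφ)
    obtain ⟨ψ, hψ, hψg⟩ := id hg
    refine ⟨α, hα, ψ, hψ, fun x hx => ?_⟩
    rw [← ofHom_coe φ x, he x x.2, ← autFn_coe α ⟨ψ x, hx⟩]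
    exact congrArg (autFn α) (hψg x).symm
  intro P hPS
  refine induction_down (C := fun P => P ≤ T → ∀ f, Fn F P f → Good P f) P hPS ?_
  intro P hPS ih hPT f hf
  rcases eq_or_lt_of_le hPT with rfl | hPlt
  · obtain ⟨α, hα, hαf⟩ := exists_aut_of_fn hf (sc_img hT le_rfl hf)
    exact ⟨α, hα, id, fn_id le_rfl, fun x hx => (hαf ⟨x, hx⟩).symm.trans (autFn_coe α ⟨x, hx⟩).symm⟩
  obtain ⟨P', hPP', hP'⟩ := exists_fullyNormalized (F := F) hPS
  obtain ⟨hA, hfc⟩ := fullyNormalized_good hS hF hP'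
  have hr := fullyCentralized_receptive hS hF hfc
  have := finite_of_le_base hPS
  have := finite_of_le_base hP'.1
  obtain ⟨k₁, hk₁, hk₁i⟩ := isConj_iff.1 hPP'
  have hP'T : P' ≤ T := hk₁i.symm.le.trans (img_le fun x hx => sc_apply hT hk₁ hx (hPT hx))
  have hlt : ∀ {X : Subgroup Ω}, X ≤ T → Nat.card X = Nat.card P → X < normalizerIn S X ⊓ T := by
    intro X hX hc
    have hne : X < T := lt_of_le_of_ne hX fun e => hPlt.ne (eq_of_le_of_card hT.1 hPT (by rw [← hc, e]))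
    obtain ⟨n, hnT, hn, hnX⟩ := exists_mem_normalizer_not_mem hS hT.1 hne
    exact lt_of_le_of_ne (le_inf (le_normalizerIn (hX.trans hT.1)) hX) fun e => hnX (e.ge ⟨hn, hnT⟩)
  have hstep : ∀ {X : Subgroup Ω}, X ≤ T → F.IsConj X P' →
      ∃ hX, Fn F X hX ∧ img hX X = P' ∧ Good X hX := by
    intro X hX hXP
    obtain ⟨g, hg, -, hgi⟩ := exists_normalizer_map hS hA hr hXP
    have hc : Nat.card X = Nat.card P :=
      ((isConj_card hXP).symm.trans (isConj_card hPP'))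
    have h2 := hlt hX hc
    have := finite_of_le_base (inf_le_right.trans hT.1 : normalizerIn S X ⊓ T ≤ S)
    have hgood := ih _ (inf_le_left.trans normalizerIn_le) (by
      rw [← hc]
      simpa only [SetLike.coe_sort_coe] using
        Set.Finite.card_lt_card (Set.toFinite ((normalizerIn S X ⊓ T : Subgroup Ω) : Set Ω)) h2)
      inf_le_right g (hg.mono inf_le_left)
    exact ⟨g, hg.mono (le_normalizerIn (hX.trans hT.1)), hgi, hmono hgood h2.le⟩
  obtain ⟨hp, hhp, hhpi, hpGood⟩ := hstep hPT hPP'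
  have hfT : img f P ≤ T := img_le fun x hx => sc_apply hT hf hx (hPT hx)
  obtain ⟨hq, hhq, hhqi, hqGood⟩ := hstep hfT (isConj_trans (isConj_symm (isConj_of_fn hf)) hPP')
  obtain ⟨hp', hhp', hp'e, hp'i⟩ := hhp.exists_inv
  obtain ⟨hq', hhq', hq'e, hq'i⟩ := hhq.exists_inv
  rw [hhpi] at hhp' hp'i
  rw [hhqi] at hhq' hq'i
  have hb : Fn F P' (hq ∘ (f ∘ hp')) :=
    (hhp'.comp hf fun x hx => hp'i.le (mem_img_of_mem hx)).comp hhq
      fun x hx => mem_img_of_mem (hp'i.le (mem_img_of_mem hx))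
  have hbi : img (hq ∘ (f ∘ hp')) P' = P' := hb.img_eq_self fun x hx =>
    hhqi.le (mem_img_of_mem (mem_img_of_mem (hp'i.le (mem_img_of_mem hx))))
  obtain ⟨β, hβ, hβx⟩ := exists_aut_of_fn hb hbi
  -- the automorphisms of `P'`
  have hK : ∀ a ∈ F.autGroup P', ∀ τ ∈ E.autGroup P', a * τ * a⁻¹ ∈ E.autGroup P' := by
    intro a ha τ hτ
    obtain ⟨χ, hχ, hχe⟩ := h P' P' _ _ le_rfl hP'T ((mem_autGroup_iff_fn hP'T).1 hτ)
      (fun x hx => autFn_mem τ hx) ((mem_autGroup_iff_fn hP'.1).1 ha)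
    rw [img_autFn] at hχ
    refine (mem_autGroup_iff_fn hP'T).2 (hχ.congr fun y hy => ?_)
    have h1 := hχe _ (autFn_mem a⁻¹ hy)
    rw [autFn_apply_inv a hy] at h1
    rw [h1, autFn_mul _ _ hy, autFn_mul _ _ (autFn_mem _ hy)]
  have : ((E.autGroup P').subgroupOf (F.autGroup P')).Normal := ⟨fun τ hτ a => hK a a.2 τ hτ⟩
  obtain ⟨-, R, hR⟩ := hA
  have hU : ((R : Subgroup (F.autGroup P')) ⊓ (E.autGroup P').subgroupOf (F.autGroup P')).map
      (MulAut.conj (⟨β, hβ⟩ : F.autGroup P')).toMonoidHom ≤ (E.autGroup P').subgroupOf (F.autGroup P') := by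
    rintro _ ⟨y, hy, rfl⟩
    exact Subgroup.Normal.conj_mem inferInstance y hy.2 _
  obtain ⟨⟨k, hkA⟩, hkE, hkU⟩ := exists_conj_kernel R ((E.autGroup P').subgroupOf (F.autGroup P'))
    ((R.2.to_le inf_le_left).map _) (hU.trans le_sup_right)
  obtain ⟨M, g, hg, hP'M, hM, hge⟩ :=
    receptive_extend hr ((mem_autGroup_iff_fn hP'.1).1 (mul_mem hkA hβ)) (img_autFn (k * β))
  have hcard' : Nat.card P' = Nat.card P := isConj_card hPP'
  obtain ⟨n, hn, hnP⟩ := SetLike.exists_of_lt (hlt hP'T hcard')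
  have hnM : n ∈ M := by
    refine (hM n).2 ⟨hn.1.1, hn.1.2, ?_⟩
    let c : F.autGroup P' := ⟨_, autInducedBy_le_autGroup hP'.1 (conjAut_mem_autInducedBy hn.1.2 hn.1.1)⟩
    have hc : c ∈ (R : Subgroup (F.autGroup P')) ⊓ (E.autGroup P').subgroupOf (F.autGroup P') :=
      ⟨hR.symm ▸ conjAut_mem_autInducedBy hn.1.2 hn.1.1,
        autInducedBy_le_autGroup hP'T (conjAut_mem_autInducedBy hn.1.2 hn.2)⟩
    have h3 := hkU _ ⟨c, hc, rfl⟩
    replace h3 : (⟨k, hkA⟩ : F.autGroup P') * MulAut.conj (⟨β, hβ⟩ : F.autGroup P') c * ⟨k, hkA⟩⁻¹ ∈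
      (R : Subgroup (F.autGroup P')) := h3
    rw [hR] at h3
    have h3' : k * β * conjAut P' hn.1.2 * (k * β)⁻¹ ∈ autInducedBy S P' := by
      simpa [c, Subgroup.mem_subgroupOf, mul_assoc] using h3
    obtain ⟨s, hs, hsx⟩ := mem_autInducedBy.1 h3'
    refine ⟨s, hs, fun x hx => ?_⟩
    lift x to P' using hx
    have h4 := hsx ((k * β) x)
    simp only [MulAut.mul_apply, mul_inv_rev, MulAut.inv_apply_self] at h4
    rw [← conjAut_coe hn.1.2 x, autFn_coe, autFn_coe]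
    simpa using h4
  have hP'lt : P' < M ⊓ T := lt_of_le_of_ne (le_inf hP'M hP'T) fun e => hnP (e.ge ⟨hnM, hn.2⟩)
  have hν : Good P' (autFn (k * β)) := by
    have := finite_of_le_base (inf_le_right.trans hT.1 : M ⊓ T ≤ S)
    have hgood := ih _ (inf_le_right.trans hT.1) (by
      rw [← hcard']
      simpa only [SetLike.coe_sort_coe] using
        Set.Finite.card_lt_card (Set.toFinite ((M ⊓ T : Subgroup Ω) : Set Ω)) hP'lt)
      inf_le_right g (hg.mono inf_le_left)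
    exact hcongr (hmono hgood hP'lt.le) hge
  have hk : Good P' (autFn k⁻¹) :=
    ⟨1, one_mem _, autFn k⁻¹, (mem_autGroup_iff_fn hP'T).1 (inv_mem hkE), fun x hx =>
      (autFn_coe (1 : MulAut T) ⟨_, hP'T (autFn_mem k⁻¹ hx)⟩).symm⟩
  have hβG : Good P' (autFn β) :=
    hcongr (hcomp hν hk fun x hx => autFn_mem _ hx) fun x hx => by
      show autFn k⁻¹ (autFn (k * β) x) = autFn β x
      rw [autFn_mul _ _ hx, autFn_inv_apply k (autFn_mem _ hx)]
  have hq'Good : Good P' hq' := hhqi ▸ hinv hhq hqGood hq'e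
  refine hcongr (hcomp (hcomp hpGood hβG fun x hx => hhpi.le (mem_img_of_mem hx)) hq'Good
    fun x hx => autFn_mem β (hhpi.le (mem_img_of_mem hx))) fun x hx => ?_
  show hq' (autFn β (hp x)) = f x
  rw [show hp x = ((⟨hp x, hhpi.le (mem_img_of_mem hx)⟩ : P') : Ω) from rfl, autFn_coe, hβx]
  show hq' (hq (f (hp' (hp x)))) = f x
  rw [hp'e x hx, hq'e _ (mem_img_of_mem hx)]

end Invariance

end CfsgLib.Fsys
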