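import Cfsg.Agent.Lib.FusionSystem.LocalModels
import Cfsg.Agent.Lib.FusionSystem.FactorSaturated
import Cfsg.Agent.Lib.FusionSystem.GroupNormal
/-
Section-free fusion systems: inheritance by normalizer and factor systems; realized systems with a
centric normal subgroup have a quotient that is a model.
-/
set_option autoImplicit false

namespace CfsgLib.Fsys

open Cfsg
open CfsgLib.LocalEven.SylowIn (IsSylowIn)
open Cfsg.FusionSystem (centralizerIn normalizerIn imageAlong preimageAlong)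

universe u

theorem card_lt_of_lt' {Ω : Type*} [Group Ω] {A B : Subgroup Ω} [Finite B] (h : A < B) :
    Nat.card A < Nat.card B := by
  simpa only [SetLike.coe_sort_coe] using Set.Finite.card_lt_card (Set.toFinite (B : Set Ω)) h

theorem involves_of_surjective {H : Type*} [Group H] {G L : Type*} [Group G] [Group L] {e : G →* L}
    (he : Function.Surjective e) (h : Involves H L) : Involves H G := by
  obtain ⟨K, R, hn, ⟨f⟩⟩ := h
  let g : K.comap e →* K ⧸ R.subgroupOf K :=
    (QuotientGroup.mk' (R.subgroupOf K)).comp (e.subgroupComap K)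
  have hk : g.ker = (R.comap e).subgroupOf (K.comap e) := by
    ext x
    exact QuotientGroup.eq_one_iff (e.subgroupComap K x)
  have hgs : Function.Surjective g := by
    intro y
    obtain ⟨⟨z, hz⟩, rfl⟩ := QuotientGroup.mk'_surjective _ y
    obtain ⟨x, rfl⟩ := he z
    exact ⟨⟨x, hz⟩, rfl⟩
  have hn' : ((R.comap e).subgroupOf (K.comap e)).Normal := hk ▸ g.normal_ker
  exact ⟨K.comap e, R.comap e, hn',
    ⟨(QuotientGroup.quotientMulEquivOfEq hk.symm).trans
      ((QuotientGroup.quotientKerEquivOfSurjective g hgs).trans f)⟩⟩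

variable {Ω : Type u} [Group Ω] {S : Subgroup Ω} {F : FusionSystem S} {P Q T : Subgroup Ω}
variable {p : ℕ} [Fact p.Prime] [Finite S]

omit [Fact p.Prime] [Finite S] in
/-- Normal `p`-subgroups of a realizing group give subgroups normal in the system. -/
theorem normal_of_normal_realized {G : Type*} [Group G] {ι : S →* G} (hι : F.IsRealizedBy ι) {N : Subgroup G}
    [N.Normal] (hN : N ≤ ι.range) : F.IsNormal ((N.comap ι).map S.subtype) := by
  obtain ⟨hinj, hreal⟩ := hι
  set X := (N.comap ι).map S.subtype with hX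
  have hXS : X ≤ S := Subgroup.map_subtype_le _
  have hXm : ∀ x (hx : x ∈ S), x ∈ X ↔ ι ⟨x, hx⟩ ∈ N := fun x hx => by
    constructor
    · rintro ⟨y, hy, rfl⟩
      exact hy
    · exact fun h => ⟨⟨x, hx⟩, h, rfl⟩
  refine ⟨hXS, fun P φ hφ => ?_⟩
  have hP := (F.le_of_mem hφ).1
  obtain ⟨g, hg⟩ := (hreal P hP φ (F.le_of_mem hφ).2).1 hφ
  let K : Subgroup S := (ι.range.comap (MulAut.conj g).toMonoidHom).comap ι
  have hle : P ⊔ X ≤ K.map S.subtype := by
    refine sup_le (fun x hx => ⟨⟨x, hP hx⟩, ⟨_, hg ⟨x, hx⟩⟩, rfl⟩) ?_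
    rintro _ ⟨y, hy, rfl⟩
    exact ⟨y, hN (Subgroup.Normal.conj_mem (H := N) inferInstance _ hy g), rfl⟩
  have hex : ∀ x : K, ∃ y : S, ι y = g * ι (x : S) * g⁻¹ := fun x => x.2
  choose y hy using hex
  have hS' : P ⊔ X ≤ S := sup_le hP hXS
  have hK : ∀ x : ↥(P ⊔ X), (⟨(x : Ω), hS' x.2⟩ : S) ∈ K := fun x => by
    obtain ⟨z, hz, e⟩ := hle x.2
    rwa [show (⟨(x : Ω), hS' x.2⟩ : S) = z from Subtype.ext e.symm]
  let ψ : ↥(P ⊔ X) →* Ω := MonoidHom.mk' (fun x => (y ⟨_, hK x⟩ : Ω)) fun a b => congrArg Subtype.val <|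
    show y ⟨_, hK (a * b)⟩ = y ⟨_, hK a⟩ * y ⟨_, hK b⟩ from hinj <| by
      rw [map_mul, hy, hy, hy]
      show g * ι (⟨(a : Ω), hS' a.2⟩ * ⟨(b : Ω), hS' b.2⟩) * g⁻¹ = _
      rw [map_mul]
      group
  have hψ : ψ ∈ F.Hom (P ⊔ X) := (hreal _ hS' ψ fun x => (y _).2).2 ⟨g, fun x => hy ⟨_, hK x⟩⟩
  refine ⟨ψ, hψ, fun x => ?_, ?_⟩
  · exact congrArg Subtype.val (hinj (a₁ := y ⟨_, hK _⟩) (a₂ := ⟨φ x, (F.le_of_mem hφ).2 x⟩)
      ((hy _).trans (hg x).symm))
  · ext z
    constructor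
    · rintro ⟨x, hx, rfl⟩
      refine (hXm _ (y ⟨_, hK x⟩).2).2 ?_
      show ι (y ⟨_, hK x⟩) ∈ N
      rw [hy]
      exact Subgroup.Normal.conj_mem inferInstance _ ((hXm _ (hS' x.2)).1 hx) g
    · intro hz
      have h1 : g⁻¹ * ι ⟨z, hXS hz⟩ * g ∈ N := by
        simpa using Subgroup.Normal.conj_mem inferInstance _ ((hXm z (hXS hz)).1 hz) g⁻¹
      obtain ⟨w, hw⟩ := hN h1
      have hwX : (w : Ω) ∈ X := ⟨w, show ι w ∈ N from hw ▸ h1, rfl⟩
      refine ⟨⟨w, Subgroup.mem_sup_right hwX⟩, hwX, ?_⟩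
      refine congrArg Subtype.val (hinj (a₁ := y ⟨_, hK _⟩) (a₂ := ⟨z, hXS hz⟩) ?_)
      rw [hy]
      show g * ι w * g⁻¹ = _
      rw [hw]
      group

/-- Radical centric subgroups are the largest normal `p`-subgroups of their models. -/
theorem pCore_model_of_radical (hQn : F.IsFullyNormalized Q) (hc : F.IsCentric Q) (hr : F.IsRadical p Q)
    {N : FusionSystem (normalizerIn S Q)} (hN : F.IsNormalizerSystem Q N) {G : Type*} [Group G]
    {ι : normalizerIn S Q →* G} (hG : N.IsModel p G ι) :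
    (pCore p G : Subgroup G) = (Q.subgroupOf (normalizerIn S Q)).map ι := by
  have := normalizerSystem_finite (S := S) (Q := Q)
  have hQN := normalizerSystem_normal hN hQn.1
  have hcN := centric_of_sub (normalizerSystem_sub hN) hc (le_normalizerIn hQn.1)
  obtain ⟨pG, hpG, hpGι⟩ := exists_model_proj (hQ := hQN) hG
  obtain ⟨hfin, ⟨hinj, hreal⟩, ⟨TT, hT⟩, hcent⟩ := id hG
  apply le_antisymm
  · intro g hg
    let π : G →* F.autGroup Q := MonoidHom.mk' (fun g => ⟨(pG g : MulAut Q), (mem_autGroup_iff_fn hQn.1).2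
      (((mem_autGroup_iff_fn (le_normalizerIn hQn.1)).1 (pG g).2).of_subsystem (normalizerSystem_sub hN))⟩)
      fun a b => Subtype.ext (congrArg Subtype.val (map_mul pG a b) :)
    have hsur : Function.Surjective π := by
      rintro ⟨a, ha⟩
      have hfn := (mem_autGroup_iff_fn hQn.1).1 ha
      have hN' : Fn N Q (autFn a) := (fn_normalizerSystem hN).2 ⟨le_normalizerIn hQn.1,
        fun x hx => le_normalizerIn hQn.1 (autFn_mem a hx), _, by rw [sup_idem]; exact hfn, fun x _ => rfl,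
        img_autFn a⟩
      obtain ⟨φ, hφ, hφe⟩ := id hN'
      obtain ⟨g, hg⟩ := (hreal _ (le_normalizerIn hQn.1) φ (N.le_of_mem hφ).2).1 hφ
      refine ⟨g, Subtype.ext (mulAut_ext fun q hq => ?_)⟩
      have h := hg ⟨q, hq⟩
      rw [eq_mul_inv_iff_mul_eq] at h
      exact ((congrArg Subtype.val (hinj (mul_right_cancel (h.trans (hpG g q hq))))).symm).trans (hφe ⟨q, hq⟩)
    have := LocalEven.SylowIn.pCore_normal G p
    have hn : ((pCore p G).map π).Normal := Subgroup.Normal.map inferInstance _ hsur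
    have hmem : π g ∈ pCore p (F.autGroup Q) :=
      LocalEven.SylowIn.le_pCore (hN := hn) ((LocalEven.SylowIn.isPGroup_pCore G p).map _) ⟨g, hg, rfl⟩
    have hinn : (π g : MulAut Q) ∈ Inn Q := hr.2 ▸ ⟨_, hmem, rfl⟩
    rw [← autInducedBy_self, mem_autInducedBy] at hinn
    obtain ⟨q, hq, hqg⟩ := hinn
    have e : pG g = normalConj hQN ⟨q, le_normalizerIn hQn.1 hq⟩ := Subtype.ext <| MulEquiv.ext fun x =>
      Subtype.ext (hqg x)
    obtain ⟨z, hz, hze⟩ := model_proj_ker (hQ := hQN) hcN hG hpG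
      (g := (ι ⟨q, le_normalizerIn hQn.1 hq⟩)⁻¹ * g) (by rw [map_mul, map_inv, hpGι, e, inv_mul_cancel])
    refine ⟨⟨q, le_normalizerIn hQn.1 hq⟩ * z, Q.mul_mem hq (normalConj_eq_one hQN hcN hz).1, ?_⟩
    rw [map_mul, ← hze, mul_inv_cancel_left]
  · have hn : ((Q.subgroupOf (normalizerIn S Q)).map ι).Normal := by
      refine ⟨?_⟩
      rintro _ ⟨q, hq, rfl⟩ g
      exact ⟨⟨_, le_normalizerIn hQn.1 (aFn_mem (pG g) hq)⟩, aFn_mem (pG g) hq,
        eq_mul_inv_iff_mul_eq.2 (hpG g _ hq).symm⟩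
    obtain ⟨T', hT'⟩ : ∃ T' : Sylow p G, (T' : Subgroup G) = ι.range := ⟨TT, hT⟩
    exact LocalEven.SylowIn.le_pCore (hN := hn) (T'.2.to_le (hT'.ge.trans' (Subgroup.map_le_range _ _)))

variable {H : Type*} [Group H]

/-- In a section-free system, a model of a subsystem with a centric normal subgroup is section-free. -/
theorem not_involves_of_model (hS : IsPGroup p S) (hF : F.IsSaturated p) (hfree : F.IsSectionFree p H)
    (hc : F.IsCentric Q) {E : FusionSystem T} (hEF : E.IsSubsystemOf F) (hQE : E.IsNormal Q)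
    {L : Type*} [Group L] {ι : T →* L} (hL : E.IsModel p L ι) : ¬ Involves H L := by
  obtain ⟨Q', -, hQn, hc', h⟩ := embed_model hS hF hc hEF hQE hL
  obtain ⟨N, hN⟩ := exists_normalizerSystem F hQn.1
  obtain ⟨G, _, ιG, hG⟩ := exists_normalizer_model hS hF hQn hc' hN
  obtain ⟨e, he⟩ := h N hN G ιG hG
  exact fun hi => hfree Q' hQn hc' N hN G ιG hG (involves_of_injective he hi)

/-- It suffices to test section-freeness at radical subgroups. -/
theorem sectionFree_of_radical (hS : IsPGroup p S) (hF : F.IsSaturated p)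
    (h : ∀ Q : Subgroup Ω, F.IsFullyNormalized Q → F.IsCentric Q → F.IsRadical p Q →
      ∀ N : FusionSystem (normalizerIn S Q), F.IsNormalizerSystem Q N →
        ∀ (L : Type u) [Group L] (ι : normalizerIn S Q →* L), N.IsModel p L ι → ¬ Involves H L) :
    F.IsSectionFree p H := by
  intro Q hQn hc
  refine induction_down (S := S) (C := fun Q => F.IsFullyNormalized Q → F.IsCentric Q →
    ∀ N : FusionSystem (normalizerIn S Q), F.IsNormalizerSystem Q N →
      ∀ (L : Type u) [Group L] (ι : normalizerIn S Q →* L), N.IsModel p L ι → ¬ Involves H L) Q hQn.1 ?_ hQn hc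
  clear hQn hc Q
  intro Q hQS ih hQn hc N hN L _ ι hL
  by_cases hr : F.IsRadical p Q
  · exact h Q hQn hc hr N hN L ι hL
  have := normalizerSystem_finite (S := S) (Q := Q)
  have hQN := normalizerSystem_normal hN hQn.1
  have hcN := centric_of_sub (normalizerSystem_sub hN) hc (le_normalizerIn hQn.1)
  obtain ⟨pG, hpG, -⟩ := exists_model_proj (hQ := hQN) hL
  obtain ⟨hfin, hι, ⟨TT, hT⟩, hcent⟩ := id hL
  have := LocalEven.SylowIn.pCore_normal L p
  have hO : pCore p L ≤ ι.range := hT ▸ (LocalEven.SylowIn.isPGroup_pCore L p).le_sylow_of_normal TT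
  set X := ((pCore p L).comap ι).map (normalizerIn S Q).subtype with hX
  have hXn : N.IsNormal X := normal_of_normal_realized hι hO
  have hn : ((Q.subgroupOf (normalizerIn S Q)).map ι).Normal := by
    refine ⟨?_⟩
    rintro _ ⟨q, hq, rfl⟩ g
    exact ⟨⟨_, le_normalizerIn hQn.1 (aFn_mem (pG g) hq)⟩, aFn_mem (pG g) hq,
      eq_mul_inv_iff_mul_eq.2 (hpG g _ hq).symm⟩
  have hQle := LocalEven.SylowIn.le_pCore (hN := hn)
    (TT.2.to_le (hT.ge.trans' (Subgroup.map_le_range ι (Q.subgroupOf (normalizerIn S Q)))))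
  have hQX : Q ≤ X := fun q hq => ⟨⟨q, le_normalizerIn hQn.1 hq⟩,
    hQle (Subgroup.mem_map_of_mem ι (show (⟨q, _⟩ : normalizerIn S Q) ∈ Q.subgroupOf _ from hq)), rfl⟩
  have hlt : Q < X := by
    refine lt_of_le_of_ne hQX fun e => hr ⟨hQn.1, le_antisymm ?_ ?_⟩
    · -- radical
      have hA : ∀ a ∈ F.autGroup Q, ∃ g : L, (pG g : MulAut Q) = a := fun a ha => by
        have hfn := (mem_autGroup_iff_fn hQn.1).1 ha
        have hN' : Fn N Q (autFn a) := (fn_normalizerSystem hN).2 ⟨le_normalizerIn hQn.1,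
          fun x hx => le_normalizerIn hQn.1 (autFn_mem a hx), _, by rw [sup_idem]; exact hfn, fun x _ => rfl,
          img_autFn a⟩
        obtain ⟨φ, hφ, hφe⟩ := id hN'
        obtain ⟨g, hg⟩ := (hι.2 _ (le_normalizerIn hQn.1) φ (N.le_of_mem hφ).2).1 hφ
        refine ⟨g, mulAut_ext fun q hq => ?_⟩
        have h' := hg ⟨q, hq⟩
        rw [eq_mul_inv_iff_mul_eq] at h'
        exact ((congrArg Subtype.val (hι.1 (mul_right_cancel (h'.trans (hpG g q hq))))).symm).trans (hφe ⟨q, hq⟩)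
      let π : L →* MulAut Q := (N.autGroup Q).subtype.comp pG
      let Y : Subgroup L := ((pCore p (F.autGroup Q)).map (F.autGroup Q).subtype).comap π
      have hYn : Y.Normal := by
        refine ⟨fun y hy g => ?_⟩
        obtain ⟨a, ha, hae⟩ := hy
        have hg : π g ∈ F.autGroup Q := (mem_autGroup_iff_fn hQn.1).2
          (((mem_autGroup_iff_fn (le_normalizerIn hQn.1)).1 (pG g).2).of_subsystem (normalizerSystem_sub hN))
        have := LocalEven.SylowIn.pCore_normal (F.autGroup Q) p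
        refine ⟨_, Subgroup.Normal.conj_mem inferInstance a ha ⟨π g, hg⟩, ?_⟩
        rw [map_mul π, map_mul π, map_inv π, ← hae]
        rfl
      have := finite_of_le_base hQn.1
      have hYp : IsPGroup p Y := by
        refine ((LocalEven.SylowIn.isPGroup_pCore _ p).map _).comap_of_ker_isPGroup π ?_
        rintro ⟨g, hg⟩
        obtain ⟨z, -, hz⟩ := model_proj_ker (hQ := hQN) hcN hL hpG (g := g) (Subtype.ext hg)
        obtain ⟨k, hk⟩ := (hS.to_le normalizerIn_le) z
        exact ⟨k, Subtype.ext (by show g ^ p ^ k = 1; rw [hz, ← map_pow, hk, map_one])⟩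
      rintro _ ⟨a, ha, rfl⟩
      obtain ⟨g, hg⟩ := hA _ a.2
      have hgY : g ∈ pCore p L := LocalEven.SylowIn.le_pCore (hN := hYn) hYp ⟨a, ha, hg.symm⟩
      obtain ⟨x, hx⟩ := hO hgY
      have hxQ : (x : Ω) ∈ Q := e.ge ⟨x, show ι x ∈ pCore p L from hx.symm ▸ hgY, rfl⟩
      rw [← autInducedBy_self, mem_autInducedBy]
      refine ⟨x, hxQ, fun q => ?_⟩
      show ((((a : F.autGroup Q) : MulAut Q) q : Q) : Ω) = _
      rw [← hg, ← hx]
      have h1 : ι x * ι ⟨q, le_normalizerIn hQn.1 q.2⟩ =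
          ι ⟨(x : Ω) * q * (x : Ω)⁻¹, le_normalizerIn hQn.1 (Q.mul_mem (Q.mul_mem hxQ q.2) (Q.inv_mem hxQ))⟩ * ι x := by
        rw [← map_mul, ← map_mul]
        exact congrArg ι (Subtype.ext (by simp [mul_assoc]))
      have h2 := congrArg Subtype.val (hι.1 (mul_right_cancel ((hpG _ q q.2).symm.trans h1)))
      exact (autFn_coe _ q).symm.trans h2
    · intro a ha
      have hn' : ((Inn Q).subgroupOf (F.autGroup Q)).Normal := inn_normal_aut
      have := finite_of_le_base hQn.1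
      have hp' : IsPGroup p ((Inn Q).subgroupOf (F.autGroup Q)) := by
        refine IsPGroup.comap_of_injective ?_ (F.autGroup Q).subtype Subtype.val_injective
        rw [← autInducedBy_self, autInducedBy_eq_map]
        exact ((hS.to_le hQn.1).comap_of_injective _ Subtype.val_injective).map _
      exact ⟨⟨a, inn_le_autGroup hQn.1 ha⟩, LocalEven.SylowIn.le_pCore (hN := hn') hp' ha, rfl⟩
  have hXS : X ≤ S := hXn.1.trans normalizerIn_le
  have hXc : F.IsCentric X := isCentric_mono hc hQX hXS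
  obtain ⟨X', hXX', hX'n, hX'c, hemb⟩ := embed_model hS hF hXc (normalizerSystem_sub hN) hXn hL
  obtain ⟨N', hN'⟩ := exists_normalizerSystem F hX'n.1
  obtain ⟨G, _, ιG, hG⟩ := exists_normalizer_model hS hF hX'n hX'c hN'
  obtain ⟨e, he⟩ := hemb N' hN' G ιG hG
  have hcard : Nat.card Q < Nat.card X' := by
    rw [isConj_card hXX']
    have := finite_of_le_base hXS
    exact card_lt_of_lt' hlt
  exact fun hi => ih X' hX'n.1 hcard hX'n hX'c N' hN' G ιG hG (involves_of_injective he hi)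

/-- Normalizer systems of section-free systems are section-free. -/
theorem normalizer_sectionFree (hS : IsPGroup p S) (hF : F.IsSaturated p) (hfree : F.IsSectionFree p H)
    (hQ : F.IsFullyNormalized Q) {E : FusionSystem (normalizerIn S Q)} (hE : F.IsNormalizerSystem Q E) :
    E.IsSectionFree p H := by
  have := normalizerSystem_finite (S := S) (Q := Q)
  have hEsat := normalizerSystem_saturated hS hF hQ hE
  have hES : IsPGroup p (normalizerIn S Q) := hS.to_le normalizerIn_le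
  have hQE := normalizerSystem_normal hE hQ.1
  intro R hRn hRc D hD L _ ι hL
  suffices key : ∀ R ≤ normalizerIn S Q, E.IsCentric R → ∀ {T : Subgroup Ω} (D : FusionSystem T),
      D.IsSubsystemOf E → D.IsNormal R → ∀ {L : Type u} [Group L] (ι : T →* L), D.IsModel p L ι → ¬ Involves H L from
    key R hRn.1 hRc D (normalizerSystem_sub hD) (normalizerSystem_normal hD hRn.1) ι hL
  intro R₀ hR₀
  refine induction_down (S := normalizerIn S Q) (C := fun R => E.IsCentric R → ∀ {T : Subgroup Ω}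
      (D : FusionSystem T), D.IsSubsystemOf E → D.IsNormal R →
        ∀ {L : Type u} [Group L] (ι : T →* L), D.IsModel p L ι → ¬ Involves H L) R₀ hR₀ ?_
  intro R hR ih hRc T D hDE hRD L _ ι hL hinv
  obtain ⟨R', hRR', hR'n, hR'c, hemb⟩ := embed_model hES hEsat hRc hDE hRD hL
  obtain ⟨M, hM⟩ := exists_normalizerSystem E hR'n.1
  obtain ⟨G, _, ιG, hG⟩ := exists_normalizer_model hES hEsat hR'n hR'c hM
  obtain ⟨e, he⟩ := hemb M hM G ιG hG
  have hinvG := involves_of_injective he hinv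
  have hR'T := hR'n.1
  have hQT : Q ≤ normalizerIn S Q := le_normalizerIn hQ.1
  by_cases hQR : Q ≤ R'
  · -- centric in `F`
    have hc : F.IsCentric R' := by
      refine ⟨hR'T.trans normalizerIn_le, fun R'' hR'' => ?_⟩
      obtain ⟨χ, hχ, rfl⟩ := isConj_iff.1 hR''
      obtain ⟨hA, hr⟩ := fullyNormalized_good hS hF hQ
      obtain ⟨g, hg, hgn, hgi⟩ := exists_normalizer_map hS hA (fullyCentralized_receptive hS hF hr)
        (isConj_symm (isConj_of_fn (hχ.mono hQR)))
      have hle : img χ R' ≤ normalizerIn S (img χ Q) := img_le fun x hx =>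
        hχ.map_normalizer hQR rfl hx (hR'T hx).2
      have hfn : Fn E R' (g ∘ χ) := (fn_normalizerSystem hE).2 ⟨hR'T,
        fun x hx => hgn _ (hle (mem_img_of_mem hx)), g ∘ χ,
        by rw [sup_eq_left.2 hQR]; exact hχ.comp hg fun x hx => hle (mem_img_of_mem hx),
        fun x _ => rfl, by rw [(hχ.mono hQR).img_comp]; exact hgi⟩
      intro c hc
      have hc' := mem_centralizerIn.1 hc
      have hcN : c ∈ normalizerIn S (img χ Q) := centralizerIn_le_normalizerIn
        (mem_centralizerIn.2 ⟨hc'.1, fun y hy => hc'.2 y (img_mono hQR hy)⟩)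
      have h1 : g c ∈ img (g ∘ χ) R' := by
        refine hR'c.2 _ (isConj_of_fn hfn) (mem_centralizerIn.2 ⟨hgn c hcN, fun y hy => ?_⟩)
        obtain ⟨x, hx, rfl⟩ := hfn.mem_img.1 hy
        show g (χ x) * g c = g c * g (χ x)
        rw [← hg.map_mul (hle (mem_img_of_mem hx)) hcN, ← hg.map_mul hcN (hle (mem_img_of_mem hx)),
          hc'.2 _ (mem_img_of_mem hx)]
      obtain ⟨x, hx, hxe⟩ := hfn.mem_img.1 h1
      exact hg.inj (hle (mem_img_of_mem hx)) hcN hxe ▸ mem_img_of_mem hx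
    have hMF : M.IsSubsystemOf F := fun P φ hφ => normalizerSystem_sub hE P (normalizerSystem_sub hM P hφ)
    exact not_involves_of_model hS hF hfree hc hMF (normalizerSystem_normal hM hR'T) hG hinvG
  · -- enlarge
    set X := R' ⊔ (Q ⊓ Subgroup.normalizer (R' : Set Ω)) with hXdef
    have hlt : R' < X := by
      refine lt_of_le_of_ne le_sup_left fun e1 => hQR ?_
      by_contra hne
      have hlt : R' < R' ⊔ Q := lt_of_le_of_ne le_sup_left fun e2 => hne (e2 ▸ le_sup_right)
      obtain ⟨n, hn, hnN, hnR⟩ := exists_mem_normalizer_not_mem hES (sup_le hR'T hQT) hlt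
      have hnorm : R' ≤ Subgroup.normalizer (Q : Set Ω) := hR'T.trans inf_le_right
      rw [← SetLike.mem_coe, Subgroup.coe_mul_of_left_le_normalizer_right R' Q hnorm] at hn
      obtain ⟨r, hr, q, hq, rfl⟩ := Set.mem_mul.1 hn
      refine hnR (R'.mul_mem hr (e1 ▸ Subgroup.mem_sup_right ⟨hq, ?_⟩))
      have := (Subgroup.normalizer (R' : Set Ω)).mul_mem (Subgroup.inv_mem _ (Subgroup.le_normalizer hr)) hnN.2
      simpa using this
    have hXT : X ≤ normalizerIn S Q := sup_le hR'T (inf_le_left.trans hQT)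
    have hXN : X ≤ normalizerIn (normalizerIn S Q) R' :=
      sup_le (le_normalizerIn hR'T) (le_inf (inf_le_left.trans hQT) inf_le_right)
    have hXn : M.IsNormal X := by
      refine normal_iff_fn.2 ⟨hXN, fun P f hf => ?_⟩
      obtain ⟨hP, hm, g, hg, hge, hgi⟩ := (fn_normalizerSystem hM).1 hf
      obtain ⟨k, hk, hke, hki⟩ := (normal_iff_fn.1 hQE).2 _ g hg
      have hle : P ⊔ X ≤ P ⊔ R' ⊔ Q :=
        sup_le (le_sup_left.trans le_sup_left) (sup_le (le_sup_right.trans le_sup_left) (inf_le_left.trans le_sup_right))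
      have hkR : img k R' = R' := (img_congr fun x hx => hke x (Subgroup.mem_sup_right hx)).trans hgi
      have hkX : img k X = X := by
        refine (hk.mono (le_sup_right.trans hle)).img_eq_self fun x hx => ?_
        have hm1 : img k X ≤ X := by
          rw [hXdef, (hk.mono (le_sup_right.trans hle)).img_sup, hkR]
          refine sup_le_sup le_rfl (img_le fun q hq => ⟨hki.le (mem_img_of_mem hq.1), ?_⟩)
          exact (hk.map_normalizer (le_sup_right.trans le_sup_left) hkR (Subgroup.mem_sup_right hq.1) hq.2).2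
        exact hm1 (mem_img_of_mem hx)
      refine ⟨k, (fn_normalizerSystem hM).2 ⟨sup_le hP hXN, fun x hx => ?_, k, ?_, fun x _ => rfl, hkR⟩,
        fun x hx => ?_, hkX⟩
      · have : img k (P ⊔ X) ≤ normalizerIn (normalizerIn S Q) R' := by
          rw [(hk.mono hle).img_sup, hkX]
          refine sup_le (img_le fun y hy => ?_) hXN
          rw [hke y (Subgroup.mem_sup_left hy), hge y hy]
          exact hm y hy
        exact this (mem_img_of_mem hx)
      · exact hk.mono (sup_le hle (le_sup_right.trans le_sup_left))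
      · rw [hke x (Subgroup.mem_sup_left hx), hge x hx]
    have hcard : Nat.card R < Nat.card X := by
      rw [← isConj_card hRR']
      have := finite_of_le_base hXT
      exact card_lt_of_lt' hlt
    exact ih X hXT hcard (isCentric_mono hR'c le_sup_left hXT) M (normalizerSystem_sub hM) hXn ιG hG hinvG

omit [Finite S] in
/-- A realized system with a centric subgroup that is normal in the realizing group has a quotient of
that group as model. -/
theorem exists_quotient_model {G : Type*} [Group G] [Finite G] {ι : S →* G} (hι : F.IsRealizedBy ι)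
    (hT : ∃ TT : Sylow p G, (TT : Subgroup G) = ι.range) {R : Subgroup Ω} (hRS : R ≤ S)
    (hRn : ((R.subgroupOf S).map ι).Normal) (hRc : centralizerIn S R ≤ R) :
    ∃ (K : Subgroup G) (_ : K.Normal), F.IsModel p (G ⧸ K) ((QuotientGroup.mk' K).comp ι) := by
  obtain ⟨hinj, hreal⟩ := hι
  obtain ⟨TT, hTT⟩ := hT
  have : Finite S := Finite.of_injective ι hinj
  set R' := (R.subgroupOf S).map ι with hR'
  set C := Subgroup.centralizer (R' : Set G) with hC
  have hCn : C.Normal := by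
    refine ⟨fun c hc g => Subgroup.mem_centralizer_iff.2 fun r hr => ?_⟩
    have h1 := Subgroup.mem_centralizer_iff.1 hc _ (hRn.conj_mem r hr g⁻¹)
    simp only [inv_inv] at h1
    calc r * (g * c * g⁻¹) = g * (g⁻¹ * r * g * c) * g⁻¹ := by group
      _ = g * (c * (g⁻¹ * r * g)) * g⁻¹ := by rw [h1]
      _ = g * c * g⁻¹ * r := by group
  have hCT : ∀ s : S, ι s ∈ C → (s : Ω) ∈ R := fun s hs =>
    hRc (mem_centralizerIn.2 ⟨s.2, fun y hy => by
      have h1 := Subgroup.mem_centralizer_iff.1 hs (ι ⟨y, hRS hy⟩)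
        (Subgroup.mem_map_of_mem ι (show (⟨y, hRS hy⟩ : S) ∈ R.subgroupOf S from hy))
      rw [← map_mul, ← map_mul] at h1
      exact congrArg Subtype.val (hinj h1)⟩)
  let Z : Subgroup C := ((TT : Subgroup G) ⊓ C).subgroupOf C
  have hsyl : IsSylowIn p ((TT : Subgroup G) ⊓ C) C := isSylowIn_inter_normal (H := C) TT
  obtain ⟨ZT, hZT⟩ : ∃ P : Sylow p C, (P : Subgroup C) = Z := exists_sylow_iff inf_le_right |>.2 hsyl
  have hcentral : ∀ z ∈ (ZT : Subgroup C), ∀ c : C, z * c = c * z := fun z hz c => by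
    rw [hZT] at hz
    obtain ⟨s, hs⟩ := (hTT.le hz.1 : (z : G) ∈ ι.range)
    have hsR : (z : G) ∈ R' := hs ▸ Subgroup.mem_map_of_mem ι (show s ∈ R.subgroupOf S from hCT s (hs.symm ▸ z.2))
    exact Subtype.ext (Subgroup.mem_centralizer_iff.1 c.2 _ hsR)
  have hle : Subgroup.normalizer ((ZT : Subgroup C) : Set C) ≤ Subgroup.centralizer ((ZT : Subgroup C) : Set C) :=
    fun c _ => Subgroup.mem_centralizer_iff.2 fun z hz => hcentral z hz c
  let K' := (MonoidHom.transferSylow ZT hle).ker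
  have hK'p : ∀ k ∈ K', ∀ n, k ^ p ^ n = 1 → k = 1 := fun k hk n hkn => by
    have hd1 : orderOf k ∣ Nat.card K' := Subgroup.orderOf_dvd_natCard K' hk
    have hd2 := orderOf_dvd_of_pow_eq_one hkn
    exact orderOf_eq_one_iff.1 (Nat.eq_one_of_dvd_coprimes (((Fact.out : p.Prime).coprime_iff_not_dvd.2
      (MonoidHom.not_dvd_card_ker_transferSylow ZT hle)).pow_left n) hd2 hd1)
  let K := K'.map C.subtype
  have hKC : K ≤ C := Subgroup.map_subtype_le _
  have hKn : K.Normal := by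
    refine ⟨?_⟩
    rintro _ ⟨k, hk, rfl⟩ g
    refine ⟨⟨g * k * g⁻¹, hCn.conj_mem _ k.2 g⟩, ?_, rfl⟩
    show MonoidHom.transferSylow ZT hle _ = 1
    generalize hx : MonoidHom.transferSylow ZT hle ⟨g * k * g⁻¹, hCn.conj_mem _ k.2 g⟩ = x
    obtain ⟨n, hn⟩ := ZT.2 x
    have hkK : k ^ Nat.card K' = 1 := congrArg Subtype.val (pow_card_eq_one' (x := (⟨k, hk⟩ : K')))
    have hm : x ^ Nat.card K' = 1 := by
      rw [← hx, ← map_pow, show (⟨g * k * g⁻¹, hCn.conj_mem _ k.2 g⟩ : C) ^ Nat.card K' = 1 from Subtype.ext <| by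
        show (g * (k : G) * g⁻¹) ^ Nat.card K' = 1
        rw [conj_pow, show (k : G) ^ Nat.card K' = 1 from congrArg Subtype.val hkK, mul_one, mul_inv_cancel], map_one]
    exact orderOf_eq_one_iff.1 (Nat.eq_one_of_dvd_coprimes (((Fact.out : p.Prime).coprime_iff_not_dvd.2
      (MonoidHom.not_dvd_card_ker_transferSylow ZT hle)).pow_left n) (orderOf_dvd_of_pow_eq_one hn)
        (orderOf_dvd_of_pow_eq_one hm))
  have hKS : ∀ g ∈ K, g ∈ (TT : Subgroup G) → g = 1 := by
    rintro _ ⟨k, hk, rfl⟩ hkT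
    obtain ⟨n, hn⟩ := TT.2 ⟨_, hkT⟩
    rw [hK'p k hk n (Subtype.ext (congrArg Subtype.val hn :)), map_one]
  refine ⟨K, hKn, inferInstance, ⟨fun x y h => ?_, fun P hP φ hφS => ⟨fun hφ => ?_, ?_⟩⟩, ?_, ?_⟩
  · have h1 : ι (x⁻¹ * y) ∈ K := by
      rw [map_mul, map_inv]
      exact QuotientGroup.eq.1 h
    exact inv_mul_eq_one.1 ((injective_iff_map_eq_one _).1 hinj _ (hKS _ h1 (hTT.ge ⟨_, rfl⟩)))
  · obtain ⟨g, hg⟩ := (hreal P hP φ hφS).1 hφ
    exact ⟨QuotientGroup.mk' K g, fun x => by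
      rw [MonoidHom.comp_apply, MonoidHom.comp_apply, hg, map_mul, map_mul, map_inv]⟩
  · rintro ⟨γ, hγ⟩
    have hP' : (P.subgroupOf S).map ι ≤ (TT : Subgroup G) := hTT.ge.trans' (Subgroup.map_le_range _ _)
    obtain ⟨g, hg⟩ := exists_lift_conj TT K hP' γ (by
      rintro _ ⟨x, hx, rfl⟩
      exact ⟨ι ⟨φ ⟨x, hx⟩, hφS _⟩, hTT.ge ⟨_, rfl⟩, hγ ⟨x, hx⟩⟩)
    refine (hreal P hP φ hφS).2 ⟨g, fun x => ?_⟩
    obtain ⟨h1, h2⟩ := hg _ (Subgroup.mem_map_of_mem ι (show (⟨(x : Ω), hP x.2⟩ : S) ∈ P.subgroupOf S from x.2))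
    obtain ⟨s, hs⟩ := (hTT.le h1 : _ ∈ ι.range)
    have h3 : (QuotientGroup.mk' K) (ι s) = QuotientGroup.mk' K (ι ⟨φ x, hφS x⟩) := by
      rw [hs, h2]
      exact (hγ x).symm
    have h4 : ι (s⁻¹ * ⟨φ x, hφS x⟩) ∈ K := by
      rw [map_mul, map_inv]
      exact QuotientGroup.eq.1 h3
    rw [← hs, inv_mul_eq_one.1 ((injective_iff_map_eq_one _).1 hinj _ (hKS _ h4 (hTT.ge ⟨_, rfl⟩)))]
  · refine ⟨TT.mapSurjective (QuotientGroup.mk'_surjective K), ?_⟩
    rw [MonoidHom.range_comp, ← hTT]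
    rfl
  · have hRmap : (R'.map (QuotientGroup.mk' K)).Normal := hRn.map _ (QuotientGroup.mk'_surjective K)
    have hp : IsPGroup p (R'.map (QuotientGroup.mk' K)) :=
      (TT.2.to_le (hTT.ge.trans' (Subgroup.map_le_range _ _))).map _
    have hle' := LocalEven.SylowIn.le_pCore (hN := hRmap) hp
    intro γ hγ
    refine hle' ?_
    obtain ⟨g, rfl⟩ := QuotientGroup.mk'_surjective K γ
    have hgC : g ∈ C := Subgroup.mem_centralizer_iff.2 fun r hr => by
      have h1 := Subgroup.mem_centralizer_iff.1 hγ _ (hle' (Subgroup.mem_map_of_mem _ hr))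
      rw [← map_mul, ← map_mul] at h1
      have h2 : (r * g)⁻¹ * (g * r) ∈ K := QuotientGroup.eq.1 h1
      have h3 : (r * g)⁻¹ * (g * r) ∈ (TT : Subgroup G) := by
        have e : (r * g)⁻¹ * (g * r) = g⁻¹ * r⁻¹ * g * r := by group
        rw [e]
        refine hTT.ge.trans' (Subgroup.map_le_range ι (R.subgroupOf S)) ?_
        show g⁻¹ * r⁻¹ * g * r ∈ R'
        refine mul_mem ?_ hr
        have h4 := hRn.conj_mem _ (inv_mem hr) g⁻¹
        rwa [inv_inv] at h4
      exact inv_mul_eq_one.1 (hKS _ h2 h3)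
    have hcmp := MonoidHom.ker_transferSylow_isComplement' ZT hle
    obtain ⟨⟨⟨k, hk⟩, ⟨z, hz⟩⟩, hkz, -⟩ := hcmp.existsUnique ⟨g, hgC⟩
    obtain ⟨s, hs⟩ := (hTT.le ((hZT ▸ hz : z ∈ Z)).1 : (z : G) ∈ ι.range)
    have hzR : (z : G) ∈ R' := hs ▸ Subgroup.mem_map_of_mem ι (show s ∈ R.subgroupOf S from hCT s (hs.symm ▸ z.2))
    refine ⟨z, hzR, ?_⟩
    have hg2 : (k : G) * (z : G) = g := congrArg Subtype.val hkz
    rw [← hg2, map_mul, show QuotientGroup.mk' K (k : G) = 1 from (QuotientGroup.eq_one_iff _).2 ⟨k, hk, rfl⟩, one_mul]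

end CfsgLib.Fsys
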