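import Cfsg.Agent.Lib.FusionSystem.CentralIndex
import Mathlib.GroupTheory.Nilpotent
import Mathlib.GroupTheory.Commutator.Basic

/-! Saturated systems over `p`-groups with a unique abelian subgroup of index `p`: the essential subgroups. -/

set_option autoImplicit false
set_option linter.unusedSectionVars false

open Cfsg Cfsg.FusionSystem CfsgLib.Fsys.CentralIndex
open scoped commutatorElement

namespace CfsgLib.Fsys.AbelianIndexP

variable {Ω : Type*} [Group Ω] {S : Subgroup Ω} [Finite S] {p : ℕ} [hp : Fact p.Prime]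
  {F : FusionSystem S} {A P : Subgroup Ω} {x : Ω}

/-- `A` is the unique abelian subgroup of index `p` of the nonabelian group `S`. -/
structure Setup (p : ℕ) (F : FusionSystem S) (A : Subgroup Ω) : Prop where
  hS : IsPGroup p S
  hF : F.IsSaturated p
  le : A ≤ S
  comm : ∀ a ∈ A, ∀ b ∈ A, a * b = b * a
  idx : A.relIndex S = p
  uniq : ∀ B : Subgroup Ω, B ≤ S → IsMulCommutative B → B.relIndex S = p → B = A
  nonab : ∃ u ∈ S, ∃ v ∈ S, u * v ≠ v * u

theorem setup_of_hyps (hS : IsPGroup p S) (hF : F.IsSaturated p) (hna : ¬ IsMulCommutative ↥S)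
    (hA : A ≤ S ∧ IsMulCommutative ↥A ∧ (A.subgroupOf S).index = p)
    (huniq : ∀ B : Subgroup Ω, B ≤ S → IsMulCommutative ↥B → (B.subgroupOf S).index = p → B = A) :
    Setup p F A := by
  refine ⟨hS, hF, hA.1, fun a ha b hb => ?_, hA.2.2, huniq, ?_⟩
  · haveI := hA.2.1
    exact congrArg Subtype.val (mul_comm' (⟨a, ha⟩ : A) ⟨b, hb⟩)
  · by_contra hh
    push Not at hh
    exact hna ⟨⟨fun u v => Subtype.ext (hh u u.2 v v.2)⟩⟩

theorem Setup.normal (h : Setup p F A) : (A.subgroupOf S).Normal := by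
  have hp := hp.out
  have hidx : (A.subgroupOf S).index = p := h.idx
  have hlt : A.subgroupOf S < ⊤ := lt_top_iff_ne_top.2 fun e => hp.ne_one (by rw [← hidx, e, Subgroup.index_top])
  have hN := normalizerCondition_of_isNilpotent (h := h.hS.isNilpotent) _ hlt
  rw [← Subgroup.normalizer_eq_top_iff, ← Subgroup.index_eq_one]
  have hmul := Subgroup.relIndex_mul_index hN.le
  rw [hidx] at hmul
  rcases (Nat.dvd_prime hp).1 ⟨_, hmul.symm⟩ with h1 | h1
  · exact absurd (Subgroup.relIndex_eq_one.1 h1) hN.not_ge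
  · rw [h1] at hmul
    exact Nat.eq_of_mul_eq_mul_left hp.pos (by rw [hmul, mul_one])

theorem Setup.conj_mem (h : Setup p F A) {s a : Ω} (hs : s ∈ S) (ha : a ∈ A) : s * a * s⁻¹ ∈ A :=
  h.normal.conj_mem (⟨a, h.le ha⟩ : S) ha ⟨s, hs⟩

theorem Setup.conj_mem' (h : Setup p F A) {s a : Ω} (hs : s ∈ S) (ha : a ∈ A) : s⁻¹ * a * s ∈ A := by
  simpa using h.conj_mem (S.inv_mem hs) ha

theorem Setup.pow_mem (h : Setup p F A) {s : Ω} (hs : s ∈ S) : s ^ p ∈ A := by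
  haveI := h.normal
  have := Subgroup.pow_index_mem (A.subgroupOf S) (⟨s, hs⟩ : S)
  rw [show (A.subgroupOf S).index = p from h.idx] at this
  exact this

theorem Setup.exists_not_mem (h : Setup p F A) : ∃ x ∈ S, x ∉ A := by
  by_contra hh
  push Not at hh
  obtain ⟨u, hu, v, hv, huv⟩ := h.nonab
  exact huv (h.comm u (hh u hu) v (hh v hv))

theorem Setup.decomp (h : Setup p F A) (hx : x ∈ S) (hxA : x ∉ A) {s : Ω} (hs : s ∈ S) :
    ∃ a ∈ A, ∃ j : ℤ, s = a * x ^ j := by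
  haveI := h.normal
  have hp := hp.out
  set K := A.subgroupOf S ⊔ Subgroup.zpowers (⟨x, hx⟩ : S) with hK
  have hle : A.subgroupOf S ≤ K := le_sup_left
  have hmul := Subgroup.relIndex_mul_index hle
  rw [show (A.subgroupOf S).index = p from h.idx] at hmul
  have htop : K = ⊤ := by
    rw [← Subgroup.index_eq_one]
    rcases (Nat.dvd_prime hp).1 ⟨_, hmul.symm⟩ with h1 | h1
    · exact absurd (Subgroup.relIndex_eq_one.1 h1 (Subgroup.mem_sup_right (Subgroup.mem_zpowers _))) hxA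
    · rw [h1] at hmul
      exact Nat.eq_of_mul_eq_mul_left hp.pos (by rw [hmul, mul_one])
  have hm : (⟨s, hs⟩ : S) ∈ K := htop ▸ Subgroup.mem_top _
  obtain ⟨a, ha, b, hb, e⟩ := Subgroup.mem_sup_of_normal_left.1 hm
  obtain ⟨j, rfl⟩ := Subgroup.mem_zpowers_iff.1 hb
  exact ⟨a, ha, j, by simpa using (congrArg Subtype.val e).symm⟩

theorem Setup.not_mem_pow (h : Setup p F A) (hx : x ∈ S) (hxA : x ∉ A) {j : ℤ} (hj : x ^ j ∈ A) :
    (p : ℤ) ∣ j := by
  by_contra hnd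
  obtain ⟨u, v, huv⟩ := ((Nat.prime_iff_prime_int.1 hp.out).coprime_iff_not_dvd).2 hnd
  refine hxA ?_
  rw [← zpow_one x, ← huv, zpow_add, mul_comm u, zpow_mul, mul_comm v, zpow_mul, zpow_natCast]
  exact A.mul_mem (A.zpow_mem (h.pow_mem hx) u) (A.zpow_mem hj v)

theorem Setup.zpow_mem (h : Setup p F A) (hx : x ∈ S) {j : ℤ} (hj : (p : ℤ) ∣ j) : x ^ j ∈ A := by
  obtain ⟨k, rfl⟩ := hj
  rw [zpow_mul, zpow_natCast]
  exact A.zpow_mem (h.pow_mem hx) k

/-- The centre of `S` lies in `A`. -/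
theorem Setup.Zc_le (h : Setup p F A) : Zc S ≤ A := by
  intro z hz
  by_contra hzA
  obtain ⟨u, hu, v, hv, huv⟩ := h.nonab
  obtain ⟨a, ha, i, rfl⟩ := h.decomp (mem_Zc.1 hz).1 hzA hu
  obtain ⟨b, hb, j, rfl⟩ := h.decomp (mem_Zc.1 hz).1 hzA hv
  have hc : ∀ s ∈ S, ∀ k : ℤ, Commute (z ^ k) s := fun s hs k =>
    (show Commute z s from ((mem_Zc.1 hz).2 s hs).symm).zpow_left k
  refine huv (Commute.eq ?_)
  exact ((show Commute a b from h.comm a ha b hb).mul_right (hc a (h.le ha) j).symm).mul_left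
    ((hc b (h.le hb) i).mul_right (Commute.zpow_zpow_self z i j))

theorem Setup.Zc_le_S : Zc S ≤ S := fun _ hz => (mem_Zc.1 hz).1

theorem Setup.mem_Zc_of_commute (h : Setup p F A) (hx : x ∈ S) (hxA : x ∉ A) {a : Ω} (ha : a ∈ A)
    (hc : x * a = a * x) : a ∈ Zc S := by
  refine mem_Zc.2 ⟨h.le ha, fun s hs => ?_⟩
  obtain ⟨b, hb, j, rfl⟩ := h.decomp hx hxA hs
  exact ((show Commute b a from h.comm b hb a ha).mul_left ((show Commute x a from hc).zpow_left j)).eq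

theorem Setup.pow_mem_Zc (h : Setup p F A) (hx : x ∈ S) (hxA : x ∉ A) : x ^ p ∈ Zc S :=
  h.mem_Zc_of_commute hx hxA (h.pow_mem hx) (by rw [← pow_succ', pow_succ])

theorem Setup.comm_mem (h : Setup p F A) {a s : Ω} (hs : s ∈ S) (ha : a ∈ A) : ⁅s, a⁆ ∈ A :=
  A.mul_mem (h.conj_mem hs ha) (A.inv_mem ha)

theorem Setup.comm_mem_Zc_iff (h : Setup p F A) (hx : x ∈ S) {a : Ω} (ha : a ∈ A) (hxA : x ∉ A) :
    (∀ s ∈ S, ⁅s, a⁆ ∈ Zc S) ↔ ⁅x, a⁆ ∈ Zc S := by
  refine ⟨fun H => H x hx, fun hc s hs => ?_⟩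
  obtain ⟨b, hb, j, rfl⟩ := h.decomp hx hxA hs
  have he : MulAut.conj x a = a * ⁅x, a⁆ := by
    rw [MulAut.conj_apply, (mem_Zc.1 hc).2 a (h.le ha), commutatorElement_def, inv_mul_cancel_right]
  have hfix : MulAut.conj x ⁅x, a⁆ = ⁅x, a⁆ := by
    rw [MulAut.conj_apply, (mem_Zc.1 hc).2 x hx, mul_inv_cancel_right]
  have hj := shift_zpow he hfix j
  rw [← map_zpow, MulAut.conj_apply] at hj
  have hcj := (Zc S).zpow_mem hc j
  have h1 : b * a * b⁻¹ = a := by rw [h.comm b hb a ha, mul_inv_cancel_right]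
  have h2 : ⁅b * x ^ j, a⁆ = ⁅x, a⁆ ^ j := by
    rw [commutatorElement_def, show b * x ^ j * a * (b * x ^ j)⁻¹ = b * (x ^ j * a * (x ^ j)⁻¹) * b⁻¹ by group,
      hj, show b * (a * ⁅x, a⁆ ^ j) * b⁻¹ = b * a * b⁻¹ * (b * ⁅x, a⁆ ^ j * b⁻¹) by group, h1,
      (mem_Zc.1 hcj).2 b (h.le hb), mul_inv_cancel_right, (mem_Zc.1 hcj).2 a (h.le ha), mul_inv_cancel_right]
  rw [h2]
  exact hcj

/-! ### The endomorphism `a ↦ ⁅x, a⁆` of `A` and the kernels of its powers -/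

/-- `a ↦ ⁅x, a⁆` as an endomorphism of `A`. -/
def phi (h : Setup p F A) (hx : x ∈ S) : A →* A :=
  MonoidHom.mk' (fun a => ⟨⁅x, (a : Ω)⁆, h.comm_mem hx a.2⟩) fun a b => Subtype.ext (by
    have e1 : (a : Ω) * ⁅x, (b : Ω)⁆ * (a : Ω)⁻¹ = ⁅x, (b : Ω)⁆ := by
      rw [h.comm _ a.2 _ (h.comm_mem hx b.2), mul_inv_cancel_right]
    show ⁅x, (a : Ω) * b⁆ = ⁅x, (a : Ω)⁆ * ⁅x, (b : Ω)⁆
    rw [commutatorElement_def, commutatorElement_def] at *
    calc x * ((a : Ω) * b) * x⁻¹ * ((a : Ω) * b)⁻¹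
        = x * a * x⁻¹ * (a : Ω)⁻¹ * ((a : Ω) * (x * b * x⁻¹ * (b : Ω)⁻¹) * (a : Ω)⁻¹) := by group
      _ = x * a * x⁻¹ * (a : Ω)⁻¹ * (x * b * x⁻¹ * (b : Ω)⁻¹) := by rw [e1])

@[simp] theorem phi_coe (h : Setup p F A) (hx : x ∈ S) (a : A) : ((phi h hx a : A) : Ω) = ⁅x, (a : Ω)⁆ := rfl

/-- The kernel of the `k`th power of `phi`. -/
def ker (h : Setup p F A) (hx : x ∈ S) : ℕ → Subgroup A
  | 0 => ⊥
  | k + 1 => (ker h hx k).comap (phi h hx)

theorem mem_ker_succ (h : Setup p F A) (hx : x ∈ S) {k : ℕ} {a : A} :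
    a ∈ ker h hx (k + 1) ↔ phi h hx a ∈ ker h hx k := Iff.rfl

theorem ker_mono (h : Setup p F A) (hx : x ∈ S) : ∀ k, ker h hx k ≤ ker h hx (k + 1)
  | 0 => bot_le
  | k + 1 => Subgroup.comap_mono (ker_mono h hx k)

theorem mem_ker_one (h : Setup p F A) (hx : x ∈ S) (hxA : x ∉ A) {a : A} :
    a ∈ ker h hx 1 ↔ (a : Ω) ∈ Zc S := by
  rw [mem_ker_succ, ker, Subgroup.mem_bot, Subtype.ext_iff, phi_coe, Subgroup.coe_one,
    commutatorElement_eq_one_iff_mul_comm]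
  exact ⟨h.mem_Zc_of_commute hx hxA a.2, fun hz => (mem_Zc.1 hz).2 x hx⟩

theorem mem_ker_two (h : Setup p F A) (hx : x ∈ S) (hxA : x ∉ A) {a : A} :
    a ∈ ker h hx 2 ↔ ⁅x, (a : Ω)⁆ ∈ Zc S := by
  rw [mem_ker_succ, mem_ker_one h hx hxA, phi_coe]

theorem finite_A (h : Setup p F A) : Finite A := finite_of_le_base h.le

theorem relIndex_ker_succ_le (h : Setup p F A) (hx : x ∈ S) (k : ℕ) :
    (ker h hx (k + 1)).relIndex (ker h hx (k + 2)) ≤ (ker h hx k).relIndex (ker h hx (k + 1)) := by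
  haveI := finite_A h
  rw [show ker h hx (k + 1) = (ker h hx k).comap (phi h hx) from rfl, Subgroup.relIndex_comap]
  exact Subgroup.relIndex_le_of_le_right (Subgroup.map_comap_le _ _) Subgroup.index_ne_zero_of_finite

theorem relIndex_ker_le (h : Setup p F A) (hx : x ∈ S) {q : ℕ}
    (h2 : (ker h hx 1).relIndex (ker h hx 2) ≤ q) :
    ∀ k, (ker h hx (k + 1)).relIndex (ker h hx (k + 2)) ≤ q
  | 0 => h2
  | k + 1 => (relIndex_ker_succ_le h hx (k + 1)).trans (relIndex_ker_le h hx h2 k)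

theorem card_ker_le (h : Setup p F A) (hx : x ∈ S) {q : ℕ}
    (h2 : (ker h hx 1).relIndex (ker h hx 2) ≤ q) :
    ∀ k, Nat.card (ker h hx (k + 1)) ≤ Nat.card (ker h hx 1) * q ^ k
  | 0 => by simp
  | k + 1 => by
    rw [← Subgroup.relIndex_bot_left (H := ker h hx (k + 1 + 1)),
      ← Subgroup.relIndex_mul_relIndex ⊥ (ker h hx (k + 1)) _ bot_le (ker_mono h hx (k + 1)),
      Subgroup.relIndex_bot_left, pow_succ, ← mul_assoc]
    exact Nat.mul_le_mul (card_ker_le h hx h2 k) (relIndex_ker_le h hx h2 k)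

theorem card_eq_mul_card_inf (h : Setup p F A) {Q : Subgroup Ω} (hQ : Q ≤ S) (hQA : ¬ Q ≤ A) :
    Nat.card Q = p * Nat.card (Q.subgroupOf A) := by
  haveI := finite_of_le_base hQ
  haveI := h.normal
  have hrel : A.relIndex Q = p := by
    have h1 : A.relIndex Q ∣ A.relIndex S := by
      haveI : ((A.subgroupOf S).subgroupOf (Q.subgroupOf S)).Normal := inferInstance
      have := Subgroup.relIndex_dvd_index_of_normal (A.subgroupOf S) (Q.subgroupOf S)
      rwa [Subgroup.relIndex_subgroupOf hQ] at this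
    rw [h.idx] at h1
    exact ((Nat.dvd_prime hp.out).1 h1).resolve_left fun e => hQA (Subgroup.relIndex_eq_one.1 e)
  have h2 := Subgroup.card_mul_index (A.subgroupOf Q)
  rw [show (A.subgroupOf Q).index = p from hrel] at h2
  have h3 : Nat.card (A.subgroupOf Q) = Nat.card (Q.subgroupOf A) := by
    rw [← Subgroup.inf_subgroupOf_right A Q, ← Subgroup.inf_subgroupOf_right Q A,
      Nat.card_congr (Subgroup.subgroupOfEquivOfLe inf_le_right).toEquiv,
      Nat.card_congr (Subgroup.subgroupOfEquivOfLe inf_le_right).toEquiv, inf_comm]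
  rw [← h2, h3, mul_comm]

/-! ### The derived subgroup and the lower central series -/

theorem comm_mem_lcs (h : Setup p F A) {i : ℕ} {s a : Ω} (hs : s ∈ S) (ha : a ∈ S.lowerCentralSeries i) :
    ⁅s, a⁆ ∈ S.lowerCentralSeries (i + 1) := by
  rw [Subgroup.lowerCentralSeries_succ, ← commutatorElement_inv a s]
  exact Subgroup.inv_mem _ (Subgroup.commutator_mem_commutator ha hs)

theorem mem_derived_iff (h : Setup p F A) (hx : x ∈ S) (hxA : x ∉ A) {c : Ω} :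
    c ∈ (commutator ↥S).map S.subtype ↔ ∃ a : A, ((phi h hx a : A) : Ω) = c := by
  constructor
  · intro hc
    set M : Subgroup Ω := (phi h hx).range.map A.subtype with hM
    have hMmem : ∀ c, c ∈ M ↔ ∃ a : A, ((phi h hx a : A) : Ω) = c := fun c =>
      ⟨fun ⟨_, ⟨a, e⟩, ec⟩ => ⟨a, by rw [e]; exact ec⟩, fun ⟨a, e⟩ => ⟨_, ⟨a, rfl⟩, e⟩⟩
    have hcx : ∀ c ∈ M, x * c * x⁻¹ ∈ M := by
      intro c hc
      obtain ⟨a, rfl⟩ := (hMmem c).1 hc
      refine (hMmem _).2 ⟨⟨x * a * x⁻¹, h.conj_mem hx a.2⟩, ?_⟩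
      simp [commutatorElement_def, mul_assoc]
    haveI hMn : (M.subgroupOf S).Normal := ⟨fun c hc s => by
      obtain ⟨b, hb, j, hs⟩ := h.decomp hx hxA s.2
      show (s : Ω) * (c : Ω) * (s : Ω)⁻¹ ∈ M
      have hcA : ∀ d ∈ M, d ∈ A := fun d hd => by
        obtain ⟨a, rfl⟩ := (hMmem d).1 hd
        exact (phi h hx a).2
      have hxj : x ^ j * (c : Ω) * (x ^ j)⁻¹ ∈ M := by
        haveI : Finite M := finite_of_le_base fun d hd => h.le (hcA d hd)
        have hxN : x ∈ Subgroup.normalizer (M : Set Ω) := mem_normalizer_of_map_le hcx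
        exact (Subgroup.mem_normalizer_iff.1 (Subgroup.zpow_mem _ hxN j) _).1 hc
      rw [hs, show b * x ^ j * (c : Ω) * (b * x ^ j)⁻¹ = b * (x ^ j * (c : Ω) * (x ^ j)⁻¹) * b⁻¹ by group,
        h.comm b hb _ (hcA _ hxj), mul_inv_cancel_right]
      exact hxj⟩
    refine (hMmem c).1 ?_
    obtain ⟨d, hd, rfl⟩ := hc
    suffices hle : commutator ↥S ≤ M.subgroupOf S from hle hd
    rw [commutator_def, Subgroup.commutator_le]
    intro u _ v _
    rw [← QuotientGroup.eq_one_iff]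
    show QuotientGroup.mk' _ ⁅u, v⁆ = 1
    rw [map_commutatorElement, commutatorElement_eq_one_iff_mul_comm]
    have hgen : ∀ w : S, ∃ (b : S) (j : ℤ), (b : Ω) ∈ A ∧ w = b * (⟨x, hx⟩ : S) ^ j := fun w => by
      obtain ⟨b, hb, j, e⟩ := h.decomp hx hxA w.2
      exact ⟨⟨b, h.le hb⟩, j, hb, Subtype.ext (by simpa using e)⟩
    have hba : ∀ b : S, (b : Ω) ∈ A →
        Commute (QuotientGroup.mk' (M.subgroupOf S) ⟨x, hx⟩) (QuotientGroup.mk' (M.subgroupOf S) b) := by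
      intro b hb
      rw [Commute, SemiconjBy, ← commutatorElement_eq_one_iff_mul_comm, ← map_commutatorElement]
      exact (QuotientGroup.eq_one_iff _).2 ((hMmem _).2 ⟨⟨b, hb⟩, rfl⟩)
    obtain ⟨b₁, j₁, hb₁, rfl⟩ := hgen u
    obtain ⟨b₂, j₂, hb₂, rfl⟩ := hgen v
    have hbb : Commute (QuotientGroup.mk' (M.subgroupOf S) b₁) (QuotientGroup.mk' (M.subgroupOf S) b₂) :=
      (show Commute b₁ b₂ from Subtype.ext (h.comm _ hb₁ _ hb₂)).map _
    simp only [map_mul, map_zpow]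
    exact ((hbb.mul_right ((hba b₁ hb₁).symm.zpow_right j₂)).mul_left
      (((hba b₂ hb₂).zpow_left j₁).mul_right (Commute.zpow_zpow_self _ j₁ j₂))).eq
  · rintro ⟨a, rfl⟩
    exact ⟨⁅(⟨x, hx⟩ : S), ⟨a, h.le a.2⟩⁆,
      Subgroup.commutator_mem_commutator (Subgroup.mem_top _) (Subgroup.mem_top _), rfl⟩

theorem ker_eq_top_of_lcs (h : Setup p F A) (hx : x ∈ S) (hxA : x ∉ A) {k : ℕ}
    (hk : S.lowerCentralSeries k ≤ Zc S) : ker h hx (k + 1) = ⊤ := by
  have key : ∀ j i : ℕ, i + j = k → ∀ a : A, (a : Ω) ∈ S.lowerCentralSeries i → a ∈ ker h hx (j + 1) := by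
    intro j
    induction j with
    | zero => exact fun i hi a ha => (mem_ker_one h hx hxA).2 (hk (by simpa [← hi] using ha))
    | succ j ih =>
      exact fun i hi a ha => (mem_ker_succ h hx).2
        (ih (i + 1) (by omega) _ (by rw [phi_coe]; exact comm_mem_lcs h hx ha))
  refine eq_top_iff.2 fun a _ => key k 0 (by omega) a ?_
  rw [Subgroup.lowerCentralSeries_zero]
  exact h.le a.2

/-- The second centre, inside the ambient group. -/
theorem mem_secondCentre {y : Ω} :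
    y ∈ (Subgroup.upperCentralSeries ↥S 2).map S.subtype ↔ y ∈ S ∧ ∀ s ∈ S, ⁅s, y⁆ ∈ Zc S := by
  constructor
  · rintro ⟨y, hy, rfl⟩
    refine ⟨y.2, fun s hs => ?_⟩
    have h1 := (Subgroup.mem_upperCentralSeries_succ_iff (n := 1)).1 hy ⟨s, hs⟩
    rw [Subgroup.upperCentralSeries_one] at h1
    have := (mem_Zc_iff_center (S := S)).2 ((Subgroup.center ↥S).inv_mem h1)
    simpa [commutatorElement_def, mul_assoc] using this
  · rintro ⟨hy, h⟩
    refine ⟨⟨y, hy⟩, (Subgroup.mem_upperCentralSeries_succ_iff (n := 1)).2 fun s => ?_, rfl⟩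
    rw [Subgroup.upperCentralSeries_one, ← Subgroup.inv_mem_iff, ← mem_Zc_iff_center]
    simpa [commutatorElement_def, mul_assoc] using h s s.2

end CfsgLib.Fsys.AbelianIndexP
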