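import Cfsg.Agent.Lib.FusionSystem.AbelianIndexPEssential

/-! The part of the centre fixed by the systems with a unique abelian subgroup of index `p`. -/

set_option autoImplicit false
set_option linter.unusedSectionVars false

open Cfsg Cfsg.FusionSystem CfsgLib.Fsys.CentralIndex
open scoped commutatorElement

namespace CfsgLib.Fsys.AbelianIndexP

variable {Ω : Type*} [Group Ω] {S : Subgroup Ω} [Finite S] {p : ℕ} [hp : Fact p.Prime]
  {F : FusionSystem S} {A P : Subgroup Ω} {x e : Ω}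

theorem Zc_fullyNormalized : F.IsFullyNormalized (Zc S) := by
  haveI : Finite (normalizerIn S (Zc S)) := finite_of_le_base normalizerIn_le
  refine ⟨fun _ hz => (mem_Zc.1 hz).1, fun Q _ => Subgroup.card_le_of_le (fun s hs => ⟨hs.1, ?_⟩)⟩
  haveI := finite_of_le_base (S := S) (P := Zc S) fun _ hz => (mem_Zc.1 hz).1
  refine mem_normalizer_of_map_le fun z hz => ?_
  rw [(mem_Zc.1 hz).2 s hs.1, mul_inv_cancel_right]
  exact hz

theorem coprime_autGroup_Zc (hS : IsPGroup p S) (hF : F.IsSaturated p) (α : F.autGroup (Zc S)) :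
    (orderOf α).Coprime p := by
  haveI := finite_of_le_base (S := S) (P := Zc S) fun _ hz => (mem_Zc.1 hz).1
  obtain ⟨-, R, hR⟩ := (fullyNormalized_good hS hF (Zc_fullyNormalized (F := F))).1
  have hR1 : (R : Subgroup (F.autGroup (Zc S))) = ⊥ := by
    rw [hR, eq_bot_iff]
    intro β hβ
    obtain ⟨g, hg, hgβ⟩ := mem_autInducedBy.1 (Subgroup.mem_subgroupOf.1 hβ)
    refine Subtype.ext (MulEquiv.ext fun z => Subtype.ext ?_)
    rw [hgβ, (mem_Zc.1 z.2).2 g hg, mul_inv_cancel_right]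
    rfl
  refine (hp.out.coprime_iff_not_dvd.2 fun hdvd => ?_).symm
  have := R.not_dvd_index
  rw [hR1, Subgroup.index_bot] at this
  exact this (hdvd.trans (orderOf_dvd_natCard α))

/-- A map on the centre inverting `e` and trivial modulo `e`. -/
structure InvMap (F : FusionSystem S) (e : Ω) (g : Ω → Ω) : Prop where
  fn : Fn F (Zc S) g
  mem : ∀ z ∈ Zc S, g z ∈ Zc S
  inv : g e = e⁻¹
  shift : ∀ z ∈ Zc S, z⁻¹ * g z ∈ Subgroup.zpowers e

theorem InvMap.agree (hS : IsPGroup p S) (hF : F.IsSaturated p) (he : e ∈ Zc S) (hep : e ^ p = 1)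
    {g₁ g₂ : Ω → Ω} (h₁ : InvMap F e g₁) (h₂ : InvMap F e g₂) {z : Ω} (hz : z ∈ Zc S) : g₁ z = g₂ z := by
  obtain ⟨α₁, hα₁, e₁⟩ := exists_aut_of_fn h₁.fn (h₁.fn.img_eq_self h₁.mem)
  obtain ⟨α₂, hα₂, e₂⟩ := exists_aut_of_fn h₂.fn (h₂.fn.img_eq_self h₂.mem)
  let eZ : Zc S := ⟨e, he⟩
  let zZ : Zc S := ⟨z, hz⟩
  obtain ⟨i, hi⟩ := Subgroup.mem_zpowers_iff.1 (h₁.shift z hz)
  obtain ⟨j, hj⟩ := Subgroup.mem_zpowers_iff.1 (h₂.shift z hz)
  have a₁e : α₁ eZ = eZ⁻¹ := Subtype.ext ((e₁ eZ).trans h₁.inv)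
  have a₂e : α₂ eZ = eZ⁻¹ := Subtype.ext ((e₂ eZ).trans h₂.inv)
  have a₁z : α₁ zZ = zZ * eZ ^ i := Subtype.ext (by
    rw [e₁]; simp only [Subgroup.coe_mul, SubgroupClass.coe_zpow, eZ, zZ, hi, mul_inv_cancel_left])
  have a₂z : α₂ zZ = zZ * eZ ^ j := Subtype.ext (by
    rw [e₂]; simp only [Subgroup.coe_mul, SubgroupClass.coe_zpow, eZ, zZ, hj, mul_inv_cancel_left])
  set δ : MulAut (Zc S) := α₁⁻¹ * α₂ with hδ
  have hδA : δ ∈ F.autGroup (Zc S) := (F.autGroup _).mul_mem ((F.autGroup _).inv_mem hα₁) hα₂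
  have hδe : δ eZ = eZ := α₁.injective (by
    rw [hδ, MulAut.mul_apply, MulAut.apply_inv_self, a₂e, a₁e])
  have hδz : δ zZ = zZ * eZ ^ (i - j) := α₁.injective (by
    rw [hδ, MulAut.mul_apply, MulAut.apply_inv_self, a₂z, map_mul, map_zpow, a₁z, a₁e, inv_zpow',
      mul_assoc, ← zpow_add, show i + -(i - j) = j by ring])
  obtain ⟨k, hk⟩ : ∃ k : ℕ, (δ ^ p) ^ k = δ := by
    obtain ⟨k, hk⟩ := exists_pow_eq_self_of_coprime (coprime_autGroup_Zc hS hF ⟨δ, hδA⟩).symm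
    exact ⟨k, by simpa using congrArg Subtype.val hk⟩
  have hp0 := shift_zpow hδz (by rw [map_zpow, hδe]) (p : ℤ)
  rw [zpow_natCast, ← zpow_mul, mul_comm, zpow_mul, zpow_natCast,
    show eZ ^ p = 1 from Subtype.ext (by simpa [eZ] using hep), one_zpow, mul_one] at hp0
  have hfix : δ zZ = zZ := by
    rw [← hk]
    exact pow_mem (show δ ^ p ∈ MulAction.stabilizer (MulAut (Zc S)) zZ from hp0) k
  rw [hδ, MulAut.mul_apply] at hfix
  have h5 : α₂ zZ = α₁ zZ := by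
    have := congrArg α₁ hfix
    rwa [MulAut.apply_inv_self] at this
  have := congrArg Subtype.val h5
  rw [e₁, e₂] at this
  exact this.symm

namespace AbCase

variable {h : Setup p F A} (d : AbCase h P x)
include d

/-- The image of a generator of `Z(S) ⊓ [S, S]` under an automorphism moving the centre is not central. -/
theorem notMem_image (g : Gen h d.hxS e) {α : MulAut P} (hα : α ∈ F.autGroup P)
    (hmov : ∃ z : P, (z : Ω) ∈ Zc S ∧ ((α z : P) : Ω) ∉ Zc S) :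
    ((α⁻¹ ⟨e, Zc_le_essential d.ess g.mem⟩ : P) : Ω) ∉ Zc S := by
  intro hin
  obtain ⟨z, hz, hzα⟩ := hmov
  obtain ⟨a, hae⟩ := g.rep
  rw [phi_coe] at hae
  have haZ : ⁅x, (a : Ω)⁆ ∈ Zc S := hae ▸ g.mem
  have hane : ⁅x, (a : Ω)⁆ ≠ 1 := hae ▸ g.ne
  obtain ⟨τ, hτ, hτc⟩ := d.T_of a haZ
  set eP : P := ⟨e, Zc_le_essential d.ess g.mem⟩ with hePdef
  have hcP : (⟨⁅x, (a : Ω)⁆, Zc_le_essential d.ess haZ⟩ : P) = eP := Subtype.ext hae
  set β := α * τ * α⁻¹ with hβdef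
  have hτA := autInducedBy_le_autGroup (F := F) d.ess.1.1 hτ
  have hβA : β ∈ F.autGroup P :=
    (F.autGroup P).mul_mem ((F.autGroup P).mul_mem hα hτA) ((F.autGroup P).inv_mem hα)
  have hβe : β eP = eP := by
    rw [hβdef, MulAut.mul_apply, MulAut.mul_apply, d.fix_Zc hτ hin, MulAut.apply_inv_self]
  have hβie : β⁻¹ eP = eP := by
    conv_lhs => rw [← hβe, MulAut.inv_apply_self]
  have hτp : τ ^ p = 1 := by
    refine MulEquiv.ext fun v => ?_
    obtain ⟨j, hj, -⟩ := d.shift haZ hτc v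
    have := shift_zpow hj (by rw [map_zpow, d.fix_Zc hτ haZ]) (p : ℤ)
    rw [zpow_natCast, ← zpow_mul, mul_comm, zpow_mul, zpow_natCast,
      show (⟨⁅x, (a : Ω)⁆, Zc_le_essential d.ess haZ⟩ : P) ^ p = 1 from
        Subtype.ext (by simpa using d.pow_comm a.2 haZ), one_zpow, mul_one] at this
    exact this
  have hβp : β ^ (p ^ 1) = 1 := by rw [pow_one, hβdef, conj_pow, hτp, mul_one, mul_inv_cancel]
  -- every element of `Aut_S(P)` is a power of `τ`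
  have hgen : ∀ σ ∈ autInducedBy S P, σ ∈ Subgroup.zpowers τ := by
    intro σ hσ
    obtain ⟨b, hb, hσc⟩ := d.T_data hσ
    obtain ⟨i, hi⟩ := Subgroup.mem_zpowers_iff.1 (g.gen b (by rw [phi_coe]; exact hb))
    rw [phi_coe, ← hae] at hi
    refine Subgroup.mem_zpowers_iff.2 ⟨i, MulEquiv.ext fun v => Subtype.ext ?_⟩
    obtain ⟨c, hc, hcP', j, e'⟩ := decomp_in h d.ess d.mem d.notMem v.2
    have h1 : τ v = v * (⟨⁅x, (a : Ω)⁆, Zc_le_essential d.ess haZ⟩ : P) ^ (-j) := Subtype.ext (by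
      rw [hτc, Subgroup.coe_mul, SubgroupClass.coe_zpow, e', d.conj_eq a.2 haZ hc, zpow_neg])
    rw [shift_zpow h1 (by rw [map_zpow, d.fix_Zc hτ haZ]) i, hσc, Subgroup.coe_mul,
      SubgroupClass.coe_zpow, SubgroupClass.coe_zpow, e', d.conj_eq b.2 hb hc, ← hi, ← zpow_mul,
      ← zpow_mul, ← zpow_neg, neg_mul, mul_comm j i]
  have hnorm : ∀ (γ σ : MulAut P), γ * τ * γ⁻¹ ∈ autInducedBy S P → σ ∈ autInducedBy S P →
      γ * σ * γ⁻¹ ∈ autInducedBy S P := by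
    intro γ σ hγ hσ
    obtain ⟨i, rfl⟩ := Subgroup.mem_zpowers_iff.1 (hgen σ hσ)
    rw [← conj_zpow]
    exact (autInducedBy S P).zpow_mem hγ i
  have hcomm : Commute τ (β * τ * β⁻¹) :=
    d.commute_conj hτ hτ haZ haZ hτc hτc (by rw [hcP, hβie]; exact g.mem) (by rw [hcP, hβe]; exact g.mem)
  have hτ'A := (F.autGroup P).mul_mem ((F.autGroup P).mul_mem hβA hτA) ((F.autGroup P).inv_mem hβA)
  have h1 : β * τ * β⁻¹ ∈ autInducedBy S P := by
    refine mem_autInducedBy_of_normalizes h.hS h.hF d.ess.2.1 hτ'A (k := 1)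
      (by rw [pow_one, conj_pow, hτp, mul_one, mul_inv_cancel]) fun σ hσ => hnorm _ σ ?_ hσ
    rwa [← hcomm.eq, mul_inv_cancel_right]
  have h2 : β ∈ autInducedBy S P :=
    mem_autInducedBy_of_normalizes h.hS h.hF d.ess.2.1 hβA hβp fun σ hσ => hnorm β σ h1 hσ
  obtain ⟨b, hb, hbc⟩ := d.T_data h2
  by_cases hb1 : ⁅x, (b : Ω)⁆ = 1
  · have hβ1 : β = 1 := MulEquiv.ext fun v => by
      obtain ⟨j, hj, -⟩ := d.shift hb hbc v
      rw [hj, show (⟨⁅x, (b : Ω)⁆, Zc_le_essential d.ess hb⟩ : P) = 1 from Subtype.ext (by simpa using hb1),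
        one_zpow, mul_one]
      rfl
    have : τ = 1 := by
      rw [hβdef] at hβ1
      exact conj_eq_one_iff.1 hβ1
    exact d.not_inn haZ hane hτc (this ▸ Subgroup.one_mem _)
  · refine hzα (d.fix_only hb hb1 hbc ?_)
    rw [hβdef, MulAut.mul_apply, MulAut.mul_apply, MulAut.inv_apply_self, d.fix_Zc hτ hz]

/-- An automorphism moving the centre gives an inverting map of the centre with explicit fixed points. -/
theorem exists_invMap (g : Gen h d.hxS e) {α : MulAut P} (hα : α ∈ F.autGroup P)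
    (hmov : ∃ z : P, (z : Ω) ∈ Zc S ∧ ((α z : P) : Ω) ∉ Zc S) (hp2 : p ≠ 2) :
    ∃ f, InvMap F e f ∧ ∀ z : P, (z : Ω) ∈ Zc S → (f z = z ↔ ((α⁻¹ z : P) : Ω) ∈ Zc S) := by
  set eP : P := ⟨e, Zc_le_essential d.ess g.mem⟩ with hePdef
  have hinv : ((α⁻¹ eP : P) : Ω) ∉ Zc S := d.notMem_image g hα hmov
  have hfwd : ((α eP : P) : Ω) ∉ Zc S := by
    have := d.notMem_image g ((F.autGroup P).inv_mem hα) ⟨eP, g.mem, hinv⟩
    rwa [inv_inv] at this
  set fP : P := α eP with hfPdef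
  obtain ⟨a, hae⟩ := g.rep
  rw [phi_coe] at hae
  have haZ : ⁅x, (a : Ω)⁆ ∈ Zc S := hae ▸ g.mem
  have hane : ⁅x, (a : Ω)⁆ ≠ 1 := hae ▸ g.ne
  obtain ⟨τ, hτ, hτc⟩ := d.T_of a haZ
  have hcP : (⟨⁅x, (a : Ω)⁆, Zc_le_essential d.ess haZ⟩ : P) = eP := Subtype.ext hae
  have hτA := autInducedBy_le_autGroup (F := F) d.ess.1.1 hτ
  set β := α * τ * α⁻¹ with hβdef
  have hβA : β ∈ F.autGroup P :=
    (F.autGroup P).mul_mem ((F.autGroup P).mul_mem hα hτA) ((F.autGroup P).inv_mem hα)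
  have hshift : ∀ v : P, ∃ k : ℤ, τ v = v * eP ^ k := fun v => by
    obtain ⟨k, hk, -⟩ := d.shift haZ hτc v
    exact ⟨k, hcP ▸ hk⟩
  have hτe : τ eP = eP := d.fix_Zc hτ g.mem
  have hβshift : ∀ v : P, ∃ k : ℤ, β v = v * fP ^ k := fun v => by
    obtain ⟨k, hk⟩ := hshift (α⁻¹ v)
    exact ⟨k, by rw [hβdef, MulAut.mul_apply, MulAut.mul_apply, hk, map_mul, map_zpow, MulAut.apply_inv_self]⟩
  have hβfix : ∀ v : P, ((α⁻¹ v : P) : Ω) ∈ Zc S → β v = v := fun v hv => by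
    rw [hβdef, MulAut.mul_apply, MulAut.mul_apply, d.fix_Zc hτ hv, MulAut.apply_inv_self]
  have hfinv : ((α⁻¹ fP : P) : Ω) ∈ Zc S := by rw [hfPdef, MulAut.inv_apply_self]; exact g.mem
  have hβf : β fP = fP := hβfix fP hfinv
  have hep : eP ^ p = 1 := Subtype.ext (by simpa [eP] using g.pow)
  have hfp : fP ^ p = 1 := by rw [hfPdef, ← map_pow, hep, map_one]
  -- `τ` moves `fP` and `β` moves `eP`
  obtain ⟨k₀, hk₀⟩ := hshift fP
  have hk₀1 : eP ^ k₀ ≠ 1 := fun e' => hfwd (d.fix_only haZ hane hτc (by rw [hk₀, e', mul_one]))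
  obtain ⟨l₀, hl₀⟩ := hβshift eP
  have hl₀1 : fP ^ l₀ ≠ 1 := fun e' => hinv (d.fix_only haZ hane hτc (α.injective (by
    have : β eP = eP := by rw [hl₀, e', mul_one]
    rw [hβdef, MulAut.mul_apply, MulAut.mul_apply] at this
    rw [this, MulAut.apply_inv_self])))
  obtain ⟨u, hu⟩ := exists_zpow_eq hep (Subgroup.mem_zpowers_iff.2 ⟨k₀, rfl⟩) hk₀1 (Subgroup.mem_zpowers eP)
  obtain ⟨u', hu'⟩ := exists_zpow_eq hfp (Subgroup.mem_zpowers_iff.2 ⟨l₀, rfl⟩) hl₀1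
    (Subgroup.inv_mem _ (Subgroup.mem_zpowers fP))
  set a₁ := τ ^ u with ha₁
  set b₁ := β ^ u' with hb₁
  have a1f : a₁ fP = fP * eP := by rw [ha₁, shift_zpow hk₀ (by rw [map_zpow, hτe]) u, hu]
  have b1e : b₁ eP = eP * fP⁻¹ := by rw [hb₁, shift_zpow hl₀ (by rw [map_zpow, hβf]) u', hu']
  have a1e : a₁ eP = eP := by
    have := shift_zpow (γ := τ) (v := eP) (f := 1) (by rw [hτe, mul_one]) (map_one τ) u
    simpa [ha₁] using this
  have b1f : b₁ fP = fP := by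
    have := shift_zpow (γ := β) (v := fP) (f := 1) (by rw [hβf, mul_one]) (map_one β) u'
    simpa [hb₁] using this
  have hPc : ∀ v w : P, v * w = w * v := fun v w => Subtype.ext (d.comm v.2 w.2).eq
  set s := a₁ * b₁ * a₁ with hs
  have se : s eP = fP⁻¹ := by
    rw [hs, MulAut.mul_apply, MulAut.mul_apply, a1e, b1e, map_mul, map_inv, a1e, a1f, mul_inv_rev,
      mul_inv_cancel_left]
  have sf : s fP = eP := by
    rw [hs, MulAut.mul_apply, MulAut.mul_apply, a1f, map_mul, b1f, b1e, hPc eP fP⁻¹,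
      mul_inv_cancel_left, a1e]
  set t := s * s with ht
  have te : t eP = eP⁻¹ := by rw [ht, MulAut.mul_apply, se, map_inv, sf]
  have tf : t fP = fP⁻¹ := by rw [ht, MulAut.mul_apply, sf, se]
  have hsA : s ∈ F.autGroup P := (F.autGroup P).mul_mem ((F.autGroup P).mul_mem
    ((F.autGroup P).zpow_mem hτA u) ((F.autGroup P).zpow_mem hβA u')) ((F.autGroup P).zpow_mem hτA u)
  have htA : t ∈ F.autGroup P := (F.autGroup P).mul_mem hsA hsA
  have tw : ∀ w : P, (w : Ω) ∈ Zc S → ((α⁻¹ w : P) : Ω) ∈ Zc S → t w = w := by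
    intro w hw hw'
    have h1 : τ ∈ MulAction.stabilizer (MulAut P) w := d.fix_Zc hτ hw
    have h2 : β ∈ MulAction.stabilizer (MulAut P) w := hβfix w hw'
    have h3 : s ∈ MulAction.stabilizer (MulAut P) w :=
      mul_mem (mul_mem (zpow_mem h1 u) (zpow_mem h2 u')) (zpow_mem h1 u)
    exact mul_mem h3 h3
  have hdec : ∀ z : P, (z : Ω) ∈ Zc S → ∃ (w : P) (i : ℤ),
      (w : Ω) ∈ Zc S ∧ ((α⁻¹ w : P) : Ω) ∈ Zc S ∧ z = w * eP ^ i := by
    intro z hz
    obtain ⟨w', i, hw', e'⟩ := d.decomp_of_notMem hinv (α⁻¹ z)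
    have hw : z = α w' * eP ^ i := by
      have := congrArg α e'
      rwa [map_mul, map_zpow, MulAut.apply_inv_self, MulAut.apply_inv_self] at this
    refine ⟨α w', i, ?_, by rw [MulAut.inv_apply_self]; exact hw', hw⟩
    rw [show α w' = z * (eP ^ i)⁻¹ by rw [hw, mul_inv_cancel_right], Subgroup.coe_mul, Subgroup.coe_inv,
      SubgroupClass.coe_zpow]
    exact (Zc S).mul_mem hz ((Zc S).inv_mem ((Zc S).zpow_mem g.mem i))
  have hPS := d.ess.1.1
  refine ⟨autFn t, ⟨((mem_autGroup_iff_fn hPS).1 htA).mono (Zc_le_essential d.ess), fun z hz => ?_, ?_,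
    fun z hz => ?_⟩, fun z hz => ?_⟩
  · obtain ⟨w, i, hw, hw', e'⟩ := hdec ⟨z, Zc_le_essential d.ess hz⟩ hz
    rw [show z = (((⟨z, Zc_le_essential d.ess hz⟩ : P)) : Ω) from rfl, autFn_coe, e', map_mul, map_zpow,
      tw w hw hw', te, Subgroup.coe_mul, SubgroupClass.coe_zpow, Subgroup.coe_inv]
    exact (Zc S).mul_mem hw ((Zc S).zpow_mem ((Zc S).inv_mem g.mem) i)
  · rw [show e = ((eP : P) : Ω) from rfl, autFn_coe, te, Subgroup.coe_inv]
  · obtain ⟨w, i, hw, hw', e'⟩ := hdec ⟨z, Zc_le_essential d.ess hz⟩ hz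
    rw [show z = (((⟨z, Zc_le_essential d.ess hz⟩ : P)) : Ω) from rfl, autFn_coe, e', map_mul, map_zpow,
      tw w hw hw', te, ← Subgroup.coe_inv, ← Subgroup.coe_mul,
      show (w * eP ^ i)⁻¹ * (w * eP⁻¹ ^ i) = (eP ^ i)⁻¹ * eP⁻¹ ^ i by group, Subgroup.coe_mul, Subgroup.coe_inv,
      SubgroupClass.coe_zpow, SubgroupClass.coe_zpow, Subgroup.coe_inv]
    exact Subgroup.mul_mem _ (Subgroup.inv_mem _ (Subgroup.zpow_mem _ (Subgroup.mem_zpowers e) i))
      (Subgroup.zpow_mem _ (Subgroup.inv_mem _ (Subgroup.mem_zpowers e)) i)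
  · obtain ⟨w, i, hw, hw', rfl⟩ := hdec z hz
    rw [autFn_coe, Subtype.coe_inj, map_mul, map_zpow, tw w hw hw', te, mul_right_inj]
    have hmap : α⁻¹ (w * eP ^ i) = α⁻¹ w * (α⁻¹ eP) ^ i := by rw [map_mul, map_zpow]
    constructor
    · intro he
      rw [inv_zpow, inv_eq_iff_mul_eq_one, ← zpow_add, ← two_mul] at he
      have hi : (p : ℤ) ∣ i := by
        rw [← orderOf_dvd_iff_zpow_eq_one, orderOf_eq_prime hep fun h1 => g.ne (congrArg Subtype.val h1)] at he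
        refine ((Nat.prime_iff_prime_int.1 hp.out).dvd_or_dvd he).resolve_left fun h2 => hp2 ?_
        exact (Nat.prime_dvd_prime_iff_eq hp.out Nat.prime_two).1 (by exact_mod_cast h2)
      obtain ⟨m, rfl⟩ := hi
      rw [zpow_mul, zpow_natCast, hep, one_zpow, mul_one]
      exact hw'
    · intro hm
      have hpow : (((α⁻¹ eP : P) : Ω)) ^ i ∈ Zc S := by
        have := (Zc S).mul_mem ((Zc S).inv_mem hw') hm
        rwa [hmap, Subgroup.coe_mul, SubgroupClass.coe_zpow, inv_mul_cancel_left] at this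
      obtain ⟨b, hbA, -, j, e'⟩ := decomp_in h d.ess d.mem d.notMem (α⁻¹ eP).2
      have hi : (p : ℤ) ∣ i := h.not_mem_pow (hPS (α⁻¹ eP).2)
        (fun hA => hinv (d.inter _ (α⁻¹ eP).2 hA)) (h.Zc_le hpow)
      obtain ⟨m, rfl⟩ := hi
      rw [zpow_mul, zpow_natCast, zpow_mul, zpow_natCast, inv_pow, hep, inv_one]

end AbCase

/-- An automorphism of `P` or `S` keeping the centre keeps the fixed points of an inverting map. -/
theorem fixed_invariant (hS : IsPGroup p S) (hF : F.IsSaturated p) (he : e ∈ Zc S) (hep : e ^ p = 1)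
    {f : Ω → Ω} (hf : InvMap F e f) {γ : Ω → Ω} (hγ : Fn F (Zc S) γ) (hγZ : ∀ z ∈ Zc S, γ z ∈ Zc S)
    (hγe : γ e ∈ Subgroup.zpowers e) {z : Ω} (hz : z ∈ Zc S) (hfz : f z = z) : f (γ z) = γ z := by
  obtain ⟨δ, hδ, hδγ, hδi⟩ := hγ.exists_inv
  rw [hγ.img_eq_self hγZ] at hδ hδi
  have hδZ : ∀ z ∈ Zc S, δ z ∈ Zc S := fun z hz => hδi.le (mem_img_of_mem hz)
  have hγδ : ∀ z ∈ Zc S, γ (δ z) = z := fun z hz => by
    obtain ⟨w, hw, rfl⟩ := hγ.mem_img.1 ((hγ.img_eq_self hγZ).ge hz)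
    rw [hδγ w hw]
  have hpow : ∀ {g : Ω → Ω}, Fn F (Zc S) g → ∀ z ∈ Zc S, ∀ k : ℤ, g (z ^ k) = g z ^ k := by
    intro g hg z hz k
    obtain ⟨φ, -, hφ⟩ := hg
    have := map_zpow φ ⟨z, hz⟩ k
    rwa [hφ, hφ, SubgroupClass.coe_zpow] at this
  have hδe : δ e ∈ Subgroup.zpowers e := by
    obtain ⟨i, hi⟩ := Subgroup.mem_zpowers_iff.1 hγe
    by_cases he1 : e = 1
    · subst he1; rw [hδ.map_one]; exact Subgroup.one_mem _
    have hne : γ e ≠ 1 := fun h1 => he1 ((hγ.eq_one_iff he).1 h1)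
    obtain ⟨k, hk⟩ := exists_zpow_eq hep (Subgroup.mem_zpowers_iff.2 ⟨i, hi⟩) hne (Subgroup.mem_zpowers e)
    refine Subgroup.mem_zpowers_iff.2 ⟨k, ?_⟩
    rw [← hδγ (e ^ k) ((Zc S).zpow_mem he k), hpow hγ e he, hk]
  have hconj : InvMap F e (γ ∘ f ∘ δ) := by
    refine ⟨(hδ.comp hf.fn hδZ).comp hγ fun z hz => hf.mem _ (hδZ z hz),
      fun z hz => hγZ _ (hf.mem _ (hδZ z hz)), ?_, fun z hz => ?_⟩
    · obtain ⟨k, hk⟩ := Subgroup.mem_zpowers_iff.1 hδe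
      show γ (f (δ e)) = e⁻¹
      rw [← hk, hpow hf.fn e he, hf.inv, inv_zpow, hγ.map_inv ((Zc S).zpow_mem he k), hk, hγδ e he]
    · obtain ⟨k, hk⟩ := Subgroup.mem_zpowers_iff.1 (hf.shift _ (hδZ z hz))
      show z⁻¹ * γ (f (δ z)) ∈ _
      rw [show f (δ z) = δ z * e ^ k by rw [hk, mul_inv_cancel_left],
        hγ.map_mul (hδZ z hz) ((Zc S).zpow_mem he k), hγδ z hz, inv_mul_cancel_left, hpow hγ e he]
      exact Subgroup.zpow_mem _ hγe k
  have h1 := InvMap.agree hS hF he hep hconj hf (hγZ z hz)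
  simp only [Function.comp_apply, hδγ z hz, hfz] at h1
  exact h1.symm

/-- Either the centre is normal, or some essential subgroup is `Z(S)⟨x⟩` and then a complement of
`Z(S) ⊓ [S, S]` in `Z(S)` is normal. -/
theorem centre_of_core_bot (h : Setup p F A) (hp2 : p ≠ 2) (hcore : F.core = ⊥)
    (hAe : ¬ F.IsEssential p A) :
    ∃ (P : Subgroup Ω) (x e : Ω) (d : AbCase h P x), Gen h d.hxS e ∧ ∀ z ∈ Zc S, z ∈ Subgroup.zpowers e := by
  have hne : ∀ P, F.IsEssential p P → P ≠ A := fun P hP hPA => hAe (hPA ▸ hP)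
  have hZS : Zc S ≤ S := fun _ hz => (mem_Zc.1 hz).1
  have hcent : ∀ W : Subgroup Ω, W ≤ Zc S → S ≤ Subgroup.normalizer (W : Set Ω) := fun W hW s hs => by
    haveI := finite_of_le_base (S := S) (P := W) (hW.trans hZS)
    refine mem_normalizer_of_map_le fun z hz => ?_
    rw [(mem_Zc.1 (hW hz)).2 s hs, mul_inv_cancel_right]
    exact hz
  have hautS : ∀ α ∈ F.autGroup S, ∀ z ∈ Zc S, autFn α z ∈ Zc S := by
    intro α hα z hz
    have hf := (mem_autGroup_iff_fn le_rfl).1 hα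
    refine mem_Zc.2 ⟨autFn_mem α (hZS hz), fun s hs => ?_⟩
    obtain ⟨s', hs', rfl⟩ := hf.mem_img.1 ((img_autFn α).ge hs)
    rw [← hf.map_mul hs' (hZS hz), ← hf.map_mul (hZS hz) hs', (mem_Zc.1 hz).2 s' hs']
  have hnonab : ∀ P, F.IsEssential p P → ∀ b, b ∈ P → b ∈ A → b ∉ Zc S →
      ∀ α ∈ F.autGroup P, ∀ z ∈ Zc S, autFn α z ∈ Zc S := by
    intro P hP b hbP hbA hbZ α hα z hz
    obtain ⟨y, hy, hyA⟩ := exists_mem_diff h hP (hne P hP)
    have hf := (mem_autGroup_iff_fn hP.1.1).1 hα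
    have hzP := Zc_le_essential hP hz
    refine (center_of_nonab h hP hy hyA hbA hbP hbZ (autFn_mem α hzP)).2 fun u hu => ?_
    obtain ⟨u', hu', rfl⟩ := hf.mem_img.1 ((img_autFn α).ge hu)
    rw [← hf.map_mul hu' hzP, ← hf.map_mul hzP hu', (mem_Zc.1 hz).2 u' (hP.1.1 hu')]
  obtain ⟨P, hP, hab⟩ : ∃ P, F.IsEssential p P ∧ ∀ b ∈ P, b ∈ A → b ∈ Zc S := by
    by_contra hall
    push Not at hall
    have hN : F.IsNormal (Zc S) := by
      refine normal_of_generators h.hS h.hF hZS (hcent _ le_rfl) fun P hP => ?_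
      rcases hP with rfl | hP
      · exact ⟨hZS, hautS⟩
      · obtain ⟨b, hb, hbA, hbZ⟩ := hall P hP
        exact ⟨Zc_le_essential hP, hnonab P hP b hb hbA hbZ⟩
    have hbot : Zc S = ⊥ := le_bot_iff.1 ((le_core hN).trans hcore.le)
    obtain ⟨u, hu, v, hv, huv⟩ := h.nonab
    haveI : Nontrivial S := ⟨⟨⟨u, hu⟩, ⟨v, hv⟩, fun e' => huv (by rw [show u = v from congrArg Subtype.val e'])⟩⟩
    haveI := h.hS.center_nontrivial
    obtain ⟨c, hc⟩ := exists_ne (1 : Subgroup.center S)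
    have hcZ : ((c : S) : Ω) ∈ Zc S := mem_Zc_iff_center.2 c.2
    rw [hbot, Subgroup.mem_bot] at hcZ
    exact hc (Subtype.ext (Subtype.ext hcZ))
  obtain ⟨x, hx, hxA⟩ := exists_mem_diff h hP (hne P hP)
  have d : AbCase h P x := ⟨hP, hx, hxA, hab⟩
  obtain ⟨e, g⟩ := d.exists_gen
  obtain ⟨a, hae⟩ := g.rep
  rw [phi_coe] at hae
  obtain ⟨α₀, hα₀, hmov⟩ := d.exists_moves
  obtain ⟨f, hf, -⟩ := d.exists_invMap g hα₀ hmov hp2
  refine ⟨P, x, e, d, g, ?_⟩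
  -- the generator does not depend on the essential subgroup
  have hgen : ∀ c ∈ Zc S, c ∈ (commutator ↥S).map S.subtype → c ∈ Subgroup.zpowers e := fun c hc hd =>
    (g.derived_inf hxA).le ⟨hc, hd⟩
  have hcomm : ∀ (Q : Subgroup Ω) (γ : Ω → Ω), Fn F Q γ → ∀ y ∈ Q, y ∉ A → Zc S ≤ Q →
      (∀ b ∈ A, ⁅y, b⁆ ∈ Zc S → b ∈ Q) → (∀ z ∈ Zc S, γ z ∈ Zc S) → γ e ∈ Subgroup.zpowers e := by
    intro Q γ hγ y hy hyA hZQ hKQ hγZ
    refine hgen _ (hγZ e g.mem) ?_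
    obtain ⟨b, hb⟩ := (mem_derived_iff h (hγ.le hy) hyA).1 ((mem_derived_iff h d.hxS hxA).2 g.rep)
    rw [phi_coe] at hb
    have hbQ := hKQ b b.2 (hb ▸ g.mem)
    rw [← hb, commutatorElement_def, hγ.map_mul (Q.mul_mem (Q.mul_mem hy hbQ) (Q.inv_mem hy)) (Q.inv_mem hbQ),
      hγ.map_conj hy hbQ, hγ.map_inv hbQ]
    exact ⟨⁅(⟨γ y, hγ.mem hy⟩ : S), ⟨γ b, hγ.mem hbQ⟩⁆,
      Subgroup.commutator_mem_commutator (Subgroup.mem_top _) (Subgroup.mem_top _), rfl⟩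
  -- the fixed points of `f` form a normal subgroup
  let W : Subgroup Ω :=
    { carrier := {z | z ∈ Zc S ∧ f z = z}
      mul_mem' := fun {u v} hu hv => ⟨(Zc S).mul_mem hu.1 hv.1, by rw [hf.fn.map_mul hu.1 hv.1, hu.2, hv.2]⟩
      one_mem' := ⟨(Zc S).one_mem, hf.fn.map_one⟩
      inv_mem' := fun {u} hu => ⟨(Zc S).inv_mem hu.1, by rw [hf.fn.map_inv hu.1, hu.2]⟩ }
  have hWS : W ≤ Zc S := fun z hz => hz.1
  have hN : F.IsNormal W := by
    refine normal_of_generators h.hS h.hF (hWS.trans hZS) (hcent W hWS) fun Q hQ => ?_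
    rcases hQ with rfl | hQ
    · refine ⟨hWS.trans hZS, fun γ hγ z hz => ⟨hautS γ hγ z hz.1, ?_⟩⟩
      have hfn := (mem_autGroup_iff_fn le_rfl).1 hγ
      exact fixed_invariant h.hS h.hF g.mem g.pow hf (hfn.mono hZS) (hautS γ hγ)
        (hcomm _ _ hfn x d.hxS hxA hZS (fun b hb _ => h.le hb) (hautS γ hγ)) hz.1 hz.2
    · refine ⟨hWS.trans (Zc_le_essential hQ), fun γ hγ z hz => ?_⟩
      obtain ⟨y, hy, hyA⟩ := exists_mem_diff h hQ (hne Q hQ)
      have hfn := (mem_autGroup_iff_fn hQ.1.1).1 hγ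
      by_cases hQab : ∀ b ∈ Q, b ∈ A → b ∈ Zc S
      · have d' : AbCase h Q y := ⟨hQ, hy, hyA, hQab⟩
        obtain ⟨e', g'⟩ := d'.exists_gen
        -- the two generators span the same subgroup
        have he' : Gen h d'.hxS e := by
          refine ⟨g.mem, g.ne, g.pow, (mem_derived_iff h d'.hxS hyA).1 ((mem_derived_iff h d.hxS hxA).2 g.rep),
            fun b hb => hgen _ hb ((mem_derived_iff h d'.hxS hyA).2 ⟨b, rfl⟩)⟩
        have key : ∀ β ∈ F.autGroup Q, ∀ v : Q, (v : Ω) ∈ W → ((β⁻¹ v : Q) : Ω) ∈ Zc S := by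
          intro β hβ v hv
          by_cases hmv : ∃ u : Q, (u : Ω) ∈ Zc S ∧ ((β u : Q) : Ω) ∉ Zc S
          · obtain ⟨f', hf', hfix⟩ := d'.exists_invMap he' hβ hmv hp2
            exact (hfix v hv.1).1 ((InvMap.agree h.hS h.hF g.mem g.pow hf' hf hv.1).trans hv.2)
          · push Not at hmv
            have hfnβ := ((mem_autGroup_iff_fn hQ.1.1).1 hβ).mono (Zc_le_essential hQ)
            have himg := hfnβ.img_eq_self fun u hu => by
              exact (autFn_coe β ⟨u, Zc_le_essential hQ hu⟩).symm ▸ hmv _ hu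
            obtain ⟨u, hu, hu'⟩ := hfnβ.mem_img.1 (himg.ge hv.1)
            have : β⁻¹ v = ⟨u, Zc_le_essential hQ hu⟩ := by
              rw [show v = β ⟨u, Zc_le_essential hQ hu⟩ from Subtype.ext (hu'.symm.trans (autFn_coe β ⟨u, _⟩)),
                MulAut.inv_apply_self]
            rw [this]
            exact hu
        let zQ : Q := ⟨z, Zc_le_essential hQ hz.1⟩
        have h1 : ((γ zQ : Q) : Ω) ∈ Zc S := by
          simpa using key γ⁻¹ ((F.autGroup Q).inv_mem hγ) zQ hz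
        obtain ⟨α₁, hα₁, hmov₁⟩ := d'.exists_moves
        obtain ⟨f₁, hf₁, hfix₁⟩ := d'.exists_invMap he' hα₁ hmov₁ hp2
        have h2 : ((α₁⁻¹ (γ zQ) : Q) : Ω) ∈ Zc S := by
          have := key (γ⁻¹ * α₁) ((F.autGroup Q).mul_mem ((F.autGroup Q).inv_mem hγ) hα₁) zQ hz
          rwa [mul_inv_rev, inv_inv, MulAut.mul_apply] at this
        rw [show autFn γ z = ((γ zQ : Q) : Ω) from autFn_coe γ zQ]
        refine ⟨h1, ?_⟩
        rw [InvMap.agree h.hS h.hF g.mem g.pow hf hf₁ h1]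
        exact (hfix₁ _ h1).2 h2
      · push Not at hQab
        obtain ⟨b, hb, hbA, hbZ⟩ := hQab
        have hγZ := hnonab Q hQ b hb hbA hbZ γ hγ
        refine ⟨hγZ z hz.1, fixed_invariant h.hS h.hF g.mem g.pow hf (hfn.mono (Zc_le_essential hQ)) hγZ
          (hcomm Q _ hfn y hy hyA (Zc_le_essential hQ) (fun c hc hcZ => ?_) hγZ) hz.1 hz.2⟩
        have hsub := (gen_of_nonab h hQ hy hyA hbA hb hbZ).2
        have : (⟨c, hc⟩ : A) ∈ Q.subgroupOf A := by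
          rw [hsub, mem_ker_two h (hQ.1.1 hy) hyA]; exact hcZ
        exact this
  have hW : W = ⊥ := le_bot_iff.1 ((le_core hN).trans hcore.le)
  intro z hz
  obtain ⟨f', hf', hfix⟩ := d.exists_invMap g hα₀ hmov hp2
  obtain ⟨k, hk⟩ := Subgroup.mem_zpowers_iff.1 (hf.shift z hz)
  -- a suitable multiple of `z` by a power of `e` is fixed
  obtain ⟨i, hi⟩ : ∃ i : ℤ, (p : ℤ) ∣ k - 2 * i := by
    have h2 : ¬ (p : ℤ) ∣ 2 := fun h2 => hp2 ((Nat.prime_dvd_prime_iff_eq hp.out Nat.prime_two).1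
      (by exact_mod_cast h2))
    obtain ⟨u, v, huv⟩ := ((Nat.prime_iff_prime_int.1 hp.out).coprime_iff_not_dvd).2 h2
    exact ⟨v * k, ⟨u * k, by linear_combination (-k) * huv⟩⟩
  have hmemW : z * e ^ i ∈ W := by
    refine ⟨(Zc S).mul_mem hz ((Zc S).zpow_mem g.mem i), ?_⟩
    obtain ⟨φ, -, hφ⟩ := id hf.fn
    have hzp : f (e ^ i) = f e ^ i := by
      have := map_zpow φ ⟨e, g.mem⟩ i
      rwa [hφ, hφ, SubgroupClass.coe_zpow] at this
    rw [hf.fn.map_mul hz ((Zc S).zpow_mem g.mem i), show f z = z * e ^ k by rw [hk, mul_inv_cancel_left], hzp,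
      hf.inv, inv_zpow', mul_assoc, ← zpow_add]
    obtain ⟨m, hm⟩ := hi
    rw [show k + -i = i + (p : ℤ) * m by linarith, zpow_add, zpow_mul, zpow_natCast, g.pow, one_zpow, mul_one]
  rw [hW, Subgroup.mem_bot, mul_eq_one_iff_eq_inv] at hmemW
  rw [hmemW]
  exact Subgroup.inv_mem _ (Subgroup.zpow_mem _ (Subgroup.mem_zpowers e) i)

end CfsgLib.Fsys.AbelianIndexP
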