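import Cfsg.Agent.Lib.FusionSystem.AbelianIndexP

/-! Essential subgroups other than the unique abelian subgroup of index `p`. -/

set_option autoImplicit false
set_option linter.unusedSectionVars false

open Cfsg Cfsg.FusionSystem CfsgLib.Fsys.CentralIndex
open scoped commutatorElement

namespace CfsgLib.Fsys.AbelianIndexP

variable {Ω : Type*} [Group Ω] {S : Subgroup Ω} [Finite S] {p : ℕ} [hp : Fact p.Prime]
  {F : FusionSystem S} {A P : Subgroup Ω} {x : Ω}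

theorem not_le_A (h : Setup p F A) (hP : F.IsEssential p P) (hPA : P ≠ A) : ¬ P ≤ A := fun hle =>
  hPA (le_antisymm hle fun a ha => centralizer_le_of_centric hP.1
    (mem_centralizerIn.2 ⟨h.le ha, fun u hu => h.comm u (hle hu) a ha⟩))

theorem exists_mem_diff (h : Setup p F A) (hP : F.IsEssential p P) (hPA : P ≠ A) : ∃ x ∈ P, x ∉ A :=
  SetLike.not_le_iff_exists.1 (not_le_A h hP hPA)

theorem Zc_le_essential (hP : F.IsEssential p P) : Zc S ≤ P := fun z hz =>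
  centralizer_le_of_centric hP.1
    (mem_centralizerIn.2 ⟨(mem_Zc.1 hz).1, fun u hu => (mem_Zc.1 hz).2 u (hP.1.1 hu)⟩)

theorem decomp_in (h : Setup p F A) (hP : F.IsEssential p P) (hx : x ∈ P) (hxA : x ∉ A) {v : Ω} (hv : v ∈ P) :
    ∃ b ∈ A, b ∈ P ∧ ∃ j : ℤ, v = b * x ^ j := by
  obtain ⟨b, hb, j, rfl⟩ := h.decomp (hP.1.1 hx) hxA (hP.1.1 hv)
  exact ⟨b, hb, by simpa using P.mul_mem hv (P.inv_mem (P.zpow_mem hx j)), j, rfl⟩

theorem mem_normalizer_iff_comm (h : Setup p F A) (hP : F.IsEssential p P) (hx : x ∈ P) (hxA : x ∉ A) {a : Ω}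
    (ha : a ∈ A) : a ∈ Subgroup.normalizer (P : Set Ω) ↔ ⁅x, a⁆ ∈ P := by
  haveI := finite_of_le_base hP.1.1
  constructor
  · intro hn
    have := P.mul_mem hx (P.inv_mem ((Subgroup.mem_normalizer_iff.1 hn x).1 hx))
    rwa [show x * (a * x * a⁻¹)⁻¹ = ⁅x, a⁆ by rw [commutatorElement_def]; group] at this
  · intro hc
    refine mem_normalizer_of_map_le fun v hv => ?_
    obtain ⟨b, hb, hbP, j, rfl⟩ := decomp_in h hP hx hxA hv
    have h1 : a * x * a⁻¹ ∈ P := by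
      have := P.mul_mem (P.inv_mem hc) hx
      rwa [show ⁅x, a⁆⁻¹ * x = a * x * a⁻¹ by rw [commutatorElement_def]; group] at this
    have h2 : a * b * a⁻¹ = b := by rw [h.comm a ha b hb, mul_inv_cancel_right]
    rw [show a * (b * x ^ j) * a⁻¹ = a * b * a⁻¹ * (a * x ^ j * a⁻¹) by group, h2, ← conj_zpow]
    exact P.mul_mem hbP (P.zpow_mem h1 j)

theorem exists_normalizing (h : Setup p F A) (hP : F.IsEssential p P) (hx : x ∈ P) (hxA : x ∉ A) :
    ∃ a ∈ A, a ∉ P ∧ ⁅x, a⁆ ∈ P := by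
  obtain ⟨n, hn, hnP⟩ := SetLike.exists_of_lt (lt_normalizerIn h.hS (essential_lt h.hS h.hF hP))
  obtain ⟨a, ha, j, rfl⟩ := h.decomp (hP.1.1 hx) hxA hn.1
  have hxj : x ^ j ∈ P := P.zpow_mem hx j
  refine ⟨a, ha, fun haP => hnP (P.mul_mem haP hxj), (mem_normalizer_iff_comm h hP hx hxA ha).1 ?_⟩
  have := (Subgroup.normalizer (P : Set Ω)).mul_mem hn.2 (Subgroup.le_normalizer (P.inv_mem hxj))
  rwa [mul_inv_cancel_right] at this

theorem mem_autInducedBy_of_normalizes {β : MulAut P} (hS : IsPGroup p S) (hF : F.IsSaturated p)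
    (hfn : F.IsFullyNormalized P) (hβ : β ∈ F.autGroup P) {k : ℕ} (hk : β ^ (p ^ k) = 1)
    (hnorm : ∀ τ ∈ autInducedBy S P, β * τ * β⁻¹ ∈ autInducedBy S P) : β ∈ autInducedBy S P := by
  haveI := finite_of_le_base hfn.1
  obtain ⟨-, R, hR⟩ := (fullyNormalized_good hS hF hfn).1
  let b : F.autGroup P := ⟨β, hβ⟩
  have hb : IsPGroup p (Subgroup.zpowers b) := by
    obtain ⟨i, -, hi⟩ := (Nat.dvd_prime_pow hp.out).1
      (orderOf_dvd_of_pow_eq_one (show b ^ (p ^ k) = 1 from Subtype.ext hk))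
    exact IsPGroup.of_card ((Nat.card_zpowers b).trans hi)
  have hn : Subgroup.zpowers b ≤ Subgroup.normalizer ((R : Subgroup (F.autGroup P)) : Set (F.autGroup P)) := by
    rw [Subgroup.zpowers_le]
    refine mem_normalizer_of_map_le fun τ hτ => ?_
    rw [hR] at hτ ⊢
    exact hnorm _ hτ
  have hT := hb.to_sup_of_normal_right' R.2 hn
  have heq := R.3 hT le_sup_right
  have : b ∈ (R : Subgroup (F.autGroup P)) := heq ▸ Subgroup.mem_sup_left (Subgroup.mem_zpowers b)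
  rw [hR] at this
  exact this

theorem mem_extClosure_of_commute (hS : IsPGroup p S) (hF : F.IsSaturated p) (hP : F.IsEssential p P)
    {τ σ α : MulAut P} (hτ : τ ∈ autInducedBy S P) (hτI : τ ∉ Inn P) (hσ : σ ∈ autInducedBy S P)
    (hσI : σ ∉ Inn P) (hα : α ∈ F.autGroup P) (hc : Commute τ (α * σ * α⁻¹)) : α ∈ extClosure F P := by
  have hPS := hP.1.1
  haveI := finite_of_le_base hPS
  have hτA := autInducedBy_le_autGroup (F := F) hPS hτ
  have hσA := autInducedBy_le_autGroup (F := F) hPS hσ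
  have hσ' := (F.autGroup P).mul_mem ((F.autGroup P).mul_mem hα hσA) ((F.autGroup P).inv_mem hα)
  have hpow : ∀ γ ∈ autInducedBy S P, IsPGroup p (Subgroup.zpowers γ) := fun γ hγ =>
    (isPGroup_autInducedBy hS).to_le (Subgroup.zpowers_le.2 hγ)
  have hp2 : IsPGroup p (Subgroup.zpowers (α * σ * α⁻¹)) := by
    rw [← MulAut.conj_apply, ← MulEquiv.coe_toMonoidHom, ← MonoidHom.map_zpowers]
    exact (hpow σ hσ).map _
  have hn : Subgroup.zpowers τ ≤ Subgroup.normalizer (Subgroup.zpowers (α * σ * α⁻¹) : Set (MulAut P)) := by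
    rw [Subgroup.zpowers_le]
    refine Subgroup.centralizer_le_normalizer _ (Subgroup.mem_centralizer_iff.2 fun γ hγ => ?_)
    obtain ⟨i, rfl⟩ := Subgroup.mem_zpowers_iff.1 hγ
    exact (hc.symm.zpow_left i).eq
  have hQp := (hpow τ hτ).to_sup_of_normal_right' hp2 hn
  obtain ⟨γ, hγ, hγT⟩ := exists_conj_into hS (fullyNormalized_good hS hF hP.2.1).1
    (sup_le (Subgroup.zpowers_le.2 hτA) (Subgroup.zpowers_le.2 hσ')) hQp
  have hr := fullyNormalized_receptive hS hF hP.2.1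
  have key : ∀ β ∈ F.autGroup P, ∀ τ ∈ autInducedBy S P, τ ∉ Inn P →
      β * τ * β⁻¹ ∈ autInducedBy S P → β ∈ extClosure F P := by
    intro β hβ τ hτ hτI hc
    obtain ⟨n, hn, hnτ⟩ := mem_autInducedBy.1 hτ
    have hnN : n ∈ normalizerIn S P := ⟨hn, mem_normalizer_of_autEq hnτ⟩
    have e : conjAut P hnN.2 = τ := MulEquiv.ext fun v => Subtype.ext (hnτ v).symm
    refine Subgroup.subset_closure (extAut_of_receptive hr hβ hnN (fun hnP => hτI ?_) (e.symm ▸ hc))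
    exact e ▸ (conjAut_mem_inn_iff (centralizer_le_of_centric hP.1) hnN hPS).2 hnP
  have h1 := key γ hγ τ hτ hτI (hγT _ (Subgroup.mem_sup_left (Subgroup.mem_zpowers τ)))
  have h2 := key (γ * α) ((F.autGroup P).mul_mem hγ hα) σ hσ hσI (by
    have := hγT _ (Subgroup.mem_sup_right (Subgroup.mem_zpowers (α * σ * α⁻¹)))
    rwa [show γ * α * σ * (γ * α)⁻¹ = γ * (α * σ * α⁻¹) * γ⁻¹ by group])
  simpa using (extClosure F P).mul_mem ((extClosure F P).inv_mem h1) h2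

/-- `e` generates the intersection of the centre with the image of `a ↦ ⁅x, a⁆`. -/
structure Gen (h : Setup p F A) (hx : x ∈ S) (e : Ω) : Prop where
  mem : e ∈ Zc S
  ne : e ≠ 1
  pow : e ^ p = 1
  rep : ∃ a : A, ((phi h hx a : A) : Ω) = e
  gen : ∀ a : A, ((phi h hx a : A) : Ω) ∈ Zc S → ((phi h hx a : A) : Ω) ∈ Subgroup.zpowers e

theorem Gen.map_ker_two {h : Setup p F A} {hx : x ∈ S} {e : Ω} (g : Gen h hx e) (hxA : x ∉ A) :
    ((ker h hx 2).map (phi h hx)).map A.subtype = Subgroup.zpowers e := by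
  refine le_antisymm ?_ (Subgroup.zpowers_le.2 ?_)
  · rintro _ ⟨_, ⟨a, ha, rfl⟩, rfl⟩
    exact g.gen a ((mem_ker_two h hx hxA).1 ha)
  · obtain ⟨a, ha⟩ := g.rep
    exact ⟨_, ⟨a, (mem_ker_two h hx hxA).2 (by rw [← phi_coe h hx, ha]; exact g.mem), rfl⟩, ha⟩

theorem Gen.derived_inf {h : Setup p F A} {hx : x ∈ S} {e : Ω} (g : Gen h hx e) (hxA : x ∉ A) :
    (S ⊓ Subgroup.centralizer (S : Set Ω)) ⊓ (commutator ↥S).map S.subtype = Subgroup.zpowers e := by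
  refine le_antisymm ?_ (Subgroup.zpowers_le.2 ⟨g.mem, (mem_derived_iff h hx hxA).2 g.rep⟩)
  rintro c ⟨hc, hd⟩
  obtain ⟨a, rfl⟩ := (mem_derived_iff h hx hxA).1 hd
  exact g.gen a hc

theorem Gen.relIndex_eq {h : Setup p F A} {hx : x ∈ S} {e : Ω} (g : Gen h hx e) (hxA : x ∉ A) :
    (ker h hx 1).relIndex (ker h hx 2) = p := by
  rw [show ker h hx 1 = (ker h hx 0).comap (phi h hx) from rfl, Subgroup.relIndex_comap,
    show ker h hx 0 = ⊥ from rfl, Subgroup.relIndex_bot_left,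
    ← Subgroup.card_map_of_injective (Subgroup.subtype_injective A), g.map_ker_two hxA, Nat.card_zpowers]
  exact orderOf_eq_prime g.pow g.ne

theorem Gen.ker_lt {h : Setup p F A} {hx : x ∈ S} {e : Ω} (g : Gen h hx e) (hxA : x ∉ A) :
    ker h hx 1 ≠ ker h hx 2 := fun he => hp.out.ne_one (by rw [← g.relIndex_eq hxA, he, Subgroup.relIndex_self])

/-! ### The abelian case -/

/-- An essential subgroup `P ≠ A` meeting `A` in the centre. -/
structure AbCase (h : Setup p F A) (P : Subgroup Ω) (x : Ω) : Prop where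
  ess : F.IsEssential p P
  mem : x ∈ P
  notMem : x ∉ A
  inter : ∀ b ∈ P, b ∈ A → b ∈ Zc S

namespace AbCase

variable {h : Setup p F A} (d : AbCase h P x)
include d

theorem hxS : x ∈ S := d.ess.1.1 d.mem

theorem comm {u v : Ω} (hu : u ∈ P) (hv : v ∈ P) : Commute u v := by
  obtain ⟨b, hb, hbP, i, rfl⟩ := decomp_in h d.ess d.mem d.notMem hu
  obtain ⟨c, hc, hcP, j, rfl⟩ := decomp_in h d.ess d.mem d.notMem hv
  have hbZ := d.inter b hbP hb
  have hcZ := d.inter c hcP hc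
  have h1 : ∀ s ∈ S, ∀ z ∈ Zc S, Commute z s := fun s hs z hz => ((mem_Zc.1 hz).2 s hs).symm
  exact ((h1 c (h.le hc) b hbZ).mul_right (h1 _ (S.zpow_mem d.hxS j) b hbZ)).mul_left
    ((h1 _ (S.zpow_mem d.hxS i) c hcZ).symm.mul_right (Commute.zpow_zpow_self x i j))

theorem inn_trivial {τ : MulAut P} (hτ : τ ∈ Inn P) : τ = 1 := by
  obtain ⟨q, rfl⟩ := hτ
  refine MulEquiv.ext fun v => Subtype.ext ?_
  show (q : Ω) * v * (q : Ω)⁻¹ = v
  rw [(d.comm q.2 v.2).eq, mul_inv_cancel_right]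

theorem mem_Zc_iff {v : Ω} (hv : v ∈ P) : v ∈ Zc S ↔ v ∈ A :=
  ⟨fun hz => h.Zc_le hz, fun ha => d.inter v hv ha⟩

theorem decomp_of_notMem {u : P} (hu : (u : Ω) ∉ Zc S) (v : P) :
    ∃ (z : P) (i : ℤ), (z : Ω) ∈ Zc S ∧ v = z * u ^ i := by
  have huA : (u : Ω) ∉ A := fun hA => hu (d.inter _ u.2 hA)
  obtain ⟨b, hb, hbP, i, e⟩ := decomp_in h d.ess u.2 huA v.2
  exact ⟨⟨b, hbP⟩, i, d.inter b hbP hb, Subtype.ext (by simpa using e)⟩

/-- The automorphism given by conjugation with `a` moves `v` by a power of `⁅x, a⁆`. -/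
theorem conj_eq {a : Ω} (ha : a ∈ A) (hc : ⁅x, a⁆ ∈ Zc S) {b : Ω} (hb : b ∈ A) (j : ℤ) :
    a * (b * x ^ j) * a⁻¹ = b * x ^ j * (⁅x, a⁆ ^ j)⁻¹ := by
  have hcc : ∀ s ∈ S, Commute ⁅x, a⁆ s := fun s hs => ((mem_Zc.1 hc).2 s hs).symm
  have h1 : a * x * a⁻¹ = x * ⁅x, a⁆⁻¹ := by
    rw [← ((hcc x d.hxS).inv_left).eq, commutatorElement_def]; group
  have h2 : a * b * a⁻¹ = b := by rw [h.comm a ha b hb, mul_inv_cancel_right]
  rw [show a * (b * x ^ j) * a⁻¹ = a * b * a⁻¹ * (a * x ^ j * a⁻¹) by group, h2, ← conj_zpow, h1,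
    (hcc x d.hxS).symm.inv_right.mul_zpow, inv_zpow, mul_assoc]

theorem pow_comm {a : Ω} (ha : a ∈ A) (hc : ⁅x, a⁆ ∈ Zc S) : ⁅x, a⁆ ^ p = 1 := by
  have h1 := d.conj_eq ha hc A.one_mem (p : ℤ)
  simp only [one_mul, zpow_natCast] at h1
  rw [h.comm a ha _ (h.pow_mem d.hxS), mul_inv_cancel_right] at h1
  exact inv_eq_one.1 (mul_eq_left.1 h1.symm)

/-- Every element of `Aut_S(P)` is conjugation by an element of `A` with central commutator. -/
theorem T_data {τ : MulAut P} (hτ : τ ∈ autInducedBy S P) :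
    ∃ a : A, ⁅x, (a : Ω)⁆ ∈ Zc S ∧ ∀ v : P, ((τ v : P) : Ω) = a * v * (a : Ω)⁻¹ := by
  obtain ⟨n, hn, hnτ⟩ := mem_autInducedBy.1 hτ
  obtain ⟨a, ha, j, rfl⟩ := h.decomp d.hxS d.notMem hn
  have hxj : x ^ j ∈ P := P.zpow_mem d.mem j
  have hconj : ∀ v : P, ((τ v : P) : Ω) = a * v * a⁻¹ := fun v => by
    rw [hnτ, show a * x ^ j * (v : Ω) * (a * x ^ j)⁻¹ = a * (x ^ j * v * (x ^ j)⁻¹) * a⁻¹ by group,
      (d.comm hxj v.2).eq, mul_inv_cancel_right]
  refine ⟨⟨a, ha⟩, d.inter _ ((mem_normalizer_iff_comm h d.ess d.mem d.notMem ha).1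
    (mem_normalizer_of_autEq hconj)) (h.comm_mem d.hxS ha), hconj⟩

theorem T_of (a : A) (hc : ⁅x, (a : Ω)⁆ ∈ Zc S) :
    ∃ τ ∈ autInducedBy S P, ∀ v : P, ((τ v : P) : Ω) = a * v * (a : Ω)⁻¹ := by
  have hn : (a : Ω) ∈ Subgroup.normalizer (P : Set Ω) :=
    (mem_normalizer_iff_comm h d.ess d.mem d.notMem a.2).2 (Zc_le_essential d.ess hc)
  exact ⟨conjAut P hn, conjAut_mem_autInducedBy hn (h.le a.2), conjAut_coe hn⟩

theorem fix_Zc {τ : MulAut P} (hτ : τ ∈ autInducedBy S P) {v : P} (hv : (v : Ω) ∈ Zc S) : τ v = v := by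
  obtain ⟨n, hn, hnτ⟩ := mem_autInducedBy.1 hτ
  exact Subtype.ext (by rw [hnτ, (mem_Zc.1 hv).2 n hn, mul_inv_cancel_right])

theorem shift {τ : MulAut P} {a : A} (hc : ⁅x, (a : Ω)⁆ ∈ Zc S)
    (hconj : ∀ v : P, ((τ v : P) : Ω) = a * v * (a : Ω)⁻¹) (v : P) :
    ∃ j : ℤ, τ v = v * ⟨⁅x, (a : Ω)⁆, Zc_le_essential d.ess hc⟩ ^ j ∧ ((p : ℤ) ∣ j → (v : Ω) ∈ Zc S) := by
  obtain ⟨b, hb, hbP, j, e⟩ := decomp_in h d.ess d.mem d.notMem v.2
  refine ⟨-j, Subtype.ext ?_, fun hdvd => d.inter _ v.2 ?_⟩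
  · rw [hconj, Subgroup.coe_mul, SubgroupClass.coe_zpow, e, d.conj_eq a.2 hc hb, zpow_neg]
  · rw [e]
    exact A.mul_mem hb (h.zpow_mem d.hxS (by rwa [dvd_neg] at hdvd))

theorem fix_only {τ : MulAut P} {a : A} (hc : ⁅x, (a : Ω)⁆ ∈ Zc S) (hne : ⁅x, (a : Ω)⁆ ≠ 1)
    (hconj : ∀ v : P, ((τ v : P) : Ω) = a * v * (a : Ω)⁻¹) {v : P} (hv : τ v = v) : (v : Ω) ∈ Zc S := by
  obtain ⟨j, hj, hdvd⟩ := d.shift hc hconj v
  rw [hv] at hj
  have h1 : ⁅x, (a : Ω)⁆ ^ j = 1 := by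
    simpa using congrArg Subtype.val (mul_eq_left.1 hj.symm)
  refine hdvd ?_
  rw [← orderOf_eq_prime (d.pow_comm a.2 hc) hne]
  exact orderOf_dvd_iff_zpow_eq_one.2 h1

theorem not_inn {τ : MulAut P} {a : A} (hc : ⁅x, (a : Ω)⁆ ∈ Zc S) (hne : ⁅x, (a : Ω)⁆ ≠ 1)
    (hconj : ∀ v : P, ((τ v : P) : Ω) = a * v * (a : Ω)⁻¹) : τ ∉ Inn P := fun hI =>
  d.notMem (h.Zc_le (d.fix_only hc hne hconj (v := ⟨x, d.mem⟩) (by rw [d.inn_trivial hI]; rfl)))

theorem exists_comm : ∃ a : A, ⁅x, (a : Ω)⁆ ∈ Zc S ∧ ⁅x, (a : Ω)⁆ ≠ 1 := by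
  obtain ⟨a, ha, haP, hc⟩ := exists_normalizing h d.ess d.mem d.notMem
  refine ⟨⟨a, ha⟩, d.inter _ hc (h.comm_mem d.hxS ha), fun e => haP (Zc_le_essential d.ess ?_)⟩
  exact h.mem_Zc_of_commute d.hxS d.notMem ha (commutatorElement_eq_one_iff_mul_comm.1 e)

theorem commute_conj {α τ σ : MulAut P} (hτ : τ ∈ autInducedBy S P) (hσ : σ ∈ autInducedBy S P) {a b : A}
    (ha : ⁅x, (a : Ω)⁆ ∈ Zc S) (hb : ⁅x, (b : Ω)⁆ ∈ Zc S)
    (hτc : ∀ v : P, ((τ v : P) : Ω) = a * v * (a : Ω)⁻¹)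
    (hσc : ∀ v : P, ((σ v : P) : Ω) = b * v * (b : Ω)⁻¹)
    (h1 : ((α⁻¹ ⟨⁅x, (a : Ω)⁆, Zc_le_essential d.ess ha⟩ : P) : Ω) ∈ Zc S)
    (h2 : ((α ⟨⁅x, (b : Ω)⁆, Zc_le_essential d.ess hb⟩ : P) : Ω) ∈ Zc S) :
    Commute τ (α * σ * α⁻¹) := by
  refine MulEquiv.ext fun v => ?_
  obtain ⟨i, hi, -⟩ := d.shift ha hτc v
  obtain ⟨k, hk, -⟩ := d.shift hb hσc (α⁻¹ v)
  set cA : P := ⟨⁅x, (a : Ω)⁆, Zc_le_essential d.ess ha⟩
  set cB : P := ⟨⁅x, (b : Ω)⁆, Zc_le_essential d.ess hb⟩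
  have e1 : (α * σ * α⁻¹) v = v * α cB ^ k := by
    rw [MulAut.mul_apply, MulAut.mul_apply, hk, map_mul, map_zpow, MulAut.apply_inv_self]
  have e2 : (α * σ * α⁻¹) (cA ^ i) = cA ^ i := by
    rw [map_zpow, MulAut.mul_apply, MulAut.mul_apply, d.fix_Zc hσ h1, MulAut.apply_inv_self]
  show τ ((α * σ * α⁻¹) v) = (α * σ * α⁻¹) (τ v)
  rw [e1, map_mul, hi, map_zpow, d.fix_Zc hτ h2,
    map_mul (α * σ * α⁻¹), e1, e2, mul_assoc, mul_assoc]
  exact congrArg (v * ·) (Subtype.ext (d.comm (cA ^ i).2 (α cB ^ k).2).eq)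

theorem exists_gen : ∃ e, Gen h d.hxS e := by
  obtain ⟨a₁, ha₁, hne₁⟩ := d.exists_comm
  refine ⟨⁅x, (a₁ : Ω)⁆, ha₁, hne₁, d.pow_comm a₁.2 ha₁, ⟨a₁, rfl⟩, fun a₂ ha₂ => ?_⟩
  rw [phi_coe] at ha₂ ⊢
  by_contra hout
  -- every automorphism sends some nontrivial commutator into the centre
  have pick : ∀ β : MulAut P, ∃ (a : A) (hc : ⁅x, (a : Ω)⁆ ∈ Zc S), ⁅x, (a : Ω)⁆ ≠ 1 ∧
      ((β ⟨⁅x, (a : Ω)⁆, Zc_le_essential d.ess hc⟩ : P) : Ω) ∈ Zc S := by
    intro β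
    by_cases h1 : ((β ⟨⁅x, (a₁ : Ω)⁆, Zc_le_essential d.ess ha₁⟩ : P) : Ω) ∈ Zc S
    · exact ⟨a₁, ha₁, hne₁, h1⟩
    obtain ⟨z, i, hz, e⟩ := d.decomp_of_notMem h1 (β ⟨⁅x, (a₂ : Ω)⁆, Zc_le_essential d.ess ha₂⟩)
    have hφ : ⁅x, ((a₂ * (a₁ ^ i)⁻¹ : A) : Ω)⁆ = ⁅x, (a₂ : Ω)⁆ * (⁅x, (a₁ : Ω)⁆ ^ i)⁻¹ := by
      rw [← phi_coe h d.hxS, map_mul, map_inv, map_zpow, Subgroup.coe_mul, Subgroup.coe_inv,
        SubgroupClass.coe_zpow, phi_coe, phi_coe]
    have hc : ⁅x, ((a₂ * (a₁ ^ i)⁻¹ : A) : Ω)⁆ ∈ Zc S := by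
      rw [hφ]; exact (Zc S).mul_mem ha₂ ((Zc S).inv_mem ((Zc S).zpow_mem ha₁ i))
    refine ⟨_, hc, fun e1 => hout ?_, ?_⟩
    · rw [hφ, mul_inv_eq_one] at e1
      exact e1 ▸ Subgroup.zpow_mem _ (Subgroup.mem_zpowers _) i
    · have : (⟨_, Zc_le_essential d.ess hc⟩ : P) =
          ⟨_, Zc_le_essential d.ess ha₂⟩ * (⟨_, Zc_le_essential d.ess ha₁⟩ ^ i)⁻¹ := Subtype.ext (by simpa using hφ)
      rw [this, map_mul, map_inv, map_zpow, e, mul_inv_cancel_right]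
      exact hz
  refine extClosure_ne_of_essential h.hS h.hF (essential_lt h.hS h.hF d.ess) d.ess
    (le_antisymm extClosure_le fun α hα => ?_)
  obtain ⟨a, ha, hane, h1⟩ := pick α⁻¹
  obtain ⟨b, hb, hbne, h2⟩ := pick α
  obtain ⟨τ, hτ, hτc⟩ := d.T_of a ha
  obtain ⟨σ, hσ, hσc⟩ := d.T_of b hb
  exact mem_extClosure_of_commute h.hS h.hF d.ess hτ (d.not_inn ha hane hτc) hσ (d.not_inn hb hbne hσc) hα
    (d.commute_conj hτ hσ ha hb hτc hσc h1 h2)

theorem exists_moves : ∃ α ∈ F.autGroup P, ∃ z : P, (z : Ω) ∈ Zc S ∧ ((α z : P) : Ω) ∉ Zc S := by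
  by_contra hall
  push Not at hall
  obtain ⟨a, ha, haP, hc⟩ := exists_normalizing h d.ess d.mem d.notMem
  have hcZ := d.inter _ hc (h.comm_mem d.hxS ha)
  refine haP (mem_of_series h.hS d.ess.1 (essential_radical h.hS d.ess)
    (fun i => if i = 0 then ⊥ else if i = 1 then Zc S else P) 2 rfl rfl ?_ ?_
    ⟨h.le ha, (mem_normalizer_iff_comm h d.ess d.mem d.notMem ha).2 hc⟩ ?_)
  · intro i hi
    interval_cases i
    · exact bot_le
    · exact Zc_le_essential d.ess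
    · exact le_rfl
  · intro i hi α hα v hv
    interval_cases i
    · simp only [reduceIte, Subgroup.mem_bot] at hv ⊢
      subst hv
      exact (autFn_coe α (1 : P)).trans (by simp)
    · simp only [one_ne_zero, reduceIte] at hv ⊢
      exact (autFn_coe α ⟨v, Zc_le_essential d.ess hv⟩).symm ▸ hall α hα _ hv
    · exact autFn_mem α hv
  · intro i hi v hv
    interval_cases i
    · simp only [Nat.zero_add, one_ne_zero, reduceIte] at hv ⊢
      rw [(mem_Zc.1 hv).2 a (h.le ha), mul_inv_cancel_right, inv_mul_cancel]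
      exact Subgroup.one_mem _
    · simp only [one_ne_zero, reduceIte] at hv ⊢
      obtain ⟨b, hb, -, j, rfl⟩ := decomp_in h d.ess d.mem d.notMem hv
      rw [d.conj_eq ha hcZ hb, inv_mul_cancel_left]
      exact (Zc S).inv_mem ((Zc S).zpow_mem hcZ j)

end AbCase

/-! ### The nonabelian case -/

section NonAb

variable (h : Setup p F A) (hP : F.IsEssential p P) (hx : x ∈ P) (hxA : x ∉ A)
include h hP hx hxA

theorem center_of_nonab {b₀ : Ω} (hb₀ : b₀ ∈ A) (hb₀P : b₀ ∈ P) (hb₀Z : b₀ ∉ Zc S) {v : Ω} (hv : v ∈ P) :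
    v ∈ Zc S ↔ ∀ u ∈ P, u * v = v * u := by
  refine ⟨fun hz u hu => (mem_Zc.1 hz).2 u (hP.1.1 hu), fun hc => ?_⟩
  have hvA : v ∈ A := by
    by_contra hvA
    exact hb₀Z (h.mem_Zc_of_commute (hP.1.1 hv) hvA hb₀ (hc b₀ hb₀P).symm)
  exact h.mem_Zc_of_commute (hP.1.1 hx) hxA hvA (hc x hx)

theorem exists_moves_inter :
    ∃ α ∈ F.autGroup P, ∃ b : P, (b : Ω) ∈ A ∧ ((α b : P) : Ω) ∉ A := by
  by_contra hall
  push Not at hall
  obtain ⟨a, ha, haP, hc⟩ := exists_normalizing h hP hx hxA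
  refine haP (mem_of_series h.hS hP.1 (essential_radical h.hS hP)
    (fun i => if i = 0 then ⊥ else if i = 1 then P ⊓ A else P) 2 rfl rfl ?_ ?_
    ⟨h.le ha, (mem_normalizer_iff_comm h hP hx hxA ha).2 hc⟩ ?_)
  · intro i hi
    interval_cases i
    · exact bot_le
    · exact inf_le_left
    · exact le_rfl
  · intro i hi α hα v hv
    interval_cases i
    · simp only [reduceIte, Subgroup.mem_bot] at hv ⊢
      subst hv
      exact (autFn_coe α (1 : P)).trans (by simp)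
    · simp only [one_ne_zero, reduceIte] at hv ⊢
      refine ⟨autFn_mem α hv.1, ?_⟩
      exact (autFn_coe α ⟨v, hv.1⟩).symm ▸ hall α hα ⟨v, hv.1⟩ hv.2
    · exact autFn_mem α hv
  · intro i hi v hv
    interval_cases i
    · simp only [Nat.zero_add, one_ne_zero, reduceIte] at hv ⊢
      rw [h.comm a ha v hv.2, mul_inv_cancel_right, inv_mul_cancel]
      exact Subgroup.one_mem _
    · simp only [one_ne_zero, reduceIte] at hv ⊢
      have hN := (mem_normalizer_iff_comm h hP hx hxA ha).2 hc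
      refine ⟨P.mul_mem (P.inv_mem hv) ((Subgroup.mem_normalizer_iff.1 hN v).1 hv), ?_⟩
      rw [show v⁻¹ * (a * v * a⁻¹) = v⁻¹ * a * v * a⁻¹ by group]
      exact A.mul_mem (h.conj_mem' (hP.1.1 hv) ha) (A.inv_mem ha)

theorem gen_of_nonab {b₀ : Ω} (hb₀ : b₀ ∈ A) (hb₀P : b₀ ∈ P) (hb₀Z : b₀ ∉ Zc S) :
    (∃ e, Gen h (hP.1.1 hx) e) ∧ P.subgroupOf A = ker h (hP.1.1 hx) 2 := by
  have hxS := hP.1.1 hx
  obtain ⟨α, hα, b, hbA, hyA⟩ := exists_moves_inter h hP hx hxA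
  set y : P := α b with hy
  have hZ : ∀ (β : MulAut P) (v : P), (v : Ω) ∈ Zc S → ((β v : P) : Ω) ∈ Zc S := by
    intro β v hv
    refine (center_of_nonab h hP hx hxA hb₀ hb₀P hb₀Z (β v).2).2 fun u hu => ?_
    obtain ⟨u', hu'⟩ := β.surjective ⟨u, hu⟩
    have hc : u' * v = v * u' := Subtype.ext
      ((center_of_nonab h hP hx hxA hb₀ hb₀P hb₀Z v.2).1 hv u' u'.2)
    have := congrArg (fun w => ((β w : P) : Ω)) hc
    simpa [hu'] using this
  have hyS : (y : Ω) ∈ S := hP.1.1 y.2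
  -- the image of `P ⊓ A` meets `A` in the centre
  have himg : ∀ u : P, (u : Ω) ∈ A → ((α u : P) : Ω) ∈ A → ((α u : P) : Ω) ∈ Zc S := by
    intro u hu huA
    refine h.mem_Zc_of_commute hyS hyA huA ?_
    have hc : b * u = u * b := Subtype.ext (h.comm _ hbA _ hu)
    simpa [hy] using congrArg (fun w => ((α w : P) : Ω)) hc
  -- `P ⊓ A` is generated by `b` modulo the centre
  have hB : ∀ u : P, (u : Ω) ∈ A → ∃ (z : P) (j : ℤ), (z : Ω) ∈ Zc S ∧ u = z * b ^ j := by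
    intro u hu
    obtain ⟨c, hc, hcP, j, e⟩ := decomp_in h hP y.2 hyA (α u).2
    have e' : α (u * (b ^ j)⁻¹) = ⟨c, hcP⟩ := by
      rw [map_mul, map_inv, map_zpow, ← hy, show α u = (⟨c, hcP⟩ : P) * y ^ j from Subtype.ext (by simpa using e),
        mul_inv_cancel_right]
    have hcu : (((u * (b ^ j)⁻¹ : P)) : Ω) ∈ A := by
      simpa using A.mul_mem hu (A.inv_mem (A.zpow_mem hbA j))
    have h1 := himg _ hcu (by rw [e']; exact hc)
    rw [e'] at h1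
    refine ⟨α⁻¹ ⟨c, hcP⟩, j, hZ _ _ h1, ?_⟩
    rw [← e', MulAut.inv_apply_self, inv_mul_cancel_right]
  have hbZ : (b : Ω) ∉ Zc S := fun hb => hyA (h.Zc_le (hZ α b hb))
  have hbp : ((b ^ p : P) : Ω) ∈ Zc S := by
    have h1 := himg (b ^ p) (by simpa using A.pow_mem hbA p) (by simpa [← hy] using h.pow_mem hyS)
    have := hZ α⁻¹ _ h1
    rwa [MulAut.inv_apply_self] at this
  have hcZ : ⁅(y : Ω), (b : Ω)⁆ ∈ Zc S := by
    set v : P := α⁻¹ b with hv
    have hw : (((v * b * v⁻¹ : P)) : Ω) ∈ A := by simpa using h.conj_mem (hP.1.1 v.2) hbA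
    have hw2 : (((v * b * v⁻¹ * b⁻¹ : P)) : Ω) ∈ A := by simpa using A.mul_mem hw (A.inv_mem hbA)
    have e : α (v * b * v⁻¹ * b⁻¹) = b * y * b⁻¹ * y⁻¹ := by
      simp only [map_mul, map_inv, hv, MulAut.apply_inv_self, ← hy]
    have hyb : ⁅(b : Ω), (y : Ω)⁆ ∈ A := by
      rw [← commutatorElement_inv]; exact A.inv_mem (h.comm_mem hyS hbA)
    have h1 := himg _ hw2 (by rw [e]; simpa [commutatorElement_def] using hyb)
    rw [e] at h1
    rw [← commutatorElement_inv]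
    exact (Zc S).inv_mem (by simpa [commutatorElement_def] using h1)
  have hxb : ⁅x, (b : Ω)⁆ ∈ Zc S :=
    ((h.comm_mem_Zc_iff hyS hbA hyA).2 hcZ) x hxS
  have hsub : P.subgroupOf A = ker h hxS 2 := by
    ext a
    rw [Subgroup.mem_subgroupOf, mem_ker_two h hxS hxA]
    constructor
    · intro haP
      obtain ⟨z, j, hz, e⟩ := hB ⟨a, haP⟩ a.2
      have e' : a = (⟨z, h.Zc_le hz⟩ : A) * (⟨b, hbA⟩ : A) ^ j := Subtype.ext (by
        simpa using congrArg Subtype.val e)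
      have h0 : phi h hxS ⟨z, h.Zc_le hz⟩ = 1 := (mem_ker_one h hxS hxA (a := ⟨z, h.Zc_le hz⟩)).2 hz
      rw [← phi_coe h hxS, e', map_mul, map_zpow, h0, one_mul, SubgroupClass.coe_zpow]
      exact (Zc S).zpow_mem hxb j
    · intro hc
      have hN := (mem_normalizer_iff_comm h hP hx hxA a.2).2 (Zc_le_essential hP hc)
      have hs := (h.comm_mem_Zc_iff hxS a.2 hxA).2 hc
      refine mem_of_series h.hS hP.1 (essential_radical h.hS hP)
        (fun i => if i = 0 then ⊥ else if i = 1 then Zc S else P) 2 rfl rfl ?_ ?_ ⟨h.le a.2, hN⟩ ?_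
      · intro i hi
        interval_cases i
        · exact bot_le
        · exact Zc_le_essential hP
        · exact le_rfl
      · intro i hi β hβ v hv
        interval_cases i
        · simp only [reduceIte, Subgroup.mem_bot] at hv ⊢
          subst hv
          exact (autFn_coe β (1 : P)).trans (by simp)
        · simp only [one_ne_zero, reduceIte] at hv ⊢
          exact (autFn_coe β ⟨v, Zc_le_essential hP hv⟩).symm ▸ hZ β _ hv
        · exact autFn_mem β hv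
      · intro i hi v hv
        interval_cases i
        · simp only [Nat.zero_add, one_ne_zero, reduceIte] at hv ⊢
          rw [(mem_Zc.1 hv).2 a (h.le a.2), mul_inv_cancel_right, inv_mul_cancel]
          exact Subgroup.one_mem _
        · simp only [one_ne_zero, reduceIte] at hv ⊢
          have := hs v⁻¹ (S.inv_mem (hP.1.1 hv))
          simpa [commutatorElement_def, mul_assoc] using this
  refine ⟨⟨⁅x, (b : Ω)⁆, hxb, fun e => hbZ ?_, ?_, ⟨⟨b, hbA⟩, rfl⟩, fun a ha => ?_⟩, hsub⟩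
  · exact h.mem_Zc_of_commute hxS hxA hbA (commutatorElement_eq_one_iff_mul_comm.1 e)
  · have := congrArg Subtype.val (show phi h hxS (⟨b, hbA⟩ ^ p) = 1 from
      (mem_ker_one h hxS hxA (a := ⟨b, hbA⟩ ^ p)).2 (by simpa using hbp))
    rw [map_pow, SubgroupClass.coe_pow, phi_coe] at this
    exact this
  · have ha2 : a ∈ ker h hxS 2 := (mem_ker_two h hxS hxA).2 (by rwa [← phi_coe h hxS])
    rw [← hsub, Subgroup.mem_subgroupOf] at ha2
    obtain ⟨z, j, hz, e⟩ := hB ⟨a, ha2⟩ a.2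
    have e' : a = (⟨z, h.Zc_le hz⟩ : A) * (⟨b, hbA⟩ : A) ^ j := Subtype.ext (by
      simpa using congrArg Subtype.val e)
    have h0 : phi h hxS ⟨z, h.Zc_le hz⟩ = 1 := (mem_ker_one h hxS hxA (a := ⟨z, h.Zc_le hz⟩)).2 hz
    rw [e', map_mul, map_zpow, h0, one_mul, SubgroupClass.coe_zpow]
    exact Subgroup.zpow_mem _ (Subgroup.mem_zpowers _) j

/-- The trace of `P` on `A`, and a generator of `Z(S) ⊓ [S, S]`. -/
theorem essential_data :
    (∃ e, Gen h (hP.1.1 hx) e) ∧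
      ((∀ b ∈ P, b ∈ A → b ∈ Zc S) ∧ P.subgroupOf A = ker h (hP.1.1 hx) 1 ∨
        P.subgroupOf A = ker h (hP.1.1 hx) 2) := by
  by_cases hab : ∀ b ∈ P, b ∈ A → b ∈ Zc S
  · refine ⟨(AbCase.mk hP hx hxA hab : AbCase h P x).exists_gen, Or.inl ⟨hab, ?_⟩⟩
    ext a
    rw [Subgroup.mem_subgroupOf, mem_ker_one h _ hxA]
    exact ⟨fun ha => hab a ha a.2, fun hz => Zc_le_essential hP hz⟩
  · push Not at hab
    obtain ⟨b₀, hP₀, hA₀, hZ₀⟩ := hab
    exact ⟨(gen_of_nonab h hP hx hxA hA₀ hP₀ hZ₀).1, Or.inr (gen_of_nonab h hP hx hxA hA₀ hP₀ hZ₀).2⟩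

theorem secondCentre_le : (Subgroup.upperCentralSeries ↥S 2).map S.subtype ≤ A := by
  intro y hy
  by_contra hyA
  obtain ⟨hyS, hyc⟩ := mem_secondCentre.1 hy
  have hxS := hP.1.1 hx
  have htop : ker h hxS 2 = ⊤ := eq_top_iff.2 fun a _ => (mem_ker_two h hxS hxA).2
    ((h.comm_mem_Zc_iff hyS a.2 hyA).2 (by
      rw [← commutatorElement_inv]; exact (Zc S).inv_mem (hyc a (h.le a.2))) x hxS)
  have hlt := essential_lt h.hS h.hF hP
  haveI := finite_A h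
  obtain ⟨⟨e, g⟩, hcase⟩ := essential_data h hP hx hxA
  rcases hcase with ⟨hab, hsub⟩ | hsub
  · have hA : Nat.card A = p * Nat.card (ker h hxS 1) := by
      rw [← Subgroup.card_top (G := A), ← htop, ← Subgroup.relIndex_bot_left (H := ker h hxS 2),
        ← Subgroup.relIndex_mul_relIndex ⊥ (ker h hxS 1) _ bot_le (ker_mono h hxS 1), g.relIndex_eq hxA,
        Subgroup.relIndex_bot_left, mul_comm]
    have hPc : Nat.card P = Nat.card A := by
      rw [card_eq_mul_card_inf h hP.1.1 (fun hle => hxA (hle hx)), hsub, hA]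
    have hidx : P.relIndex S = p := by
      have h1 := Subgroup.relIndex_mul_relIndex ⊥ P S bot_le hP.1.1
      have h2 := Subgroup.relIndex_mul_relIndex ⊥ A S bot_le h.le
      rw [Subgroup.relIndex_bot_left, Subgroup.relIndex_bot_left] at h1 h2
      rw [h.idx, ← h1, hPc] at h2
      haveI := finite_A h
      exact (Nat.eq_of_mul_eq_mul_left Nat.card_pos h2).symm
    have := h.uniq P hP.1.1 ⟨⟨fun u v => Subtype.ext
      ((AbCase.mk hP hx hxA hab : AbCase h P x).comm u.2 v.2).eq⟩⟩ hidx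
    exact hxA (this ▸ hx)
  · refine hlt.not_ge fun s hs => ?_
    obtain ⟨a, ha, j, rfl⟩ := h.decomp hxS hxA hs
    refine P.mul_mem ?_ (P.zpow_mem hx j)
    have : (⟨a, ha⟩ : A) ∈ P.subgroupOf A := by rw [hsub, htop]; exact Subgroup.mem_top _
    exact this

theorem index_normalizer : (P.subgroupOf (normalizerIn S P)).index = p := by
  have hxS := hP.1.1 hx
  set N := normalizerIn S P with hN
  have hPN : P ≤ N := le_normalizerIn hP.1.1
  haveI := finite_A h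
  obtain ⟨⟨e, g⟩, hcase⟩ := essential_data h hP hx hxA
  obtain ⟨k, hsub⟩ : ∃ k, P.subgroupOf A = ker h hxS (k + 1) := by
    rcases hcase with ⟨-, hs⟩ | hs
    · exact ⟨0, hs⟩
    · exact ⟨1, hs⟩
  have hNA : N.subgroupOf A ≤ ker h hxS (k + 2) := fun a ha => by
    rw [mem_ker_succ, ← hsub, Subgroup.mem_subgroupOf, phi_coe]
    exact (mem_normalizer_iff_comm h hP hx hxA a.2).1 (Subgroup.mem_subgroupOf.1 ha).2
  have hcard : Nat.card (N.subgroupOf A) ≤ p * Nat.card (P.subgroupOf A) := by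
    refine (Subgroup.card_le_of_le hNA).trans ?_
    rw [hsub, ← Subgroup.relIndex_bot_left (H := ker h hxS (k + 2)),
      ← Subgroup.relIndex_mul_relIndex ⊥ (ker h hxS (k + 1)) _ bot_le (ker_mono h hxS (k + 1)),
      Subgroup.relIndex_bot_left, mul_comm]
    exact Nat.mul_le_mul_right _ (relIndex_ker_le h hxS (g.relIndex_eq hxA).le k)
  have hP' := card_eq_mul_card_inf h hP.1.1 (fun hle => hxA (hle hx))
  have hN' := card_eq_mul_card_inf h (Q := N) normalizerIn_le (fun hle => hxA (hle (hPN hx)))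
  haveI : Finite N := finite_of_le_base normalizerIn_le
  have hmul : Nat.card (P.subgroupOf N) * (P.subgroupOf N).index = Nat.card N := Subgroup.card_mul_index _
  rw [Nat.card_congr (Subgroup.subgroupOfEquivOfLe hPN).toEquiv] at hmul
  haveI : Finite P := finite_of_le_base hP.1.1
  have hle : (P.subgroupOf N).index ≤ p := by
    refine Nat.le_of_mul_le_mul_left ?_ (Nat.card_pos (α := P))
    rw [hmul, hN', hP', mul_assoc]
    exact Nat.mul_le_mul_left _ (by rwa [mul_comm (Nat.card (P.subgroupOf A))])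
  obtain ⟨i, hi⟩ := (h.hS.to_le (normalizerIn_le (S := S) (P := P))).index (P.subgroupOf N)
  have hi0 : i ≠ 0 := by
    rintro rfl
    rw [pow_zero, Subgroup.index_eq_one, Subgroup.subgroupOf_eq_top] at hi
    exact (lt_normalizerIn h.hS (essential_lt h.hS h.hF hP)).not_ge hi
  rw [hi] at hle ⊢
  have : i = 1 := by
    by_contra hne
    have h2 : p ^ 2 ≤ p ^ i := Nat.pow_le_pow_right hp.out.pos (by omega)
    have := h2.trans hle
    nlinarith [hp.out.one_lt]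
  rw [this, pow_one]

end NonAb

end CfsgLib.Fsys.AbelianIndexP
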