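import Cfsg.Agent.Lib.FusionSystem.SectionFree
import Cfsg.Agent.Lib.FusionSystem.NilpotencyCriterion
import Mathlib.Algebra.Polynomial.AlgebraMap
/-
If the class of a Sylow subgroup `T` is at most `n(p-1)+1`, the powers `p^n` of `Z(T)` are controlled by `N(T)`;
the consequence for saturated systems.
-/
set_option autoImplicit false

namespace CfsgLib.Fsys.Agemo

open Cfsg
open scoped Pointwise commutatorElement
open Polynomial

/-- In any ring, `(1+d)^p = 1` and `d^(n(p-1)+1) = 0` give `p^n d = 0`. -/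
theorem pow_mul_eq_zero {R : Type*} [Ring R] {p : ℕ} (hp : p.Prime) (n : ℕ) {d : R} (h1 : (1 + d) ^ p = 1)
    (h2 : d ^ (n * (p - 1) + 1) = 0) : (p : R) ^ n * d = 0 := by
  obtain ⟨r, hr⟩ := (Commute.one_left (X : ℤ[X])).exists_add_pow_prime_eq hp
  rw [one_pow, mul_one] at hr
  -- the constant coefficient of `r` is `1`
  have hr0 : r.coeff 0 = 1 := by
    have h := congrArg (fun q : ℤ[X] => q.coeff 1) hr
    simp only [coeff_one_add_X_pow, Nat.choose_one_right, coeff_add, coeff_one, coeff_X_pow,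
      one_ne_zero, if_false, if_neg hp.one_lt.ne] at h
    rw [show ((p : ℤ[X]) * X * r) = X * ((p : ℤ[X]) * r) by ring, show (1 : ℕ) = 0 + 1 from rfl,
      coeff_X_mul, coeff_natCast_mul] at h
    have hp0 : (p : ℤ) ≠ 0 := Nat.cast_ne_zero.2 hp.ne_zero
    exact mul_left_cancel₀ hp0 (by simpa using h.symm)
  obtain ⟨u, hu⟩ : X ∣ r - 1 := X_dvd_iff.2 (by simp [hr0])
  set w : R := aeval d u with hw
  have hcom : Commute d w := by
    rw [hw]
    conv_lhs => rw [← aeval_X (R := ℤ) d]
    exact (Commute.all X u).map (aeval d)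
  have he : (1 : R) + d ^ p + (p : R) * d * (1 + d * w) = 1 := by
    have h := congrArg (aeval d) hr
    rw [show r = 1 + X * u by rw [← hu]; ring] at h
    simp only [map_add, map_mul, map_pow, map_one, map_natCast, aeval_X] at h
    rw [← h, h1]
  have he' : (p : R) * d * (1 + d * w) = -d ^ p :=
    eq_neg_of_add_eq_zero_right (by rw [add_assoc] at he; exact add_left_cancel (he.trans (add_zero 1).symm))
  have hnil : IsNilpotent (d * w) := hcom.isNilpotent_mul_right ⟨_, h2⟩
  obtain ⟨e, hee⟩ := hnil.isUnit_one_add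
  set v : R := ((e⁻¹ : Rˣ) : R) with hv
  have hdv : Commute d v := by
    rw [hv]
    refine Commute.units_inv_right ?_
    rw [hee]
    exact (Commute.one_right d).add_right ((Commute.refl d).mul_right hcom)
  have hpd : (p : R) * d = d * (d ^ (p - 1) * -v) := by
    rw [← mul_assoc, ← pow_succ', Nat.sub_add_cancel hp.one_le, mul_neg, ← neg_mul, ← he', mul_assoc _ (1 + d * w),
      hv, ← hee, Units.mul_inv, mul_one]
  suffices key : ∀ i, (p : R) ^ i * d = d ^ (i * (p - 1) + 1) * (-v) ^ i by rw [key, h2, zero_mul]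
  intro i
  induction i with
  | zero => simp
  | succ i ih =>
    rw [pow_succ', mul_assoc, ih, ← mul_assoc, pow_succ', ← mul_assoc, hpd, ← mul_assoc, pow_succ' (-v)]
    have hc2 : Commute (-v) (d ^ (i * (p - 1))) := (hdv.pow_left _).neg_right.symm
    rw [mul_assoc (d * d ^ (p - 1)), hc2.eq, ← mul_assoc, mul_assoc _ (-v), ← pow_succ', ← pow_add]
    congr 2
    ring

variable {L : Type*} [Group L] {p : ℕ} [Fact p.Prime]

/-- The centralizer of the `p^n`-th powers of a set. -/
def powCent (n p : ℕ) (A : Set L) : Subgroup L := Subgroup.centralizer ((fun z => z ^ p ^ n) '' A)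

theorem mem_powCent {n : ℕ} {A : Set L} {g : L} :
    g ∈ powCent n p A ↔ ∀ z ∈ A, z ^ p ^ n * g = g * z ^ p ^ n := by
  simp [powCent, Subgroup.mem_centralizer_iff]

/-- An element of `T` whose `p`-th power centralizes the normal abelian `V` centralizes its `p^n`-th powers. -/
theorem commute_pow (n : ℕ) {T V : Subgroup L} [V.Normal] (hVT : V ≤ T)
    (hcl : Subgroup.lowerCentralSeries T (n * (p - 1) + 1) = ⊥) (hab : ∀ a ∈ V, ∀ b ∈ V, a * b = b * a)
    {x : L} (hx : x ∈ T) (hxp : x ^ p ∈ Subgroup.centralizer (V : Set L)) : x ∈ powCent n p (V : Set L) := by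
  letI : CommGroup V :=
    { (inferInstance : Group V) with mul_comm := fun a b => Subtype.ext (hab a a.2 b b.2) }
  let ρ : L →* AddMonoid.End (Additive V) :=
    { toFun := fun g => MonoidHom.toAdditive (MulAut.conjNormal (H := V) g).toMonoidHom
      map_one' := by
        refine AddMonoidHom.ext fun v => ?_
        apply Additive.toMul.injective
        refine Subtype.ext ?_
        show (1 : L) * ((Additive.toMul v : V) : L) * (1 : L)⁻¹ = ((Additive.toMul v : V) : L)
        simp
      map_mul' := fun g h => by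
        refine AddMonoidHom.ext fun v => ?_
        apply Additive.toMul.injective
        refine Subtype.ext ?_
        show g * h * ((Additive.toMul v : V) : L) * (g * h)⁻¹ = g * (h * ((Additive.toMul v : V) : L) * h⁻¹) * g⁻¹
        group }
  set d := ρ x - 1 with hd
  have h1 : (1 + d) ^ p = 1 := by
    rw [hd, add_sub_cancel, ← map_pow]
    refine AddMonoidHom.ext fun v => ?_
    apply Additive.toMul.injective
    refine Subtype.ext ?_
    show x ^ p * ((Additive.toMul v : V) : L) * (x ^ p)⁻¹ = ((Additive.toMul v : V) : L)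
    rw [← Subgroup.mem_centralizer_iff.1 hxp _ (Additive.toMul v : V).2, mul_inv_cancel_right]
  have hdv : ∀ v, ((Additive.toMul (d v) : V) : L) = ⁅x, ((Additive.toMul v : V) : L)⁆ := fun v => by
    show x * ((Additive.toMul v : V) : L) * x⁻¹ / ((Additive.toMul v : V) : L) = _
    rw [div_eq_mul_inv, commutatorElement_def]
  have hpow : ∀ i v, ((Additive.toMul ((d ^ i) v) : V) : L) ∈ Subgroup.lowerCentralSeries T i := by
    intro i
    induction i with
    | zero => intro v; exact hVT (Additive.toMul v : V).2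
    | succ i ih =>
      intro v
      rw [pow_succ']
      show ((Additive.toMul (d ((d ^ i) v)) : V) : L) ∈ _
      rw [hdv, Subgroup.lowerCentralSeries_succ, Subgroup.commutator_comm]
      exact Subgroup.commutator_mem_commutator hx (ih v)
  have h2 : d ^ (n * (p - 1) + 1) = 0 := by
    refine AddMonoidHom.ext fun v => ?_
    apply Additive.toMul.injective
    refine Subtype.ext ?_
    have h := hpow (n * (p - 1) + 1) v
    rw [hcl, Subgroup.mem_bot] at h
    exact h
  refine mem_powCent.2 fun z hz => ?_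
  have h3 := congrArg (fun f : AddMonoid.End (Additive V) => f (Additive.ofMul ⟨z, hz⟩))
    (pow_mul_eq_zero (Fact.out : p.Prime) n h1 h2)
  have h4 : d ((p ^ n) • Additive.ofMul (⟨z, hz⟩ : V)) = 0 := by
    rw [map_nsmul]
    have h5 : (((p ^ n : ℕ) : AddMonoid.End (Additive V)) * d) (Additive.ofMul ⟨z, hz⟩) = 0 := by
      rw [Nat.cast_pow]; exact h3
    exact h5
  have h6 : ((Additive.toMul (d ((p ^ n) • Additive.ofMul (⟨z, hz⟩ : V))) : V) : L) = 1 := by rw [h4]; rfl
  rw [hdv] at h6
  exact ((commutatorElement_eq_one_iff_mul_comm).1 h6).symm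

theorem eq_top_aux (n : ℕ) : ∀ (k : ℕ) (L : Type*) [Group L] [Finite L], Nat.card L = k → ∀ (T : Sylow p L),
    Subgroup.lowerCentralSeries (T : Subgroup L) (n * (p - 1) + 1) = ⊥ →
    (T : Subgroup L) ⊓ Subgroup.centralizer ((T : Subgroup L) : Set L) ≤ pCore p L →
    ∀ g : L, ∃ c ∈ powCent n p (((T : Subgroup L) ⊓ Subgroup.centralizer ((T : Subgroup L) : Set L) : Subgroup L) : Set L),
      ∃ h ∈ Subgroup.normalizer ((T : Subgroup L) : Set L), g = c * h := by
  intro k
  induction k using Nat.strong_induction_on with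
  | _ k ih =>
  intro L _ _ hk T hcl hZO g
  set Z := (T : Subgroup L) ⊓ Subgroup.centralizer ((T : Subgroup L) : Set L) with hZ
  set O := pCore p L with hO
  have hOn : O.Normal := LocalEven.SylowIn.pCore_normal L p
  have hOp : IsPGroup p O := LocalEven.SylowIn.isPGroup_pCore L p
  have hOT : O ≤ (T : Subgroup L) := hOp.le_sylow_of_normal T
  set V := Subgroup.normalClosure (Z : Set L) with hV
  have hVn : V.Normal := inferInstance
  have hVO : V ≤ O ⊓ Subgroup.centralizer (O : Set L) := by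
    have : (O ⊓ Subgroup.centralizer (O : Set L)).Normal := inferInstance
    exact Subgroup.normalClosure_le_normal fun z hz => ⟨hZO hz,
      Subgroup.mem_centralizer_iff.2 fun y hy => Subgroup.mem_centralizer_iff.1 hz.2 y (hOT hy)⟩
  have hab : ∀ a ∈ V, ∀ b ∈ V, a * b = b * a := fun a ha b hb =>
    (Subgroup.mem_centralizer_iff.1 (hVO hb).2 a (hVO ha).1)
  have hZV : Z ≤ V := fun z hz => Subgroup.subset_normalClosure hz
  set C := Subgroup.centralizer (V : Set L) with hC
  have hCn : C.Normal := inferInstanceAs ((Subgroup.centralizer (V : Set L)).Normal)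
  set K := powCent n p (V : Set L) with hK
  have hKn : K.Normal := ⟨fun a ha y => mem_powCent.2 fun z hz => by
    have h1 := mem_powCent.1 ha (y⁻¹ * z * y) (by simpa using hVn.conj_mem z hz y⁻¹)
    have h2 : (y⁻¹ * z * y) ^ p ^ n = y⁻¹ * z ^ p ^ n * y := by
      simpa using conj_pow (a := y⁻¹) (b := z) (i := p ^ n)
    rw [h2] at h1
    calc z ^ p ^ n * (y * a * y⁻¹) = y * (y⁻¹ * z ^ p ^ n * y * a) * y⁻¹ := by group
      _ = _ := by rw [h1]; group⟩
  have hKW : K ≤ powCent n p (Z : Set L) := fun a ha => mem_powCent.2 fun z hz => mem_powCent.1 ha z (hZV hz)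
  by_cases hTC : (T : Subgroup L) ≤ C
  · -- Frattini along the centralizer
    have htop := Sylow.normalizer_sup_eq_top (T.subtype hTC)
    rw [Sylow.coe_subtype, Subgroup.map_subgroupOf_eq_of_le hTC, sup_comm] at htop
    have hg : g ∈ (C : Set L) * (Subgroup.normalizer ((T : Subgroup L) : Set L) : Set L) := by
      rw [← Subgroup.normal_mul, htop]; trivial
    obtain ⟨c, hc, h, hh, rfl⟩ := hg
    refine ⟨c, hKW (mem_powCent.2 fun z hz => ?_), h, hh, rfl⟩
    exact Subgroup.mem_centralizer_iff.1 hc _ (V.pow_mem hz _)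
  set T₀ := (T : Subgroup L) ⊓ K with hT₀
  have hT₀C : ¬ T₀ ≤ C := by
    intro hle
    obtain ⟨t, ht, htC⟩ := SetLike.not_le_iff_exists.1 hTC
    obtain ⟨i, hi⟩ := T.isPGroup' ⟨t, ht⟩
    have hi' : t ^ p ^ i ∈ C := by
      rw [show t ^ p ^ i = 1 from congrArg Subtype.val hi]; exact one_mem C
    classical
    have hex : ∃ j, t ^ p ^ j ∈ C := ⟨i, hi'⟩
    obtain ⟨j, hj⟩ := Nat.exists_eq_succ_of_ne_zero (n := Nat.find hex) (fun h0 => htC (by
      have := Nat.find_spec hex
      rwa [h0, pow_zero, pow_one] at this))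
    have hjC : t ^ p ^ j ∉ C := Nat.find_min hex (by omega)
    refine hjC (hle ⟨(T : Subgroup L).pow_mem ht _, ?_⟩)
    refine commute_pow (T := (T : Subgroup L)) n ((hVO.trans inf_le_left).trans hOT) hcl hab
      ((T : Subgroup L).pow_mem ht _) ?_
    rw [← pow_mul, ← pow_succ]
    have := Nat.find_spec hex
    rwa [hj] at this
  set M := Subgroup.normalizer (T₀ : Set L) with hM
  have hTM : (T : Subgroup L) ≤ M := by
    refine le_trans (le_inf Subgroup.le_normalizer ?_) Subgroup.inf_normalizer_le_normalizer_inf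
    rw [Subgroup.normalizer_eq_top]; exact le_top
  have hMtop : M ≠ ⊤ := by
    intro h
    have : T₀.Normal := Subgroup.normalizer_eq_top_iff.1 h
    have hle : T₀ ≤ O := le_sSup ⟨‹_›, T.isPGroup'.to_le inf_le_left⟩
    exact hT₀C fun x hx => Subgroup.mem_centralizer_iff.2 fun v hv =>
      (Subgroup.mem_centralizer_iff.1 (hVO hv).2 x (hle hx)).symm
  have htop : M ⊔ K = ⊤ := by
    obtain ⟨Q, hQ⟩ : ∃ Q : Sylow p K, (Q : Subgroup K) = (T : Subgroup L).subgroupOf K := by
      refine ⟨(T.isPGroup'.comap_subtype (K := K)).toSylow ?_, rfl⟩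
      have h := Fusion.Basic.not_dvd_relIndex_of_normal T K
      rwa [Subgroup.inf_relIndex_right] at h
    have h := Sylow.normalizer_sup_eq_top Q
    rwa [hQ, ← Subgroup.inf_subgroupOf_right, Subgroup.map_subgroupOf_eq_of_le inf_le_right] at h
  have hg : g ∈ (K : Set L) * (M : Set L) := by rw [← Subgroup.normal_mul, sup_comm, htop]; trivial
  obtain ⟨c₁, hc₁, m, hm, rfl⟩ := hg
  have hlt : Nat.card M < k := hk ▸ lt_of_le_of_ne (Subgroup.card_le_card_group M) fun h =>
    hMtop (Subgroup.eq_top_of_card_eq M h)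
  have hTs : ((T.subtype hTM : Sylow p M) : Subgroup M).map M.subtype = (T : Subgroup L) := by
    rw [Sylow.coe_subtype, Subgroup.map_subgroupOf_eq_of_le hTM]
  have hcl' : Subgroup.lowerCentralSeries ((T.subtype hTM : Sylow p M) : Subgroup M) (n * (p - 1) + 1) = ⊥ := by
    apply Subgroup.map_injective M.subtype_injective
    rw [Subgroup.map_lowerCentralSeries, hTs, hcl, Subgroup.map_bot]
  obtain ⟨c₂, hc₂, h, hh, he⟩ := ih _ hlt M rfl (T.subtype hTM) hcl' (fun z hz => by
    have hO' : O.subgroupOf M ≤ pCore p M := le_sSup ⟨inferInstance, hOp.comap_subtype⟩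
    refine hO' (hZO ⟨hz.1, Subgroup.mem_centralizer_iff.2 fun y hy => ?_⟩)
    exact congrArg Subtype.val (Subgroup.mem_centralizer_iff.1 hz.2 ⟨y, hTM hy⟩ hy)) ⟨m, hm⟩
  refine ⟨c₁ * c₂, mul_mem (hKW hc₁) ?_, h, ?_, ?_⟩
  · refine mem_powCent.2 fun z hz => ?_
    have h1 := mem_powCent.1 hc₂ ⟨z, hTM hz.1⟩ ⟨hz.1, Subgroup.mem_centralizer_iff.2 fun y hy =>
      Subtype.ext (Subgroup.mem_centralizer_iff.1 hz.2 _ hy)⟩
    exact congrArg Subtype.val h1
  · have := Subgroup.le_normalizer_map M.subtype ⟨h, hh, rfl⟩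
    rwa [hTs] at this
  · have he' : m = (c₂ : L) * h := congrArg Subtype.val he
    simp [he', mul_assoc]

end CfsgLib.Fsys.Agemo

namespace CfsgLib.Fsys

open Cfsg
open Cfsg.FusionSystem (centralizerIn normalizerIn)
open scoped commutatorElement

universe u

theorem pow_eq_one_of_center_exponent {p n : ℕ} : ∀ (k : ℕ) (G : Type u) [Group G],
    (⊤ : Subgroup G).lowerCentralSeries k = ⊥ →
    (∀ z ∈ Subgroup.center G, z ^ p ^ n = 1) → ∀ x : G, x ^ p ^ (n * k) = 1 := by
  intro k
  induction k with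
  | zero =>
    intro G _ h _ x
    rw [Subgroup.lowerCentralSeries_zero] at h
    rw [Nat.mul_zero, pow_zero, pow_one]
    exact Subgroup.mem_bot.1 (h ▸ Subgroup.mem_top x)
  | succ k ih =>
    intro G _ h hc x
    have hle : (⊤ : Subgroup G).lowerCentralSeries k ≤ Subgroup.center G := fun a ha =>
      Subgroup.mem_center_iff.2 fun g => by
        have h1 : ⁅a, g⁆ ∈ (⊤ : Subgroup G).lowerCentralSeries (k + 1) :=
          Subgroup.commutator_mem_commutator ha (Subgroup.mem_top g)
        rw [h, Subgroup.mem_bot, commutatorElement_eq_one_iff_mul_comm] at h1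
        exact h1.symm
    have hq : (⊤ : Subgroup (G ⧸ Subgroup.center G)).lowerCentralSeries k = ⊥ := by
      rw [← Subgroup.map_top_of_surjective _ (QuotientGroup.mk'_surjective (Subgroup.center G)),
        ← Subgroup.map_lowerCentralSeries, Subgroup.map_eq_bot_iff, QuotientGroup.ker_mk']
      exact hle
    have hcq : ∀ z ∈ Subgroup.center (G ⧸ Subgroup.center G), z ^ p ^ n = 1 := by
      intro z hz
      obtain ⟨a, rfl⟩ := QuotientGroup.mk'_surjective (Subgroup.center G) z
      rw [← map_pow]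
      refine (QuotientGroup.eq_one_iff _).2 (Subgroup.mem_center_iff.2 fun g => ?_)
      have he : ⁅g, a⁆ ∈ Subgroup.center G := by
        have h2 := Subgroup.mem_center_iff.1 hz (QuotientGroup.mk' (Subgroup.center G) g)
        refine (QuotientGroup.eq_one_iff _).1 ?_
        show QuotientGroup.mk' (Subgroup.center G) ⁅g, a⁆ = 1
        rw [map_commutatorElement, commutatorElement_eq_one_iff_mul_comm]
        exact h2
      have hga : g * a * g⁻¹ = ⁅g, a⁆ * a := by rw [commutatorElement_def]; group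
      have h3 : g * a ^ p ^ n * g⁻¹ = a ^ p ^ n := by
        rw [← conj_pow, hga, (show Commute ⁅g, a⁆ a from (Subgroup.mem_center_iff.1 he a).symm).mul_pow, hc _ he,
          one_mul]
      exact mul_inv_eq_iff_eq_mul.1 h3
    have h4 := ih (G ⧸ Subgroup.center G) hq hcq (QuotientGroup.mk' (Subgroup.center G) x)
    rw [← map_pow] at h4
    have h5 := hc _ ((QuotientGroup.eq_one_iff _).1 h4)
    rwa [← pow_mul, ← pow_add, show n * k + n = n * (k + 1) by ring] at h5

variable {Ω : Type u} [Group Ω] {S : Subgroup Ω} {F : FusionSystem S} [Finite S] {p : ℕ} [Fact p.Prime]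

theorem lowerCentralSeries_mono {A B : Subgroup Ω} (h : A ≤ B) :
    ∀ k, Subgroup.lowerCentralSeries A k ≤ Subgroup.lowerCentralSeries B k
  | 0 => h
  | k + 1 => Subgroup.commutator_mono (lowerCentralSeries_mono h k) h

/-- If `S` has class at most `n(p-1)+1`, the powers `p^n` of the centre generate a normal subgroup. -/
theorem agemo_center_normal (hS : IsPGroup p S) (hF : F.IsSaturated p) (n : ℕ)
    (hcl : Subgroup.lowerCentralSeries S (n * (p - 1) + 1) = ⊥) :
    F.IsNormal (powerClosure p n (S ⊓ Subgroup.centralizer (S : Set Ω))) := by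
  set W := powerClosure p n (S ⊓ Subgroup.centralizer (S : Set Ω)) with hW
  have hWZ : W ≤ S ⊓ Subgroup.centralizer (S : Set Ω) := by
    refine (Subgroup.closure_le _).2 ?_
    rintro _ ⟨x, hx, rfl⟩
    exact pow_mem hx _
  have hWS : W ≤ S := hWZ.trans inf_le_left
  have hWn : S ≤ Subgroup.normalizer (W : Set Ω) := fun s hs => mem_normalizer_iff'.2
    ⟨fun y hy => by rwa [Subgroup.mem_centralizer_iff.1 (hWZ hy).2 s hs, mul_inv_cancel_right],
     fun y hy => by
      rwa [← Subgroup.mem_centralizer_iff.1 (hWZ hy).2 s⁻¹ (S.inv_mem hs) |>.symm, mul_assoc, inv_mul_cancel, mul_one]⟩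
  have hkS : kN S W (⊤ : Subgroup (MulAut W)) = S := kN_top.trans (inf_eq_left.2 hWn)
  obtain ⟨E, hE⟩ := exists_cast hkS (kSystem F W hWS ⊤)
  have hEfn : ∀ {P : Subgroup Ω} {f : Ω → Ω}, Fn E P f ↔ KMap F W ⊤ P f := fun {P f} => by
    rw [← fn_kSystem (hQ := hWS), Fn, Fn, hE]
  have hin : ∀ {D : Subgroup Ω} {f : Ω → Ω}, Fn F D f → W ≤ D → img f W = W → Fn E D f := fun {D f} hf hle hi =>
    hEfn.2 ⟨hkS.symm ▸ hf.le, fun x hx => hkS.symm ▸ hf.mem hx, f, by rwa [sup_eq_left.2 hle],
      fun x _ => rfl, (ind_top_iff hf hle).2 hi⟩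
  have hout : ∀ {D : Subgroup Ω} {f : Ω → Ω}, Fn E D f → W ≤ D → img f W = W := fun {D f} hf hle => by
    obtain ⟨-, -, g, hg, hge, hgW⟩ := hEfn.1 hf
    rw [img_congr fun x hx => (hge x (hle hx)).symm]
    exact (ind_top_iff hg le_sup_right).1 hgW
  have hautS : F.autGroup S ≤ E.autGroup S := fun α hα => by
    have hf := (mem_autGroup_iff_fn le_rfl).1 hα
    refine (mem_autGroup_iff_fn le_rfl).2 (hin hf hWS ((hf.mono hWS).img_eq_self ?_))
    have hle : W ≤ Subgroup.closure {x | x ∈ S ∧ autFn α x ∈ W} := by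
      refine (Subgroup.closure_le _).2 ?_
      rintro _ ⟨x, hx, rfl⟩
      refine Subgroup.subset_closure ⟨S.pow_mem hx.1 _, ?_⟩
      have hpow : ∀ i : ℕ, autFn α (x ^ i) = autFn α x ^ i := by
        intro i
        induction i with
        | zero => rw [pow_zero, pow_zero]; exact hf.map_one
        | succ i ih => rw [pow_succ, pow_succ, hf.map_mul (S.pow_mem hx.1 _) hx.1, ih]
      rw [hpow]
      refine Subgroup.subset_closure ⟨autFn α x, ⟨hf.mem hx.1, Subgroup.mem_centralizer_iff.2 fun y hy => ?_⟩, rfl⟩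
      rw [← autFn_apply_inv α hy, ← hf.map_mul (autFn_mem _ hy) hx.1,
        Subgroup.mem_centralizer_iff.1 hx.2 _ (autFn_mem α⁻¹ hy), hf.map_mul hx.1 (autFn_mem _ hy)]
    intro x hx
    refine Subgroup.closure_induction (p := fun x _ => x ∈ S ∧ autFn α x ∈ W) (fun y hy => hy)
      ⟨S.one_mem, by rw [hf.map_one]; exact W.one_mem⟩
      (fun a b _ _ ha hb => ⟨S.mul_mem ha.1 hb.1, by rw [hf.map_mul ha.1 hb.1]; exact W.mul_mem ha.2 hb.2⟩)
      (fun a _ ha => ⟨S.inv_mem ha.1, by rw [hf.map_inv ha.1]; exact W.inv_mem ha.2⟩) (hle hx) |>.2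
  have hle : F ≤ E := by
    refine le_of_automizers hS hF E hautS fun P hPS hP hbig => ?_
    by_cases hc : F.IsCentric P
    · intro α hα
      set R := normalizerIn S P with hR
      obtain ⟨N, hN⟩ := exists_normalizerSystem F hP.1
      obtain ⟨G, _, ι, hG⟩ := exists_normalizer_model hS hF hP hc hN
      have hRS : R ≤ S := normalizerIn_le
      have hfinR := finite_of_le_base hRS
      have hPR : P ≤ R := le_normalizerIn hP.1
      have hNn := normalizerSystem_normal hN hP.1
      obtain ⟨pj, hpj, -⟩ := exists_model_proj (hQ := hNn) hG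
      obtain ⟨hfin, hι, ⟨T, hT⟩, -⟩ := id hG
      have hZP : S ⊓ Subgroup.centralizer (S : Set Ω) ≤ P := fun z hz => centralizer_le_of_centric hc
        (mem_centralizerIn.2 ⟨hz.1, fun y hy => Subgroup.mem_centralizer_iff.1 hz.2 y (hP.1 hy)⟩)
      have hWP : W ≤ P := hWZ.trans hZP
      have hPcore : (P.subgroupOf R).map ι ≤ pCore p G := by
        refine le_sSup ⟨⟨?_⟩, ((hS.to_le hRS).to_subgroup _).map ι⟩
        rintro _ ⟨x, hx, rfl⟩ g
        refine ⟨⟨aFn (pj g) x, hNn.1 (aFn_mem _ hx)⟩, aFn_mem (pj g) hx, ?_⟩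
        rw [hpj g x hx, mul_inv_cancel_right]
      have hclT : Subgroup.lowerCentralSeries (T : Subgroup G) (n * (p - 1) + 1) = ⊥ := by
        rw [hT, MonoidHom.range_eq_map, ← Subgroup.map_lowerCentralSeries, Subgroup.map_eq_bot_iff_of_injective _ hι.1]
        apply Subgroup.map_injective R.subtype_injective
        rw [Subgroup.map_lowerCentralSeries, ← MonoidHom.range_eq_map, Subgroup.range_subtype, Subgroup.map_bot]
        exact le_bot_iff.1 ((lowerCentralSeries_mono hRS _).trans hcl.le)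
      have hZT : (T : Subgroup G) ⊓ Subgroup.centralizer ((T : Subgroup G) : Set G) ≤ pCore p G := by
        rintro t ⟨ht, htc⟩
        obtain ⟨x, rfl⟩ := hT.le ht
        refine hPcore ⟨x, centralizer_le_of_centric hc (mem_centralizerIn.2 ⟨hRS x.2, fun y hy => ?_⟩), rfl⟩
        have h1 := Subgroup.mem_centralizer_iff.1 htc (ι ⟨y, hPR hy⟩) (hT.ge ⟨_, rfl⟩)
        rw [← map_mul, ← map_mul] at h1
        exact congrArg Subtype.val (hι.1 h1)
      have hPS' : P ≤ S := hP.1
      have hαN : α ∈ N.autGroup P := (mem_autGroup_iff_fn hPR).2 ((fn_normalizerSystem hN).2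
        ⟨hPR, fun x hx => hPR (autFn_mem α hx), autFn α,
          by rw [sup_idem]; exact (mem_autGroup_iff_fn hPS').1 hα, fun x _ => rfl, img_autFn α⟩)
      obtain ⟨φ, hφ, hφe⟩ := (mem_autGroup_iff_fn hPR).1 hαN
      obtain ⟨g, hg⟩ := (hι.2 P hPR φ fun x => (N.le_of_mem hφ).2 x).1 hφ
      obtain ⟨c, hc', h, hh, rfl⟩ := Agemo.eq_top_aux n _ G rfl T hclT hZT g
      -- the part normalizing the Sylow subgroup
      have hhR : ∀ x : R, ∃ y : R, ι y = h * ι x * h⁻¹ := fun x =>
        hT.le ((Subgroup.mem_normalizer_iff.1 hh _).1 (hT.ge ⟨x, rfl⟩))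
      choose y hy using hhR
      let ψ : R →* Ω := MonoidHom.mk' (fun x => (y x : Ω)) fun a b => by
        show ((y (a * b) : R) : Ω) = (y a : R) * (y b : R)
        rw [← Subgroup.coe_mul]
        refine congrArg Subtype.val (hι.1 ?_)
        rw [map_mul, hy, hy, hy, map_mul]
        group
      have hψ : ψ ∈ N.Hom R := (hι.2 R le_rfl ψ fun x => (y x).2).2 ⟨h, fun x => hy x⟩
      have hψE : Fn E R (ofHom ψ) := hbig R _ (card_lt_of_lt' (lt_normalizerIn hS hPS))
        ((fn_ofHom hψ).of_subsystem (normalizerSystem_sub hN))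
      have hψW := hout hψE (hWP.trans hPR)
      have hcW : ∀ w (hw : w ∈ W), c * ι ⟨w, hPR (hWP hw)⟩ = ι ⟨w, hPR (hWP hw)⟩ * c := by
        have hle : W ≤ (((Subgroup.centralizer {c}).comap ι)).map R.subtype := by
          refine (Subgroup.closure_le _).2 ?_
          rintro _ ⟨x, hx, rfl⟩
          refine ⟨⟨x, hPR (hZP hx)⟩ ^ p ^ n, ?_, rfl⟩
          rw [SetLike.mem_coe, Subgroup.mem_comap, Subgroup.mem_centralizer_singleton_iff, map_pow]
          refine Agemo.mem_powCent.1 hc' _ ⟨hT.ge ⟨_, rfl⟩, Subgroup.mem_centralizer_iff.2 fun t ht => ?_⟩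
          obtain ⟨s, rfl⟩ := hT.le ht
          rw [← map_mul, ← map_mul]
          exact congrArg ι (Subtype.ext (Subgroup.mem_centralizer_iff.1 hx.2 _ (hRS s.2)))
        intro w hw
        obtain ⟨x, hx, hxe⟩ := hle hw
        obtain rfl : x = ⟨w, hPR (hWP hw)⟩ := Subtype.ext hxe
        exact (Subgroup.mem_centralizer_singleton_iff.1 hx).symm
      have hαψ : ∀ w ∈ W, autFn α w = ofHom ψ w := fun w hw => by
        have hψw : ofHom ψ w ∈ W := hψW.le (mem_img_of_mem hw)
        rw [← hφe ⟨w, hWP hw⟩]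
        have h1 := hg ⟨w, hWP hw⟩
        have h2 := hy ⟨w, hPR (hWP hw)⟩
        have h3 := hcW _ hψw
        have h4 : (⟨ofHom ψ w, hPR (hWP hψw)⟩ : R) = y ⟨w, hPR (hWP hw)⟩ := Subtype.ext (ofHom_apply ψ (hPR (hWP hw)))
        rw [h4, h2] at h3
        refine (congrArg Subtype.val (hι.1 (h1.trans ?_))).trans (congrArg Subtype.val h4).symm
        rw [h2, mul_inv_rev]
        calc c * h * ι ⟨w, hPR (hWP hw)⟩ * (h⁻¹ * c⁻¹) = c * (h * ι ⟨w, hPR (hWP hw)⟩ * h⁻¹) * c⁻¹ := by group
          _ = _ := by rw [h3]; group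
      exact (mem_autGroup_iff_fn hPS').2 (hin ((mem_autGroup_iff_fn hPS').1 hα) hWP
        ((img_congr hαψ).trans hψW))
    · rw [← extClosure_eq_of_not_centric hS hF hP hc]
      refine (Subgroup.closure_le _).2 fun α hα => ?_
      obtain ⟨Q, g, hPQ, hg, hgα⟩ := hα
      have hgE : Fn E Q g := hbig Q g (by
        have := finite_of_le_base hg.le
        exact card_lt_of_lt' hPQ) hg
      exact (mem_autGroup hPS.le).2 (mem_hom_of_fn (hgE.mono hPQ.le) fun x => (hgα x).symm)
  refine normal_iff_fn.2 ⟨hWS, fun P f hf => ?_⟩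
  obtain ⟨-, -, g, hg, hge, hgQ⟩ := hEfn.1 (fn_of_le hle hf)
  exact ⟨g, hg, hge, (ind_top_iff hg le_sup_right).1 hgQ⟩

end CfsgLib.Fsys
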