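import Cfsg.Agent.Lib.FusionSystem.SmallElements
import Cfsg.Agent.Lib.PGroup.FrattiniAct

/-! Small essential subgroups: invariant lines of the Frattini quotient, two-generator abelian ones. -/

set_option autoImplicit false
set_option linter.unusedSectionVars false

open Cfsg Cfsg.FusionSystem
open CfsgLib.PGroup.FrattiniAct (quot quot_mk eq_one_of_quot)

namespace CfsgLib.Fsys.SmallEssential

variable {G : Type*} [Group G] [Finite G] {p : ℕ} [hp : Fact p.Prime]

/-- An automorphism of `p`-power order fixes invariant sections of order at most `p`. -/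
theorem shift_small (hG : IsPGroup p G) {K L : Subgroup G} [K.Normal] (hKL : K ≤ L) (hidx : K.relIndex L ≤ p)
    {α : MulAut G} {k : ℕ} (hα : α ^ p ^ k = 1) (hK : ∀ v ∈ K, α v ∈ K) (hL : ∀ v ∈ L, α v ∈ L)
    {v : G} (hv : v ∈ L) : v⁻¹ * α v ∈ K := by
  by_cases hvK : v ∈ K
  · exact K.mul_mem (K.inv_mem hvK) (hK v hvK)
  let π := QuotientGroup.mk' K
  have hcard : Nat.card (L.map π) ≤ p := by
    rwa [← Subgroup.relIndex_ker, QuotientGroup.ker_mk']
  have hv1 : π v ≠ 1 := fun e => hvK ((QuotientGroup.eq_one_iff v).1 e)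
  have hvL : π v ∈ L.map π := Subgroup.mem_map_of_mem _ hv
  have hz : Subgroup.zpowers (π v) ≤ L.map π := Subgroup.zpowers_le.2 hvL
  have hord : orderOf (π v) = p := by
    obtain ⟨j, -, hj⟩ := (Nat.dvd_prime_pow hp.out).1
      (orderOf_dvd_of_pow_eq_one (show π v ^ p ^ (hG v).choose = 1 by
        rw [← map_pow, (hG v).choose_spec, map_one]))
    have hle : orderOf (π v) ≤ p := by
      rw [← Nat.card_zpowers]
      exact (Subgroup.card_le_of_le hz).trans hcard
    rw [hj] at hle ⊢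
    have : j ≤ 1 := (Nat.pow_le_pow_iff_right hp.out.one_lt).1 (by rwa [pow_one])
    have hj0 : j ≠ 0 := fun e => hv1 (orderOf_eq_one_iff.1 (by rw [hj, e, pow_zero]))
    rw [show j = 1 by omega, pow_one]
  have hgen : L.map π = Subgroup.zpowers (π v) :=
    (Subgroup.eq_of_le_of_card_ge hz (by rwa [Nat.card_zpowers, hord])).symm
  obtain ⟨r, hr⟩ := Subgroup.mem_zpowers_iff.1 (hgen.le (Subgroup.mem_map_of_mem π (hL v hv)))
  have hclose : ∀ {a b : G}, π a = π b → π (α a) = π (α b) := by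
    intro a b e
    have h1 : a⁻¹ * b ∈ K := QuotientGroup.eq.1 e
    exact QuotientGroup.eq.2 (by rw [← map_inv, ← map_mul]; exact hK _ h1)
  have hiter : ∀ m : ℕ, π ((α ^ m) v) = π v ^ (r ^ m) := by
    intro m
    induction m with
    | zero => simp
    | succ m ih =>
      rw [pow_succ', MulAut.mul_apply, hclose (ih.trans (map_zpow π v (r ^ m)).symm), map_zpow α, map_zpow,
        ← hr, ← zpow_mul, ← pow_succ']
  have h1 := hiter (p ^ k)
  rw [hα, MulAut.one_apply] at h1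
  have h2 : π v ^ (r ^ p ^ k - 1) = 1 := by rw [zpow_sub, zpow_one, ← h1, mul_inv_cancel]
  have hcast : ((orderOf (π v) : ℕ) : ℤ) = (p : ℤ) := congrArg Nat.cast hord
  have hdvd : (p : ℤ) ∣ r ^ p ^ k - 1 := dvd_trans (dvd_of_eq hcast.symm) (orderOf_dvd_iff_zpow_eq_one.2 h2)
  rw [← ZMod.intCast_zmod_eq_zero_iff_dvd, Int.cast_sub, Int.cast_pow, Int.cast_one, ZMod.pow_card_pow,
    ← Int.cast_one, ← Int.cast_sub, ZMod.intCast_zmod_eq_zero_iff_dvd] at hdvd
  obtain ⟨q, hq⟩ := hdvd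
  refine (QuotientGroup.eq_one_iff (N := K) (v⁻¹ * α v)).1 (show π (v⁻¹ * α v) = 1 from ?_)
  rw [map_mul, map_inv, ← hr, show r = (p : ℤ) * q + 1 by linarith, zpow_add, zpow_mul, zpow_natCast, zpow_one]
  rw [show π v ^ p = 1 by rw [← hord, pow_orderOf_eq_one], one_zpow, one_mul, inv_mul_cancel]

section System

variable {Ω : Type*} [Group Ω] {S : Subgroup Ω} [Finite S] {F : FusionSystem S} {H : Subgroup Ω}
  (hS : IsPGroup p S) (hF : F.IsSaturated p) (hH : F.IsEssential p H)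
include hS hF hH

/-- The Frattini subgroup and a subgroup above it, stabilized by an element of `N_S(H)`, force it into `H`. -/
theorem mem_of_stab [Finite H] (L : Subgroup H) (hΦ : frattini ↥H ≤ L)
    (hinv : ∀ α ∈ F.autGroup H, ∀ v ∈ L, α v ∈ L) {n : Ω} (hn : n ∈ normalizerIn S H)
    (h1 : ∀ v ∈ L, v⁻¹ * conjAut H hn.2 v ∈ frattini ↥H)
    (h2 : ∀ v : H, v⁻¹ * conjAut H hn.2 v ∈ L) : n ∈ H := by
  have hΦinv : ∀ (α : MulAut H) (v : H), v ∈ frattini ↥H → α v ∈ frattini ↥H := fun α v hv =>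
    (Subgroup.characteristic_iff_map_le.1 frattini_characteristic α) ⟨v, hv, rfl⟩
  let M : Subgroup (F.autGroup H) :=
    { carrier := {a | (∀ v ∈ L, v⁻¹ * (a : MulAut H) v ∈ frattini ↥H) ∧ ∀ v : H, v⁻¹ * (a : MulAut H) v ∈ L}
      one_mem' := ⟨fun v _ => by simp, fun v => by simp⟩
      mul_mem' := fun {a b} ha hb => by
        have e : ∀ v : H, v⁻¹ * ((a * b : F.autGroup H) : MulAut H) v =
            v⁻¹ * (a : MulAut H) v * (a : MulAut H) (v⁻¹ * (b : MulAut H) v) := fun v => by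
          rw [Subgroup.coe_mul, MulAut.mul_apply, map_mul, map_inv]; group
        exact ⟨fun v hv => by rw [e]; exact mul_mem (ha.1 v hv) (hΦinv _ _ (hb.1 v hv)),
          fun v => by rw [e]; exact mul_mem (ha.2 v) (hinv _ a.2 _ (hb.2 v))⟩
      inv_mem' := fun {a} ha => by
        have e : ∀ v : H, v⁻¹ * ((a⁻¹ : F.autGroup H) : MulAut H) v =
            (((a : MulAut H)⁻¹ v)⁻¹ * (a : MulAut H) ((a : MulAut H)⁻¹ v))⁻¹ := fun v => by
          rw [Subgroup.coe_inv, MulAut.apply_inv_self, mul_inv_rev, inv_inv]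
        exact ⟨fun v hv => by rw [e]; exact inv_mem (ha.1 _ (hinv _ ((F.autGroup H).inv_mem a.2) v hv)),
          fun v => by rw [e]; exact inv_mem (ha.2 _)⟩ }
  have hMn : M.Normal := ⟨fun a ha g => by
    have e : ∀ v : H, v⁻¹ * ((g * a * g⁻¹ : F.autGroup H) : MulAut H) v =
        (g : MulAut H) (((g : MulAut H)⁻¹ v)⁻¹ * (a : MulAut H) ((g : MulAut H)⁻¹ v)) := fun v => by
      rw [map_mul, map_inv, MulAut.apply_inv_self]; rfl
    exact ⟨fun v hv => by rw [e]; exact hΦinv _ _ (ha.1 _ (hinv _ ((F.autGroup H).inv_mem g.2) v hv)),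
      fun v => by rw [e]; exact hinv _ g.2 _ (ha.2 _)⟩⟩
  have hHp : IsPGroup p H := hS.to_le hH.1.1
  have hMp : IsPGroup p M := isPGroup_of_forall_coprime fun a ha => by
    refine Subtype.ext (Subtype.ext ?_)
    have hcop : (orderOf ((a : F.autGroup H) : MulAut H)).Coprime p := by
      rwa [Subgroup.orderOf_coe, Subgroup.orderOf_coe]
    refine eq_one_of_quot hHp hcop (MulEquiv.ext fun q => ?_)
    refine fixed_of_fixed_shift (p := p) (hHp.to_quotient _) (hcop.coprime_dvd_left (orderOf_map_dvd quot _)) ?_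
    obtain ⟨v, rfl⟩ := QuotientGroup.mk'_surjective (frattini ↥H) q
    rw [QuotientGroup.mk'_apply, quot_mk, ← QuotientGroup.mk_inv, ← QuotientGroup.mk_mul, quot_mk]
    exact (QuotientGroup.eq.2 (a.2.1 _ (a.2.2 v))).symm
  have hmem : (⟨conjAut H hn.2, autInducedBy_le_autGroup hH.1.1 (conjAut_mem_autInducedBy hn.2 hn.1)⟩ :
      F.autGroup H) ∈ M := ⟨h1, h2⟩
  have := (essential_radical hS hH).2.le ⟨_, CfsgLib.Solvable.Cores.le_pCore (hn := hMn) hMp hmem, rfl⟩
  exact (conjAut_mem_inn_iff (centralizer_le_of_centric hH.1) hn hH.1.1).1 this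

omit hF in
theorem conjAut_pow {n : Ω} (hn : n ∈ normalizerIn S H) : ∃ k, conjAut H hn.2 ^ p ^ k = 1 := by
  obtain ⟨k, hk⟩ := hS ⟨n, hn.1⟩
  exact ⟨k, by
    rw [conjAut, ← map_pow, show (⟨n, hn.2⟩ : Subgroup.normalizer (H : Set Ω)) ^ p ^ k = 1 from
      Subtype.ext (by simpa using congrArg Subtype.val hk), map_one]⟩

/-- An essential subgroup has no invariant subgroup strictly between the Frattini subgroup and itself with small steps. -/
theorem false_of_small_steps [Finite H] (L : Subgroup H) (hΦ : frattini ↥H ≤ L)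
    (hinv : ∀ α ∈ F.autGroup H, ∀ v ∈ L, α v ∈ L)
    (h1 : (frattini ↥H).relIndex L ≤ p) (h2 : L.index ≤ p) : False := by
  obtain ⟨n, hn, hnH⟩ := SetLike.exists_of_lt (lt_normalizerIn hS (essential_lt hS hF hH))
  obtain ⟨k, hk⟩ := conjAut_pow hS hH hn
  have hA := autInducedBy_le_autGroup (F := F) hH.1.1 (conjAut_mem_autInducedBy hn.2 hn.1)
  have hΦinv : ∀ v ∈ frattini ↥H, conjAut H hn.2 v ∈ frattini ↥H := fun v hv =>
    (Subgroup.characteristic_iff_map_le.1 frattini_characteristic (conjAut H hn.2)) ⟨v, hv, rfl⟩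
  have hHp : IsPGroup p H := hS.to_le hH.1.1
  haveI : L.Normal := by
    refine ⟨fun v hv g => ?_⟩
    have := hinv _ (inn_le_autGroup hH.1.1 (⟨g, rfl⟩ : (MulAut.conj g) ∈ Inn H)) v hv
    exact this
  exact hnH (mem_of_stab hS hF hH L hΦ hinv hn
    (fun v hv => shift_small hHp hΦ h1 hk hΦinv (hinv _ hA) hv)
    fun v => shift_small hHp le_top (by rwa [Subgroup.relIndex_top_right]) hk (hinv _ hA)
      (fun w _ => Subgroup.mem_top _) (Subgroup.mem_top v))

/-- An essential subgroup needs at least two generators. -/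
theorem frattini_index [Finite H] : p ^ 2 ≤ (frattini ↥H).index := by
  obtain ⟨j, hj⟩ := (hS.to_le hH.1.1).index (frattini ↥H)
  by_contra hlt
  have hj1 : (frattini ↥H).index ≤ p := by
    rw [hj] at hlt ⊢
    calc p ^ j ≤ p ^ 1 := Nat.pow_le_pow_right hp.out.pos (by
          by_contra h2
          exact hlt (Nat.pow_le_pow_right hp.out.pos (by omega)))
      _ = p := pow_one p
  exact false_of_small_steps hS hF hH ⊤ le_top (fun _ _ _ _ => Subgroup.mem_top _)
    (by rwa [Subgroup.relIndex_top_right]) (by rw [Subgroup.index_top]; exact hp.out.one_le)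

/-- With two generators there is no invariant proper subgroup outside the Frattini subgroup. -/
theorem false_of_line [Finite H] (hrk : (frattini ↥H).index ≤ p ^ 2) (L : Subgroup H)
    (hinv : ∀ α ∈ F.autGroup H, ∀ v ∈ L, α v ∈ L) (hne : L ≠ ⊤) (hnle : ¬ L ≤ frattini ↥H) : False := by
  set L' := L ⊔ frattini ↥H with hL'
  have hne' : L' ≠ ⊤ := fun e => hne (frattini_nongenerating e)
  have hinv' : ∀ α ∈ F.autGroup H, ∀ v ∈ L', α v ∈ L' := fun α hα v hv => by
    have : L' ≤ L'.comap α.toMonoidHom := sup_le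
      (fun w hw => Subgroup.mem_sup_left (hinv α hα w hw))
      (fun w hw => Subgroup.mem_sup_right
        ((Subgroup.characteristic_iff_map_le.1 frattini_characteristic α) ⟨w, hw, rfl⟩))
    exact this hv
  have hmul := Subgroup.relIndex_mul_index (show frattini ↥H ≤ L' from le_sup_right)
  obtain ⟨i, hi⟩ := (hS.to_le hH.1.1).index L'
  have hi0 : i ≠ 0 := fun e => hne' (Subgroup.index_eq_one.1 (by rw [hi, e, pow_zero]))
  have h1 : (frattini ↥H).relIndex L' ≠ 1 := fun e =>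
    hnle (le_trans le_sup_left (Subgroup.relIndex_eq_one.1 e))
  have hdvd : (frattini ↥H).relIndex L' ∣ (frattini ↥H).index := ⟨_, hmul.symm⟩
  obtain ⟨j, hj⟩ := (hS.to_le hH.1.1).index (frattini ↥H)
  rw [hj] at hdvd
  obtain ⟨l, -, hl⟩ := (Nat.dvd_prime_pow hp.out).1 hdvd
  have hl0 : l ≠ 0 := fun e => h1 (by rw [hl, e, pow_zero])
  rw [← hmul, hl, hi, ← pow_add] at hrk
  have hli := (Nat.pow_le_pow_iff_right hp.out.one_lt).1 hrk
  exact false_of_small_steps hS hF hH L' le_sup_right hinv'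
    (by rw [hl, show l = 1 by omega, pow_one]) (by rw [hi, show i = 1 by omega, pow_one])

section Abelian

variable (hab : ∀ a b : H, a * b = b * a)
include hab

/-- Elements outside the Frattini subgroup have full order. -/
theorem orderOf_eq_exponent [Finite H] (hrk : (frattini ↥H).index ≤ p ^ 2) {v : H} (hv : v ∉ frattini ↥H) :
    orderOf v = Monoid.exponent ↥H := by
  refine Nat.dvd_antisymm (Monoid.order_dvd_exponent v) ?_
  by_contra hnd
  obtain ⟨k, hk⟩ := (hS.to_le hH.1.1) v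
  let L : Subgroup H :=
    { carrier := {u | u ^ orderOf v = 1}
      one_mem' := one_pow _
      mul_mem' := fun {a b} ha hb => by
        show (a * b) ^ _ = 1
        rw [(show Commute a b from hab a b).mul_pow, ha, hb, one_mul]
      inv_mem' := fun {a} ha => by
        show a⁻¹ ^ _ = 1
        rw [inv_pow, ha, inv_one] }
  exact false_of_line hS hF hH hrk L (fun α _ u hu => by
      show α u ^ _ = 1
      rw [← map_pow, hu, map_one])
    (fun e => hnd (Monoid.exponent_dvd_of_forall_pow_eq_one fun u => (e ▸ Subgroup.mem_top u : u ∈ L)))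
    fun hle => hv (hle (pow_orderOf_eq_one v))

/-- A basis modulo the Frattini subgroup generates freely modulo the exponent. -/
theorem exists_basis [Finite H] (hrk : (frattini ↥H).index ≤ p ^ 2) :
    ∃ (k : ℕ) (a b : H), 1 ≤ k ∧ Monoid.exponent ↥H = p ^ k ∧
      (∀ v, ∃ i j : ℤ, v = a ^ i * b ^ j) ∧
      ∀ i j : ℤ, a ^ i * b ^ j = 1 → ((p ^ k : ℕ) : ℤ) ∣ i ∧ ((p ^ k : ℕ) : ℤ) ∣ j := by
  have hHp : IsPGroup p H := hS.to_le hH.1.1
  set Φ := frattini ↥H with hΦdef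
  have hidx : p ^ 2 = Φ.index := le_antisymm (frattini_index hS hF hH) hrk
  obtain ⟨a, ha⟩ : ∃ a : H, a ∉ Φ := by
    by_contra hh
    push Not at hh
    have : Φ.index = 1 := by rw [Subgroup.index_eq_one]; exact eq_top_iff.2 fun v _ => hh v
    exact absurd (hidx.trans this) (Nat.one_lt_pow two_ne_zero hp.out.one_lt).ne'
  have hpowΦ : ∀ v : H, v ^ p ∈ Φ := CfsgLib.PGroup.Frattini.pow_mem_frattini hHp
  have hcyc : ∀ u : H, u ∉ Φ → Φ.relIndex (Φ ⊔ Subgroup.zpowers u) = p := by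
    intro u hu
    haveI : Fact p.Prime := hp
    rw [Subgroup.relIndex_sup_left, ← QuotientGroup.ker_mk' Φ, Subgroup.relIndex_ker, MonoidHom.map_zpowers,
      Nat.card_zpowers]
    exact orderOf_eq_prime (by rw [← map_pow]; exact (QuotientGroup.eq_one_iff _).2 (hpowΦ u))
      fun e => hu ((QuotientGroup.eq_one_iff u).1 e)
  obtain ⟨b, hb⟩ : ∃ b : H, b ∉ Φ ⊔ Subgroup.zpowers a := by
    by_contra hh
    push Not at hh
    have h1 := hcyc a ha
    rw [show Φ ⊔ Subgroup.zpowers a = ⊤ from eq_top_iff.2 fun v _ => hh v, Subgroup.relIndex_top_right,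
      ← hidx] at h1
    have := hp.out.one_lt
    nlinarith
  have hgen : ∀ v : H, ∃ i j : ℤ, v = a ^ i * b ^ j := by
    set T := Subgroup.zpowers a ⊔ Subgroup.zpowers b with hT
    have htop : T ⊔ Φ = ⊤ := by
      rw [← Subgroup.index_eq_one]
      have h1 := Subgroup.relIndex_mul_relIndex Φ (Φ ⊔ Subgroup.zpowers a) (T ⊔ Φ) le_sup_left
        (sup_le le_sup_right (le_sup_left.trans le_sup_left))
      have h2 := Subgroup.relIndex_mul_index (show Φ ≤ T ⊔ Φ from le_sup_right)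
      rw [hcyc a ha] at h1
      rw [← h1, ← hidx] at h2
      have hne : (Φ ⊔ Subgroup.zpowers a).relIndex (T ⊔ Φ) ≠ 1 := fun e =>
        hb (Subgroup.relIndex_eq_one.1 e
          ((le_sup_right : Subgroup.zpowers b ≤ T).trans le_sup_left (Subgroup.mem_zpowers b)))
      have hd : (Φ ⊔ Subgroup.zpowers a).relIndex (T ⊔ Φ) ∣ p ^ 2 := ⟨p * (T ⊔ Φ).index, by rw [← h2]; ring⟩
      obtain ⟨l, -, hl⟩ := (Nat.dvd_prime_pow hp.out).1 hd
      have hl0 : l ≠ 0 := fun e => hne (by rw [hl, e, pow_zero])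
      obtain ⟨l, rfl⟩ := Nat.exists_eq_succ_of_ne_zero hl0
      rw [hl, pow_succ', ← mul_assoc, ← pow_two, mul_assoc] at h2
      exact (mul_eq_one.1 ((Nat.mul_eq_left (pow_pos hp.out.pos 2).ne').1 h2)).2
    have hT' : T = ⊤ := frattini_nongenerating htop
    intro v
    have hv : v ∈ T := hT' ▸ Subgroup.mem_top v
    haveI : (Subgroup.zpowers a).Normal := ⟨fun u hu g => by rwa [hab g u, mul_inv_cancel_right]⟩
    obtain ⟨u, hu, w, hw, rfl⟩ := Subgroup.mem_sup_of_normal_left.1 hv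
    obtain ⟨i, rfl⟩ := Subgroup.mem_zpowers_iff.1 hu
    obtain ⟨j, rfl⟩ := Subgroup.mem_zpowers_iff.1 hw
    exact ⟨i, j, rfl⟩
  have hindep : ∀ i j : ℤ, a ^ i * b ^ j ∈ Φ → (p : ℤ) ∣ i ∧ (p : ℤ) ∣ j := by
    intro i j hij
    have key : ∀ (u : H) (m : ℤ) (K : Subgroup H), Φ ≤ K → u ^ m ∈ K → ¬ (p : ℤ) ∣ m → u ∈ K := by
      intro u m K hK hum hm
      obtain ⟨r, s, hrs⟩ := ((Nat.prime_iff_prime_int.1 hp.out).coprime_iff_not_dvd).2 hm
      rw [← zpow_one u, ← hrs, zpow_add, mul_comm r, zpow_mul, mul_comm s, zpow_mul, zpow_natCast]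
      exact K.mul_mem (K.zpow_mem (hK (hpowΦ u)) r) (K.zpow_mem hum s)
    have hj : (p : ℤ) ∣ j := by
      by_contra hj
      refine hb (key b j _ le_sup_left ?_ hj)
      have := Subgroup.mul_mem (Φ ⊔ Subgroup.zpowers a)
        (Subgroup.inv_mem _ (Subgroup.mem_sup_right (Subgroup.zpow_mem _ (Subgroup.mem_zpowers a) i)))
        (Subgroup.mem_sup_left hij)
      rwa [inv_mul_cancel_left] at this
    refine ⟨?_, hj⟩
    by_contra hi
    refine ha (key a i Φ le_rfl ?_ hi)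
    obtain ⟨q, rfl⟩ := hj
    rw [zpow_mul, zpow_natCast] at hij
    simpa using Φ.mul_mem hij (Φ.inv_mem (Φ.zpow_mem (hpowΦ b) q))
  obtain ⟨k, hk⟩ : ∃ k, orderOf a = p ^ k := by
    obtain ⟨m, hm⟩ := hHp a
    obtain ⟨k, -, hk⟩ := (Nat.dvd_prime_pow hp.out).1 (orderOf_dvd_of_pow_eq_one hm)
    exact ⟨k, hk⟩
  have hexp : Monoid.exponent ↥H = p ^ k := (orderOf_eq_exponent hS hF hH hab hrk ha).symm.trans hk
  have hk1 : 1 ≤ k := Nat.one_le_iff_ne_zero.2 fun e => ha (by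
    rw [e, pow_zero, orderOf_eq_one_iff] at hk
    rw [hk]; exact Φ.one_mem)
  refine ⟨k, a, b, hk1, hexp, hgen, fun i j hij => ?_⟩
  have main : ∀ t ≤ k, ((p ^ t : ℕ) : ℤ) ∣ i ∧ ((p ^ t : ℕ) : ℤ) ∣ j := by
    intro t
    induction t with
    | zero => exact fun _ => ⟨by simp, by simp⟩
    | succ t ih =>
      intro ht
      obtain ⟨⟨i', rfl⟩, ⟨j', rfl⟩⟩ := ih (by omega)
      have hw : (a ^ i' * b ^ j') ^ (p ^ t) = 1 := by
        rw [(show Commute (a ^ i') (b ^ j') from hab _ _).mul_pow, ← zpow_natCast, ← zpow_natCast, ← zpow_mul,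
          ← zpow_mul, mul_comm i', mul_comm j', hij]
      have hΦ : a ^ i' * b ^ j' ∈ Φ := by
        by_contra hn
        have h2 := orderOf_dvd_of_pow_eq_one hw
        rw [orderOf_eq_exponent hS hF hH hab hrk hn, hexp, Nat.pow_dvd_pow_iff_le_right hp.out.one_lt] at h2
        omega
      obtain ⟨⟨i'', rfl⟩, ⟨j'', rfl⟩⟩ := hindep i' j' hΦ
      exact ⟨⟨i'', by push_cast; ring⟩, ⟨j'', by push_cast; ring⟩⟩
  exact main k le_rfl

/-- For `p ≥ 5` a two-generator abelian essential subgroup is elementary. -/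
theorem exponent_eq_prime [Finite H] (hrk : (frattini ↥H).index ≤ p ^ 2) (hp5 : 5 ≤ p) :
    Monoid.exponent ↥H = p := by
  have hHp : IsPGroup p H := hS.to_le hH.1.1
  obtain ⟨k, -, -, hk1, hexp, -, -⟩ := exists_basis hS hF hH hab hrk
  by_contra hne
  have hk2 : 2 ≤ k := by
    by_contra hh
    rw [hexp, show k = 1 by omega, pow_one] at hne
    exact hne rfl
  set Φ := frattini ↥H with hΦdef
  obtain ⟨n, hn, hnH⟩ := SetLike.exists_of_lt (lt_normalizerIn hS (essential_lt hS hF hH))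
  set γ := conjAut H hn.2 with hγ
  have hΦinv : ∀ (α : MulAut H) (v : H), v ∈ Φ → α v ∈ Φ := fun α v hv =>
    (Subgroup.characteristic_iff_map_le.1 frattini_characteristic α) ⟨v, hv, rfl⟩
  -- the fixed line of `γ` modulo the Frattini subgroup
  let L : Subgroup H :=
    { carrier := {v | v⁻¹ * γ v ∈ Φ}
      one_mem' := by simp
      mul_mem' := fun {u v} hu hv => by
        show (u * v)⁻¹ * γ (u * v) ∈ Φ
        rw [map_mul, show (u * v)⁻¹ * (γ u * γ v) = v⁻¹ * (u⁻¹ * γ u) * v * (v⁻¹ * γ v) by group]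
        exact Φ.mul_mem (by rw [hab v⁻¹, mul_assoc, inv_mul_cancel, mul_one]; exact hu) hv
      inv_mem' := fun {u} hu => by
        show u⁻¹⁻¹ * γ u⁻¹ ∈ Φ
        rw [inv_inv, map_inv, hab, ← inv_inv u, ← mul_inv_rev, inv_inv]
        exact Φ.inv_mem hu }
  have hΦL : Φ ≤ L := fun v hv => Φ.mul_mem (Φ.inv_mem hv) (hΦinv γ v hv)
  have hLne : L ≠ ⊤ := fun e => hnH (mem_of_stab hS hF hH ⊤ le_top (fun _ _ _ _ => Subgroup.mem_top _) hn
    (fun v hv => (e ▸ hv : v ∈ L)) fun _ => Subgroup.mem_top _)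
  obtain ⟨l₀, hl₀, hl₀Φ⟩ : ∃ v ∈ L, v ∉ Φ := by
    by_contra hh
    push Not at hh
    obtain ⟨N, hN⟩ := (Subgroup.isNilpotent_iff_lowerCentralSeries S).1 hS.isNilpotent
    obtain ⟨v₀, hv₀⟩ : ∃ v : H, v ∉ Φ := by
      by_contra h'
      push Not at h'
      exact hLne (eq_top_iff.2 fun v _ => hΦL (h' v))
    suffices hs : ∀ m : ℕ, ∃ v : H, v ∉ Φ ∧ (v : Ω) ∈ S.lowerCentralSeries m by
      obtain ⟨v, hv, hvN⟩ := hs N
      rw [hN, Subgroup.mem_bot] at hvN
      exact hv (by rw [show v = 1 from Subtype.ext hvN]; exact Φ.one_mem)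
    intro m
    induction m with
    | zero => exact ⟨v₀, hv₀, by rw [Subgroup.lowerCentralSeries_zero]; exact hH.1.1 v₀.2⟩
    | succ m ih =>
      obtain ⟨v, hv, hvm⟩ := ih
      refine ⟨v⁻¹ * γ v, fun e => hv (hh v e), ?_⟩
      rw [Subgroup.coe_mul, Subgroup.coe_inv, hγ, conjAut_coe]
      exact lowerCentral_step hS hvm hn.1
  obtain ⟨kγ, hkγ⟩ := conjAut_pow hS hH hn
  have hLinv : ∀ v ∈ L, γ v ∈ L := fun v hv => by
    show (γ v)⁻¹ * γ (γ v) ∈ Φ
    rw [← map_inv, ← map_mul]; exact hΦinv γ _ hv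
  have hmul := Subgroup.relIndex_mul_index hΦL
  obtain ⟨iL, hiL⟩ := hHp.index L
  have hiL0 : iL ≠ 0 := fun e => hLne (Subgroup.index_eq_one.1 (by rw [hiL, e, pow_zero]))
  have hidx : p ^ 2 = Φ.index := le_antisymm (frattini_index hS hF hH) hrk
  have hrel : Φ.relIndex L ∣ p ^ 2 := ⟨_, hidx.trans hmul.symm⟩
  obtain ⟨jL, -, hjL⟩ := (Nat.dvd_prime_pow hp.out).1 hrel
  have hjL0 : jL ≠ 0 := fun e => hl₀Φ (Subgroup.relIndex_eq_one.1 (by rw [hjL, e, pow_zero]) hl₀)
  rw [hjL, hiL, ← pow_add, ← hidx] at hmul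
  have hsum := Nat.pow_right_injective hp.out.two_le hmul
  haveI : L.Normal := ⟨fun u hu g => by rwa [hab g u, mul_inv_cancel_right]⟩
  have hshift : ∀ v : H, v⁻¹ * γ v ∈ L := fun v =>
    shift_small hHp le_top (by rw [Subgroup.relIndex_top_right, hiL, show iL = 1 by omega, pow_one]) hkγ hLinv
      (fun w _ => Subgroup.mem_top _) (Subgroup.mem_top v)
  obtain ⟨a, ha⟩ : ∃ a : H, a ∉ L := by
    by_contra h'
    push Not at h'
    exact hLne (eq_top_iff.2 fun v _ => h' v)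
  set b := a⁻¹ * γ a with hbdef
  have hbΦ : b ∉ Φ := fun e => ha e
  -- powers of `γ` have order dividing `p`
  have hγp : γ ^ p = 1 := by
    have hnp : n ^ p ∈ normalizerIn S H := ⟨S.pow_mem hn.1 p, (Subgroup.normalizer (H : Set Ω)).pow_mem hn.2 p⟩
    have e : conjAut H hnp.2 = γ ^ p := by
      rw [hγ, conjAut, conjAut, ← map_pow]; rfl
    have hit : ∀ (m : ℕ) (v : H), v⁻¹ * (γ ^ m) v * ((v⁻¹ * γ v) ^ m)⁻¹ ∈ Φ := by
      intro m v
      induction m with
      | zero => simp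
      | succ m ih =>
        have h3 := hΦinv γ _ ih
        have h4 : (v⁻¹ * γ v) ^ m ∈ L := L.pow_mem (hshift v) m
        have alg : ∀ x y z w : H, v⁻¹ * x * (z * (v⁻¹ * y))⁻¹ = y⁻¹ * x * w⁻¹ * (z⁻¹ * w) := by
          intro x y z w
          letI : CommGroup H := { (inferInstance : Group H) with mul_comm := hab }
          apply Additive.ofMul.injective
          simp only [ofMul_mul, ofMul_inv]
          abel
        have e1 : v⁻¹ * (γ ^ (m + 1)) v * ((v⁻¹ * γ v) ^ (m + 1))⁻¹ =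
            γ (v⁻¹ * (γ ^ m) v * ((v⁻¹ * γ v) ^ m)⁻¹) * (((v⁻¹ * γ v) ^ m)⁻¹ * γ ((v⁻¹ * γ v) ^ m)) := by
          rw [pow_succ', MulAut.mul_apply, map_mul, map_mul, map_inv, map_inv, pow_succ]
          exact alg _ _ _ _
        rw [e1]
        exact Φ.mul_mem h3 h4
    have hq : ∀ v : H, v⁻¹ * (γ ^ p) v ∈ Φ := fun v => by
      have := Φ.mul_mem (hit p v) (CfsgLib.PGroup.Frattini.pow_mem_frattini hHp (v⁻¹ * γ v))
      rwa [inv_mul_cancel_right] at this
    have hnpH : n ^ p ∈ H := mem_of_stab hS hF hH ⊤ le_top (fun _ _ _ _ => Subgroup.mem_top _) hnp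
      (fun v _ => by rw [e]; exact hq v) fun _ => Subgroup.mem_top _
    rw [← e]
    refine MulEquiv.ext fun v => Subtype.ext ?_
    show n ^ p * (v : Ω) * (n ^ p)⁻¹ = v
    rw [show n ^ p * (v : Ω) = v * n ^ p from congrArg Subtype.val (hab ⟨_, hnpH⟩ v), mul_inv_cancel_right]
  -- every element of the Frattini subgroup is a power
  let pw : H →* H := MonoidHom.mk' (fun v => v ^ p) fun u v => (show Commute u v from hab u v).mul_pow p
  have hpw : Φ ≤ pw.range := by
    obtain ⟨k', a', b', -, -, hgen, hind⟩ := exists_basis hS hF hH hab hrk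
    intro v hv
    obtain ⟨i, j, rfl⟩ := hgen v
    suffices hdiv : (p : ℤ) ∣ i ∧ (p : ℤ) ∣ j by
      obtain ⟨⟨i', rfl⟩, ⟨j', rfl⟩⟩ := hdiv
      refine ⟨a' ^ i' * b' ^ j', ?_⟩
      show (a' ^ i' * b' ^ j') ^ p = _
      rw [(show Commute (a' ^ i') (b' ^ j') from hab _ _).mul_pow, ← zpow_natCast, ← zpow_natCast, ← zpow_mul,
        ← zpow_mul, mul_comm i', mul_comm j']
    by_contra hdiv
    set M : Subgroup H := Φ ⊔ Subgroup.zpowers (if (p : ℤ) ∣ i then a' else b') with hMdef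
    have hM : M = ⊤ := by
      refine eq_top_iff.2 fun w _ => ?_
      have key : ∀ (u : H) (m : ℤ), u ^ m ∈ M → ¬ (p : ℤ) ∣ m → u ∈ M := by
        intro u m hum hm
        obtain ⟨r, s, hrs⟩ := ((Nat.prime_iff_prime_int.1 hp.out).coprime_iff_not_dvd).2 hm
        rw [← zpow_one u, ← hrs, zpow_add, mul_comm r, zpow_mul, mul_comm s, zpow_mul, zpow_natCast]
        exact M.mul_mem (M.zpow_mem (Subgroup.mem_sup_left (CfsgLib.PGroup.Frattini.pow_mem_frattini hHp u)) r)
          (M.zpow_mem hum s)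
      have hboth : a' ∈ M ∧ b' ∈ M := by
        by_cases hi : (p : ℤ) ∣ i
        · have hj : ¬ (p : ℤ) ∣ j := fun hj => hdiv ⟨hi, hj⟩
          have ha' : a' ∈ M := Subgroup.mem_sup_right (by rw [if_pos hi]; exact Subgroup.mem_zpowers a')
          refine ⟨ha', key b' j ?_ hj⟩
          have := M.mul_mem (M.inv_mem (M.zpow_mem ha' i)) (Subgroup.mem_sup_left hv)
          rwa [inv_mul_cancel_left] at this
        · have hb' : b' ∈ M := Subgroup.mem_sup_right (by rw [if_neg hi]; exact Subgroup.mem_zpowers b')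
          refine ⟨key a' i ?_ hi, hb'⟩
          have := M.mul_mem (Subgroup.mem_sup_left hv) (M.inv_mem (M.zpow_mem hb' j))
          rwa [mul_inv_cancel_right] at this
      obtain ⟨i', j', rfl⟩ := hgen w
      exact M.mul_mem (M.zpow_mem hboth.1 i') (M.zpow_mem hboth.2 j')
    have h1 : Φ.relIndex M ≤ p := by
      rw [hMdef, Subgroup.relIndex_sup_left, ← QuotientGroup.ker_mk' Φ, Subgroup.relIndex_ker,
        MonoidHom.map_zpowers, Nat.card_zpowers]
      refine Nat.le_of_dvd hp.out.pos (orderOf_dvd_of_pow_eq_one ?_)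
      rw [← map_pow]
      exact (QuotientGroup.eq_one_iff _).2 (CfsgLib.PGroup.Frattini.pow_mem_frattini hHp _)
    rw [hM, Subgroup.relIndex_top_right, ← hidx] at h1
    nlinarith
  -- squares of the power map
  let K : Subgroup H := (pw.comp pw).range
  have hKinv : ∀ v ∈ K, γ v ∈ K := by
    rintro _ ⟨u, rfl⟩
    exact ⟨γ u, by simp [pw, map_pow]⟩
  have hKp : ∀ v ∈ Φ, v ^ p ∈ K := fun v hv => by
    obtain ⟨u, rfl⟩ := hpw hv
    exact ⟨u, rfl⟩
  set c := b⁻¹ * γ b with hcdef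
  have hcΦ : c ∈ Φ := hshift a
  obtain ⟨c₀, hc₀⟩ := hpw hcΦ
  set d := c⁻¹ * γ c with hddef
  obtain ⟨d₀, hd₀L, hd₀⟩ : ∃ d₀ ∈ L, d₀ ^ p = d :=
    ⟨c₀⁻¹ * γ c₀, hshift c₀, by
      rw [(show Commute c₀⁻¹ (γ c₀) from hab _ _).mul_pow, inv_pow, ← map_pow,
        show c₀ ^ p = c from hc₀]⟩
  have hdΦ : d ∈ Φ := hd₀ ▸ CfsgLib.PGroup.Frattini.pow_mem_frattini hHp d₀
  have he : d⁻¹ * γ d ∈ K := by
    have : d⁻¹ * γ d = (d₀⁻¹ * γ d₀) ^ p := by
      rw [(show Commute d₀⁻¹ (γ d₀) from hab _ _).mul_pow, inv_pow, ← map_pow, hd₀]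
    rw [this]
    exact hKp _ hd₀L
  letI : CommGroup H := { (inferInstance : Group H) with mul_comm := hab }
  have ea : γ a = a * b := by rw [hbdef, mul_inv_cancel_left]
  have eb : γ b = b * c := by rw [hcdef, mul_inv_cancel_left]
  have ec : γ c = c * d := by rw [hddef, mul_inv_cancel_left]
  have alg : ∀ (x y : H) (m i j : ℕ), x * (a * b ^ (m + 1) * c ^ (m + i) * d ^ (i + j))⁻¹ =
      x * (a * b * (b * c) ^ m * (c * d) ^ i * y ^ j)⁻¹ * (d⁻¹ * y) ^ j := by
    intro x y m i j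
    apply Additive.ofMul.injective
    simp only [ofMul_mul, ofMul_inv, ofMul_pow, add_nsmul, nsmul_add, one_nsmul, neg_nsmul, neg_add]
    abel
  have hform : ∀ m : ℕ, ((γ ^ m) a) * (a * b ^ m * c ^ m.choose 2 * d ^ m.choose 3)⁻¹ ∈ K := by
    intro m
    induction m with
    | zero => simp
    | succ m ih =>
      have e1 : (γ ^ (m + 1)) a * (a * b ^ (m + 1) * c ^ (m + 1).choose 2 * d ^ (m + 1).choose 3)⁻¹ =
          γ ((γ ^ m) a * (a * b ^ m * c ^ m.choose 2 * d ^ m.choose 3)⁻¹) * (d⁻¹ * γ d) ^ m.choose 3 := by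
        rw [pow_succ' γ, MulAut.mul_apply, map_mul, map_inv, map_mul, map_mul, map_mul, map_pow, map_pow, map_pow,
          ea, eb, ec, Nat.choose_succ_succ' m 1, Nat.choose_one_right, Nat.choose_succ_succ' m 2]
        exact alg _ _ _ _ _
      rw [e1]
      exact K.mul_mem (hKinv _ ih) (K.pow_mem he _)
  have hfin := hform p
  rw [hγp, MulAut.one_apply] at hfin
  have h2 : c ^ p.choose 2 ∈ K := by
    obtain ⟨q, hq⟩ := hp.out.dvd_choose_self two_ne_zero (show 2 < p by omega)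
    rw [hq, pow_mul]; exact K.pow_mem (hKp c hcΦ) q
  have h3 : d ^ p.choose 3 ∈ K := by
    obtain ⟨q, hq⟩ := hp.out.dvd_choose_self three_ne_zero (show 3 < p by omega)
    rw [hq, pow_mul]; exact K.pow_mem (hKp d hdΦ) q
  have hbp : b ^ p ∈ K := by
    have := K.mul_mem (K.mul_mem (K.inv_mem hfin) (K.inv_mem h2)) (K.inv_mem h3)
    have alg2 : ∀ x y z w : H, (x * (x * y * z * w)⁻¹)⁻¹ * z⁻¹ * w⁻¹ = y := by
      intro x y z w
      apply Additive.ofMul.injective
      simp only [ofMul_mul, ofMul_inv]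
      abel
    rwa [alg2] at this
  obtain ⟨u, hu⟩ := hbp
  have hbu : b * (u ^ p)⁻¹ ∉ Φ := fun e => hbΦ (by
    simpa using Φ.mul_mem e (CfsgLib.PGroup.Frattini.pow_mem_frattini hHp u))
  have hord := orderOf_eq_exponent hS hF hH hab hrk hbu
  have hpow1 : (b * (u ^ p)⁻¹) ^ p = 1 := by
    rw [mul_pow, inv_pow, show b ^ p = (u ^ p) ^ p from hu.symm, mul_inv_cancel]
  have := orderOf_dvd_of_pow_eq_one hpow1
  rw [hord, hexp] at this
  have h4 : p ^ k ≤ p ^ 1 := by rw [pow_one]; exact Nat.le_of_dvd hp.out.pos this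
  have := (Nat.pow_le_pow_iff_right hp.out.one_lt).1 h4
  omega

end Abelian

end System

end CfsgLib.Fsys.SmallEssential
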