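import Cfsg.Agent.Lib.FusionSystem.NilpotencyCriterion
import Cfsg.Agent.Lib.Fusion.Alperin
/-
Control of the centre by a functor `W`: central elements of `N_F(W(S))` among the `p^n`-th powers of `Z(S)` are
central in `F` as soon as this holds in the models.
-/
set_option autoImplicit false

namespace CfsgLib.Fsys

open Cfsg
open Cfsg.FusionSystem (centralizerIn normalizerIn imageAlong preimageAlong)

universe u

variable {Ω : Type u} [Group Ω] {S : Subgroup Ω} {F : FusionSystem S} {Z₀ : Subgroup Ω} {p : ℕ}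

/-- Maps on subgroups containing `U` and `Z₀` that fix `U` fix `Z₀` pointwise. -/
def LocFix (F : FusionSystem S) (Z₀ U : Subgroup Ω) : Prop :=
  ∀ (P : Subgroup Ω) (f : Ω → Ω), Fn F P f → U ≤ P → Z₀ ≤ P → img f U = U → ∀ z ∈ Z₀, f z = z

/-- The `p^n`-th powers of the centre. -/
def zPow (p n : ℕ) (A : Subgroup Ω) : Subgroup Ω :=
  powerClosure p n (A ⊓ Subgroup.centralizer (A : Set Ω))

theorem zPow_le (n : ℕ) (A : Subgroup Ω) : zPow p n A ≤ A ⊓ Subgroup.centralizer (A : Set Ω) := by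
  refine (Subgroup.closure_le _).2 ?_
  rintro _ ⟨x, hx, rfl⟩
  exact pow_mem hx _

theorem zPow_mono (n : ℕ) {A B : Subgroup Ω} (hAB : A ≤ B)
    (h : B ⊓ Subgroup.centralizer (B : Set Ω) ≤ A) : zPow p n B ≤ zPow p n A := by
  refine Subgroup.closure_mono ?_
  rintro _ ⟨x, hx, rfl⟩
  exact ⟨x, ⟨h hx, Subgroup.centralizer_le hAB hx.2⟩, rfl⟩

theorem mem_zPow_map (n : ℕ) {Ω' : Type*} [Group Ω'] {A : Subgroup Ω} {B : Subgroup Ω'} (φ : A →* Ω')
    (hB : φ.range = B) {x : Ω} (hx : x ∈ zPow p n A) (hxA : x ∈ A) : φ ⟨x, hxA⟩ ∈ zPow p n B := by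
  have key : zPow p n A ≤ ((zPow p n B).comap φ).map A.subtype := by
    refine (Subgroup.closure_le _).2 ?_
    rintro _ ⟨y, hy, rfl⟩
    refine ⟨⟨y, hy.1⟩ ^ p ^ n, ?_, rfl⟩
    show φ (⟨y, hy.1⟩ ^ p ^ n) ∈ zPow p n B
    rw [map_pow]
    refine Subgroup.subset_closure ⟨φ ⟨y, hy.1⟩, ⟨hB ▸ ⟨_, rfl⟩, Subgroup.mem_centralizer_iff.2 ?_⟩, rfl⟩
    rw [← hB]
    rintro _ ⟨w, rfl⟩
    rw [← map_mul, ← map_mul]
    exact congrArg φ (Subtype.ext (Subgroup.mem_centralizer_iff.1 hy.2 _ w.2))
  obtain ⟨y, hy, hye⟩ := key hx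
  obtain rfl : y = ⟨x, hxA⟩ := Subtype.ext hye
  exact hy

variable [Finite S] [Fact p.Prime]

theorem central_apply (hc : F.IsCentral Z₀) {P : Subgroup Ω} {f : Ω → Ω} (hf : Fn F P f) (hZ : Z₀ ≤ P) :
    ∀ z ∈ Z₀, f z = z := by
  obtain ⟨g, -, hge, hgz⟩ := (central_iff_fn.1 hc).2 P f hf
  exact fun z hz => (hge z (hZ hz)).symm.trans (hgz z hz)

variable {W : ∀ (Q : Type u) [Group Q], Subgroup Q}

/-- Control of the centre for an inherited class `Cls` of systems whose models satisfy `Good`. -/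
theorem central_of_wOf_class (n : ℕ)
    (hW1 : ∀ (Q : Type u) [Group Q] [Finite Q], IsPGroup p Q → Nontrivial Q → W Q ≠ ⊥)
    (hW2 : ∀ (Q R : Type u) [Group Q] [Group R] [Finite Q], IsPGroup p Q → ∀ φ : Q ≃* R, (W Q).map φ.toMonoidHom = W R)
    (Cls : ∀ {Ω : Type u} [Group Ω] {S : Subgroup Ω}, FusionSystem S → Prop) (Good : ∀ (L : Type u) [Group L], Prop)
    (hmod : ∀ {Ω : Type u} [Group Ω] {S : Subgroup Ω} [Finite S] {F : FusionSystem S} {G : Type u} [Group G]
      [Finite G] {ι : S →* G}, Cls F → F.IsRealizedBy ι → (∃ T : Sylow p G, (T : Subgroup G) = ι.range) → Good G)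
    (hsub : ∀ {Ω : Type u} [Group Ω] {S S' : Subgroup Ω} {F : FusionSystem S} {E : FusionSystem S'},
      Cls F → S' ≤ S → E.IsSubsystemOf F → Cls E)
    (hfac : ∀ {Ω : Type u} [Group Ω] {S : Subgroup Ω} [Finite S] {F : FusionSystem S}, Cls F → IsPGroup p S →
      F.IsSaturated p → ∀ {Q : Subgroup Ω}, F.IsNormal Q → ∀ {Ω' : Type u} [Group Ω'] {θ : S →* Ω'}
        {E : FusionSystem θ.range}, F.IsFactorSystem Q θ E → E.IsSaturated p → Cls E)
    (hG : ∀ (L : Type u) [Group L] [Finite L] (T : Sylow p L), Good L →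
      Subgroup.centralizer ((pCore p L : Subgroup L) : Set L) ≤ pCore p L →
      ∀ z ∈ zPow p n (T : Subgroup L),
        Subgroup.normalizer (wOf W (T : Subgroup L) : Set L) ≤ Subgroup.centralizer {z} → z ∈ Subgroup.center L)
    (hS : IsPGroup p S) (hF : F.IsSaturated p) (hP₀ : Cls F) (hZ : Z₀ ≤ zPow p n S) (hloc : LocFix F Z₀ (wOf W S)) :
    F.IsCentral Z₀ := by
  suffices key : ∀ k : ℕ, ∀ {Ω : Type u} [Group Ω] (S : Subgroup Ω) [Finite S], Nat.card S = k → IsPGroup p S →
      ∀ m : ℕ, ∀ (F : FusionSystem S), (homSet F).ncard = m → F.IsSaturated p → Cls F → ∀ Z₀ : Subgroup Ω,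
        Z₀ ≤ zPow p n S → LocFix F Z₀ (wOf W S) → F.IsCentral Z₀ from key _ S rfl hS _ F rfl hF hP₀ _ hZ hloc
  clear hloc hZ hP₀ hF hS
  intro k
  induction k using Nat.strong_induction_on with
  | _ k ihn =>
  intro Ω _ S _ hk hS m
  induction m using Nat.strong_induction_on with
  | _ m ihm =>
  intro F hm hF hCls Z₀ hZ hloc
  have hZc : Z₀ ≤ S ⊓ Subgroup.centralizer (S : Set Ω) := hZ.trans (zPow_le n S)
  have hZS : Z₀ ≤ S := hZc.trans inf_le_left
  have hZcomm : ∀ z ∈ Z₀, ∀ s ∈ S, s * z = z * s := fun z hz s hs =>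
    Subgroup.mem_centralizer_iff.1 (hZc hz).2 s hs
  have hZcent : ∀ X : Subgroup Ω, X ≤ S → Z₀ ≤ centralizerIn S X := fun X hX z hz =>
    mem_centralizerIn.2 ⟨hZS hz, fun x hx => hZcomm z hz x (hX hx)⟩
  have hWS : wOf W S ≤ S := wOf_le S
  have ihF : ∀ E : FusionSystem S, E ≤ F → ¬ F ≤ E → E.IsSaturated p → E.IsCentral Z₀ :=
    fun E hle hne hsat => ihm _ (hm ▸ homSet_lt hle hne) E rfl hsat (hsub hCls le_rfl hle) Z₀ hZ
      fun P f hf h1 h2 h3 => hloc P f (fn_of_le hle hf) h1 h2 h3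
  set Q₀ := F.core with hQ₀def
  have hQ₀ : F.IsNormal Q₀ := core_normal
  have hsc₀ := normal_stronglyClosed hQ₀
  -- normalizer systems over `S` itself
  have hnormS : ∀ U : Subgroup Ω, F.IsFullyNormalized U → normalizerIn S U = S → ¬ U ≤ Q₀ → LocFix F Z₀ U := by
    intro U hU he hUQ
    obtain ⟨N, hN⟩ := exists_normalizerSystem F hU.1
    obtain ⟨E, hE⟩ := exists_cast he N
    have hfn : ∀ {P : Subgroup Ω} {f : Ω → Ω}, Fn E P f ↔ Fn N P f := fun {P f} => by rw [Fn, Fn, hE]
    have hEs : E.IsSaturated p :=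
      system_cast (C := fun _ E => E.IsSaturated p) he hE (normalizerSystem_saturated hS hF hU hN)
    have hEF : E ≤ F := fun P φ hφ => normalizerSystem_sub hN P (hE P ▸ hφ)
    have hEn : E.IsNormal U :=
      system_cast (C := fun _ E => E.IsNormal U) he hE (normalizerSystem_normal hN hU.1)
    have hc := ihF E hEF (fun hle => hUQ (le_core (by
      rwa [system_ext (E := F) (E' := E) fun P => (hle P).antisymm (hEF P)]))) hEs
    intro P f hf hle hZP hi
    exact central_apply hc (hfn.2 ((fn_normalizerSystem hN).2 ⟨hf.le.trans he.ge,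
      fun x hx => he.ge (hf.mem hx), f, by rwa [sup_eq_left.2 hle], fun x _ => rfl, hi⟩)) hZP
  by_cases hcent : centralizerIn S Q₀ ≤ Q₀
  · -- constrained: use the model
    have hZQ : Z₀ ≤ Q₀ := (hZcent Q₀ hQ₀.1).trans hcent
    obtain ⟨G, _, ι, hG'⟩ := exists_model hS ⟨hF, Q₀, hQ₀, normal_centric hQ₀ hcent⟩
    obtain ⟨pj, hpj, -⟩ := exists_model_proj (hQ := hQ₀) hG'
    obtain ⟨hfin, hι, ⟨T, hT⟩, hce⟩ := id hG'
    have hWT : wOf W (T : Subgroup G) = ((wOf W S).subgroupOf S).map ι := by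
      let e : S ≃* (T : Subgroup G) := (MonoidHom.ofInjective hι.1).trans (MulEquiv.subgroupCongr hT.symm)
      have hWe := hW2 ↥S ↥(T : Subgroup G) hS e
      unfold wOf
      rw [← hWe, Subgroup.subgroupOf, Subgroup.comap_map_eq_self_of_injective S.subtype_injective, Subgroup.map_map]
      rfl
    have hzc : ∀ z (hz : z ∈ Z₀), ι ⟨z, hZS hz⟩ ∈ Subgroup.center G := by
      intro z hz
      refine hG G T (hmod hCls hι ⟨T, hT⟩) hce _ (mem_zPow_map n (B := (T : Subgroup G)) ι hT.symm (hZ hz) (hZS hz)) fun g hg => ?_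
      let P := Q₀ ⊔ wOf W S
      have hPS : P ≤ S := sup_le hQ₀.1 hWS
      have hgP : ∀ x : P, ∃ y : S, (y : Ω) ∈ P ∧ g * ι ⟨x, hPS x.2⟩ * g⁻¹ = ι y := by
        have h2 : P.subgroupOf S ≤ (((P.subgroupOf S).map ι).comap (MulAut.conj g).toMonoidHom).comap ι := by
          rw [Subgroup.subgroupOf_sup hQ₀.1 hWS]
          refine sup_le (fun x hx => ?_) fun x hx => ?_
          · refine ⟨⟨aFn (pj g) x, hQ₀.1 (aFn_mem _ hx)⟩, ?_, ?_⟩
            · exact Subgroup.mem_sup_left (show (⟨aFn (pj g) (x : Ω), hQ₀.1 (aFn_mem _ hx)⟩ : S) ∈ Q₀.subgroupOf S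
                from aFn_mem (pj g) hx)
            · show _ = g * ι x * g⁻¹
              rw [hpj g x hx, mul_inv_cancel_right]
          · have h1 : g * ι x * g⁻¹ ∈ wOf W (T : Subgroup G) := (Subgroup.mem_normalizer_iff.1 hg _).1
              (hWT ▸ Subgroup.mem_map_of_mem ι hx)
            obtain ⟨y, hy, hye⟩ := hWT ▸ h1
            exact ⟨y, Subgroup.mem_sup_right hy, hye⟩
        intro x
        obtain ⟨y, hy, hye⟩ := h2 (x := ⟨x, hPS x.2⟩) x.2
        exact ⟨y, hy, hye.symm⟩
      choose y hyP hye using hgP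
      let φ : P →* Ω := MonoidHom.mk' (fun x => (y x : Ω)) fun a b => by
        show ((y (a * b) : S) : Ω) = (y a : S) * (y b : S)
        rw [← Subgroup.coe_mul]
        refine congrArg Subtype.val (hι.1 ?_)
        rw [map_mul, ← hye, ← hye, ← hye]
        show g * ι (⟨a, hPS a.2⟩ * ⟨b, hPS b.2⟩) * g⁻¹ = _
        rw [map_mul]
        group
      have hφ : φ ∈ F.Hom P := (hι.2 P hPS φ fun x => (y x).2).2 ⟨g, fun x => (hye x).symm⟩
      have hf : Fn F P (ofHom φ) := fn_ofHom hφ
      have hfy : ∀ x : P, ofHom φ x = (y x : Ω) := fun x => ofHom_apply φ x.2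
      have hfW : img (ofHom φ) (wOf W S) = wOf W S := by
        refine (hf.mono le_sup_right).img_eq_self fun x hx => ?_
        rw [hfy ⟨x, Subgroup.mem_sup_right hx⟩]
        have h1 : ι (y ⟨x, Subgroup.mem_sup_right hx⟩) ∈ wOf W (T : Subgroup G) := by
          rw [← hye]
          exact (Subgroup.mem_normalizer_iff.1 hg _).1
            (hWT ▸ Subgroup.mem_map_of_mem ι (show (⟨x, hWS hx⟩ : S) ∈ (wOf W S).subgroupOf S from hx))
        obtain ⟨w, hw, hwe⟩ := hWT ▸ h1
        exact hι.1 hwe ▸ hw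
      have hzP : z ∈ P := Subgroup.mem_sup_left (hZQ hz)
      have h := hloc P _ hf le_sup_right (hZQ.trans le_sup_left) hfW z hz
      rw [hfy ⟨z, hzP⟩] at h
      have h2 := hye ⟨z, hzP⟩
      rw [show y ⟨z, hzP⟩ = ⟨z, hZS hz⟩ from Subtype.ext h, mul_inv_eq_iff_eq_mul] at h2
      exact Subgroup.mem_centralizer_singleton_iff.2 h2
    refine central_iff_fn.2 ⟨hZS, fun P f hf => ?_⟩
    obtain ⟨g, hg, hge, -⟩ := (normal_iff_fn.1 hQ₀).2 P f hf
    refine ⟨g, hg.mono (sup_le_sup_left hZQ P), hge, fun z hz => ?_⟩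
    obtain ⟨φ, hφ, hφg⟩ := id hg
    obtain ⟨a, ha⟩ := (hι.2 (P ⊔ Q₀) hg.le φ fun x => (F.le_of_mem hφ).2 x).1 hφ
    have h := ha ⟨z, Subgroup.mem_sup_right (hZQ hz)⟩
    rw [Subgroup.mem_center_iff.1 (hzc z hz) a, mul_inv_cancel_right] at h
    exact (hφg ⟨z, Subgroup.mem_sup_right (hZQ hz)⟩).symm.trans (congrArg Subtype.val (hι.1 h))
  -- the centralizer system of `Z₀`
  have hkS : kN S Z₀ (⊥ : Subgroup (MulAut Z₀)) = S := kN_bot.trans (le_antisymm centralizerIn_le fun s hs =>
    mem_centralizerIn.2 ⟨hs, fun z hz => (hZcomm z hz s hs).symm⟩)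
  obtain ⟨E, hE⟩ := exists_cast hkS (kSystem F Z₀ hZS ⊥)
  have hEfn : ∀ {P : Subgroup Ω} {f : Ω → Ω}, Fn E P f ↔ KMap F Z₀ ⊥ P f := fun {P f} => by
    rw [← fn_kSystem (hQ := hZS), Fn, Fn, hE]
  have hEout : ∀ {P : Subgroup Ω} {f : Ω → Ω}, Fn E P f →
      ∃ g, Fn F (P ⊔ Z₀) g ∧ (∀ x ∈ P, g x = f x) ∧ ∀ x ∈ Z₀, g x = x := fun {P f} hf => by
    obtain ⟨-, -, g, hg, hge, hgi⟩ := hEfn.1 hf
    exact ⟨g, hg, hge, ind_bot_iff.1 hgi⟩
  have hEin : ∀ {P : Subgroup Ω} {f : Ω → Ω}, Fn F P f → ∀ g, Fn F (P ⊔ Z₀) g → (∀ x ∈ P, g x = f x) →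
      (∀ x ∈ Z₀, g x = x) → Fn E P f := fun {P f} hf g hg hge hgz =>
    hEfn.2 ⟨hkS.symm ▸ hf.le, fun x hx => hkS.symm ▸ hf.mem hx, g, hg, hge, ind_bot_iff.2 hgz⟩
  have hEfix : ∀ {P : Subgroup Ω} {f : Ω → Ω}, Fn E P f → Z₀ ≤ P → ∀ z ∈ Z₀, f z = z := fun {P f} hf hle z hz => by
    obtain ⟨g, -, hge, hgz⟩ := hEout hf
    exact (hge z (hle hz)).symm.trans (hgz z hz)
  suffices hle : F ≤ E from central_iff_fn.2 ⟨hZS, fun P f hf => hEout (fn_of_le hle hf)⟩
  have hES : F.autGroup S ≤ E.autGroup S := fun α hα => by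
    have hf := (mem_autGroup_iff_fn le_rfl).1 hα
    refine (mem_autGroup_iff_fn le_rfl).2 (hEin hf _ (by rwa [sup_eq_left.2 hZS]) (fun x _ => rfl) ?_)
    refine hloc S _ hf hWS hZS ?_
    have h := map_wOf hW2 hS hf
    rwa [img_autFn] at h
  have hnc : ∀ P : Subgroup Ω, P < S → F.IsFullyNormalized P →
      (∀ R : Subgroup Ω, ∀ g : Ω → Ω, Nat.card P < Nat.card R → Fn F R g → Fn E R g) →
      ¬ F.IsCentric P → F.autGroup P ≤ E.autGroup P := fun P hPS hP hbig hc => by
    rw [← extClosure_eq_of_not_centric hS hF hP hc]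
    refine (Subgroup.closure_le _).2 fun α hα => ?_
    obtain ⟨R, g, hPR, hg, hgα⟩ := hα
    have hgE : Fn E R g := hbig R g (by
      have := finite_of_le_base hg.le
      exact card_lt_of_lt' hPR) hg
    exact (mem_autGroup hPS.le).2 (mem_hom_of_fn (hgE.mono hPR.le) fun x => (hgα x).symm)
  have hfixed : ∀ P : Subgroup Ω, P ≤ S → Z₀ ≤ P → ∀ α ∈ F.autGroup P, (∀ z ∈ Z₀, autFn α z = z) →
      α ∈ E.autGroup P := fun P hP hZP α hα hz => (mem_autGroup_iff_fn hP).2
    (hEin ((mem_autGroup_iff_fn hP).1 hα) _ (by rw [sup_eq_left.2 hZP]; exact (mem_autGroup_iff_fn hP).1 hα)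
      (fun x _ => rfl) hz)
  by_cases hQ₀1 : Q₀ ≠ ⊥
  · have hsc₁ : F.StronglyClosed (Q₀ ⊔ centralizerIn S Q₀) := stronglyClosed_sup_centralizer hS hF hsc₀
    have hN₁ := hnormS _ (fullyNormalized_of_weaklyClosed (weaklyClosed_of_stronglyClosed hsc₁))
      (inf_eq_left.2 (sc_le_normalizer hsc₁)) fun hle => hcent (le_sup_right.trans hle)
    obtain ⟨F₂, hF₂s, hF₂F, -, hF₂m, hF₂i⟩ := exists_innerOn hS hF hQ₀
    by_cases hall : F ≤ F₂
    · have hQn : (Q₀.subgroupOf S).Normal := ⟨fun x hx s => sc_conj hsc₀ s.2 hx⟩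
      let θ : S →* S ⧸ Q₀.subgroupOf S := QuotientGroup.mk' _
      obtain ⟨E', hE'⟩ := exists_factorSystem (F := F) hsc₀ θ (fun s => QuotientGroup.eq_one_iff s) rfl
      have hker : ∀ x ∈ S, th θ x = 1 ↔ x ∈ Q₀ := fun x hx => factor_ker hE' hx
      have hE's : E'.IsSaturated p := surjectiveMorphism_saturated hS hF (factor_surjectiveMorphism hS hF hsc₀ hE')
      have hcard : Nat.card θ.range < k := by
        rw [← hk, MonoidHom.range_eq_top.2 (QuotientGroup.mk'_surjective _), Subgroup.card_top,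
          (Q₀.subgroupOf S).card_eq_card_quotient_mul_card_subgroup]
        refine lt_mul_of_one_lt_right Nat.card_pos ?_
        rw [Nat.card_congr (Subgroup.subgroupOfEquivOfLe hQ₀.1).toEquiv]
        have := finite_of_le_base hQ₀.1
        exact Subgroup.one_lt_card_iff_ne_bot _ |>.2 hQ₀1
      have hfinr : Finite θ.range := inferInstance
      have hpr : IsPGroup p θ.range := hS.of_surjective θ.rangeRestrict θ.rangeRestrict_surjective
      set Z' := imageAlong θ Z₀ with hZ'
      have hZ'z : Z' ≤ zPow p n θ.range := by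
        intro y hy
        obtain ⟨x, hx, hxS, rfl⟩ := mem_imageAlong.1 hy
        rw [th_apply hxS]
        exact mem_zPow_map n θ rfl (hZ hx) hxS
      set W' := wOf W θ.range with hW'
      set X := preimageAlong θ W' with hX
      have hXS : X ≤ S := preimageAlong_le
      have hXn : normalizerIn S X = S := by
        refine inf_eq_left.2 fun s hs => ?_
        have := finite_of_le_base hXS
        refine mem_normalizer_of_map_le fun x hx => ?_
        obtain ⟨hxS, hxW⟩ := mem_preimageAlong.1 hx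
        refine mem_preimageAlong.2 ⟨S.mul_mem (S.mul_mem hs hxS) (S.inv_mem hs), ?_⟩
        rw [th_mul (S.mul_mem hs hxS) (S.inv_mem hs), th_mul hs hxS, th_inv hs]
        have hf := fn_conj (F := E') (le_refl θ.range) (th_mem_range (α := θ) hs)
        have h := map_wOf hW2 hpr hf
        rw [hf.img_eq_self fun x hx => hf.mem hx] at h
        exact h.le (mem_img_of_mem hxW)
      have hXU : F.IsFullyNormalized X := ⟨hXS, fun R _ => hXn.symm ▸ Subgroup.card_le_of_le normalizerIn_le⟩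
      have hXQ : ¬ X ≤ Q₀ := fun hle => by
        refine wOf_ne_bot hW1 hpr (fun hr => hcent fun x hx => ?_) (?_ : W' = ⊥)
        · have hxS := (mem_centralizerIn.1 hx).1
          have h1 := th_mem_range (α := θ) hxS
          rw [hr, Subgroup.mem_bot] at h1
          exact (hker x hxS).1 h1
        · refine (Subgroup.eq_bot_iff_forall _).2 fun y hy => ?_
          rw [← imageAlong_preimageAlong (α := θ) (P' := W') (wOf_le _)] at hy
          obtain ⟨x, hx, hxS, rfl⟩ := mem_imageAlong.1 hy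
          exact (hker x hxS).2 (hle hx)
      have hE'loc : LocFix E' Z' W' := by
        intro P' f' hf' hWP hZP hfi z' hz'
        obtain ⟨-, g, hg, hge⟩ := (factor_fn hsc₀ hE').1 hf'
        obtain ⟨x, hx, hxS, rfl⟩ := mem_imageAlong.1 hz'
        have hXP : X ≤ preimageAlong θ P' := fun x hx =>
          mem_preimageAlong.2 ⟨(mem_preimageAlong.1 hx).1, hWP (mem_preimageAlong.1 hx).2⟩
        have hZpre : Z₀ ≤ preimageAlong θ P' := fun z hz =>
          mem_preimageAlong.2 ⟨hZS hz, hZP (th_mem_imageAlong hz (hZS hz))⟩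
        have hgz := hnormS X hXU hXn hXQ _ g hg hXP hZpre ((hg.mono hXP).img_eq_self fun y hy => by
          refine mem_preimageAlong.2 ⟨hg.mem (hXP hy), ?_⟩
          rw [← hge y (hXP hy)]
          exact hfi.le (mem_img_of_mem (mem_preimageAlong.1 hy).2)) x hx
        rw [hge x (hZpre hx), hgz]
      have hc' := ihn _ hcard θ.range rfl hpr _ E' rfl hE's (hfac hCls hS hF hQ₀ hE' hE's) Z' hZ'z hE'loc
      refine le_of_automizers hS hF E hES fun P hPS hP hbig => ?_
      by_cases hc : F.IsCentric P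
      · have hZP : Z₀ ≤ P := (hZcent P hPS.le).trans (centralizer_le_of_centric hc)
        have hinn : ∀ {f : Ω → Ω}, Fn F P f → ∃ g, Fn F (P ⊔ Q₀) g ∧ (∀ x ∈ P, g x = f x) ∧
            ∃ s ∈ S, ∀ x ∈ Q₀, g x = s * x * s⁻¹ := fun hf => hF₂i (fn_of_le hall hf)
        by_cases hQP : Q₀ ≤ P
        · -- `p'`-elements fix `Z₀`
          have hp' : ∀ a : F.autGroup P, (orderOf a).Coprime p → ∀ z ∈ Z₀, autFn (a : MulAut P) z = z := by
            rintro ⟨α, hα⟩ ho z hz
            have hf := (mem_autGroup_iff_fn hPS.le).1 hα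
            obtain ⟨g, hg, hge, s, hs, hgs⟩ := hinn hf
            have hαs : ∀ x ∈ Q₀, autFn α x = s * x * s⁻¹ := fun x hx => (hge x (hQP hx)).symm.trans (hgs x hx)
            set o := orderOf (⟨α, hα⟩ : F.autGroup P) with ho'
            have hαo : α ^ o = 1 := congrArg Subtype.val (pow_orderOf_eq_one (⟨α, hα⟩ : F.autGroup P))
            have hres : ∀ i : ℕ, ∀ q ∈ Q₀, autFn (α ^ i) q = s ^ i * q * (s ^ i)⁻¹ := by
              intro i
              induction i with
              | zero => intro q hq; rw [pow_zero, autFn_id (hQP hq)]; simp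
              | succ i ih =>
                intro q hq
                rw [pow_succ, autFn_mul _ _ (hQP hq), hαs q hq, ih _ (sc_conj hsc₀ hs hq), pow_succ]
                group
            have hfixQ : ∀ q ∈ Q₀, autFn α q = q := fun q hq => by
              obtain ⟨j, hj⟩ := hS ⟨s, hs⟩
              have hj' : s ^ p ^ j = 1 := congrArg Subtype.val hj
              have hcop : (p ^ j).Coprime o := (ho.pow_right j).symm
              -- `s` is a power of `s ^ o`
              obtain ⟨i, hi⟩ : ∃ i, (s ^ o) ^ i = s := exists_pow_eq_self_of_coprime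
                ((Nat.Coprime.coprime_dvd_right (orderOf_dvd_of_pow_eq_one hj') hcop.symm))
              have hcomm : Commute (s ^ o) q := by
                have h := hres o q hq
                rw [hαo, autFn_id (hQP hq)] at h
                exact (eq_mul_inv_iff_mul_eq.1 h).symm
              have hsq := hcomm.pow_left i
              rw [hi] at hsq
              rw [hαs q hq, hsq.eq, mul_inv_cancel_right]
            have hzP := hZP hz
            obtain ⟨φ', hφ'⟩ := exists_inducedHom hf fun y hy h => sc_th_one hsc₀ hker hf hy h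
            have e : preimageAlong θ (imageAlong θ P) = P := by
              refine le_antisymm (fun y hy => ?_) (le_preimageAlong hPS.le)
              obtain ⟨hyS, hyi⟩ := mem_preimageAlong.1 hy
              obtain ⟨w, hw, hwS, he⟩ := mem_imageAlong.1 hyi
              have : w⁻¹ * y ∈ Q₀ := (hker _ (S.mul_mem (S.inv_mem hwS) hyS)).1 (by
                rw [th_mul (S.inv_mem hwS) hyS, th_inv hwS, he, inv_mul_cancel])
              simpa using P.mul_mem hw (hQP this)
            have hrng : imageAlong θ P ≤ θ.range := fun y hy => by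
              obtain ⟨w, -, hwS, rfl⟩ := mem_imageAlong.1 hy
              exact th_mem_range hwS
            have hfn : Fn E' (imageAlong θ P) (ofHom φ') :=
              (factor_fn hsc₀ hE').2 ⟨hrng, autFn α, by rwa [e], by rw [e]; exact hφ'⟩
            have hZi : Z' ≤ imageAlong θ P := fun y hy => by
              obtain ⟨w, hw, hwS, rfl⟩ := mem_imageAlong.1 hy
              exact th_mem_imageAlong (hZP hw) hwS
            have h1 := central_apply hc' hfn hZi _ (th_mem_imageAlong hz (hZS hz))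
            rw [hφ' z hzP] at h1
            have hq : z⁻¹ * autFn α z ∈ Q₀ := (hker _ (S.mul_mem (S.inv_mem (hZS hz)) (hf.mem hzP))).1 (by
              rw [th_mul (S.inv_mem (hZS hz)) (hf.mem hzP), th_inv (hZS hz), h1, inv_mul_cancel])
            set q := z⁻¹ * autFn α z with hqdef
            have hpow : ∀ i : ℕ, autFn (α ^ i) z = z * q ^ i := by
              intro i
              induction i with
              | zero => rw [pow_zero, autFn_id hzP, pow_zero, mul_one]
              | succ i ih =>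
                rw [pow_succ', autFn_mul _ _ hzP, ih, hf.map_mul hzP (hQP (pow_mem hq i)), hfixQ _ (pow_mem hq i),
                  pow_succ' q, ← mul_assoc, hqdef, ← mul_assoc, mul_inv_cancel, one_mul]
            have h2 := hpow o
            rw [hαo, autFn_id hzP] at h2
            obtain ⟨j, hj⟩ := hS ⟨q, hQ₀.1 hq⟩
            have hq1 : q = 1 := orderOf_eq_one_iff.1 (Nat.eq_one_of_dvd_coprimes (ho.pow_right j)
              (orderOf_dvd_of_pow_eq_one (left_eq_mul.1 h2)) (orderOf_dvd_of_pow_eq_one (congrArg Subtype.val hj)))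
            exact (inv_mul_eq_one.1 hq1).symm
          obtain ⟨-, R, hR⟩ := (fullyNormalized_good hS hF hP).1
          intro α hα
          have := finite_of_le_base hPS.le
          obtain ⟨w, hw, u, hu, he⟩ := Fusion.Basic.exists_eq_pResidual_mul R ⟨α, hα⟩
          have hwE : w ∈ (E.autGroup P).subgroupOf (F.autGroup P) := by
            refine (Subgroup.closure_le _).2 ?_ hw
            exact fun a ha => hfixed P hPS.le hZP _ a.2 (hp' a ha)
          have huE : (u : MulAut P) ∈ E.autGroup P := by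
            rw [hR] at hu
            obtain ⟨s, hs, hse⟩ := mem_autInducedBy.1 (Subgroup.mem_subgroupOf.1 hu)
            refine hfixed P hPS.le hZP _ u.2 fun z hz => ?_
            rw [show autFn (u : MulAut P) z = s * z * s⁻¹ from (autFn_coe _ ⟨z, hZP hz⟩).trans (hse ⟨z, hZP hz⟩),
              hZcomm z hz s hs, mul_inv_cancel_right]
          have h := congrArg Subtype.val he
          simp only [Subgroup.coe_mul] at h
          rw [h]
          exact (E.autGroup P).mul_mem (Subgroup.mem_subgroupOf.1 hwE) huE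
        · intro α hα
          obtain ⟨g, hg, hge, -⟩ := hinn ((mem_autGroup_iff_fn hPS.le).1 hα)
          have hgE := hbig _ g (by
            have := finite_of_le_base hg.le
            exact card_lt_of_lt' (lt_of_le_of_ne le_sup_left fun e => hQP (sup_eq_left.1 e.symm))) hg
          exact (mem_autGroup_iff_fn hPS.le).2 ((hgE.mono le_sup_left).congr hge)
      · exact hnc P hPS hP hbig hc
    · -- Frattini decomposition
      have hc₂ := ihF F₂ hF₂F hall hF₂s
      intro P φ hφ
      refine mem_hom_of_fn ?_ fun x => (ofHom_coe φ x).symm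
      have hf : Fn F P (ofHom φ) := fn_ofHom hφ
      obtain ⟨χ, hχ, hχe, hχi⟩ := (normal_iff_fn.1 hQ₀).2 P _ hf
      obtain ⟨a', ha', ha'χ, ha'i⟩ := (hχ.mono le_sup_right).exists_inv
      rw [hχi] at ha' ha'i
      obtain ⟨M, b, hb, hQM, hM, hbe⟩ := receptive_extend (fullyNormalized_receptive hS hF
        (fullyNormalized_of_weaklyClosed (weaklyClosed_of_stronglyClosed hsc₀))) ha' ha'i
      have hQ₁M : Q₀ ⊔ centralizerIn S Q₀ ≤ M := sup_le hQM fun c hc => (hM c).2 (inExt_of_commute hc)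
      have hZM : Z₀ ≤ M := (hZcent Q₀ hQ₀.1).trans (le_sup_right.trans hQ₁M)
      have hχM : img χ (P ⊔ Q₀) ≤ M := img_le fun x hx => by
        refine (hM _).2 ⟨hχ.mem hx, sc_le_normalizer hsc₀ (hχ.mem hx), x, hχ.le hx, fun y hy => ?_⟩
        obtain ⟨q, hq, rfl⟩ := (hχ.mono le_sup_right).mem_img.1 (hχi.ge hy)
        have hxq : x * q * x⁻¹ ∈ Q₀ := sc_conj hsc₀ (hχ.le hx) hq
        rw [← hχ.map_conj hx (Subgroup.mem_sup_right hq), ha'χ _ hxq, ha'χ q hq]
      have hbz := hN₁ _ b hb hQ₁M hZM (sc_img hsc₁ hQ₁M hb)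
      have hc : Fn F₂ (P ⊔ Q₀) (b ∘ χ) := by
        refine hF₂m (hχ.comp hb fun x hx => hχM (mem_img_of_mem hx)) le_sup_right ⟨1, S.one_mem, fun x hx => ?_⟩
        show b (χ x) = _
        rw [hbe _ (hχi.le (mem_img_of_mem hx)), ha'χ x hx]
        simp
      obtain ⟨c', hc', hc'e, hc'z⟩ := (central_iff_fn.1 hc₂).2 _ _ hc
      obtain ⟨bi, hbi, hbib, -⟩ := hb.exists_inv
      have hm : ∀ x ∈ P, c' x ∈ img b M := fun x hx => by
        rw [hc'e x (Subgroup.mem_sup_left hx)]
        exact mem_img_of_mem (hχM (mem_img_of_mem (Subgroup.mem_sup_left hx)))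
      have hc'F : Fn F (P ⊔ Z₀) c' := (fn_of_le hF₂F hc').mono (sup_le_sup_right le_sup_left Z₀)
      have hmap : img c' (P ⊔ Z₀) ≤ img b M := by
        rw [hc'F.img_sup]
        refine sup_le (img_le hm) (img_le fun z hz => ?_)
        rw [hc'z z hz, ← hbz z hz]
        exact mem_img_of_mem (hZM hz)
      refine hEin hf (bi ∘ c') (hc'F.comp hbi fun x hx => hmap (mem_img_of_mem hx)) (fun x hx => ?_) fun z hz => ?_
      · show bi (c' x) = _
        rw [hc'e x (Subgroup.mem_sup_left hx)]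
        show bi (b (χ x)) = _
        rw [hbib _ (hχM (mem_img_of_mem (Subgroup.mem_sup_left hx))), hχe x hx]
      · show bi (c' z) = z
        rw [hc'z z hz]
        calc bi z = bi (b z) := by rw [hbz z hz]
          _ = z := hbib z (hZM hz)
  -- trivial core
  push_neg at hQ₀1
  refine le_of_automizers hS hF E hES fun P hPS hP hbig => ?_
  by_cases hc : F.IsCentric P
  swap
  · exact hnc P hPS hP hbig hc
  have hZP : Z₀ ≤ P := (hZcent P hPS.le).trans (centralizer_le_of_centric hc)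
  have hS1 : S ≠ ⊥ := fun h => hcent (centralizerIn_le.trans (h.le.trans bot_le))
  have hP1 : P ≠ ⊥ := fun h => hS1 (le_bot_iff.1 (fun s hs => by
    have h1 : s ∈ centralizerIn S P := mem_centralizerIn.2 ⟨hs, fun y hy => by
      rw [h, Subgroup.mem_bot] at hy; simp [hy]⟩
    exact h ▸ centralizer_le_of_centric hc h1))
  have hlev : ∀ j : ℕ, ∀ U : Subgroup Ω, U ≠ ⊥ → F.IsFullyNormalized U →
      Nat.card P ≤ Nat.card (normalizerIn S U) → Nat.card S - Nat.card (normalizerIn S U) < j →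
      ∀ (P' : Subgroup Ω) (f : Ω → Ω), P' ≤ normalizerIn S U → Fn F P' f → U ≤ P' → Z₀ ≤ P' → img f U = U →
        ∀ z ∈ Z₀, f z = z := by
    intro j
    induction j with
    | zero => exact fun U _ _ _ h => absurd h (Nat.not_lt_zero _)
    | succ j ih =>
      intro U hU1 hUn hPR' hUk P' f hPR hf hUP hZP' hfU
      set R := normalizerIn S U with hRdef
      have hRS : R ≤ S := normalizerIn_le
      rcases eq_or_lt_of_le hRS with he | hlt
      · exact hnormS U hUn he (fun hle => hU1 (le_bot_iff.1 (hQ₀1 ▸ hle))) P' f hf hUP hZP' hfU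
      have hfinR := finite_of_le_base hRS
      obtain ⟨M, hM⟩ := exists_normalizerSystem F hUn.1
      have hMs := normalizerSystem_saturated hS hF hUn hM
      have hZR : Z₀ ≤ zPow p n R := hZ.trans (zPow_mono n hRS fun z hz => centralizerIn_le_normalizerIn
        (mem_centralizerIn.2 ⟨hz.1, fun y hy => Subgroup.mem_centralizer_iff.1 hz.2 y (hUn.1 hy)⟩))
      have hMloc : LocFix M Z₀ (wOf W R) := by
        intro P₁ f₁ hf₁ hWP₁ hZP₁ hfW₁
        have hP₁ : P₁ ≤ R := hf₁.le
        have hf₁F : Fn F P₁ f₁ := hf₁.of_subsystem (normalizerSystem_sub hM)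
        set W₁ := wOf W R with hW₁
        have hW₁R : W₁ ≤ R := wOf_le R
        have hW₁S : W₁ ≤ S := hW₁R.trans hRS
        have hR1 : R ≠ ⊥ := fun h => hU1 (le_bot_iff.1 ((le_normalizerIn hUn.1).trans h.le))
        have hW₁1 : W₁ ≠ ⊥ := wOf_ne_bot hW1 (hS.to_le hRS) hR1
        have hbigR : R < normalizerIn S W₁ := by
          obtain ⟨s, hs, hsN, hsR⟩ := exists_mem_normalizer_not_mem hS le_rfl hlt
          have hR_le : ∀ r ∈ normalizerIn S R, r ∈ normalizerIn S W₁ := fun r hr => by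
            have hfr := fn_conj (F := F) hRS hr.1
            have h := map_wOf hW2 hS hfr
            rw [hfr.img_eq_self fun x hx => (mem_normalizer_iff'.1 hr.2).1 x hx] at h
            have := finite_of_le_base hW₁S
            exact ⟨hr.1, mem_normalizer_of_map_le fun x hx => h.le (mem_img_of_mem hx)⟩
          exact lt_of_le_of_ne (fun r hr => hR_le r ⟨hRS hr, Subgroup.le_normalizer hr⟩)
            fun e => hsR (e.ge (hR_le s hsN))
        obtain ⟨W₂, hW₁₂, hW₂n⟩ := exists_fullyNormalized (F := F) hW₁S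
        obtain ⟨hauto, hcen⟩ := fullyNormalized_good hS hF hW₂n
        obtain ⟨c, hc', hcn, hci⟩ := exists_normalizer_map hS hauto (fullyCentralized_receptive hS hF hcen) hW₁₂
        have hN1S : normalizerIn S W₁ ≤ S := normalizerIn_le
        have hcard1 : Nat.card R < Nat.card (normalizerIn S W₁) := by
          have := finite_of_le_base hN1S
          exact card_lt_of_lt' hbigR
        have hc2 : Nat.card (normalizerIn S W₁) ≤ Nat.card (normalizerIn S W₂) :=
          card_le_of_map_le normalizerIn_le hc' hcn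
        have hle3 : Nat.card (normalizerIn S W₂) ≤ Nat.card S := Subgroup.card_le_of_le normalizerIn_le
        have hW₂1 : W₂ ≠ ⊥ := fun h => hW₁1 (by
          have h1 := isConj_card hW₁₂
          rw [h, Subgroup.card_bot] at h1
          have := finite_of_le_base hW₁S
          exact Subgroup.card_eq_one.1 h1.symm)
        have hP₁N : P₁ ≤ normalizerIn S W₁ := hP₁.trans hbigR.le
        have hZN : Z₀ ≤ normalizerIn S W₁ := hZP₁.trans hP₁N
        have hcz : ∀ z ∈ Z₀, c z = z := hEfix (hbig _ c (hPR'.trans_lt hcard1) hc') hZN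
        obtain ⟨d, hd, hdc, hdi⟩ := (hc'.mono hP₁N).exists_inv
        have hdm : ∀ y ∈ img c P₁, d y ∈ P₁ := fun y hy => hdi.le (mem_img_of_mem hy)
        have hfN : ∀ x ∈ P₁, f₁ x ∈ normalizerIn S W₁ := fun x hx => hbigR.le (hf₁.mem hx)
        have hg : Fn F (img c P₁) (c ∘ f₁ ∘ d) := (hd.comp hf₁F hdm).comp hc' fun y hy => hfN _ (hdm y hy)
        have hW₂P : W₂ ≤ img c P₁ := hci.ge.trans (img_mono hWP₁)
        have hgW : img (c ∘ f₁ ∘ d) W₂ = W₂ := by
          refine (hg.mono hW₂P).img_eq_self fun y hy => ?_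
          obtain ⟨x, hx, rfl⟩ := (hc'.mono (le_normalizerIn hW₁S)).mem_img.1 (hci.ge hy)
          show c (f₁ (d (c x))) ∈ W₂
          rw [hdc x (hWP₁ hx)]
          exact hci.le (mem_img_of_mem (hfW₁.le (mem_img_of_mem hx)))
        have hZc' : Z₀ ≤ img c P₁ := fun z hz => hcz z hz ▸ mem_img_of_mem (hZP₁ hz)
        intro z hz
        have h1 := ih W₂ hW₂1 hW₂n (hPR'.trans (hcard1.le.trans hc2)) (by omega) _ _
          (img_le fun x hx => hcn x (hP₁N hx)) hg hW₂P hZc' hgW z hz
        refine hc'.inj (hfN z (hZP₁ hz)) (hZN hz) ?_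
        rw [hcz z hz]
        calc c (f₁ z) = c (f₁ (d (c z))) := by rw [hdc z (hZP₁ hz)]
          _ = z := by rw [hcz z hz]; exact h1
      have hcM := ihn _ (hk ▸ card_lt_of_lt' hlt) R rfl (hS.to_le hRS) _ M rfl hMs (hsub hCls hRS (normalizerSystem_sub hM)) Z₀ hZR hMloc
      exact central_apply hcM ((fn_normalizerSystem hM).2 ⟨hPR, fun x hx => hf.map_normalizer hUP hfU hx (hPR hx).2,
        f, by rwa [sup_eq_left.2 hUP], fun x _ => rfl, hfU⟩) hZP'
  intro α hα
  have := finite_of_le_base (normalizerIn_le : normalizerIn S P ≤ S)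
  refine hfixed P hPS.le hZP α hα ?_
  exact hlev _ P hP1 hP (Subgroup.card_le_of_le (le_normalizerIn hP.1) (K := normalizerIn S P)) (Nat.lt_succ_self _) P
    (autFn α) (le_normalizerIn hP.1) ((mem_autGroup_iff_fn hPS.le).1 hα) le_rfl hZP (img_autFn α)

/-- Control of the centre. -/
theorem central_of_wOf (n : ℕ)
    (hW1 : ∀ (Q : Type u) [Group Q] [Finite Q], IsPGroup p Q → Nontrivial Q → W Q ≠ ⊥)
    (hW2 : ∀ (Q R : Type u) [Group Q] [Group R] [Finite Q], IsPGroup p Q → ∀ φ : Q ≃* R, (W Q).map φ.toMonoidHom = W R)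
    (hG : ∀ (L : Type u) [Group L] [Finite L] (T : Sylow p L),
      Subgroup.centralizer ((pCore p L : Subgroup L) : Set L) ≤ pCore p L →
      ∀ z ∈ zPow p n (T : Subgroup L),
        Subgroup.normalizer (wOf W (T : Subgroup L) : Set L) ≤ Subgroup.centralizer {z} → z ∈ Subgroup.center L)
    (hS : IsPGroup p S) (hF : F.IsSaturated p) (hZ : Z₀ ≤ zPow p n S) (hloc : LocFix F Z₀ (wOf W S)) :
    F.IsCentral Z₀ :=
  central_of_wOf_class n hW1 hW2 (fun _ => True) (fun _ => True) (fun _ _ _ => trivial) (fun _ _ _ => trivial)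
    (fun {_} _ {_} _ {_} _ _ _ {_} _ {_} _ {_} {_} _ _ => trivial) (fun L _ _ T _ => hG L T) hS hF trivial hZ hloc

end CfsgLib.Fsys
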