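import Cfsg.Agent.Lib.FusionSystem.ModelTheorem

/-! The centre as a direct factor of `Z(S)`. -/

set_option autoImplicit false

open Cfsg Cfsg.FusionSystem

namespace CfsgLib.Fsys

variable {Ω : Type*} [Group Ω] {S : Subgroup Ω} {F : FusionSystem S} {p : ℕ} [Fact p.Prime] [Finite S]

omit [Fact p.Prime] in
theorem center_le_center_base : F.center ≤ S ⊓ Subgroup.centralizer (S : Set Ω) := by
  have hc := center_central (F := F)
  refine fun z hz => ⟨hc.1 hz, Subgroup.mem_centralizer_iff.2 fun s hs => ?_⟩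
  obtain ⟨g, -, he, hfix⟩ := (central_iff_fn.1 hc).2 _ _ (fn_conj le_rfl hs)
  have := (hfix z hz).symm.trans (he z (hc.1 hz))
  exact (eq_mul_inv_iff_mul_eq.1 this).symm

theorem center_direct_factor (hS : IsPGroup p S) (hF : F.IsSaturated p)
    (hZ : S ⊓ Subgroup.centralizer (S : Set Ω) ≤ F.core) :
    ∃ K : Subgroup Ω, K ≤ (S ⊓ Subgroup.centralizer (S : Set Ω)) ∧ F.center ⊓ K = ⊥ ∧
      F.center ⊔ K = (S ⊓ Subgroup.centralizer (S : Set Ω)) := by
  classical
  have hQ : F.IsNormal F.core := core_normal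
  have := finite_of_le_base hQ.1
  set Z := S ⊓ Subgroup.centralizer (S : Set Ω) with hZdef
  let R := (normalConj hQ).range
  have := Fintype.ofFinite (F.autGroup F.core ⧸ R)
  set n := R.index with hn
  let Zq := Subgroup.center F.core
  let _ : CommGroup Zq := { (inferInstance : Group Zq) with
    mul_comm := fun a b => Subtype.ext (Subgroup.mem_center_iff.1 b.2 a.1) }
  let act : MulAut F.core → Zq →* Zq := fun α => MonoidHom.mk' (fun z => ⟨α z.1, Subgroup.mem_center_iff.2 fun w => by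
      calc w * α z.1 = α (α.symm w * z.1) := by rw [map_mul, MulEquiv.apply_symm_apply]
        _ = α (z.1 * α.symm w) := by rw [Subgroup.mem_center_iff.1 z.2]
        _ = α z.1 * w := by rw [map_mul, MulEquiv.apply_symm_apply]⟩)
    fun a b => Subtype.ext (map_mul α a.1 b.1)
  have hzq : ∀ z ∈ Z, ∃ y : Zq, ((y : F.core) : Ω) = z := fun z hz =>
    ⟨⟨⟨z, hZ hz⟩, Subgroup.mem_center_iff.2 fun w => Subtype.ext (hz.2 w (hQ.1 w.2))⟩, rfl⟩
  let Zs : Subgroup Zq := Z.comap (F.core.subtype.comp Zq.subtype)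
  have hfixS : ∀ r ∈ R, ∀ y ∈ Zs, act ((r : F.autGroup F.core) : MulAut F.core) y = y := by
    rintro _ ⟨s, rfl⟩ y hy
    apply Subtype.ext; apply Subtype.ext
    show ((((normalConj hQ s : F.autGroup F.core) : MulAut F.core) y.1 : F.core) : Ω) = _
    rw [← autFn_coe]
    refine (aFn_normalConj hQ s y.1.2).trans ?_
    rw [show (s : Ω) * ((y.1 : F.core) : Ω) = ((y.1 : F.core) : Ω) * s from
      Subgroup.mem_centralizer_iff.1 hy.2 _ s.2, mul_inv_cancel_right]
  let N : Zs →* Zq := MonoidHom.mk'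
    (fun y => ∏ c : F.autGroup F.core ⧸ R, act ((c.out : F.autGroup F.core) : MulAut F.core) y.1)
    fun a b => by simp [Finset.prod_mul_distrib]
  have hNfix : ∀ (a : F.autGroup F.core) (y : Zs), act (a : MulAut F.core) (N y) = N y := by
    intro a y
    show act (a : MulAut F.core) (∏ c : F.autGroup F.core ⧸ R, _) = ∏ c : F.autGroup F.core ⧸ R, _
    rw [map_prod]
    refine Fintype.prod_equiv (MulAction.toPerm a) _ _ fun c => ?_
    obtain ⟨r, hr⟩ : ∃ r ∈ R, (MulAction.toPerm a c).out = a * c.out * r := by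
      refine ⟨(a * c.out)⁻¹ * (MulAction.toPerm a c).out, QuotientGroup.eq.1 ?_, by group⟩
      rw [QuotientGroup.out_eq', MulAction.toPerm_apply]
      conv_rhs => rw [← QuotientGroup.out_eq' c]
      rfl
    rw [hr.2]
    show act (a : MulAut F.core) (act ((c.out : F.autGroup F.core) : MulAut F.core) y.1) =
      act (((a * c.out * r : F.autGroup F.core)) : MulAut F.core) y.1
    rw [show act (((a * c.out * r : F.autGroup F.core)) : MulAut F.core) y.1 =
      act (a : MulAut F.core) (act ((c.out : F.autGroup F.core) : MulAut F.core)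
        (act ((r : F.autGroup F.core) : MulAut F.core) y.1)) from rfl, hfixS r hr.1 y.1 y.2]
  have hfixZ : ∀ y : Zq, (∀ a : F.autGroup F.core, act (a : MulAut F.core) y = y) →
      ((y : F.core) : Ω) ∈ F.center := by
    intro y hy
    refine le_center (Q := Subgroup.zpowers ((y : F.core) : Ω)) (central_iff_fn.2
      ⟨Subgroup.zpowers_le.2 (hQ.1 y.1.2), fun P f hf => ?_⟩) (Subgroup.mem_zpowers _)
    obtain ⟨g, hg, he, hi⟩ := (normal_iff_fn.1 hQ).2 P f hf
    obtain ⟨b, hb, hbe⟩ := exists_aut_of_fn (hg.mono le_sup_right) hi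
    have hyy : g ((y : F.core) : Ω) = ((y : F.core) : Ω) :=
      (hbe y.1).symm.trans (congrArg (fun w : Zq => ((w : F.core) : Ω)) (hy ⟨b, hb⟩))
    have hle : P ⊔ Subgroup.zpowers ((y : F.core) : Ω) ≤ P ⊔ F.core :=
      sup_le_sup_left (Subgroup.zpowers_le.2 y.1.2) _
    refine ⟨g, hg.mono hle, he, fun x hx => ?_⟩
    obtain ⟨i, hi⟩ := Subgroup.mem_zpowers_iff.1 hx
    subst hi
    obtain ⟨φ, -, hφ⟩ := hg
    have hz := map_zpow φ ⟨_, (le_sup_right : F.core ≤ P ⊔ F.core) y.1.2⟩ i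
    rw [hφ, hφ, Subgroup.coe_zpow] at hz
    rw [hz, hyy]
  have hfixC : ∀ (y : Zs), ((y.1 : F.core) : Ω) ∈ F.center → ∀ a : F.autGroup F.core,
      act (a : MulAut F.core) y.1 = y.1 := by
    intro y hy a
    obtain ⟨g, -, he, hfix⟩ := (central_iff_fn.1 (center_central (F := F))).2 _ _ (fn_aFn hQ.1 a)
    apply Subtype.ext; apply Subtype.ext
    exact ((autFn_coe _ _).symm.trans (he _ y.1.1.2).symm).trans (hfix _ hy)
  obtain ⟨e, he⟩ : ∃ e, Nat.card S = p ^ e := IsPGroup.iff_card.1 hS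
  obtain ⟨m, -, hm⟩ := Nat.exists_mul_mod_eq_one_of_coprime
    (Nat.Coprime.pow_right (e + 1)
      ((Nat.Prime.coprime_iff_not_dvd Fact.out).2 (index_range_coprime hS hF hQ)).symm)
    (Nat.one_lt_pow (by omega) (Fact.out : p.Prime).one_lt)
  have hpow : ∀ z ∈ Z, z ^ (n * m) = z := fun z hz => by
    have h1 : z ^ (p ^ (e + 1)) = 1 := by
      rw [pow_succ, pow_mul, ← he]
      have : (⟨z, hz.1⟩ : S) ^ Nat.card S = 1 := pow_card_eq_one'
      rw [show z ^ Nat.card S = 1 from congrArg Subtype.val this, one_pow]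
    rw [pow_eq_pow_mod _ h1, show n * m % p ^ (e + 1) = 1 from hm, pow_one]
  have hNC : ∀ y : Zs, ((N y : F.core) : Ω) ∈ F.center := fun y => hfixZ _ fun a => hNfix a y
  have hNs : ∀ y : Zs, N y ∈ Zs := fun y => center_le_center_base (hNC y)
  have hNpow : ∀ y : Zs, ((y.1 : F.core) : Ω) ∈ F.center → N y = y.1 ^ n := fun y hy => by
    show ∏ c : F.autGroup F.core ⧸ R, _ = _
    rw [Finset.prod_congr rfl (fun c _ => hfixC y hy c.out), Finset.prod_const, Finset.card_univ, hn,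
      Subgroup.index, Nat.card_eq_fintype_card]
  refine ⟨(N.ker.map Zs.subtype).map (F.core.subtype.comp Zq.subtype), ?_, ?_, ?_⟩
  · rintro _ ⟨_, ⟨y, -, rfl⟩, rfl⟩
    exact y.2
  · refine le_bot_iff.1 fun z hz => ?_
    obtain ⟨hzC, _, ⟨y, hy, rfl⟩, rfl⟩ := hz
    have h1 := hNpow y hzC
    rw [show N y = 1 from hy] at h1
    have h2 : ((y.1 : F.core) : Ω) ^ n = 1 := congrArg (fun w : Zq => ((w : F.core) : Ω)) h1.symm
    show ((y.1 : F.core) : Ω) = 1
    have h3 : ((y.1 : F.core) : Ω) ^ (n * m) = ((y.1 : F.core) : Ω) := hpow _ y.2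
    rw [pow_mul, h2, one_pow] at h3
    exact h3.symm
  · refine le_antisymm (sup_le center_le_center_base ?_) fun z hz => ?_
    · rintro _ ⟨_, ⟨y, -, rfl⟩, rfl⟩
      exact y.2
    · obtain ⟨y, rfl⟩ := hzq z hz
      let w : Zs := ⟨N ⟨y, hz⟩, hNs _⟩
      have hk : (⟨y, hz⟩ : Zs) * (w ^ m)⁻¹ ∈ N.ker := by
        rw [MonoidHom.mem_ker, map_mul, map_inv, map_pow, hNpow w (hNC _)]
        show N ⟨y, hz⟩ * ((N ⟨y, hz⟩ ^ n) ^ m)⁻¹ = 1
        have : N ⟨y, hz⟩ ^ (n * m) = N ⟨y, hz⟩ :=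
          Subtype.ext (Subtype.ext (hpow _ (hNs ⟨y, hz⟩)))
        rw [← pow_mul, this, mul_inv_cancel]
      have hw : ((w.1 : F.core) : Ω) ^ m ∈ F.center := pow_mem (hNC _) m
      have e : ((y : F.core) : Ω) = ((((⟨y, hz⟩ : Zs) * (w ^ m)⁻¹).1 : F.core) : Ω) * ((w.1 : F.core) : Ω) ^ m := by
        simp
      rw [e]
      exact Subgroup.mul_mem _ (Subgroup.mem_sup_right ⟨_, ⟨_, hk, rfl⟩, rfl⟩) (Subgroup.mem_sup_left hw)

end CfsgLib.Fsys
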