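import Cfsg.Agent.Lib.FusionSystem.CenterControl
import Cfsg.Agent.Lib.Fusion.Basic
/-
The centre of `N_F(W(S))` against the centre of `F`, and a group criterion for the models.
-/
set_option autoImplicit false

namespace CfsgLib.Fsys

open Cfsg
open Cfsg.FusionSystem (centralizerIn normalizerIn)
open scoped Pointwise

universe u

variable {p : ℕ} [Fact p.Prime] {W : ∀ (Q : Type u) [Group Q], Subgroup Q}

section group

variable (hW2 : ∀ (Q R : Type u) [Group Q] [Group R] [Finite Q], IsPGroup p Q → ∀ φ : Q ≃* R, (W Q).map φ.toMonoidHom = W R)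
include hW2

theorem wOf_map {G H : Type u} [Group G] [Group H] (f : G →* H) (hf : Function.Injective f) (A : Subgroup G)
    [Finite A] (hA : IsPGroup p A) : wOf W (A.map f) = (wOf W A).map f := by
  let e : A ≃* A.map f := A.equivMapOfInjective f hf
  unfold wOf
  rw [← hW2 ↥A ↥(A.map f) hA e, Subgroup.map_map, Subgroup.map_map]
  rfl

/-- If outside the normal case some normal subgroup centralizing the `p^n`-th powers of `Z(O_p)` meets `T`
outside `O_p`, then those powers in `Z(T)` fixed by `N(W(T))` are central. -/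
theorem center_of_witness (n : ℕ)
    (hK : ∀ (L : Type u) [Group L] [Finite L] (T : Sylow p L),
      Subgroup.centralizer ((pCore p L : Subgroup L) : Set L) ≤ pCore p L →
      ¬ (wOf W (T : Subgroup L)).Normal →
      ∃ K : Subgroup L, K.Normal ∧ (∀ z ∈ zPow p n (pCore p L), ∀ g ∈ K, g * z = z * g) ∧
        ¬ (T : Subgroup L) ⊓ K ≤ pCore p L)
    (L : Type u) [Group L] [Finite L] (T : Sylow p L)
    (hc : Subgroup.centralizer ((pCore p L : Subgroup L) : Set L) ≤ pCore p L) :
    ∀ z ∈ zPow p n (T : Subgroup L),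
      Subgroup.normalizer (wOf W (T : Subgroup L) : Set L) ≤ Subgroup.centralizer {z} → z ∈ Subgroup.center L := by
  suffices key : ∀ k : ℕ, ∀ (L : Type u) [Group L] [Finite L], Nat.card L = k → ∀ (T : Sylow p L),
      Subgroup.centralizer ((pCore p L : Subgroup L) : Set L) ≤ pCore p L → ∀ z ∈ zPow p n (T : Subgroup L),
      Subgroup.normalizer (wOf W (T : Subgroup L) : Set L) ≤ Subgroup.centralizer {z} → z ∈ Subgroup.center L from
    key _ L rfl T hc
  clear hc T
  intro k
  induction k using Nat.strong_induction_on with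
  | _ k ih =>
  intro L _ _ hk T hc z hz hN
  by_cases hn : (wOf W (T : Subgroup L)).Normal
  · refine Subgroup.mem_center_iff.2 fun g => ?_
    exact Subgroup.mem_centralizer_singleton_iff.1 (hN (by rw [Subgroup.normalizer_eq_top_iff.2 hn]; trivial))
  obtain ⟨K, hKn, hKz, hTK⟩ := hK L T hc hn
  set O := pCore p L with hO
  have hOn : O.Normal := LocalEven.SylowIn.pCore_normal L p
  have hOp : IsPGroup p O := LocalEven.SylowIn.isPGroup_pCore L p
  have hOT : O ≤ (T : Subgroup L) := hOp.le_sylow_of_normal T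
  have hzO : z ∈ zPow p n O := zPow_mono n hOT (fun y hy => hc (Subgroup.centralizer_le hOT hy.2)) hz
  set T₀ := (T : Subgroup L) ⊓ K with hT₀
  set M := Subgroup.normalizer (T₀ : Set L) with hM
  have hTM : (T : Subgroup L) ≤ M := by
    refine le_trans (le_inf Subgroup.le_normalizer ?_) Subgroup.inf_normalizer_le_normalizer_inf
    rw [Subgroup.normalizer_eq_top]; exact le_top
  have hMtop : M ≠ ⊤ := fun h => hTK (le_sSup ⟨Subgroup.normalizer_eq_top_iff.1 h, T.isPGroup'.to_le inf_le_left⟩)
  have htop : M ⊔ K = ⊤ := by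
    obtain ⟨Q, hQ⟩ : ∃ Q : Sylow p K, (Q : Subgroup K) = (T : Subgroup L).subgroupOf K := by
      refine ⟨(T.isPGroup'.comap_subtype (K := K)).toSylow ?_, rfl⟩
      have h := Fusion.Basic.not_dvd_relIndex_of_normal T K
      rwa [Subgroup.inf_relIndex_right] at h
    have h := Sylow.normalizer_sup_eq_top Q
    rwa [hQ, ← Subgroup.inf_subgroupOf_right, Subgroup.map_subgroupOf_eq_of_le inf_le_right] at h
  have hlt : Nat.card M < k := hk ▸ lt_of_le_of_ne (Subgroup.card_le_card_group M) fun h =>
    hMtop (Subgroup.eq_top_of_card_eq M h)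
  have hOM : O.subgroupOf M ≤ pCore p M := le_sSup ⟨inferInstance, hOp.comap_subtype⟩
  have hcM : Subgroup.centralizer ((pCore p M : Subgroup M) : Set M) ≤ pCore p M := fun m hm =>
    hOM (hc (Subgroup.mem_centralizer_iff.2 fun y hy =>
      congrArg Subtype.val (Subgroup.mem_centralizer_iff.1 hm ⟨y, hTM (hOT hy)⟩ (hOM hy))))
  set U := T.subtype hTM with hU
  have hTs : (U : Subgroup M).map M.subtype = (T : Subgroup L) := by
    rw [hU, Sylow.coe_subtype, Subgroup.map_subgroupOf_eq_of_le hTM]
  have hzT : z ∈ (T : Subgroup L) := (zPow_le n _ hz).1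
  have hzU : (⟨z, hTM hzT⟩ : M) ∈ zPow p n (U : Subgroup M) := by
    let φ : (T : Subgroup L) →* M := Subgroup.inclusion hTM
    exact mem_zPow_map n φ (by
      ext y
      simp [φ, hU, Sylow.coe_subtype, Subgroup.mem_subgroupOf, Subgroup.inclusion]
      constructor
      · rintro ⟨a, ha, rfl⟩; exact ha
      · exact fun hy => ⟨y, hy, rfl⟩) hz hzT
  have hzM := ih _ hlt M rfl U hcM _ hzU (by
    intro m hm
    refine Subgroup.mem_centralizer_singleton_iff.2 (Subtype.ext (Subgroup.mem_centralizer_singleton_iff.1 (hN ?_)))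
    have h := Subgroup.le_normalizer_map M.subtype ⟨m, hm, rfl⟩
    rwa [← wOf_map hW2 M.subtype M.subtype_injective _ U.isPGroup', hTs] at h)
  refine Subgroup.mem_center_iff.2 fun g => ?_
  have hg : g ∈ (K : Set L) * (M : Set L) := by rw [← Subgroup.normal_mul, sup_comm, htop]; trivial
  obtain ⟨a, ha, b, hb, rfl⟩ := hg
  have h1 : b * z = z * b := congrArg Subtype.val (Subgroup.mem_center_iff.1 hzM ⟨b, hb⟩)
  show a * b * z = z * (a * b)
  rw [mul_assoc, h1, ← mul_assoc, hKz z hzO a ha, mul_assoc]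

end group

variable {Ω : Type u} [Group Ω] {S : Subgroup Ω} [Finite S] {F : FusionSystem S}

/-- Part of the centre of `N_F(W(S))` is central in `F`. -/
theorem zPow_inf_center_le (n : ℕ)
    (hW1 : ∀ (Q : Type u) [Group Q] [Finite Q], IsPGroup p Q → Nontrivial Q → W Q ≠ ⊥)
    (hW2 : ∀ (Q R : Type u) [Group Q] [Group R] [Finite Q], IsPGroup p Q → ∀ φ : Q ≃* R, (W Q).map φ.toMonoidHom = W R)
    (hG : ∀ (L : Type u) [Group L] [Finite L] (T : Sylow p L),
      Subgroup.centralizer ((pCore p L : Subgroup L) : Set L) ≤ pCore p L →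
      ∀ z ∈ zPow p n (T : Subgroup L),
        Subgroup.normalizer (wOf W (T : Subgroup L) : Set L) ≤ Subgroup.centralizer {z} → z ∈ Subgroup.center L)
    (hS : IsPGroup p S) (hF : F.IsSaturated p) {U : Subgroup Ω} (hU : U = wOf W S)
    (N : FusionSystem (normalizerIn S U)) (hN : F.IsNormalizerSystem U N) :
    zPow p n S ⊓ N.center ≤ F.center := by
  subst hU
  have := finite_of_le_base (normalizerIn_le : normalizerIn S (wOf W S) ≤ S)
  have hn : normalizerIn S (wOf W S) = S := by
    refine inf_eq_left.2 fun s hs => ?_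
    have := finite_of_le_base (wOf_le (W := W) S)
    refine mem_normalizer_of_map_le fun x hx => ?_
    have hf := fn_conj (F := F) (le_refl S) hs
    have h := map_wOf hW2 hS hf
    rw [hf.img_eq_self fun x hx => hf.mem hx] at h
    exact h.le (mem_img_of_mem hx)
  refine le_center (central_of_wOf n hW1 hW2 hG hS hF inf_le_left fun P f hf hWP hZP hfW z hz => ?_)
  have hfN : Fn N P f := (fn_normalizerSystem hN).2 ⟨hf.le.trans hn.ge, fun x hx => hn.ge (hf.mem hx), f,
    by rwa [sup_eq_left.2 hWP], fun x _ => rfl, hfW⟩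
  obtain ⟨g, -, hge, hgz⟩ := (central_iff_fn.1 (center_central (F := N))).2 P f hfN
  exact (hge z (hZP hz)).symm.trans (hgz z hz.2)

/-- `Z(F) ≤ Z(N_F(U))` for `U` normalized by `S`. -/
theorem center_le_normalizer_center {U : Subgroup Ω} (hU : U ≤ S) (hn : normalizerIn S U = S)
    (N : FusionSystem (normalizerIn S U)) (hN : F.IsNormalizerSystem U N) : F.center ≤ N.center := by
  refine le_center (central_iff_fn.2 ⟨center_central.1.trans hn.ge, fun P f hf => ?_⟩)
  obtain ⟨hP, -, g, hg, hge, hgi⟩ := (fn_normalizerSystem hN).1 hf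
  obtain ⟨h, hh, hhe, hhz⟩ := (central_iff_fn.1 (center_central (F := F))).2 _ g hg
  have hle : P ⊔ F.center ≤ P ⊔ U ⊔ F.center := sup_le_sup_right le_sup_left _
  refine ⟨h, (fn_normalizerSystem hN).2 ⟨(hh.mono hle).le.trans hn.ge, fun x hx => hn.ge (hh.mem (hle hx)), h,
    hh.mono (sup_le hle (le_sup_right.trans le_sup_left)), fun x _ => rfl,
    (img_congr fun x hx => hhe x (Subgroup.mem_sup_right hx)).trans hgi⟩,
    fun x hx => (hhe x (Subgroup.mem_sup_left hx)).trans (hge x hx), hhz⟩

/-- `Z(F)` lies in the centre of `S`. -/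
theorem center_le_center (T : Subgroup Ω) [Finite T] (E : FusionSystem T) :
    E.center ≤ T ⊓ Subgroup.centralizer (T : Set Ω) := fun z hz => by
  refine ⟨center_central.1 hz, Subgroup.mem_centralizer_iff.2 fun s hs => ?_⟩
  have h := central_apply center_central (fn_conj (F := E) (le_refl T) hs) center_central.1 z hz
  exact mul_inv_eq_iff_eq_mul.1 h

end CfsgLib.Fsys

namespace CfsgLib.Fsys

open Cfsg
open scoped commutatorElement

variable {p : ℕ} [Fact p.Prime]

/-- A quadratic element outside `O_p` gives a witness for the first powers. -/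
theorem witness_of_quadratic {L : Type*} [Group L] [Finite L] (T : Sylow p L)
    (hq : ∃ g : L, g ∈ (T : Subgroup L) ∧ g ∉ pCore p L ∧
      ⁅⁅(Subgroup.center ↥(pCore p L)).map (pCore p L).subtype, Subgroup.zpowers g⁆, Subgroup.zpowers g⁆ = ⊥) :
    ∃ K : Subgroup L, K.Normal ∧ (∀ z ∈ zPow p 1 (pCore p L), ∀ g ∈ K, g * z = z * g) ∧
      ¬ (T : Subgroup L) ⊓ K ≤ pCore p L := by
  obtain ⟨g, hgT, hgO, hquad⟩ := hq
  set O := pCore p L with hO
  have hOn : O.Normal := LocalEven.SylowIn.pCore_normal L p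
  set V := O ⊓ Subgroup.centralizer (O : Set L) with hV
  have hVn : V.Normal := inferInstanceAs ((O ⊓ Subgroup.centralizer (O : Set L)).Normal)
  have hVe : (Subgroup.center ↥O).map O.subtype = V := by
    refine le_antisymm ?_ fun v hv => ⟨⟨v, hv.1⟩, Subgroup.mem_center_iff.2 fun y =>
      Subtype.ext (Subgroup.mem_centralizer_iff.1 hv.2 _ y.2), rfl⟩
    rintro _ ⟨v, hv, rfl⟩
    exact ⟨v.2, Subgroup.mem_centralizer_iff.2 fun y hy =>
      congrArg Subtype.val (Subgroup.mem_center_iff.1 hv ⟨y, hy⟩)⟩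
  rw [hVe] at hquad
  have hab : ∀ a ∈ V, ∀ b ∈ V, a * b = b * a := fun a ha b hb =>
    (Subgroup.mem_centralizer_iff.1 hb.2 a ha.1)
  set C := Subgroup.centralizer (V : Set L) with hC
  let K : Subgroup L := Subgroup.centralizer ((fun z => z ^ p) '' (V : Set L))
  have hmemK : ∀ {a : L}, a ∈ K ↔ ∀ v ∈ V, v ^ p * a = a * v ^ p := fun {a} => by
    simp [K, Subgroup.mem_centralizer_iff]
  have hKn : K.Normal := ⟨fun a ha y => hmemK.2 fun v hv => by
    have h1 := hmemK.1 ha (y⁻¹ * v * y) (by simpa using hVn.conj_mem v hv y⁻¹)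
    have h2 : (y⁻¹ * v * y) ^ p = y⁻¹ * v ^ p * y := by simpa using conj_pow (a := y⁻¹) (b := v) (i := p)
    rw [h2] at h1
    calc v ^ p * (y * a * y⁻¹) = y * (y⁻¹ * v ^ p * y * a) * y⁻¹ := by group
      _ = _ := by rw [h1]; group⟩
  refine ⟨K, hKn, fun z hz a ha => ?_, fun hle => ?_⟩
  · have hle : zPow p 1 O ≤ Subgroup.centralizer {a} := by
      refine (Subgroup.closure_le _).2 ?_
      rintro _ ⟨v, hv, rfl⟩
      rw [SetLike.mem_coe, Subgroup.mem_centralizer_singleton_iff, pow_one]
      exact hmemK.1 ha v hv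
    exact (Subgroup.mem_centralizer_singleton_iff.1 (hle hz)).symm
  · -- the last power of `g` not centralizing `V`
    have hCK : C ≤ K := fun a ha => hmemK.2 fun v hv => Subgroup.mem_centralizer_iff.1 ha _ (V.pow_mem hv _)
    by_cases hgC : g ∈ C
    · exact hgO (hle ⟨hgT, hCK hgC⟩)
    obtain ⟨i, hi⟩ := T.isPGroup' ⟨g, hgT⟩
    classical
    have hex : ∃ j, g ^ p ^ j ∈ C := ⟨i, by
      rw [show g ^ p ^ i = 1 from congrArg Subtype.val hi]; exact one_mem C⟩
    obtain ⟨j, hj⟩ := Nat.exists_eq_succ_of_ne_zero (n := Nat.find hex) (fun h0 => hgC (by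
      have := Nat.find_spec hex
      rwa [h0, pow_zero, pow_one] at this))
    have hjC : g ^ p ^ j ∉ C := Nat.find_min hex (by omega)
    set y := g ^ p ^ j with hy
    have hyp : y ^ p ∈ C := by
      rw [hy, ← pow_mul, ← pow_succ]
      have := Nat.find_spec hex
      rwa [hj] at this
    have hyK : y ∈ K := hmemK.2 fun v hv => by
      have hc' : y * v * y⁻¹ * v⁻¹ ∈ V := V.mul_mem (hVn.conj_mem v hv y) (V.inv_mem hv)
      set c := y * v * y⁻¹ * v⁻¹ with hc
      have hyz : y ∈ Subgroup.zpowers g := by rw [hy]; exact pow_mem (Subgroup.mem_zpowers g) _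
      have hcy : Commute y c := by
        have h1 : ⁅c, y⁆ ∈ ⁅⁅V, Subgroup.zpowers g⁆, Subgroup.zpowers g⁆ := by
          refine Subgroup.commutator_mem_commutator ?_ hyz
          rw [hc, ← commutatorElement_def, Subgroup.commutator_comm]
          exact Subgroup.commutator_mem_commutator hyz hv
        rw [hquad, Subgroup.mem_bot, commutatorElement_eq_one_iff_mul_comm] at h1
        exact h1.symm
      have hiter : ∀ i : ℕ, y ^ i * v * (y ^ i)⁻¹ = c ^ i * v := by
        intro i
        induction i with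
        | zero => simp
        | succ i ih =>
          calc y ^ (i + 1) * v * (y ^ (i + 1))⁻¹ = y * (y ^ i * v * (y ^ i)⁻¹) * y⁻¹ := by rw [pow_succ' y]; group
            _ = (y * c ^ i * y⁻¹) * (y * v * y⁻¹) := by rw [ih]; group
            _ = c ^ i * (c * v) := by
              rw [(hcy.pow_right i).eq, mul_inv_cancel_right, show y * v * y⁻¹ = c * v by rw [hc]; group]
            _ = c ^ (i + 1) * v := by rw [pow_succ]; exact (mul_assoc _ _ _).symm
      have hcp : c ^ p = 1 := by
        have h := hiter p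
        rw [← Subgroup.mem_centralizer_iff.1 hyp v hv, mul_inv_cancel_right] at h
        exact right_eq_mul.1 h
      have hcv : Commute c v := hab c hc' v hv
      have h : y * v ^ p * y⁻¹ = v ^ p := by
        rw [← conj_pow, show y * v * y⁻¹ = c * v by rw [hc]; group, hcv.mul_pow, hcp, one_mul]
      exact (mul_inv_eq_iff_eq_mul.1 h).symm
    exact hjC (Subgroup.mem_centralizer_iff.2 fun v hv =>
      (Subgroup.mem_centralizer_iff.1 hv.2 y (hle ⟨(T : Subgroup L).pow_mem hgT _, hyK⟩)).symm)

end CfsgLib.Fsys
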