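import Cfsg.Agent.Lib.FusionSystem.SmallElements
import Mathlib.GroupTheory.Commutator.Basic
import Mathlib.GroupTheory.PGroup

/-! Saturated systems over `p`-groups whose centre has index `p²`: structure of the essential subgroups. -/

set_option autoImplicit false
set_option linter.unusedSectionVars false

open Cfsg Cfsg.FusionSystem
open scoped commutatorElement

namespace CfsgLib.Fsys.CentralIndex

section Abstract

variable {G : Type*} [Group G] [Finite G] {p : ℕ} [Fact p.Prime]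

theorem pow_mem_center (hidx : (Subgroup.center G).index = p ^ 2) (hna : ∃ x y : G, x * y ≠ y * x) (g : G) :
    g ^ p ∈ Subgroup.center G := by
  have hc : Nat.card (G ⧸ Subgroup.center G) = p ^ 2 := by rw [← Subgroup.index_eq_card]; exact hidx
  rw [← QuotientGroup.eq_one_iff, QuotientGroup.mk_pow]
  have h := orderOf_dvd_natCard (g : G ⧸ Subgroup.center G)
  rw [hc] at h
  obtain ⟨i, hi, he⟩ := (Nat.dvd_prime_pow (Fact.out : p.Prime)).mp h
  rcases (show i ≤ 1 ∨ i = 2 by omega) with hi1 | rfl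
  · exact orderOf_dvd_iff_pow_eq_one.mp (he ▸ (pow_dvd_pow p hi1).trans (by simp))
  · obtain ⟨x, y, hxy⟩ := hna
    have hcyc := isCyclic_of_orderOf_eq_card _ (he.trans hc.symm)
    exact absurd (commutative_of_cyclic_center_quotient (QuotientGroup.mk' (Subgroup.center G))
      (by rw [QuotientGroup.ker_mk']) x y) hxy

theorem comm_mem_center (hidx : (Subgroup.center G).index = p ^ 2) (g h : G) :
    ⁅g, h⁆ ∈ Subgroup.center G := by
  have hc : Nat.card (G ⧸ Subgroup.center G) = p ^ 2 := by rw [← Subgroup.index_eq_card]; exact hidx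
  rw [← QuotientGroup.eq_one_iff]
  have hcomm := IsPGroup.commutative_of_card_eq_prime_sq hc
  have e : ((⁅g, h⁆ : G) : G ⧸ Subgroup.center G) = ⁅(g : G ⧸ Subgroup.center G), (h : G ⧸ Subgroup.center G)⁆ :=
    map_commutatorElement (QuotientGroup.mk' (Subgroup.center G)) g h
  rw [e, commutatorElement_eq_one_iff_mul_comm]
  exact hcomm _ _

theorem decomp (hidx : (Subgroup.center G).index = p ^ 2) {x y : G} (hxy : x * y ≠ y * x) (g : G) :
    ∃ (z : G) (i j : ℤ), z ∈ Subgroup.center G ∧ g = z * x ^ i * y ^ j := by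
  set Z := Subgroup.center G with hZ
  set K := Z ⊔ Subgroup.zpowers x with hK
  have hKn : K.Normal := ⟨fun a ha g => by
    have : g * a * g⁻¹ = ⁅g, a⁆ * a := by rw [commutatorElement_def]; group
    rw [this]
    exact K.mul_mem (Subgroup.mem_sup_left (comm_mem_center hidx g a)) ha⟩
  have hKc : ∀ a ∈ K, a * x = x * a := by
    intro a ha
    obtain ⟨z, hz, b, hb, rfl⟩ := Subgroup.mem_sup_of_normal_left.1 ha
    obtain ⟨i, rfl⟩ := Subgroup.mem_zpowers_iff.1 hb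
    have h1 : z * x = x * z := (Subgroup.mem_center_iff.1 hz x).symm
    rw [mul_assoc, (Commute.self_zpow x i).symm.eq, ← mul_assoc, h1, mul_assoc]
  have hyK : y ∉ K := fun h => hxy (hKc y h).symm
  have hxZ : x ∉ Z := fun h => hxy (Subgroup.mem_center_iff.1 h y).symm
  set L := K ⊔ Subgroup.zpowers y with hL
  have h1 : Z.relIndex K ≠ 1 := fun h =>
    hxZ (Subgroup.relIndex_eq_one.1 h (Subgroup.mem_sup_right (Subgroup.mem_zpowers x)))
  have h2 : K.relIndex L ≠ 1 := fun h =>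
    hyK (Subgroup.relIndex_eq_one.1 h (Subgroup.mem_sup_right (Subgroup.mem_zpowers y)))
  have h3 : Z.relIndex K * K.relIndex L * L.index = p ^ 2 := by
    rw [Subgroup.relIndex_mul_relIndex Z K L le_sup_left le_sup_left,
      Subgroup.relIndex_mul_index ((le_sup_left : Z ≤ K).trans le_sup_left), hidx]
  have hp := (Fact.out : p.Prime)
  have key : ∀ n : ℕ, n ∣ p ^ 2 → n ≠ 1 → p ∣ n := by
    intro n hn hn1
    obtain ⟨k, -, rfl⟩ := (Nat.dvd_prime_pow hp).1 hn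
    exact dvd_pow_self p (fun h => hn1 (by simp [h]))
  have hd1 : p ∣ Z.relIndex K := key _ ⟨K.relIndex L * L.index, by rw [← h3, mul_assoc]⟩ h1
  have hd2 : p ∣ K.relIndex L := key _ ⟨Z.relIndex K * L.index, by rw [← h3]; ring⟩ h2
  have htop : L = ⊤ := by
    rw [← Subgroup.index_eq_one]
    have hd : p * p * L.index ∣ p ^ 2 := h3 ▸ Nat.mul_dvd_mul_right (Nat.mul_dvd_mul hd1 hd2) _
    rw [← pow_two] at hd
    exact Nat.dvd_one.1 ((Nat.mul_dvd_mul_iff_left (pow_pos hp.pos 2)).1 (by rwa [mul_one]))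
  have hg : g ∈ L := htop ▸ Subgroup.mem_top g
  obtain ⟨k, hk, b, hb, rfl⟩ := Subgroup.mem_sup_of_normal_left.1 hg
  obtain ⟨z, hz, a, ha, rfl⟩ := Subgroup.mem_sup_of_normal_left.1 hk
  obtain ⟨i, rfl⟩ := Subgroup.mem_zpowers_iff.1 ha
  obtain ⟨j, rfl⟩ := Subgroup.mem_zpowers_iff.1 hb
  exact ⟨z, i, j, hz, rfl⟩

theorem comm_mem_zpowers (hidx : (Subgroup.center G).index = p ^ 2) {x y : G} (hxy : x * y ≠ y * x) (g h : G) :
    ⁅g, h⁆ ∈ Subgroup.zpowers ⁅x, y⁆ := by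
  set C := Subgroup.zpowers ⁅x, y⁆ with hC
  have hCn : C.Normal := ⟨fun a ha g => by
    have : a ∈ Subgroup.center G := (Subgroup.zpowers_le.2 (comm_mem_center hidx x y)) ha
    rw [Subgroup.mem_center_iff.1 this g, mul_inv_cancel_right]
    exact ha⟩
  let π := QuotientGroup.mk' C
  have hxy' : Commute (π x) (π y) := by
    rw [Commute, SemiconjBy, ← commutatorElement_eq_one_iff_mul_comm, ← map_commutatorElement]
    exact (QuotientGroup.eq_one_iff _).2 (Subgroup.mem_zpowers _)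
  have hz : ∀ z ∈ Subgroup.center G, ∀ q, Commute (π z) (π q) := fun z hz q =>
    show π z * π q = π q * π z by rw [← map_mul, ← map_mul, Subgroup.mem_center_iff.1 hz q]
  obtain ⟨z₁, i₁, j₁, hz₁, rfl⟩ := decomp hidx hxy g
  obtain ⟨z₂, i₂, j₂, hz₂, rfl⟩ := decomp hidx hxy h
  refine (QuotientGroup.eq_one_iff _).1 ?_
  show π ⁅_, _⁆ = 1
  rw [map_commutatorElement, commutatorElement_eq_one_iff_mul_comm]
  simp only [map_mul, map_zpow]
  have cx : ∀ q, Commute (π x) q → Commute (π y) q → (∀ z ∈ Subgroup.center G, Commute (π z) q) →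
      Commute (π z₁ * π x ^ i₁ * π y ^ j₁) q := fun q h1 h2 h3 =>
    ((h3 z₁ hz₁).mul_left (h1.zpow_left _)).mul_left (h2.zpow_left _)
  refine (cx _ ?_ ?_ ?_).eq
  · exact (((hz z₂ hz₂ x).symm).mul_right ((Commute.refl _).zpow_right _)).mul_right (hxy'.zpow_right _)
  · exact (((hz z₂ hz₂ y).symm).mul_right (hxy'.symm.zpow_right _)).mul_right ((Commute.refl _).zpow_right _)
  · exact fun z hzz => ((hz z hzz z₂).mul_right ((hz z hzz x).zpow_right _)).mul_right ((hz z hzz y).zpow_right _)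

theorem comm_pow_p (hidx : (Subgroup.center G).index = p ^ 2) (hna : ∃ x y : G, x * y ≠ y * x) (x y : G) :
    ⁅x, y⁆ ^ p = 1 := by
  have key : ∀ n : ℕ, x ^ n * y * (x ^ n)⁻¹ * y⁻¹ = ⁅x, y⁆ ^ n := by
    intro n
    induction n with
    | zero => simp
    | succ n ih =>
      have hc := Subgroup.mem_center_iff.1 (Subgroup.pow_mem _ (comm_mem_center hidx x y) n)
      calc x ^ (n + 1) * y * (x ^ (n + 1))⁻¹ * y⁻¹
          = x * (x ^ n * y * (x ^ n)⁻¹ * y⁻¹) * x⁻¹ * ⁅x, y⁆ := by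
            rw [pow_succ', commutatorElement_def]; group
        _ = x * ⁅x, y⁆ ^ n * x⁻¹ * ⁅x, y⁆ := by rw [ih]
        _ = ⁅x, y⁆ ^ (n + 1) := by rw [hc x, mul_inv_cancel_right, pow_succ]
  rw [← key p, ← Subgroup.mem_center_iff.1 (pow_mem_center hidx hna x) y]
  group

theorem mul_pow_class_two {x y : G} (hc : ∀ g, g * ⁅y, x⁆ = ⁅y, x⁆ * g) (n : ℕ) :
    (x * y) ^ n = x ^ n * y ^ n * ⁅y, x⁆ ^ (n.choose 2) := by
  have hk : ∀ n : ℕ, y ^ n * x = x * y ^ n * ⁅y, x⁆ ^ n := by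
    intro n
    induction n with
    | zero => simp
    | succ n ih =>
      have hyx : y * x = x * y * ⁅y, x⁆ := by
        rw [hc (x * y), commutatorElement_def]; group
      have hcy : ⁅y, x⁆ * y ^ n = y ^ n * ⁅y, x⁆ := (hc _).symm
      calc y ^ (n + 1) * x = y * (y ^ n * x) := by rw [pow_succ', mul_assoc]
        _ = y * x * (y ^ n * ⁅y, x⁆ ^ n) := by rw [ih]; group
        _ = x * y * (⁅y, x⁆ * y ^ n) * ⁅y, x⁆ ^ n := by rw [hyx]; group
        _ = x * y ^ (n + 1) * ⁅y, x⁆ ^ (n + 1) := by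
            rw [hcy, pow_succ' ⁅y, x⁆, pow_succ' y]
            simp only [mul_assoc]
  induction n with
  | zero => simp
  | succ n ih =>
    have hcq : Commute (x * y) (⁅y, x⁆ ^ n.choose 2) := Commute.pow_right (hc _) _
    have hcy : Commute y (⁅y, x⁆ ^ n) := Commute.pow_right (hc _) _
    calc (x * y) ^ (n + 1) = x ^ n * y ^ n * (⁅y, x⁆ ^ n.choose 2 * (x * y)) := by
          rw [pow_succ, ih]; group
      _ = x ^ n * (y ^ n * x) * y * ⁅y, x⁆ ^ n.choose 2 := by rw [← hcq.eq]; group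
      _ = x ^ n * x * y ^ n * (⁅y, x⁆ ^ n * y) * ⁅y, x⁆ ^ n.choose 2 := by rw [hk n]; group
      _ = x ^ (n + 1) * y ^ (n + 1) * ⁅y, x⁆ ^ ((n + 1).choose 2) := by
          rw [← hcy.eq, Nat.choose_succ_succ', Nat.choose_one_right, pow_add, pow_succ, pow_succ]
          group

end Abstract

theorem exists_zpow_eq {G : Type*} [Group G] {p : ℕ} [hp : Fact p.Prime] {a b : G} (ha : a ^ p = 1)
    (hb : b ∈ Subgroup.zpowers a) (hb1 : b ≠ 1) {e : G} (he : e ∈ Subgroup.zpowers a) :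
    ∃ k : ℤ, b ^ k = e := by
  obtain ⟨i, rfl⟩ := Subgroup.mem_zpowers_iff.1 hb
  obtain ⟨j, rfl⟩ := Subgroup.mem_zpowers_iff.1 he
  have hi : ¬ (p : ℤ) ∣ i := fun ⟨k, hk⟩ => hb1 (by rw [hk, zpow_mul, zpow_natCast, ha, one_zpow])
  obtain ⟨u, v, huv⟩ := ((Nat.prime_iff_prime_int.1 hp.out).coprime_iff_not_dvd).2 hi
  refine ⟨v * j, ?_⟩
  rw [← zpow_mul, show i * (v * j) = j + (p : ℤ) * (-(u * j)) by linear_combination j * huv,
    zpow_add, zpow_mul, zpow_natCast, ha, one_zpow, mul_one]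

theorem shift_zpow {P : Type*} [Group P] {γ : MulAut P} {v f : P} (h : γ v = v * f) (hf : γ f = f) (m : ℤ) :
    (γ ^ m) v = v * f ^ m := by
  have key : ∀ n : ℕ, (γ ^ n) v = v * f ^ n ∧ (γ ^ n) f = f := by
    intro n
    induction n with
    | zero => simp
    | succ n ih =>
      refine ⟨?_, by rw [pow_succ', MulAut.mul_apply, ih.2, hf]⟩
      rw [pow_succ', MulAut.mul_apply, ih.1, map_mul, h, map_pow, hf, mul_assoc, ← pow_succ']
  obtain ⟨n, rfl | rfl⟩ := Int.eq_nat_or_neg m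
  · simpa using (key n).1
  · have h1 : (γ ^ n) (v * (f ^ n)⁻¹) = v := by
      rw [map_mul, map_inv, map_pow, (key n).1, (key n).2, mul_inv_cancel_right]
    have h2 := congrArg (((γ ^ n)⁻¹ : MulAut P) : P → P) h1
    rw [MulAut.inv_apply_self] at h2
    simp [h2]

section System

variable {Ω : Type*} [Group Ω] {S : Subgroup Ω} [Finite S] {p : ℕ} [hp : Fact p.Prime]
  {F : FusionSystem S} {c : Ω} {P : Subgroup Ω}

/-- The centre of `S`, inside the ambient group. -/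
def Zc (S : Subgroup Ω) : Subgroup Ω := centralizerIn S S

theorem mem_Zc {z : Ω} : z ∈ Zc S ↔ z ∈ S ∧ ∀ x ∈ S, x * z = z * x := mem_centralizerIn

theorem mem_Zc_iff_center {z : S} : (z : Ω) ∈ Zc S ↔ z ∈ Subgroup.center S := by
  rw [mem_Zc, Subgroup.mem_center_iff]
  exact ⟨fun h g => Subtype.ext (h.2 g g.2), fun h => ⟨z.2, fun x hx => congrArg Subtype.val (h ⟨x, hx⟩)⟩⟩

/-- The standing hypotheses; `c` generates the commutator subgroup. -/
structure Setup (p : ℕ) (F : FusionSystem S) (c : Ω) : Prop where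
  hS : IsPGroup p S
  hF : F.IsSaturated p
  idx : (Subgroup.center S).index = p ^ 2
  isComm : ∃ x ∈ S, ∃ y ∈ S, c = ⁅x, y⁆
  c_ne : c ≠ 1

theorem setup_exists (hS : IsPGroup p S) (hF : F.IsSaturated p) (hidx : (Subgroup.center S).index = p ^ 2)
    (hna : ∃ x y : S, x * y ≠ y * x) : ∃ c, Setup p F c := by
  obtain ⟨x, y, hxy⟩ := hna
  refine ⟨⁅(x : Ω), (y : Ω)⁆, hS, hF, hidx, ⟨x, x.2, y, y.2, rfl⟩, fun h => hxy (Subtype.ext ?_)⟩
  exact commutatorElement_eq_one_iff_mul_comm.1 h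

namespace Setup

variable (h : Setup p F c)
include h

theorem noncomm : ∃ x y : S, x * y ≠ y * x := by
  obtain ⟨x, hx, y, hy, e⟩ := h.isComm
  refine ⟨⟨x, hx⟩, ⟨y, hy⟩, fun he => h.c_ne ?_⟩
  rw [e]
  exact commutatorElement_eq_one_iff_mul_comm.2 (congrArg Subtype.val he)

theorem pow_mem {s : Ω} (hs : s ∈ S) : s ^ p ∈ Zc S := by
  have := pow_mem_center h.idx h.noncomm ⟨s, hs⟩
  rw [← mem_Zc_iff_center] at this
  simpa using this

theorem comm_mem {a b : Ω} (ha : a ∈ S) (hb : b ∈ S) : ⁅a, b⁆ ∈ Subgroup.zpowers c := by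
  obtain ⟨x, hx, y, hy, e⟩ := h.isComm
  have hne : (⟨x, hx⟩ : S) * ⟨y, hy⟩ ≠ ⟨y, hy⟩ * ⟨x, hx⟩ := fun he => h.c_ne (e ▸
    commutatorElement_eq_one_iff_mul_comm.2 (congrArg Subtype.val he))
  obtain ⟨i, hi⟩ := Subgroup.mem_zpowers_iff.1 (comm_mem_zpowers h.idx hne ⟨a, ha⟩ ⟨b, hb⟩)
  refine Subgroup.mem_zpowers_iff.2 ⟨i, ?_⟩
  have := congrArg Subtype.val hi
  simpa [e, commutatorElement_def] using this

theorem c_mem : c ∈ Zc S := by
  obtain ⟨x, hx, y, hy, e⟩ := h.isComm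
  have := mem_Zc_iff_center.2 (comm_mem_center h.idx (⟨x, hx⟩ : S) ⟨y, hy⟩)
  simpa [e, commutatorElement_def] using this

theorem c_pow : c ^ p = 1 := by
  obtain ⟨x, hx, y, hy, e⟩ := h.isComm
  have := congrArg Subtype.val (comm_pow_p h.idx h.noncomm (⟨x, hx⟩ : S) ⟨y, hy⟩)
  simpa [e, commutatorElement_def] using this

theorem c_le : Subgroup.zpowers c ≤ Zc S := Subgroup.zpowers_le.2 h.c_mem

theorem decomp' {x y s : Ω} (hx : x ∈ S) (hy : y ∈ S) (hxy : x * y ≠ y * x) (hs : s ∈ S) :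
    ∃ z ∈ Zc S, ∃ i j : ℤ, s = z * x ^ i * y ^ j := by
  obtain ⟨z, i, j, hz, e⟩ := decomp h.idx (x := (⟨x, hx⟩ : S)) (y := ⟨y, hy⟩)
    (fun he => hxy (congrArg Subtype.val he)) ⟨s, hs⟩
  exact ⟨z, mem_Zc_iff_center.2 hz, i, j, by simpa using congrArg Subtype.val e⟩

theorem zpow_mem_Zc {s : Ω} (hs : s ∈ S) {j : ℤ} (hj : (p : ℤ) ∣ j) : s ^ j ∈ Zc S := by
  obtain ⟨k, rfl⟩ := hj
  rw [zpow_mul, zpow_natCast]
  exact Subgroup.zpow_mem _ (h.pow_mem hs) k

theorem commute_of_zpow {s u : Ω} (hs : s ∈ S) (hu : u ∈ S) {j : ℤ} (hj : ¬ (p : ℤ) ∣ j)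
    (hc : Commute (s ^ j) u) : Commute s u := by
  obtain ⟨a, b, hab⟩ := ((Nat.prime_iff_prime_int.1 hp.out).coprime_iff_not_dvd).2 hj
  have e : s = (s ^ (p : ℤ)) ^ a * (s ^ j) ^ b := by
    rw [← zpow_mul, ← zpow_mul, ← zpow_add, show (p : ℤ) * a + j * b = 1 by linear_combination hab, zpow_one]
  have h1 : Commute (s ^ (p : ℤ)) u := by
    rw [zpow_natCast]
    exact ((mem_Zc.1 (h.pow_mem hs)).2 u hu).symm
  rw [e]
  exact (h1.zpow_left a).mul_left (hc.zpow_left b)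

theorem map_c {g : Ω → Ω} (hg : Fn F S g) {e : Ω} (he : e ∈ Subgroup.zpowers c) :
    g e ∈ Subgroup.zpowers c := by
  obtain ⟨x, hx, y, hy, e'⟩ := h.isComm
  obtain ⟨i, rfl⟩ := Subgroup.mem_zpowers_iff.1 he
  obtain ⟨φ, -, hφ⟩ := id hg
  have hc : c ∈ S := (mem_Zc.1 h.c_mem).1
  have e1 : φ ⟨c, hc⟩ = ⁅g x, g y⁆ := by
    rw [hφ]
    show g c = _
    rw [e', commutatorElement_def, commutatorElement_def]
    rw [hg.map_mul (S.mul_mem (S.mul_mem hx hy) (S.inv_mem hx)) (S.inv_mem hy),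
      hg.map_mul (S.mul_mem hx hy) (S.inv_mem hx), hg.map_mul hx hy, hg.map_inv hx, hg.map_inv hy]
  have e2 : g (c ^ i) = (φ ⟨c, hc⟩) ^ i := by
    rw [← map_zpow, hφ]
    rfl
  rw [e2, e1]
  exact Subgroup.zpow_mem _ (h.comm_mem (hg.mem hx) (hg.mem hy)) i

end Setup

/-- The shape shared by the essential subgroups. -/
structure Frame (S : Subgroup Ω) (c : Ω) (p : ℕ) (P W : Subgroup Ω) (d : Ω) : Prop where
  lt : P < S
  Z_le : Zc S ≤ P
  comm : ∀ u ∈ P, ∀ v ∈ P, u * v = v * u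
  d_mem : d ∈ P
  d_notMem : d ∉ Zc S
  d_pow : d ^ p = 1
  W_le : W ≤ Zc S
  c_notMem : c ∉ W
  dec : ∀ v ∈ P, ∃ (i j : ℤ), ∃ w ∈ W, v = c ^ i * d ^ j * w

section Essential

variable (h : Setup p F c) (hP : F.IsEssential p P)
include h hP

theorem Z_le : Zc S ≤ P := fun z hz => centralizer_le_of_centric hP.1
  (mem_centralizerIn.2 ⟨(mem_Zc.1 hz).1, fun u hu => (mem_Zc.1 hz).2 u (hP.1.1 hu)⟩)

theorem exists_notMem_Z : ∃ x ∈ P, x ∉ Zc S := by
  by_contra hc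
  push Not at hc
  refine (essential_lt h.hS h.hF hP).not_ge fun s hs => centralizer_le_of_centric hP.1
    (mem_centralizerIn.2 ⟨hs, fun u hu => ((mem_Zc.1 (hc u hu)).2 s hs).symm⟩)

theorem P_comm {u v : Ω} (hu : u ∈ P) (hv : v ∈ P) : u * v = v * u := by
  by_contra hne
  refine (essential_lt h.hS h.hF hP).not_ge fun s hs => ?_
  obtain ⟨z, hz, i, j, rfl⟩ := h.decomp' (hP.1.1 hu) (hP.1.1 hv) hne hs
  exact P.mul_mem (P.mul_mem (Z_le h hP hz) (P.zpow_mem hu i)) (P.zpow_mem hv j)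

theorem mem_Z_of_commute {y u : Ω} (hy : y ∈ S) (hyP : y ∉ P) (hu : u ∈ P) (hc : u * y = y * u) :
    u ∈ Zc S := by
  by_contra huZ
  have : ∃ s ∈ S, s * u ≠ u * s := by
    by_contra hall
    push Not at hall
    exact huZ (mem_Zc.2 ⟨hP.1.1 hu, hall⟩)
  obtain ⟨s, hs, hsu⟩ := this
  obtain ⟨z, hz, i, j, e⟩ := h.decomp' (hP.1.1 hu) hs (Ne.symm hsu) hy
  have hj : ¬ (p : ℤ) ∣ j := fun hd => hyP (e ▸ P.mul_mem (P.mul_mem (Z_le h hP hz) (P.zpow_mem hu i))
    (Z_le h hP (h.zpow_mem_Zc hs hd)))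
  refine hsu (h.commute_of_zpow hs (hP.1.1 hu) hj ?_).eq
  have h1 : Commute (z * u ^ i) u :=
    Commute.mul_left ((mem_Zc.1 hz).2 u (hP.1.1 hu)).symm ((Commute.refl u).zpow_left i)
  have h2 : s ^ j = (z * u ^ i)⁻¹ * y := by rw [e]; group
  rw [h2]
  exact h1.inv_left.mul_left hc.symm

theorem S_decomp {y s : Ω} (hy : y ∈ S) (hyP : y ∉ P) (hs : s ∈ S) :
    ∃ t ∈ P, ∃ j : ℤ, s = t * y ^ j := by
  obtain ⟨x, hx, hxZ⟩ := exists_notMem_Z h hP
  obtain ⟨z, hz, i, j, rfl⟩ := h.decomp' (hP.1.1 hx) hy (fun e => hxZ (mem_Z_of_commute h hP hy hyP hx e)) hs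
  exact ⟨z * x ^ i, P.mul_mem (Z_le h hP hz) (P.zpow_mem hx i), j, rfl⟩

theorem P_decomp {x v : Ω} (hx : x ∈ P) (hxZ : x ∉ Zc S) (hv : v ∈ P) :
    ∃ z ∈ Zc S, ∃ i : ℤ, v = z * x ^ i := by
  obtain ⟨y, hy, hyP⟩ := SetLike.exists_of_lt (essential_lt h.hS h.hF hP)
  obtain ⟨z, hz, i, j, rfl⟩ :=
    h.decomp' (hP.1.1 hx) hy (fun e => hxZ (mem_Z_of_commute h hP hy hyP hx e)) (hP.1.1 hv)
  have hj : (p : ℤ) ∣ j := by
    by_contra hj
    refine hxZ (mem_Z_of_commute h hP hy hyP hx (h.commute_of_zpow hy (hP.1.1 hx) hj ?_).eq.symm)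
    have h2 : y ^ j = (z * x ^ i)⁻¹ * (z * x ^ i * y ^ j) := by group
    rw [h2]
    exact P_comm h hP (P.mul_mem (P.inv_mem (P.mul_mem (Z_le h hP hz) (P.zpow_mem hx i))) hv) hx
  refine ⟨z * y ^ j, (Zc S).mul_mem hz (h.zpow_mem_Zc hy hj), i, ?_⟩
  have := (mem_Zc.1 (h.zpow_mem_Zc hy hj)).2 (x ^ i) (S.zpow_mem (hP.1.1 hx) i)
  rw [mul_assoc, this, mul_assoc]

theorem S_le_normalizer : S ≤ Subgroup.normalizer (P : Set Ω) := fun s hs =>
  have := finite_of_le_base hP.1.1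
  mem_normalizer_of_map_le fun u hu => by
    have e : s * u * s⁻¹ = ⁅s, u⁆ * u := by rw [commutatorElement_def]; group
    rw [e]
    exact P.mul_mem (Z_le h hP (h.c_le (h.comm_mem hs (hP.1.1 hu)))) hu

theorem structure_of_essential :
    ∃ (W : Subgroup Ω) (d : Ω), Frame S c p P W d ∧
      (∀ β ∈ F.autGroup P, ∀ w ∈ W, autFn β w ∈ W) ∧
      (∀ β ∈ F.autGroup P, ∃ g, Fn F S g ∧ ∀ w ∈ W, autFn β w = g w) ∧
      (∀ β ∈ F.autGroup P, ∃ g, Fn F S g ∧
        ∀ v ∈ P, g v ∈ P ∧ (g v)⁻¹ * autFn β v ∈ Subgroup.zpowers c ⊔ Subgroup.zpowers d) ∧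
      (p ≠ 2 → ∃ g, Fn F S g ∧ g c = c⁻¹ ∧ ∀ w ∈ W, g w = w) := by
  classical
  have hlt := essential_lt h.hS h.hF hP
  haveI := finite_of_le_base hlt.le
  obtain ⟨y, hy, hyP⟩ := SetLike.exists_of_lt hlt
  have hyN : y ∈ Subgroup.normalizer (P : Set Ω) := S_le_normalizer h hP hy
  set a : MulAut P := conjAut P hyN with ha
  have haA : a ∈ F.autGroup P := autInducedBy_le_autGroup hlt.le (conjAut_mem_autInducedBy hyN hy)
  have hazpow : ∀ (j : ℤ) (v : P), ((((a ^ j) : MulAut P) v : P) : Ω) = y ^ j * v * (y ^ j)⁻¹ := by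
    intro j v
    rw [ha, conjAut, ← map_zpow]
    rfl
  have hapw : a ^ p = 1 := MulEquiv.ext fun v => Subtype.ext (by
    rw [← zpow_natCast, hazpow, zpow_natCast, ← (mem_Zc.1 (h.pow_mem hy)).2 v (hlt.le v.2),
      mul_inv_cancel_right]
    simp)
  have hInd : autInducedBy S P ≤ Subgroup.zpowers a := by
    intro γ hγ
    obtain ⟨s, hs, hsγ⟩ := mem_autInducedBy.1 hγ
    obtain ⟨t, ht, j, rfl⟩ := S_decomp h hP hy hyP hs
    refine Subgroup.mem_zpowers_iff.2 ⟨j, MulEquiv.ext fun v => Subtype.ext ?_⟩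
    rw [hazpow, hsγ]
    have hw : y ^ j * v * (y ^ j)⁻¹ ∈ P := by
      rw [← hazpow]; exact ((a ^ j : MulAut P) v).2
    calc y ^ j * v * (y ^ j)⁻¹ = t * (y ^ j * v * (y ^ j)⁻¹) * t⁻¹ := by
          rw [P_comm h hP ht hw, mul_inv_cancel_right]
      _ = t * y ^ j * v * (t * y ^ j)⁻¹ := by group
  have hashift : ∀ v : P, ∃ e : P, (e : Ω) ∈ Subgroup.zpowers c ∧ a v = v * e := by
    intro v
    refine ⟨v⁻¹ * a v, ?_, by group⟩
    have e : ((v⁻¹ * a v : P) : Ω) = ⁅(v : Ω)⁻¹, y⁆ := by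
      simp [ha, commutatorElement_def, mul_assoc]
    rw [e]
    exact h.comm_mem (S.inv_mem (hlt.le v.2)) hy
  have hfix : ∀ v : P, a v = v ↔ (v : Ω) ∈ Zc S := by
    intro v
    constructor
    · intro e
      refine mem_Z_of_commute h hP hy hyP v.2 ?_
      have := congrArg Subtype.val e
      rw [ha, conjAut_coe, mul_inv_eq_iff_eq_mul] at this
      exact this.symm
    · intro hv
      refine Subtype.ext ?_
      rw [ha, conjAut_coe, (mem_Zc.1 hv).2 y hy, mul_inv_cancel_right]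
  have hPc : ∀ u v : P, u * v = v * u := fun u v => Subtype.ext (P_comm h hP u.2 v.2)
  let cP : P := ⟨c, Z_le h hP h.c_mem⟩
  have hC : ∀ e : P, (e : Ω) ∈ Subgroup.zpowers c ↔ ∃ i : ℤ, cP ^ i = e := fun e =>
    ⟨fun he => (Subgroup.mem_zpowers_iff.1 he).elim fun i hi => ⟨i, Subtype.ext (by simpa using hi)⟩,
      fun ⟨i, hi⟩ => hi ▸ Subgroup.mem_zpowers_iff.2 ⟨i, by simp [cP]⟩⟩
  have hcp : cP ^ p = 1 := Subtype.ext (by simpa [cP] using h.c_pow)
  have hgenC : ∀ e f : P, (e : Ω) ∈ Subgroup.zpowers c → e ≠ 1 → (f : Ω) ∈ Subgroup.zpowers c →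
      ∃ k : ℤ, e ^ k = f := by
    intro e f he he1 hf
    obtain ⟨i, hi⟩ := (hC e).1 he
    obtain ⟨j, hj⟩ := (hC f).1 hf
    exact exists_zpow_eq hcp (Subgroup.mem_zpowers_iff.2 ⟨i, hi⟩) he1 (Subgroup.mem_zpowers_iff.2 ⟨j, hj⟩)
  have hconjshift : ∀ (β : MulAut P) (v : P), ∃ e : P, (e : Ω) ∈ Subgroup.zpowers c ∧
      (β * a * β⁻¹) v = v * β e := by
    intro β v
    obtain ⟨e, he, hve⟩ := hashift (β⁻¹ v)
    exact ⟨e, he, by rw [MulAut.mul_apply, MulAut.mul_apply, hve, map_mul, MulAut.apply_inv_self]⟩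
  have hcZ : ∀ (β : MulAut P), ((β cP : P) : Ω) ∈ Zc S → ∀ e : P, (e : Ω) ∈ Subgroup.zpowers c →
      ((β e : P) : Ω) ∈ Zc S := by
    intro β hβ e he
    obtain ⟨i, rfl⟩ := (hC e).1 he
    rw [map_zpow, SubgroupClass.coe_zpow]
    exact (Zc S).zpow_mem hβ i
  have hfixpow : ∀ (γ : MulAut P), γ cP = cP → ∀ e : P, (e : Ω) ∈ Subgroup.zpowers c → γ e = e := by
    intro γ hγ e he
    obtain ⟨i, rfl⟩ := (hC e).1 he
    rw [map_zpow, hγ]
  have hac : a cP = cP := (hfix cP).2 h.c_mem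
  have ha1 : a ≠ 1 := by
    intro e
    obtain ⟨x, hx, hxZ⟩ := exists_notMem_Z h hP
    exact hxZ ((hfix ⟨x, hx⟩).1 (by rw [e]; rfl))
  have hr := fullyNormalized_receptive h.hS h.hF hP.2.1
  have hyn : y ∈ normalizerIn S P := ⟨hy, hyN⟩
  have hzle : Subgroup.zpowers a ≤ autInducedBy S P := Subgroup.zpowers_le.2 (conjAut_mem_autInducedBy hyN hy)
  -- automorphisms normalising `Aut_S(P)` extend to `S`
  have hext : ∀ β ∈ F.autGroup P, β * a * β⁻¹ ∈ Subgroup.zpowers a →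
      ∃ g, Fn F S g ∧ ∀ v : P, g v = (β v : P) := by
    intro β hβ hn
    obtain ⟨Q, g, hPQ, hg, hgv⟩ := extAut_of_receptive hr hβ hyn hyP (hzle hn)
    obtain ⟨q, hqQ, hqP⟩ := SetLike.exists_of_lt hPQ
    refine ⟨g, hg.mono fun s hs => ?_, hgv⟩
    obtain ⟨t, ht, j, rfl⟩ := S_decomp h hP (hg.le hqQ) hqP hs
    exact Q.mul_mem (hPQ.le ht) (Q.zpow_mem hqQ j)
  have hNc : ∀ β ∈ F.autGroup P, β * a * β⁻¹ ∈ Subgroup.zpowers a → ((β cP : P) : Ω) ∈ Subgroup.zpowers c := by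
    intro β hβ hn
    obtain ⟨g, hg, hgv⟩ := hext β hβ hn
    rw [← hgv cP]
    exact h.map_c hg (Subgroup.mem_zpowers c)
  have hNinv : ∀ β : MulAut P, β * a * β⁻¹ ∈ Subgroup.zpowers a → β⁻¹ * a * β⁻¹⁻¹ ∈ Subgroup.zpowers a := by
    intro β hn
    obtain ⟨k, hk⟩ := exists_zpow_eq hapw hn (fun e => ha1 (by
      have := congrArg (fun γ => β⁻¹ * γ * β) e
      simpa [mul_assoc] using this)) (Subgroup.mem_zpowers a)
    refine Subgroup.mem_zpowers_iff.2 ⟨k, ?_⟩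
    rw [conj_zpow] at hk
    conv_rhs => rw [← hk]
    simp [mul_assoc]
  -- two commuting conjugates of `a` generate the same subgroup
  have hcase : ∀ β ∈ F.autGroup P, ((β cP : P) : Ω) ∈ Zc S → (β * a * β⁻¹) cP = cP →
      β * a * β⁻¹ ∈ Subgroup.zpowers a := by
    intro β hβ hβc hbc
    obtain ⟨b, hb⟩ : ∃ b : MulAut P, b = β * a * β⁻¹ := ⟨_, rfl⟩
    rw [← hb] at hbc ⊢
    have hcomm : Commute a b := by
      refine MulEquiv.ext fun v => ?_
      obtain ⟨e, he, hve⟩ := hashift v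
      obtain ⟨f, hf, hvf⟩ := hconjshift β v
      rw [← hb] at hvf
      rw [MulAut.mul_apply, MulAut.mul_apply, hvf, hve, map_mul, map_mul, hve, hvf,
        (hfix _).2 (hcZ β hβc f hf), hfixpow b hbc e he, mul_assoc, mul_assoc, hPc e]
    have hbA : b ∈ F.autGroup P :=
      hb ▸ (F.autGroup P).mul_mem ((F.autGroup P).mul_mem hβ haA) ((F.autGroup P).inv_mem hβ)
    obtain ⟨-, R, hR⟩ := (fullyNormalized_good h.hS h.hF hP.2.1).1
    have hpz : ∀ γ : F.autGroup P, γ ^ p = 1 → IsPGroup p (Subgroup.zpowers γ) := by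
      intro γ hγ
      obtain ⟨k, -, hk⟩ := (Nat.dvd_prime_pow hp.out).1
        (orderOf_dvd_of_pow_eq_one (show γ ^ (p ^ 1) = 1 by rwa [pow_one]))
      exact IsPGroup.of_card ((Nat.card_zpowers γ).trans hk)
    let aA : F.autGroup P := ⟨a, haA⟩
    let bA : F.autGroup P := ⟨b, hbA⟩
    have hbp : bA ^ p = 1 := Subtype.ext (by simp [bA, hb, conj_pow, hapw])
    have hn : Subgroup.zpowers bA ≤ Subgroup.normalizer (Subgroup.zpowers aA : Set (F.autGroup P)) := by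
      rw [Subgroup.zpowers_le]
      refine Subgroup.centralizer_le_normalizer _ (Subgroup.mem_centralizer_iff.2 ?_)
      intro γ hγ
      obtain ⟨k, rfl⟩ := Subgroup.mem_zpowers_iff.1 hγ
      exact Subtype.ext (by simpa [aA, bA] using (hcomm.zpow_left k).eq)
    have hT := (hpz bA hbp).to_sup_of_normal_right' (hpz aA (Subtype.ext (by simpa [aA] using hapw))) hn
    have hRle : (R : Subgroup (F.autGroup P)) ≤ Subgroup.zpowers bA ⊔ Subgroup.zpowers aA := by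
      rw [hR]
      intro γ hγ
      obtain ⟨k, hk⟩ := Subgroup.mem_zpowers_iff.1 (hInd hγ)
      exact Subgroup.mem_sup_right (Subgroup.mem_zpowers_iff.2 ⟨k, Subtype.ext (by simpa [aA] using hk)⟩)
    have heq := R.3 hT hRle
    have : bA ∈ (R : Subgroup (F.autGroup P)) := heq ▸ Subgroup.mem_sup_left (Subgroup.mem_zpowers bA)
    rw [hR] at this
    exact hInd this
  have hL : ∀ β ∈ F.autGroup P, ((β cP : P) : Ω) ∈ Zc S → β * a * β⁻¹ ∈ Subgroup.zpowers a := by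
    intro β hβ hβc
    obtain ⟨b, hb⟩ : ∃ b : MulAut P, b = β * a * β⁻¹ := ⟨_, rfl⟩
    have hbA : b ∈ F.autGroup P :=
      hb ▸ (F.autGroup P).mul_mem ((F.autGroup P).mul_mem hβ haA) ((F.autGroup P).inv_mem hβ)
    obtain ⟨f, hf, hcf⟩ := hconjshift β cP
    have hbcZ : ((b cP : P) : Ω) ∈ Zc S := by
      rw [hb, hcf, Subgroup.coe_mul]
      exact (Zc S).mul_mem h.c_mem (hcZ β hβc f hf)
    have hbinv : b (β f) = β f := by
      rw [hb, MulAut.mul_apply, MulAut.mul_apply, MulAut.inv_apply_self, (hfix f).2 (h.c_le hf)]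
    have h1 : (b * a * b⁻¹) cP = cP := by
      have h2 : b⁻¹ cP = cP * (β f)⁻¹ := by
        have := congrArg (b⁻¹ : MulAut P) (show b (cP * (β f)⁻¹) = cP by
          rw [map_mul, map_inv, hbinv, hb, hcf, mul_inv_cancel_right])
        rw [MulAut.inv_apply_self] at this
        exact this.symm
      rw [MulAut.mul_apply, MulAut.mul_apply, h2, map_mul, map_inv, hac, (hfix _).2 (hcZ β hβc f hf),
        map_mul, map_inv, hbinv, hb, hcf, mul_inv_cancel_right]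
    have hbC := hNc b hbA (hcase b hbA hbcZ h1)
    by_cases hf1 : f = 1
    · exact hcase β hβ hβc (by rw [hcf, hf1, map_one, mul_one])
    exfalso
    have hfC : ((β f : P) : Ω) ∈ Subgroup.zpowers c := by
      have := (Subgroup.zpowers c).mul_mem ((Subgroup.zpowers c).inv_mem (Subgroup.mem_zpowers c)) hbC
      rw [hb, hcf, Subgroup.coe_mul] at this
      simpa [cP] using this
    obtain ⟨k, hk⟩ := hgenC (β f) cP hfC (fun e => hf1 (β.injective (e.trans (map_one β).symm)))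
      (Subgroup.mem_zpowers c)
    have : b cP = cP := by rw [← hk, map_zpow, hbinv]
    rw [hb, hcf, mul_eq_left] at this
    exact hf1 (β.injective (this.trans (map_one β).symm))
  obtain ⟨α, hα, hαn⟩ : ∃ α ∈ F.autGroup P, α * a * α⁻¹ ∉ Subgroup.zpowers a := by
    by_contra hall
    push Not at hall
    refine extClosure_ne_of_essential h.hS h.hF hlt hP (le_antisymm extClosure_le fun γ hγ => ?_)
    exact Subgroup.subset_closure (extAut_of_receptive hr hγ hyn hyP (hzle (hall γ hγ)))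
  obtain ⟨b, hb⟩ : ∃ b : MulAut P, b = α * a * α⁻¹ := ⟨_, rfl⟩
  have hbA : b ∈ F.autGroup P :=
    hb ▸ (F.autGroup P).mul_mem ((F.autGroup P).mul_mem hα haA) ((F.autGroup P).inv_mem hα)
  have hbc : b cP ≠ cP := by
    intro e
    refine hαn ?_
    have h1 : a (α⁻¹ cP) = α⁻¹ cP := by
      apply α.injective
      rw [MulAut.apply_inv_self]
      rw [hb] at e; exact e
    have := hNinv α⁻¹ (hL α⁻¹ ((F.autGroup P).inv_mem hα) ((hfix _).1 h1))
    rwa [inv_inv] at this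
  set dP : P := α cP with hd
  have hdZ : (dP : Ω) ∉ Zc S := fun hd' => hαn (hL α hα hd')
  have hbd : b dP = dP := by rw [hb, hd, MulAut.mul_apply, MulAut.mul_apply, MulAut.inv_apply_self, hac]
  have hbshift : ∀ v : P, ∃ k : ℤ, b v = v * dP ^ k := by
    intro v
    obtain ⟨e, he, hve⟩ := hconjshift α v
    obtain ⟨i, rfl⟩ := (hC e).1 he
    exact ⟨i, by rw [hb, hve, map_zpow]⟩
  have hdp : dP ^ p = 1 := by rw [hd, ← map_pow, hcp, map_one]
  have hPdec : ∀ v : P, ∃ (z : P) (i : ℤ), (z : Ω) ∈ Zc S ∧ v = z * dP ^ i := by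
    intro v
    obtain ⟨z, hz, i, e⟩ := P_decomp h hP dP.2 hdZ v.2
    exact ⟨⟨z, Z_le h hP hz⟩, i, hz, Subtype.ext (by simpa using e)⟩
  -- every automorphism is an element of `⟨a, b⟩` times one normalising `Aut_S(P)`
  set H : Subgroup (MulAut P) := Subgroup.closure {a, b} with hH
  have haH : a ∈ H := Subgroup.subset_closure (Set.mem_insert _ _)
  have hbH : b ∈ H := Subgroup.subset_closure (Set.mem_insert_of_mem _ rfl)
  have hHA : H ≤ F.autGroup P := (Subgroup.closure_le _).2 (by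
    rintro γ (rfl | rfl)
    · exact haA
    · exact hbA)
  have hfactor : ∀ β ∈ F.autGroup P, ∃ g ∈ H, ∃ n ∈ F.autGroup P,
      n * a * n⁻¹ ∈ Subgroup.zpowers a ∧ β = g * n := by
    have case1 : ∀ β ∈ F.autGroup P, b (β cP) ≠ β cP → ∃ g ∈ H, ∃ n ∈ F.autGroup P,
        n * a * n⁻¹ ∈ Subgroup.zpowers a ∧ β = g * n := by
      intro β hβ hmove
      obtain ⟨z, j, hz, hzj⟩ := hPdec (β cP)
      obtain ⟨k, hk⟩ := hbshift (β cP)
      have hk1 : dP ^ k ≠ 1 := fun e => hmove (by rw [hk, e, mul_one])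
      obtain ⟨m, hm⟩ := exists_zpow_eq hdp (Subgroup.mem_zpowers_iff.2 ⟨k, rfl⟩) hk1
        (Subgroup.mem_zpowers_iff.2 ⟨-j, rfl⟩)
      have h1 := shift_zpow hk (by rw [map_zpow, hbd]) m
      rw [hm] at h1
      have hn : (((b ^ m * β) cP : P) : Ω) ∈ Zc S := by
        rw [MulAut.mul_apply, h1, hzj, mul_assoc, ← zpow_add, add_neg_cancel, zpow_zero, mul_one]
        exact hz
      have hnA : b ^ m * β ∈ F.autGroup P :=
        (F.autGroup P).mul_mem ((F.autGroup P).zpow_mem hbA m) hβ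
      exact ⟨(b ^ m)⁻¹, H.inv_mem (H.zpow_mem hbH m), _, hnA, hL _ hnA hn, by group⟩
    intro β hβ
    by_cases hβZ : ((β cP : P) : Ω) ∈ Zc S
    · exact ⟨1, H.one_mem, β, hβ, hL β hβ hβZ, (one_mul β).symm⟩
    by_cases hmove : b (β cP) = β cP
    · obtain ⟨e, he, hve⟩ := hashift (β cP)
      have he1 : e ≠ 1 := fun e1 => hβZ ((hfix _).1 (by rw [hve, e1, mul_one]))
      obtain ⟨g, hg, n, hn, hnn, hgn⟩ := case1 (a * β) ((F.autGroup P).mul_mem haA hβ) (by
        rw [MulAut.mul_apply, hve, map_mul, hmove]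
        intro e2
        obtain ⟨k, hk⟩ := hgenC e cP he he1 (Subgroup.mem_zpowers c)
        exact hbc (by rw [← hk, map_zpow, mul_left_cancel e2]))
      exact ⟨a⁻¹ * g, H.mul_mem (H.inv_mem haH) hg, n, hn, hnn, by rw [mul_assoc, ← hgn, inv_mul_cancel_left]⟩
    · exact case1 β hβ hmove
  let W₀ : Subgroup P :=
    { carrier := {v | ∀ β ∈ F.autGroup P, ((β v : P) : Ω) ∈ Zc S}
      mul_mem' := fun {u v} hu hv β hβ => by
        rw [map_mul, Subgroup.coe_mul]; exact (Zc S).mul_mem (hu β hβ) (hv β hβ)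
      one_mem' := fun β _ => by rw [map_one, Subgroup.coe_one]; exact (Zc S).one_mem
      inv_mem' := fun {u} hu β hβ => by
        rw [map_inv, Subgroup.coe_inv]; exact (Zc S).inv_mem (hu β hβ) }
  have hWZ : ∀ v ∈ W₀, (v : Ω) ∈ Zc S := fun v hv => by simpa using hv 1 (F.autGroup P).one_mem
  have hWinv : ∀ β ∈ F.autGroup P, ∀ v ∈ W₀, β v ∈ W₀ := fun β hβ v hv γ hγ => by
    simpa using hv (γ * β) ((F.autGroup P).mul_mem hγ hβ)
  have hHfix : ∀ z : P, a z = z → b z = z → ∀ g ∈ H, g z = z := by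
    intro z h1 h2 g hg
    have : H ≤ MulAction.stabilizer (MulAut P) z := (Subgroup.closure_le _).2 (by
      rintro γ (rfl | rfl)
      · exact h1
      · exact h2)
    exact this hg
  have hWab : ∀ v ∈ W₀, a v = v ∧ b v = v := by
    intro v hv
    refine ⟨(hfix v).2 (hWZ v hv), ?_⟩
    rw [hb, MulAut.mul_apply, MulAut.mul_apply, (hfix _).2 (hv α⁻¹ ((F.autGroup P).inv_mem hα)),
      MulAut.apply_inv_self]
  have hWmem : ∀ z : P, (z : Ω) ∈ Zc S → b z = z → z ∈ W₀ := by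
    intro z hz hbz β hβ
    refine (hfix _).1 ?_
    obtain ⟨g, hg, n, hn, hnn, hgn⟩ := hfactor β⁻¹ ((F.autGroup P).inv_mem hβ)
    obtain ⟨k, hk⟩ := Subgroup.mem_zpowers_iff.1 hnn
    have h1 : β⁻¹ * a * β ∈ H := by
      have e : β = n⁻¹ * g⁻¹ := by rw [← mul_inv_rev, ← hgn, inv_inv]
      rw [hgn, e, show g * n * a * (n⁻¹ * g⁻¹) = g * (n * a * n⁻¹) * g⁻¹ by group, ← hk]
      exact H.mul_mem (H.mul_mem hg (H.zpow_mem haH k)) (H.inv_mem hg)
    have h2 := hHfix z ((hfix z).2 hz) hbz _ h1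
    rw [MulAut.mul_apply, MulAut.mul_apply] at h2
    have h3 := congrArg β h2
    rwa [MulAut.apply_inv_self] at h3
  obtain ⟨k₁, hk₁⟩ := hbshift cP
  have hk₁1 : dP ^ k₁ ≠ 1 := fun e => hbc (by rw [hk₁, e, mul_one])
  have hPdec' : ∀ v : P, ∃ (i j : ℤ), ∃ w ∈ W₀, v = cP ^ i * dP ^ j * w := by
    intro v
    obtain ⟨z, j, hz, rfl⟩ := hPdec v
    obtain ⟨k, hk⟩ := hbshift z
    obtain ⟨i, hi⟩ := exists_zpow_eq hdp (Subgroup.mem_zpowers_iff.2 ⟨k₁, rfl⟩) hk₁1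
      (Subgroup.mem_zpowers_iff.2 ⟨k, rfl⟩)
    refine ⟨i, j, z * (cP ^ i)⁻¹, hWmem _ ((Zc S).mul_mem hz ((Zc S).inv_mem ?_)) ?_, ?_⟩
    · rw [SubgroupClass.coe_zpow]; exact (Zc S).zpow_mem h.c_mem i
    · have hcom : Commute cP (dP ^ k₁) := hPc _ _
      rw [map_mul, map_inv, map_zpow, hk, hk₁, hcom.mul_zpow, hi, mul_inv_rev, ← mul_assoc,
        mul_assoc z, mul_inv_cancel, mul_one]
    · rw [hPc z, hPc z ((cP ^ i)⁻¹), mul_assoc, ← mul_assoc (dP ^ j), hPc (dP ^ j) ((cP ^ i)⁻¹), ← mul_assoc,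
        ← mul_assoc, mul_inv_cancel, one_mul]
  refine ⟨W₀.map P.subtype, dP, ⟨hlt, Z_le h hP, fun u hu v hv => P_comm h hP hu hv, dP.2, hdZ,
    by simpa using congrArg Subtype.val hdp, ?_, ?_, ?_⟩, ?_, ?_, ?_, ?_⟩
  · rintro _ ⟨v, hv, rfl⟩
    exact hWZ v hv
  · rintro ⟨v, hv, e⟩
    obtain rfl : v = cP := Subtype.ext e
    exact hdZ (hv α hα)
  · intro v hv
    obtain ⟨i, j, w, hw, e⟩ := hPdec' ⟨v, hv⟩
    exact ⟨i, j, w, ⟨w, hw, rfl⟩, by simpa [cP] using congrArg Subtype.val e⟩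
  · rintro β hβ _ ⟨v, hv, rfl⟩
    exact ⟨β v, hWinv β hβ v hv, (autFn_coe β v).symm⟩
  · intro β hβ
    obtain ⟨g, hg, n, hn, hnn, rfl⟩ := hfactor β hβ
    obtain ⟨f, hf, hfv⟩ := hext n hn hnn
    refine ⟨f, hf, ?_⟩
    rintro _ ⟨v, hv, rfl⟩
    obtain ⟨h1, h2⟩ := hWab _ (hWinv n hn v hv)
    show autFn (g * n) (v : Ω) = f (v : Ω)
    rw [autFn_coe, hfv, MulAut.mul_apply, hHfix _ h1 h2 g hg]
  · intro β hβ
    obtain ⟨g, hg, n, hn, hnn, rfl⟩ := hfactor β hβ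
    obtain ⟨f, hf, hfv⟩ := hext n hn hnn
    have hU : ∀ γ ∈ H, ∀ v : P,
        (((v⁻¹ * γ v : P)) : Ω) ∈ Subgroup.zpowers c ⊔ Subgroup.zpowers (dP : Ω) := by
      intro γ hγ
      induction hγ using Subgroup.closure_induction with
      | mem γ hγ =>
        intro v
        rcases hγ with rfl | rfl
        · obtain ⟨e, he, hve⟩ := hashift v
          rw [hve, inv_mul_cancel_left]
          exact Subgroup.mem_sup_left he
        · obtain ⟨k, hk⟩ := hbshift v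
          rw [hk, inv_mul_cancel_left, SubgroupClass.coe_zpow]
          exact Subgroup.mem_sup_right (Subgroup.mem_zpowers_iff.2 ⟨k, rfl⟩)
      | one => intro v; simp
      | mul γ δ _ _ hγ hδ =>
        intro v
        have := Subgroup.mul_mem _ (hδ v) (hγ (δ v))
        rw [← Subgroup.coe_mul, show v⁻¹ * δ v * ((δ v)⁻¹ * γ (δ v)) = v⁻¹ * (γ * δ) v by
          rw [MulAut.mul_apply]; group] at this
        exact this
      | inv γ _ hγ =>
        intro v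
        have := Subgroup.inv_mem _ (hγ (γ⁻¹ v))
        rw [← Subgroup.coe_inv, show ((γ⁻¹ v)⁻¹ * γ (γ⁻¹ v))⁻¹ = v⁻¹ * γ⁻¹ v by
          rw [MulAut.apply_inv_self]; group] at this
        exact this
    refine ⟨f, hf, fun v hv => ?_⟩
    lift v to P using hv
    rw [hfv, autFn_coe, MulAut.mul_apply]
    exact ⟨(n v).2, by simpa using hU g hg (n v)⟩
  · intro hp2
    obtain ⟨e, he, hde⟩ := hashift dP
    have he1 : e ≠ 1 := fun e1 => hdZ ((hfix dP).1 (by rw [hde, e1, mul_one]))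
    obtain ⟨u, hu⟩ := hgenC e cP he he1 (Subgroup.mem_zpowers c)
    obtain ⟨u', hu'⟩ := exists_zpow_eq hdp (Subgroup.mem_zpowers_iff.2 ⟨k₁, rfl⟩) hk₁1
      (Subgroup.inv_mem _ (Subgroup.mem_zpowers dP))
    set a₁ := a ^ u with ha₁
    set b₁ := b ^ u' with hb₁
    have hea : a e = e := hfixpow a hac e he
    have a1d : a₁ dP = dP * cP := by rw [ha₁, shift_zpow hde hea u, hu]
    have b1c : b₁ cP = cP * dP⁻¹ := by rw [hb₁, shift_zpow hk₁ (by rw [map_zpow, hbd]) u', hu']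
    have a1c : a₁ cP = cP := by
      have := shift_zpow (γ := a) (v := cP) (f := 1) (by rw [hac, mul_one]) (map_one a) u
      simpa [ha₁] using this
    have b1d : b₁ dP = dP := by
      have := shift_zpow (γ := b) (v := dP) (f := 1) (by rw [hbd, mul_one]) (map_one b) u'
      simpa [hb₁] using this
    set s := a₁ * b₁ * a₁ with hs
    have sc : s cP = dP⁻¹ := by
      rw [hs, MulAut.mul_apply, MulAut.mul_apply, a1c, b1c, map_mul, map_inv, a1c, a1d, mul_inv_rev,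
        mul_inv_cancel_left]
    have sd : s dP = cP := by
      rw [hs, MulAut.mul_apply, MulAut.mul_apply, a1d, map_mul, b1d, b1c, hPc cP dP⁻¹,
        mul_inv_cancel_left, a1c]
    set t := s * s with ht
    have tc : t cP = cP⁻¹ := by rw [ht, MulAut.mul_apply, sc, map_inv, sd]
    have td : t dP = dP⁻¹ := by rw [ht, MulAut.mul_apply, sd, sc]
    have hsH : s ∈ H := H.mul_mem (H.mul_mem (H.zpow_mem haH u) (H.zpow_mem hbH u')) (H.zpow_mem haH u)
    have tw : ∀ w ∈ W₀, t w = w := fun w hw =>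
      hHfix w (hWab w hw).1 (hWab w hw).2 t (H.mul_mem hsH hsH)
    have htA : t ∈ F.autGroup P := hHA (H.mul_mem hsH hsH)
    have hta : t * a = a * t := by
      have te : t e = e⁻¹ := by
        obtain ⟨i, rfl⟩ := (hC e).1 he
        rw [map_zpow, tc, inv_zpow]
      refine MulEquiv.ext fun v => ?_
      obtain ⟨i, j, w, hw, rfl⟩ := hPdec' v
      simp only [MulAut.mul_apply, map_mul, map_zpow, map_inv, hac, tc, td, hde, te, tw w hw, (hWab w hw).1]
      rw [← mul_inv_rev, hPc e dP]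
    obtain ⟨f, hf, hfv⟩ := hext t htA (by rw [hta, mul_inv_cancel_right]; exact Subgroup.mem_zpowers a)
    refine ⟨f, hf, ?_, ?_⟩
    · have h1 := hfv cP
      rw [tc] at h1
      exact h1
    · rintro _ ⟨w, hw, rfl⟩
      have h1 := hfv w
      rw [tw w hw] at h1
      exact h1

end Essential

end System

end CfsgLib.Fsys.CentralIndex
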