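import Cfsg.Agent.Lib.FusionSystem.CentralLiftHyp

/-! A normal subsystem of a factor system by a central subgroup lifts to a weakly normal subsystem. -/

set_option autoImplicit false

namespace CfsgLib.Fsys.Lift

open Cfsg Cfsg.FusionSystem
open Cfsg.FusionSystem (centralizerIn normalizerIn imageAlong preimageAlong)

variable {Ω : Type*} [Group Ω] {S : Subgroup Ω}
variable {Ω' : Type*} [Group Ω'] {S' T' : Subgroup Ω'}
variable {p : ℕ} {F : FusionSystem S} {Z : Subgroup Ω} {θ : S →* Ω'} {E : FusionSystem S'}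
variable {D : FusionSystem T'} {P Q R : Subgroup Ω} {f g : Ω → Ω}

namespace Data

variable [Fact p.Prime] [Finite S] (h : Data p F Z θ E D)
include h

theorem saturated : h.liftSystem.IsSaturated p := by
  classical
  haveI := h.finite_base
  refine Criterion.saturated_of_generating h.pgroup_base {P | Lifted Z θ D P} (fun P hP => hP.2.1) ?_
    (fun P hP => h.good hP fun R hR _ => h.hyp_all R hR) ?_ ?_
  · intro P hP Q hPQ
    obtain ⟨f, hf, rfl⟩ := isConj_iff.1 hPQ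
    exact h.lifted_img hP (h.liftSystem_fn_F hf)
  · intro M hM
    have hG : h.Gens M := by
      refine ⟨fun P hP a ha => ?_, fun a ha => ?_⟩
      · obtain ⟨φ, hφ, hφf⟩ := (mem_autGroup_iff_fn hP.2.1).1 (h.liftSystem_gens.1 P hP ha)
        exact (mem_autGroup_iff_fn hP.2.1).2 ⟨φ, hM P hP hφ, hφf⟩
      · obtain ⟨φ, hφ, hφf⟩ := (mem_autGroup_iff_fn le_rfl).1 (h.liftSystem_gens.2 ha)
        exact (mem_autGroup_iff_fn le_rfl).2 ⟨φ, hM _ h.lifted_base hφ, hφf⟩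
    exact fun P φ hφ => mem_hom_of_fn (h.liftSystem_le hG (fn_ofHom hφ)) fun x => (ofHom_coe φ x).symm
  · intro P hPc hPn
    have hPS := hPc.1.trans h.base_le
    have hZP : Z ≤ P := fun z hz => hPc.2 P (isConj_refl hPc.1)
      (mem_centralizerIn.2 ⟨h.z_le_base hz, fun x hx => h.z_comm (hPS hx) hz⟩)
    have hPi : imageAlong θ P ≤ T' := h.image_le_T' hPc.1
    obtain ⟨R', hR', y, hy, hyR⟩ : ∃ R', D.IsConj (imageAlong θ P) R' ∧
        ∃ y ∈ centralizerIn T' R', y ∉ R' := by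
      by_contra hno
      push Not at hno
      exact hPn ⟨hZP, hPc.1, hPi, fun R' hR' y hy => hno R' hR' y hy⟩
    obtain ⟨d, hd, rfl⟩ := isConj_iff.1 hR'
    obtain ⟨l, hl, hle⟩ := h.exists_lift_map hd
    rw [h.preimage_image hZP hPS] at hl hle
    have hlF := h.liftSystem_fn_F hl
    have hQi : imageAlong θ (img l P) = img d (imageAlong θ P) :=
      image_img hlF (Fn.of_subsystem h.inv.1 hd) hle
    refine ⟨img l P, isConj_of_fn hl, fun hsub => ?_⟩
    set Q := img l P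
    have hQb : Q ≤ base θ T' := hl.img_le_base
    have hQS := hQb.trans h.base_le
    have hZQ : Z ≤ Q := h.z_le_img hlF hZP
    obtain ⟨hyT, hyc⟩ := mem_centralizerIn.1 hy
    obtain ⟨⟨t, htS⟩, rfl⟩ := h.range.symm ▸ h.leT' hyT
    rw [← th_apply htS] at hyT hyc hyR
    have htb : t ∈ base θ T' := mem_preimageAlong.2 ⟨htS, hyT⟩
    have htn : t ∈ Subgroup.normalizer (Q : Set Ω) := by
      refine (h.mem_normalizer_iff_image hZQ hQS htS).2 (mem_normalizer_iff'.2 ⟨fun z hz => ?_, fun z hz => ?_⟩) <;>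
        rw [hQi] at hz ⊢
      · rw [← hyc z hz, mul_inv_cancel_right]; exact hz
      · rw [mul_assoc, hyc z hz, inv_mul_cancel_left]; exact hz
    have hc : conjAut Q htn ∈ autInducedBy (base θ T') Q := conjAut_mem_autInducedBy htn htb
    have hct : Triv θ Q (conjAut Q htn) := fun x hx => by
      rw [autFn_coe _ ⟨x, hx⟩, conjAut_coe, th_conj htS (hQS hx),
        ← hyc _ (hQi ▸ th_mem_imageAlong hx (hQS hx)), mul_inv_cancel_right]
    haveI := finite_of_le_base hQS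
    set A := h.liftSystem.autGroup Q
    have hAF : A ≤ F.autGroup Q := autGroup_mono' h.liftSystem_sub Q
    have hcore : (trivGroup F θ Q).subgroupOf A ≤ pCore p A := by
      refine le_sSup (s := {N : Subgroup A | N.Normal ∧ IsPGroup p N}) ⟨⟨fun n hn a => ?_⟩, ?_⟩
      · exact h.trivGroup_normal hQS (hAF a.2) hn
      · exact (h.trivGroup_pGroup hZQ hQS).comap_of_injective _ (Subgroup.subtype_injective _)
    have hcA : conjAut Q htn ∈ A := autInducedBy_le_autGroup hQb hc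
    obtain ⟨⟨q, hq⟩, hqe⟩ := hsub ⟨hc, ⟨_, hcA⟩, hcore ⟨hAF hcA, hct⟩, rfl⟩
    refine hyR ?_
    have hqt : q⁻¹ * t ∈ Q := by
      refine hPc.2 Q (isConj_of_fn hl) (mem_centralizerIn.2 ⟨(base θ T').mul_mem
        ((base θ T').inv_mem (hQb hq)) htb, fun x hx => ?_⟩)
      have e := conjAut_coe htn ⟨x, hx⟩
      rw [← hqe] at e
      have e' : q * x * q⁻¹ = t * x * t⁻¹ := e
      calc x * (q⁻¹ * t) = q⁻¹ * (q * x * q⁻¹) * t := by group
        _ = q⁻¹ * (t * x * t⁻¹) * t := by rw [e']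
        _ = q⁻¹ * t * x := by group
    have htQ : t ∈ Q := by simpa using Q.mul_mem hq hqt
    exact hQi ▸ th_mem_imageAlong htQ htS

/-- The lift is invariant under the automorphisms of the base. -/
theorem transform {α : MulAut (base θ T')} (hα : α ∈ F.autGroup (base θ T')) (hg : Fn h.liftSystem P g) :
    ∃ χ, Fn h.liftSystem (img (autFn α) P) χ ∧ ∀ x ∈ P, χ (autFn α x) = autFn α (g x) := by
  haveI := h.finite_base
  have hαF := (mem_autGroup_iff_fn h.base_le).1 hα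
  let C : Subgroup Ω → (Ω → Ω) → Prop := fun P g =>
    ∃ χ, Fn h.liftSystem (img (autFn α) P) χ ∧ ∀ x ∈ P, χ (autFn α x) = autFn α (g x)
  let M := predSystem h.liftSystem C
    (fun P f g he _ hf => by
      obtain ⟨χ, hχ, hχe⟩ := hf
      exact ⟨χ, hχ, fun x hx => (hχe x hx).trans (congrArg _ (he x hx))⟩)
    (fun P hP s hs => ⟨_, fn_conj (img_le fun x hx => autFn_mem α (hP hx)) (autFn_mem α hs), fun x hx => by
      show autFn α s * autFn α x * (autFn α s)⁻¹ = autFn α (s * x * s⁻¹)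
      rw [hαF.map_conj hs (hP hx)]⟩)
    (fun P R f g hf hg hm ⟨χ, hχ, hχe⟩ ⟨ξ, hξ, hξe⟩ => by
      refine ⟨ξ ∘ χ, hχ.comp hξ fun y hy => ?_, fun x hx => ?_⟩
      · obtain ⟨x, hx, rfl⟩ := (hαF.mono hf.le).mem_img.1 hy
        rw [hχe x hx]
        exact mem_img_of_mem (hm x hx)
      · show ξ (χ (autFn α x)) = autFn α (g (f x))
        rw [hχe x hx, hξe _ (hm x hx)])
    (fun P f g hf _ hgf ⟨χ, hχ, hχe⟩ => by
      obtain ⟨k, hk, hkχ, -⟩ := hχ.exists_inv
      have e : img χ (img (autFn α) P) = img (autFn α) (img f P) := by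
        rw [← (hαF.mono hf.le).img_comp, ← hf.img_comp]
        exact img_congr fun x hx => hχe x hx
      rw [e] at hk
      refine ⟨k, hk, fun y hy => ?_⟩
      obtain ⟨x, hx, rfl⟩ := hf.mem_img.1 hy
      rw [← hχe x hx, hkχ _ (mem_img_of_mem hx), hgf x hx])
  have hM : h.Gens M := by
    refine ⟨fun X hX a ha => ?_, fun a ha => ?_⟩
    · have hαX := hαF.mono hX.2.1
      have hY : Lifted Z θ D (img (autFn α) X) := h.lifted_img hX hαX
      obtain ⟨e, he, -⟩ := exists_transport (hX.2.1.trans h.base_le) hαX rfl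
      refine (mem_autGroup_iff_fn hX.2.1).2 (fn_predSystem.2 ⟨(mem_autGroup_iff_fn hX.2.1).1
        (h.liftSystem_gens.1 X hX ha), autFn (MulAut.congr e a), (mem_autGroup_iff_fn hY.2.1).1
        (h.liftSystem_gens.1 _ hY (transport_gGen hαX rfl e he ha)), fun x hx => ?_⟩)
      rw [← he ⟨x, hx⟩, autFn_coe, show (MulAut.congr e a) (e ⟨x, hx⟩) = e (a ⟨x, hx⟩) by simp [MulAut.congr],
        he, autFn_coe a ⟨x, hx⟩]
    · have hconj : α * a * α⁻¹ ∈ h.hGen := by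
        obtain ⟨⟨a, haX⟩, ha, rfl⟩ := ha
        let ψ : h.preSystem.autGroup (base θ T') →* h.preSystem.autGroup (base θ T') :=
          MonoidHom.mk' (fun x => ⟨α * (x : MulAut (base θ T')) * α⁻¹, h.pre_top_conj hα x.2⟩) fun x y => Subtype.ext (by
            show α * ((x : MulAut (base θ T')) * (y : MulAut (base θ T'))) * α⁻¹ =
              α * (x : MulAut (base θ T')) * α⁻¹ * (α * (y : MulAut (base θ T')) * α⁻¹)
            group)
        exact ⟨ψ ⟨a, haX⟩, CfsgLib.Fusion.Basic.map_pResidual_le ψ ⟨_, ha, rfl⟩, rfl⟩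
      refine (mem_autGroup_iff_fn le_rfl).2 (fn_predSystem.2 ⟨(mem_autGroup_iff_fn le_rfl).1
        (h.liftSystem_gens.2 ha), autFn (α * a * α⁻¹), ?_, fun x hx => ?_⟩)
      · rw [img_autFn]
        exact (mem_autGroup_iff_fn le_rfl).1 (h.liftSystem_gens.2 hconj)
      · rw [autFn_mul _ _ (autFn_mem α hx), autFn_inv_apply α hx, autFn_mul _ _ hx]
  exact (fn_predSystem.1 (h.liftSystem_le hM hg)).2

/-- Maps of `F` are maps of the lift followed by automorphisms of the base, up to trivial automorphisms. -/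
theorem partial_frattini (hZP : Z ≤ P) (hP : P ≤ base θ T') (hf : Fn F P f) :
    ∃ α ∈ F.autGroup (base θ T'), ∃ l, Fn h.liftSystem P l ∧ ∃ k ∈ trivGroup F θ P,
      ∀ x ∈ P, f x = autFn α (l (autFn k x)) := by
  haveI := h.finite_base
  have hPS := hP.trans h.base_le
  haveI := finite_of_le_base hPS
  obtain ⟨f', hf', hfe⟩ := h.exists_image hf
  obtain ⟨β, hβ, u, hu, hfu⟩ := Invariant.frattini h.inv (h.image_le_T' hP) hf'
  obtain ⟨Φ, hsur, hΦ⟩ := h.exists_topHom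
  obtain ⟨⟨α, hα⟩, hαβ⟩ := hsur ⟨β, hβ⟩
  obtain ⟨l, hl, hle⟩ := h.exists_lift_map hu
  rw [h.preimage_image hZP hPS] at hl hle
  have hαF := (mem_autGroup_iff_fn h.base_le).1 hα
  have hv : Fn F P (autFn α ∘ l) := (h.liftSystem_fn_F hl).comp hαF fun x hx => hl.mem hx
  have hve : ∀ x ∈ P, f' (th θ x) = th θ (autFn α (l x)) := fun x hx => by
    rw [hfu _ (th_mem_imageAlong hx (hPS hx)), hle x hx, ← hΦ ⟨α, hα⟩ _ (hl.mem hx), hαβ]
  have hi : img f P = img (autFn α ∘ l) P := h.eq_of_image_eq hf.img_le_base hv.img_le_base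
    (h.z_le_img hf hZP) (h.z_le_img hv hZP) (by rw [image_img hf hf' hfe, image_img hv hf' hve])
  obtain ⟨v, hv', hvl, hvi⟩ := hv.exists_inv
  rw [← hi] at hv' hvi
  have hcomp := hf.comp hv' fun x hx => mem_img_of_mem hx
  obtain ⟨k, hk, hke⟩ := exists_aut_of_fn hcomp (by rw [hf.img_comp, hvi])
  have hkf : ∀ x ∈ P, autFn α (l (autFn k x)) = f x := fun x hx => by
    rw [autFn_coe k ⟨x, hx⟩, hke]
    obtain ⟨y, hy, hye⟩ := hv.mem_img.1 (hi.le (mem_img_of_mem hx))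
    show autFn α (l (v (f x))) = f x
    rw [← hye, hvl y hy]
    rfl
  refine ⟨α, hα, l, hl, k, ⟨hk, fun x hx => ?_⟩, fun x hx => (hkf x hx).symm⟩
  refine hf'.inj (th_mem_imageAlong (autFn_mem k hx) (hPS (autFn_mem k hx))) (th_mem_imageAlong hx (hPS hx)) ?_
  rw [hve _ (autFn_mem k hx), hkf x hx, hfe x hx]

/-- The Frattini condition. -/
theorem frattini (hZP : Z ≤ P) (hP : P ≤ base θ T') (hf : Fn F P f) :
    ∃ α ∈ F.autGroup (base θ T'), ∃ l, Fn h.liftSystem P l ∧ ∀ x ∈ P, f x = autFn α (l x) := by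
  haveI := h.finite_base
  have hPS := hP.trans h.base_le
  haveI := finite_of_le_base hPS
  obtain ⟨α, hα, l, hl, k, hk, hfk⟩ := h.partial_frattini hZP hP hf
  obtain ⟨Q, hPQ, hQn⟩ := exists_fullyNormalized (F := F) hPS
  obtain ⟨g, hg, hgi⟩ := isConj_iff.1 hPQ
  obtain ⟨α₁, hα₁, l₁, hl₁, k₁, hk₁, hgk⟩ := h.partial_frattini hZP hP hg
  obtain ⟨e, he, hmap⟩ := exists_transport hPS hg hgi
  obtain ⟨g', -, hge⟩ := h.exists_image hg
  have hZQ : Z ≤ Q := hgi ▸ h.z_le_img hg hZP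
  have hk' : MulAut.congr e k ∈ trivGroup F θ Q := ⟨hmap.le ⟨k, hk.1, rfl⟩, fun y hy => by
    obtain ⟨x, hx⟩ := e.surjective ⟨y, hy⟩
    have hyx : y = ((e x : Q) : Ω) := by rw [hx]
    subst hyx
    rw [autFn_coe, show (MulAut.congr e k) (e x) = e (k x) by simp [MulAut.congr], he, he,
      ← hge _ (k x).2, ← hge x x.2, ← autFn_coe k x, hk.2 x x.2]⟩
  obtain ⟨s, hs, hsk⟩ := mem_autInducedBy.1 (h.trivGroup_le_induced (fullyNormalized_good h.hS h.hF hQn).1 hZQ hk')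
  have hgs : ∀ x ∈ P, g (autFn k x) = s * g x * s⁻¹ := fun x hx => by
    have e1 := hsk (e ⟨x, hx⟩)
    rw [show (MulAut.congr e k) (e ⟨x, hx⟩) = e (k ⟨x, hx⟩) by simp [MulAut.congr], he, he] at e1
    rw [autFn_coe k ⟨x, hx⟩]
    exact e1
  have hcs : ∀ z ∈ base θ T', s * z * s⁻¹ ∈ base θ T' := fun z hz => sc_conj h.sc_base hs hz
  obtain ⟨cS, hcS, hcSe⟩ := exists_aut_of_fn (fn_conj (F := F) h.base_le hs)
    ((fn_conj (F := F) h.base_le hs).img_eq_self hcs)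
  set α' := α₁⁻¹ * cS * α₁ with hα'def
  have hα' : α' ∈ F.autGroup (base θ T') := mul_mem (mul_mem (inv_mem hα₁) hcS) hα₁
  have hkey : ∀ y ∈ P, l₁ (autFn k y) = autFn α' (l₁ y) := fun y hy => by
    have hx := autFn_mem k₁⁻¹ hy
    have h1 := hgs _ hx
    have hcomm := h.triv_comm hZP hPS hk₁.1 hk.1 hk₁.2 hk.2
    rw [hgk _ (autFn_mem k hx), hgk _ hx, ← autFn_mul k₁ k hx, hcomm, autFn_mul k k₁ hx,
      autFn_apply_inv k₁ hy] at h1
    have hy1 := hl₁.mem hy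
    have hy2 := hl₁.mem (autFn_mem k hy)
    have h2 := congrArg (autFn α₁⁻¹) h1
    rw [autFn_inv_apply α₁ hy2] at h2
    rw [h2, hα'def, autFn_mul _ _ hy1, autFn_mul _ _ (autFn_mem α₁ hy1)]
    refine congrArg _ ?_
    rw [autFn_coe cS ⟨_, autFn_mem α₁ hy1⟩, hcSe]
  obtain ⟨v, hv, hvl, hvi⟩ := hl₁.exists_inv
  have hα'F := (mem_autGroup_iff_fn h.base_le).1 hα'
  have hl₁b : img l₁ P ≤ base θ T' := hl₁.img_le_base
  have hfix : img (autFn α'⁻¹) (img l₁ P) = img l₁ P := by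
    haveI := finite_of_le_base (hl₁b.trans h.base_le)
    refine (((mem_autGroup_iff_fn h.base_le).1 (inv_mem hα')).mono hl₁b).img_eq_self fun z hz => ?_
    obtain ⟨x, hx, rfl⟩ := hl₁.mem_img.1 hz
    rw [← autFn_apply_inv k hx, hkey _ (autFn_mem _ hx), autFn_inv_apply α' (hl₁.mem (autFn_mem _ hx))]
    exact mem_img_of_mem (autFn_mem _ hx)
  obtain ⟨χ, hχ, hχe⟩ := h.transform (inv_mem hα') hv
  rw [hfix] at hχ
  obtain ⟨ξ, hξ, hξe⟩ := h.transform (inv_mem hα') hl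
  have hm1 : ∀ y ∈ P, l₁ y ∈ img l₁ P := fun y hy => mem_img_of_mem hy
  have hky : ∀ y ∈ P, χ (l₁ y) = autFn α'⁻¹ (autFn k y) := fun y hy => by
    have h1 := hχe _ (hm1 _ (autFn_mem k hy))
    rw [hvl _ (autFn_mem k hy), hkey y hy, autFn_inv_apply α' (hl₁.mem hy)] at h1
    exact h1
  have hm2 : ∀ y ∈ img l₁ P, χ y ∈ img (autFn α'⁻¹) P := fun z hz => by
    obtain ⟨y, hy, rfl⟩ := hl₁.mem_img.1 hz
    rw [hky y hy]
    exact mem_img_of_mem (autFn_mem k hy)
  refine ⟨α * α', mul_mem hα hα', ξ ∘ (χ ∘ l₁), (hl₁.comp hχ hm1).comp hξ fun x hx => hm2 _ (hm1 x hx),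
    fun x hx => ?_⟩
  have hkx := autFn_mem k hx
  have hlk := hl.mem hkx
  have h3 : ξ (χ (l₁ x)) = autFn α'⁻¹ (l (autFn k x)) := by rw [hky x hx, hξe _ hkx]
  show f x = autFn (α * α') (ξ (χ (l₁ x)))
  rw [h3, autFn_mul _ _ (autFn_mem _ hlk), autFn_apply_inv α' hlk, hfk x hx]

/-- The lift is weakly normal. -/
theorem weaklyNormal : h.liftSystem.IsWeaklyNormalIn F p := by
  haveI := h.finite_base
  refine ⟨h.saturated, h.hF, h.liftSystem_sub, h.sc_base, fun P hPT φ hφ α hα => ?_, fun P hPT φ hφ => ?_⟩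
  · obtain ⟨χ, hχ, hχe⟩ := h.transform hα (fn_ofHom hφ)
    have e : (P.subgroupOf (base θ T')).map ((base θ T').subtype.comp α.toMonoidHom) = img (autFn α) P := by
      refine le_antisymm ?_ (img_le fun x hx => ⟨⟨x, hPT hx⟩, hx, (autFn_coe α ⟨x, hPT hx⟩).symm⟩)
      rintro _ ⟨x, hx, rfl⟩
      show ((α x : base θ T') : Ω) ∈ _
      rw [← autFn_coe]
      exact mem_img_of_mem hx
    rw [← e] at hχ
    obtain ⟨ψ, hψ, hψχ⟩ := hχ
    refine ⟨ψ, hψ, fun x hx1 hx2 => ?_⟩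
    rw [hψχ, ← autFn_coe α ⟨_, hx1⟩]
    show χ ((α ⟨x, hPT x.2⟩ : base θ T') : Ω) = _
    rw [← autFn_coe α ⟨x, hPT x.2⟩, hχe x x.2, ofHom_coe]
  · obtain ⟨g, hg, hge, -⟩ := (central_iff_fn.1 h.hZ).2 P _ (fn_ofHom hφ)
    obtain ⟨α, hα, l, hl, hle⟩ := h.frattini le_sup_right (sup_le hPT h.z_le_base) hg
    obtain ⟨φ₀, hφ₀, hφ₀l⟩ := hl.mono (le_sup_left : P ≤ P ⊔ Z)
    refine ⟨α, hα, φ₀, hφ₀, fun x hx => ?_⟩
    rw [← autFn_coe α ⟨_, hx⟩, ← ofHom_coe φ x, ← hge x x.2, hle _ (Subgroup.mem_sup_left x.2)]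
    show autFn α (l x) = autFn α (φ₀ x)
    rw [hφ₀l x]

/-- Normal subsystems of a central factor system lift to weakly normal subsystems. -/
theorem exists_weaklyNormal_lift :
    ∃ L : FusionSystem (base θ T'), L.IsWeaklyNormalIn F p ∧ ∀ (P : Subgroup Ω) (f : Ω → Ω), Fn L P f →
      ∃ f', Fn D (imageAlong θ P) f' ∧ ∀ x ∈ P, f' (th θ x) = th θ (f x) :=
  ⟨h.liftSystem, h.weaklyNormal, fun _ _ hf => h.liftSystem_image hf⟩

end Data

end CfsgLib.Fsys.Lift
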