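import Mathlib.GroupTheory.Transfer
import Mathlib.GroupTheory.PGroup

/-! An element central modulo a strongly closed subgroup lies in it, by transfer. -/

set_option autoImplicit false

namespace CfsgLib.Fsys.Lift

open MonoidHom

theorem mem_of_central_mod {G : Type*} [Group G] [Finite G] {p : ℕ} [Fact p.Prime] (R A : Subgroup G)
    (hidx : ¬ p ∣ R.index) (hp : IsPGroup p R) (hAR : A ≤ R)
    (hcomm : ∀ x ∈ R, ∀ y ∈ R, x * y * x⁻¹ * y⁻¹ ∈ A)
    {z : G} (hz : z ∈ R) (hzc : ∀ g : G, g⁻¹ * z * g * z⁻¹ ∈ A)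
    (hmem : z ∈ Subgroup.closure ({x | ∀ (g : G) (k : ℕ), g⁻¹ * x ^ k * g ∈ R → g⁻¹ * x ^ k * g ∈ A} ∪ {x | Nat.Coprime (orderOf x) p})) :
    z ∈ A := by
  classical
  let A' := A.subgroupOf R
  haveI : A'.Normal := ⟨fun a ha x => by
    show ((x * a * x⁻¹ : R) : G) ∈ A
    have h := A.mul_mem (hcomm x x.2 a a.2) (show (a : G) ∈ A from ha)
    simpa [mul_assoc] using h⟩
  letI : CommGroup (R ⧸ A') := { (inferInstance : Group (R ⧸ A')) with
    mul_comm := fun u v => by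
      obtain ⟨x, rfl⟩ := QuotientGroup.mk_surjective u
      obtain ⟨y, rfl⟩ := QuotientGroup.mk_surjective v
      rw [← QuotientGroup.mk_mul, ← QuotientGroup.mk_mul, QuotientGroup.eq]
      show (((x * y)⁻¹ * (y * x) : R) : G) ∈ A
      have h := hcomm _ (R.inv_mem y.2) _ (R.inv_mem x.2)
      simpa [mul_assoc] using h }
  let φ : R →* R ⧸ A' := QuotientGroup.mk' A'
  have hker : ∀ {x : G} (hx : x ∈ R), φ ⟨x, hx⟩ = 1 ↔ x ∈ A := fun {x} hx => QuotientGroup.eq_one_iff _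
  have hQp : IsPGroup p (R ⧸ A') := hp.to_quotient A'
  haveI : Fintype (G ⧸ R) := Fintype.ofFinite _
  set τ : G →* R ⧸ A' := transfer φ with hτ
  have hle : Subgroup.closure ({x | ∀ (g : G) (k : ℕ), g⁻¹ * x ^ k * g ∈ R → g⁻¹ * x ^ k * g ∈ A} ∪ {x | Nat.Coprime (orderOf x) p}) ≤ τ.ker := by
    rw [Subgroup.closure_le]
    rintro x (hx | hx)
    · show τ x = 1
      rw [hτ, transfer_eq_prod_quotient_orbitRel_zpowers_quot]
      refine Finset.prod_eq_one fun q _ => (hker _).2 (hx _ _ ?_)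
      exact QuotientGroup.out_conj_pow_minimalPeriod_mem R x q.out
    · show τ x = 1
      obtain ⟨k, hk⟩ := hQp (τ x)
      have h1 : orderOf (τ x) ∣ p ^ k := orderOf_dvd_of_pow_eq_one hk
      have h2 : orderOf (τ x) ∣ orderOf x := orderOf_map_dvd τ x
      exact orderOf_eq_one_iff.1 (Nat.dvd_one.1 ((Nat.Coprime.pow_right k hx).gcd_eq_one ▸ Nat.dvd_gcd h2 h1))
  have hτz : τ z = φ ⟨z, hz⟩ ^ R.index := by
    rw [hτ, transfer_eq_prod_quotient_orbitRel_zpowers_quot, R.index_eq_sum_minimalPeriod z,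
      ← Finset.prod_pow_eq_pow_sum]
    refine Finset.prod_congr rfl fun q _ => ?_
    set g := q.out.out
    set j := Function.minimalPeriod (z • ·) q.out
    have hzA := hzc g
    have hgz : g⁻¹ * z * g ∈ R := by
      have := R.mul_mem (hAR hzA) hz
      simpa using this
    have e : φ ⟨g⁻¹ * z * g, hgz⟩ = φ ⟨z, hz⟩ := by
      rw [← mul_inv_eq_one, ← map_inv, ← map_mul]
      exact (hker (R.mul_mem hgz (R.inv_mem hz))).2 hzA
    rw [← e, ← map_pow]
    congr 1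
    apply Subtype.ext
    show g⁻¹ * z ^ j * g = (g⁻¹ * z * g) ^ j
    have := map_pow (MulAut.conj g⁻¹) z j
    simpa [MulAut.conj_apply] using this
  have h1 : φ ⟨z, hz⟩ ^ R.index = 1 := hτz ▸ hle hmem
  obtain ⟨k, hk⟩ := hQp (φ ⟨z, hz⟩)
  have hcop : Nat.Coprime R.index (p ^ k) :=
    Nat.Coprime.pow_right k ((Nat.Prime.coprime_iff_not_dvd Fact.out).2 hidx).symm
  refine (hker hz).1 (orderOf_eq_one_iff.1 (Nat.dvd_one.1 ?_))
  exact hcop.gcd_eq_one ▸ Nat.dvd_gcd (orderOf_dvd_of_pow_eq_one h1) (orderOf_dvd_of_pow_eq_one hk)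

end CfsgLib.Fsys.Lift
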