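import Cfsg.Agent.Lib.FusionSystem.Invariant
import Cfsg.Agent.Lib.FusionSystem.Generation
import Cfsg.Agent.Lib.LocalEven.SylowIn

/-! Subsystems containing the `O^{p'}` of the centric automizers. -/

set_option autoImplicit false

open Cfsg Cfsg.FusionSystem

namespace CfsgLib.Fsys

variable {Ω : Type*} [Group Ω] {S P Q : Subgroup Ω} {F E : FusionSystem S} {p : ℕ} [Fact p.Prime] [Finite S]

/-- `O^{p'}` of an automizer. -/
def opAut (p : ℕ) (F : FusionSystem S) (P : Subgroup Ω) : Subgroup (MulAut P) :=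
  (Subgroup.closure {α : ↥(F.autGroup P) | ∃ k : ℕ, orderOf α = p ^ k}).map (F.autGroup P).subtype

omit [Finite S] in
theorem mem_opAut_of_pow {τ : MulAut P} (hτ : τ ∈ F.autGroup P) {k : ℕ} (hk : τ ^ p ^ k = 1) :
    τ ∈ opAut p F P := by
  obtain ⟨m, -, hm⟩ := (Nat.dvd_prime_pow Fact.out).1 (orderOf_dvd_of_pow_eq_one hk)
  exact ⟨⟨τ, hτ⟩, Subgroup.subset_closure ⟨m, by rw [← Subgroup.orderOf_coe]; exact hm⟩, rfl⟩

omit [Fact p.Prime] [Finite S] in
theorem conj_mem_opAut {τ γ : MulAut P} (hτ : τ ∈ opAut p F P) (hγ : γ ∈ F.autGroup P) :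
    γ * τ * γ⁻¹ ∈ opAut p F P := by
  obtain ⟨t, ht, rfl⟩ := hτ
  refine ⟨⟨γ, hγ⟩ * t * ⟨γ, hγ⟩⁻¹, ?_, rfl⟩
  induction ht using Subgroup.closure_induction with
  | mem x hx =>
    obtain ⟨k, hk⟩ := hx
    refine Subgroup.subset_closure ⟨k, ?_⟩
    rw [← hk]
    exact MulEquiv.orderOf_eq (MulAut.conj (⟨γ, hγ⟩ : F.autGroup P)) x
  | one => simp
  | mul a b _ _ ha hb =>
    have := Subgroup.mul_mem _ ha hb
    simpa [mul_assoc] using this
  | inv a _ ha =>
    have := Subgroup.inv_mem _ ha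
    simpa [mul_assoc] using this

/-- The maps of `E` all of whose `Aut_F(S)`-transforms are maps of `E`. -/
def Good (F E : FusionSystem S) (P : Subgroup Ω) (g : Ω → Ω) : Prop :=
  ∀ β ∈ F.autGroup S, ∃ χ : Ω → Ω, Fn E (img (autFn β) P) χ ∧ ∀ x ∈ P, χ (autFn β x) = autFn β (g x)

theorem fn_autS {β : MulAut S} (hβ : β ∈ F.autGroup S) : Fn F S (autFn β) := (mem_autGroup_iff_fn le_rfl).1 hβ

theorem Good.fn {g : Ω → Ω} (h : Good F E P g) {g' : Ω → Ω} (hg : Fn F P g) (he : ∀ x ∈ P, g x = g' x) : Fn E P g' := by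
  obtain ⟨χ, hχ, hχe⟩ := h 1 (Subgroup.one_mem _)
  have h1 : ∀ x ∈ S, autFn (1 : MulAut S) x = x := fun x hx => autFn_coe 1 ⟨x, hx⟩
  have hi : img (autFn (1 : MulAut S)) P = P :=
    (img_congr (g := id) fun x hx => h1 x (hg.le hx)).trans (img_id P)
  rw [hi] at hχ
  refine hχ.congr fun x hx => ?_
  have := hχe x hx
  rw [h1 x (hg.le hx), h1 _ (hg.mem hx)] at this
  rw [this, he x hx]

theorem Good.congr {g g' : Ω → Ω} (h : Good F E P g) (he : ∀ x ∈ P, g x = g' x) : Good F E P g' := fun β hβ => by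
  obtain ⟨χ, hχ, hχe⟩ := h β hβ
  exact ⟨χ, hχ, fun x hx => (he x hx) ▸ hχe x hx⟩

theorem good_conj (hP : P ≤ S) {s : Ω} (hs : s ∈ S) : Good F E P (fun x => s * x * s⁻¹) := by
  intro β hβ
  have hf := fn_autS hβ
  refine ⟨fun y => autFn β s * y * (autFn β s)⁻¹, fn_conj (img_le fun x hx => autFn_mem β (hP hx)) (hf.mem hs),
    fun x hx => ?_⟩
  exact (hf.map_conj hs (hP hx)).symm

theorem Good.comp {R : Subgroup Ω} {g g' : Ω → Ω} (hg : Fn F P g) (h : Good F E P g) (h' : Good F E R g')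
    (hm : ∀ x ∈ P, g x ∈ R) : Good F E P (g' ∘ g) := by
  intro β hβ
  obtain ⟨χ, hχ, hχe⟩ := h β hβ
  obtain ⟨χ', hχ', hχ'e⟩ := h' β hβ
  refine ⟨χ' ∘ χ, hχ.comp hχ' fun y hy => ?_, fun x hx => ?_⟩
  · obtain ⟨x, hx, rfl⟩ := ((fn_autS hβ).mono hg.le).mem_img.1 hy
    rw [hχe x hx]
    exact mem_img_of_mem (hm x hx)
  · show χ' (χ (autFn β x)) = autFn β (g' (g x))
    rw [hχe x hx, hχ'e _ (hm x hx)]

theorem Good.inv {g h : Ω → Ω} (hg : Fn F P g) (hgd : Good F E P g) (hgf : ∀ x ∈ P, h (g x) = x) :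
    Good F E (img g P) h := by
  intro β hβ
  obtain ⟨χ, hχ, hχe⟩ := hgd β hβ
  obtain ⟨χ', hχ', hχ'χ, -⟩ := hχ.exists_inv
  have hi : img χ (img (autFn β) P) = img (autFn β) (img g P) := by
    rw [← ((fn_autS hβ).mono hg.le).img_comp, ← hg.img_comp]
    exact img_congr fun x hx => hχe x hx
  rw [hi] at hχ'
  refine ⟨χ', hχ', fun y hy => ?_⟩
  obtain ⟨x, hx, rfl⟩ := hg.mem_img.1 hy
  rw [← hχe x hx, hχ'χ _ (mem_img_of_mem hx), hgf x hx]

theorem Good.transform {g : Ω → Ω} (hg : Fn F P g) (hgd : Good F E P g) {β : MulAut S} (hβ : β ∈ F.autGroup S) :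
    Good F E (img (autFn β) P) (autFn β ∘ g ∘ autFn β⁻¹) := by
  intro γ hγ
  obtain ⟨χ, hχ, hχe⟩ := hgd (γ * β) (mul_mem hγ hβ)
  have hi : img (autFn (γ * β)) P = img (autFn γ) (img (autFn β) P) := by
    rw [← ((fn_autS hβ).mono hg.le).img_comp]
    exact img_congr fun x hx => autFn_mul γ β (hg.le hx)
  rw [hi] at hχ
  refine ⟨χ, hχ, fun y hy => ?_⟩
  obtain ⟨x, hx, rfl⟩ := ((fn_autS hβ).mono hg.le).mem_img.1 hy
  rw [← autFn_mul γ β (hg.le hx), hχe x hx]
  show _ = autFn γ (autFn β (g (autFn β⁻¹ (autFn β x))))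
  rw [autFn_inv_apply β (hg.le hx), autFn_mul γ β (hg.mem hx)]

theorem good_opAut (h : ∀ P : Subgroup Ω, F.IsCentric P → opAut p F P ≤ E.autGroup P) (hc : F.IsCentric P)
    {τ : MulAut P} (hτ : τ ∈ opAut p F P) : Good F E P (autFn τ) := by
  intro β hβ
  have hf := (fn_autS hβ).mono hc.1
  obtain ⟨e, he, hA⟩ := exists_transport hc.1 hf rfl
  have hc' : F.IsCentric (img (autFn β) P) :=
    ⟨hf.img_le_base, fun X hX => hc.2 X (isConj_trans (isConj_of_fn hf) hX)⟩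
  have hτ' : MulAut.congr e τ ∈ opAut p F (img (autFn β) P) := by
    obtain ⟨t, ht, rfl⟩ := hτ
    let Φ : F.autGroup P →* F.autGroup (img (autFn β) P) :=
      ((MulAut.congr e).toMonoidHom.comp (F.autGroup P).subtype).codRestrict _ fun a => hA ▸ ⟨a, a.2, rfl⟩
    refine ⟨Φ t, ?_, rfl⟩
    induction ht using Subgroup.closure_induction with
    | mem x hx =>
      obtain ⟨k, hk⟩ := hx
      obtain ⟨j, -, hj⟩ := (Nat.dvd_prime_pow Fact.out).1 (hk ▸ orderOf_map_dvd Φ x : orderOf (Φ x) ∣ p ^ k)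
      exact Subgroup.subset_closure ⟨j, hj⟩
    | one => rw [map_one]; exact Subgroup.one_mem _
    | mul a b _ _ ha hb => rw [map_mul]; exact Subgroup.mul_mem _ ha hb
    | inv a _ ha => rw [map_inv]; exact Subgroup.inv_mem _ ha
  refine ⟨_, (mem_autGroup_iff_fn hc'.1).1 (h _ hc' hτ'), fun x hx => ?_⟩
  have hex : autFn β x = ((e ⟨x, hx⟩ : img (autFn β) P) : Ω) := (he ⟨x, hx⟩).symm
  rw [hex, autFn_coe, show ((MulAut.congr e τ) (e ⟨x, hx⟩)) = e (τ ⟨x, hx⟩) by simp [MulAut.congr], he]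
  exact congrArg (autFn β) (autFn_coe τ ⟨x, hx⟩).symm

variable (hS : IsPGroup p S) (hF : F.IsSaturated p)
  (h : ∀ P : Subgroup Ω, F.IsCentric P → opAut p F P ≤ E.autGroup P)
include hS hF h

/-- The Frattini decomposition. -/
theorem exists_good_decomp {f : Ω → Ω} (hf : Fn F P f) :
    ∃ α ∈ F.autGroup S, ∃ g : Ω → Ω, Fn F P g ∧ Good F E P g ∧ ∀ x ∈ P, f x = autFn α (g x) := by
  classical
  let C : Subgroup Ω → (Ω → Ω) → Prop := fun P f =>
    ∃ α ∈ F.autGroup S, ∃ g : Ω → Ω, Fn F P g ∧ Good F E P g ∧ ∀ x ∈ P, f x = autFn α (g x)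
  have hCone : ∀ {P : Subgroup Ω} {g : Ω → Ω}, Fn F P g → Good F E P g → C P g := fun {P g} hg hgd =>
    ⟨1, Subgroup.one_mem _, g, hg, hgd, fun x hx => (autFn_coe (1 : MulAut S) ⟨g x, hg.mem hx⟩).symm⟩
  have hCtop : ∀ {P : Subgroup Ω}, P ≤ S → ∀ {α : MulAut S}, α ∈ F.autGroup S → C P (autFn α) :=
    fun {P} hP {α} hα => ⟨α, hα, id, fn_id hP, (good_conj hP S.one_mem).congr fun x _ => by simp, fun x _ => rfl⟩
  let D : FusionSystem S := predSystem F C
    (fun P f g he _ ⟨α, hα, u, hu, hug, hfu⟩ => ⟨α, hα, u, hu, hug, fun x hx => (he x hx) ▸ hfu x hx⟩)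
    (fun P hP s hs => hCone (fn_conj hP hs) (good_conj hP hs))
    (fun P R f g _ _ hm ⟨α, hα, u, hu, hug, hfu⟩ ⟨β, hβ, v, hv, hvg, hgv⟩ => by
      -- `β v α u = (β α) (α⁻¹ v α) u`
      have hα' := fn_autS (F := F) (inv_mem hα)
      have hm' : ∀ x ∈ P, u x ∈ img (autFn α⁻¹) R := fun x hx => by
        rw [← autFn_inv_apply α (hu.mem hx), ← hfu x hx]
        exact mem_img_of_mem (hm x hx)
      have hw := hvg.transform hv (inv_mem hα)
      rw [inv_inv] at hw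
      have hwF : Fn F (img (autFn α⁻¹) R) (autFn α⁻¹ ∘ v ∘ autFn α) := by
        obtain ⟨k, hk, hkα, hki⟩ := (hα'.mono hv.le).exists_inv
        refine (((hk.comp hv fun y hy => hki.le (mem_img_of_mem hy)).comp hα' fun y hy =>
          hv.mem (hki.le (mem_img_of_mem hy))).congr fun y hy => ?_)
        obtain ⟨r, hr, rfl⟩ := (hα'.mono hv.le).mem_img.1 hy
        show autFn α⁻¹ (v (k (autFn α⁻¹ r))) = autFn α⁻¹ (v (autFn α (autFn α⁻¹ r)))
        rw [hkα r hr, autFn_apply_inv α (hv.le hr)]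
      refine ⟨β * α, mul_mem hβ hα, _, hu.comp hwF hm', Good.comp hu hug hw hm', fun x hx => ?_⟩
      show g (f x) = autFn (β * α) (autFn α⁻¹ (v (autFn α (u x))))
      rw [autFn_mul _ _ (autFn_mem _ (hv.mem (hfu x hx ▸ hm x hx))),
        autFn_apply_inv α (hv.mem (hfu x hx ▸ hm x hx)), ← hfu x hx, hgv _ (hm x hx)])
    (fun P f g hf hg hgf ⟨α, hα, u, hu, hug, hfu⟩ => by
      obtain ⟨k, hk, hku, hki⟩ := hu.exists_inv
      have hkg : Good F E (img u P) k := hug.inv hu hku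
      have hw := hkg.transform hk hα
      have hi : img (autFn α) (img u P) = img f P := by
        rw [← hu.img_comp]
        exact img_congr fun x hx => (hfu x hx).symm
      rw [hi] at hw
      have hα1 := (fn_autS (F := F) hα)
      have hwF : Fn F (img f P) (autFn α ∘ k ∘ autFn α⁻¹) := by
        refine ((hg.mono le_rfl).comp hα1 fun y hy => hg.mem hy).congr fun y hy => ?_
        obtain ⟨x, hx, rfl⟩ := hf.mem_img.1 hy
        show autFn α (g (f x)) = autFn α (k (autFn α⁻¹ (f x)))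
        rw [hgf x hx, hfu x hx, autFn_inv_apply α (hu.mem hx), hku x hx]
      refine ⟨α⁻¹, inv_mem hα, _, hwF, hw, fun y hy => ?_⟩
      obtain ⟨x, hx, rfl⟩ := hf.mem_img.1 hy
      show g (f x) = autFn α⁻¹ (autFn α (k (autFn α⁻¹ (f x))))
      rw [hgf x hx, hfu x hx, autFn_inv_apply α (hu.mem hx), hku x hx, autFn_inv_apply α (hu.le hx)])
  have hle : F ≤ D := by
    refine le_of_automizers hS hF D (fun α hα => ?_) fun P hPS hP hbig => ?_
    · exact (mem_autGroup_iff_fn le_rfl).2 (fn_predSystem.2 ⟨fn_autS hα, hCtop le_rfl hα⟩)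
    have hext : ∀ α, ExtAut F P α → α ∈ D.autGroup P := by
      rintro α ⟨N, g, hPN, hg, hgα⟩
      refine (mem_autGroup hPS.le).2 (mem_hom_of_fn ((hbig N g ?_ hg).mono hPN.le) fun x => (hgα x).symm)
      have := finite_of_le_base hg.le
      simpa only [SetLike.coe_sort_coe] using Set.Finite.card_lt_card (Set.toFinite (N : Set Ω)) hPN
    by_cases hc : F.IsCentric P
    · intro α hα
      have := finite_of_le_base hPS.le
      obtain ⟨hA, hfc⟩ := fullyNormalized_good hS hF hP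
      have hAS : autInducedBy S P ≤ opAut p F P := fun τ hτ => by
        obtain ⟨k, hk⟩ := isPGroup_autInducedBy hS ⟨τ, hτ⟩
        exact mem_opAut_of_pow (autInducedBy_le_autGroup hPS.le hτ) (by simpa [Subtype.ext_iff] using hk)
      have hOA : opAut p F P ≤ F.autGroup P := Subgroup.map_subtype_le _
      let N := (opAut p F P).subgroupOf (F.autGroup P)
      have hNn : N.Normal := ⟨fun n hn a => conj_mem_opAut hn a.2⟩
      obtain ⟨-, T, hT⟩ := hA
      have hTN : (T : Subgroup (F.autGroup P)) ≤ N := by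
        rw [hT]
        exact fun a ha => hAS ha
      have hsup : (Subgroup.normalizer ((T : Subgroup (F.autGroup P)) : Set (F.autGroup P))) ⊔ N = ⊤ :=
        Sylow.normalizer_sup_eq_top' T hTN
      have hmem : (⟨α, hα⟩ : F.autGroup P) ∈
          ((Subgroup.normalizer ((T : Subgroup (F.autGroup P)) : Set (F.autGroup P)) ⊔ N : Subgroup _) :
            Set (F.autGroup P)) := by
        rw [hsup]
        exact Subgroup.mem_top _
      rw [Subgroup.mul_normal] at hmem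
      obtain ⟨a, ha, o, ho, e⟩ := hmem
      have hαe : (a : MulAut P) * (o : MulAut P) = α := congrArg Subtype.val e
      rw [← hαe]
      refine mul_mem ?_ ?_
      · obtain ⟨n, -, hn, hnP⟩ := exists_mem_normalizer_not_mem hS (le_refl S) hPS
        refine hext _ (extAut_of_receptive (fullyCentralized_receptive hS hF hfc) a.2 hn hnP ?_)
        have hcn : (⟨conjAut P hn.2, autInducedBy_le_autGroup hPS.le (conjAut_mem_autInducedBy hn.2 hn.1)⟩ :
            F.autGroup P) ∈ (T : Subgroup (F.autGroup P)) := by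
          rw [hT]
          exact conjAut_mem_autInducedBy hn.2 hn.1
        have h1 := (Subgroup.mem_normalizer_iff.1 ha _).1 hcn
        rw [hT] at h1
        exact h1
      · have hof := (mem_autGroup_iff_fn hPS.le).1 o.2
        exact (mem_autGroup_iff_fn hPS.le).2 (fn_predSystem.2 ⟨hof, hCone hof (good_opAut h hc ho)⟩)
    · rw [← extClosure_eq_of_not_centric hS hF hP hc]
      exact (Subgroup.closure_le _).2 hext
  exact (fn_predSystem.1 (fn_of_le hle hf)).2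

/-- The index is prime to `p`. -/
theorem opAut_le (hP : P ≤ S) : opAut p F P ≤ E.autGroup P := by
  have := finite_of_le_base hP
  rintro _ ⟨t, ht, rfl⟩
  induction ht using Subgroup.closure_induction with
  | mem τ hτ =>
    obtain ⟨k, hk⟩ := hτ
    obtain ⟨Q, hPQ, hQ⟩ := exists_fullyNormalized (F := F) hP
    obtain ⟨hA, -⟩ := fullyNormalized_good hS hF hQ
    have := finite_of_le_base hQ.1
    obtain ⟨f, hf, hfi⟩ := isConj_iff.1 hPQ
    obtain ⟨e, he, hAe⟩ := exists_transport hP hf hfi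
    have hτ' : MulAut.congr e (τ : MulAut P) ∈ F.autGroup Q := hAe ▸ ⟨_, τ.2, rfl⟩
    obtain ⟨γ, hγ, hγc⟩ := exists_conj_into hS hA (Subgroup.zpowers_le.2 hτ') (IsPGroup.of_card (n := k) (by
      rw [Nat.card_zpowers, MulEquiv.orderOf_eq, Subgroup.orderOf_coe, hk]))
    obtain ⟨s, hs, hsγ⟩ := mem_autInducedBy.1 (hγc _ (Subgroup.mem_zpowers _))
    have hγf := (mem_autGroup_iff_fn hQ.1).1 hγ
    have hm : ∀ x ∈ P, f x ∈ Q := fun x hx => hfi.le (mem_img_of_mem hx)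
    have hcomp := hf.comp hγf hm
    obtain ⟨α, hα, g, hg, hgd, hge⟩ := exists_good_decomp hS hF h hcomp
    set s' := autFn α⁻¹ s with hs'
    have hs'S : s' ∈ S := autFn_mem _ hs
    obtain ⟨k', hk', hkg, hki⟩ := hg.exists_inv
    have hτg : ∀ x : P, g ((τ : MulAut P) x : P) = s' * g x * s'⁻¹ := fun x => by
      have h1 := hsγ (γ (e x))
      simp only [MulAut.mul_apply] at h1
      rw [show γ⁻¹ (γ (e x)) = e x from γ.symm_apply_apply _,
        show (MulAut.congr e (τ : MulAut P)) (e x) = e ((τ : MulAut P) x) by simp [MulAut.congr]] at h1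
      have h2 : ∀ y : P, ((γ (e y) : Q) : Ω) = autFn α (g y) := fun y => by
        rw [← hge y y.2]
        show _ = autFn γ (f y)
        rw [← he y, autFn_coe]
      rw [h2, h2] at h1
      have h3 := congrArg (autFn α⁻¹) h1
      have hfi' := fn_autS (F := F) (inv_mem hα)
      rw [autFn_inv_apply α (hg.mem ((τ : MulAut P) x).2),
        hfi'.map_conj hs (autFn_mem α (hg.mem x.2)), autFn_inv_apply α (hg.mem x.2)] at h3
      exact h3
    have hcm : ∀ x ∈ P, s' * g x * s'⁻¹ ∈ img g P := fun x hx => by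
      rw [← hτg ⟨x, hx⟩]
      exact mem_img_of_mem ((τ : MulAut P) ⟨x, hx⟩).2
    have hgE : Fn E P g := hgd.fn hg fun x _ => rfl
    obtain ⟨kE, hkE, hkEg, -⟩ := hgE.exists_inv
    refine (mem_autGroup hP).2 (mem_hom_of_fn ((hgE.comp (fn_conj hgE.img_le_base hs'S)
      fun x hx => mem_img_of_mem hx).comp hkE hcm) fun x => ?_)
    show (((τ : MulAut P) x : P) : Ω) = kE (s' * g x * s'⁻¹)
    rw [← hτg x, hkEg _ ((τ : MulAut P) x).2]
  | one => exact Subgroup.one_mem _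
  | mul a b _ _ ha hb => exact Subgroup.mul_mem _ ha hb
  | inv a _ ha => exact Subgroup.inv_mem _ ha

theorem centric_iff (hEF : E.IsSubsystemOf F) : E.IsCentric P ↔ F.IsCentric P := by
  refine ⟨fun hc => ⟨hc.1, fun Q hQ => ?_⟩, fun hc => ⟨hc.1, fun Q hQ => ?_⟩⟩
  · obtain ⟨f, hf, rfl⟩ := isConj_iff.1 hQ
    obtain ⟨α, hα, g, hg, hgd, hge⟩ := exists_good_decomp hS hF h hf
    have h1 := hc.2 _ (isConj_of_fn (hgd.fn hg fun x _ => rfl))
    intro c hc'
    obtain ⟨hcS, hcc⟩ := mem_centralizerIn.1 hc'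
    have hfi := fn_autS (F := F) (inv_mem hα)
    have hmem : autFn α⁻¹ c ∈ img g P := h1 (mem_centralizerIn.2 ⟨autFn_mem _ hcS, fun y hy => by
      obtain ⟨x, hx, rfl⟩ := hg.mem_img.1 hy
      have := congrArg (autFn α⁻¹) (hcc (f x) (mem_img_of_mem hx))
      rwa [hfi.map_mul (hf.mem hx) hcS, hfi.map_mul hcS (hf.mem hx), hge x hx,
        autFn_inv_apply α (hg.mem hx)] at this⟩)
    obtain ⟨x, hx, hxe⟩ := hg.mem_img.1 hmem
    have := mem_img_of_mem (f := f) hx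
    rwa [hge x hx, hxe, autFn_apply_inv α hcS] at this
  · obtain ⟨φ, hφ, hr⟩ := hQ
    exact hc.2 Q ⟨φ, hEF _ hφ, hr⟩

theorem primeToP_index (hEF : E.IsSubsystemOf F) :
    E.HasPrimeToPIndexIn F p ∧ (∀ (P : Subgroup Ω) (φ : P →* Ω), φ ∈ F.Hom P →
      ∃ α ∈ F.autGroup S, ∃ φ₀ ∈ E.Hom P, ∀ (x : P) (hx : φ₀ x ∈ S), φ x = ((α ⟨φ₀ x, hx⟩ : S) : Ω)) ∧
      ∀ P : Subgroup Ω, E.IsCentric P ↔ F.IsCentric P := by
  refine ⟨⟨hEF, fun P hP => opAut_le hS hF h hP⟩, fun P φ hφ => ?_, fun P => centric_iff hS hF h hEF⟩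
  obtain ⟨α, hα, g, hg, hgd, hge⟩ := exists_good_decomp hS hF h (fn_ofHom hφ)
  obtain ⟨φ₀, hφ₀, hφ₀g⟩ := hgd.fn hg fun x _ => rfl
  refine ⟨α, hα, φ₀, hφ₀, fun x hx => ?_⟩
  rw [← ofHom_coe φ x, hge x x.2, ← autFn_coe α ⟨φ₀ x, hx⟩]
  exact congrArg (autFn α) (hφ₀g x).symm

end CfsgLib.Fsys
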