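import Cfsg.Agent.Lib.FusionSystem.Generation
import Cfsg.Agent.Lib.FusionSystem.GroupNormal
import Cfsg.Agent.Lib.Fusion.Transfer
/-
The hyperfocal subgroup theorem and the fusion system of `O^p(G)`.
-/
set_option autoImplicit false

namespace CfsgLib.Fsys

open Cfsg
open CfsgLib.LocalEven.SylowIn (IsSylowIn)
open scoped commutatorElement

section Uniqueness

variable {Ω : Type*} [Group Ω] {S : Subgroup Ω} {F : FusionSystem S} {T : Subgroup Ω}
variable {p : ℕ} [Fact p.Prime]

theorem autGroup_mono' {E : FusionSystem T} (h : E.IsSubsystemOf F) (P : Subgroup Ω) :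
    E.autGroup P ≤ F.autGroup P :=
  (Subgroup.closure_le _).2 fun _ hα => Subgroup.subset_closure (h P hα)

/-- A saturated subsystem lies in every system that contains all the `O^p` of the automizers. -/
theorem le_of_pResidual [Finite T] {E D : FusionSystem T} (hT : IsPGroup p T) (hE : E.IsSaturated p)
    (hEF : E.IsSubsystemOf F)
    (hD : ∀ P : Subgroup Ω, P ≤ T → (pResidual p (F.autGroup P)).map (F.autGroup P).subtype ≤ D.autGroup P) :
    E ≤ D := by
  have hstep : ∀ P, E.IsFullyAutomized p P → E.autGroup P ≤ D.autGroup P := by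
    intro P hA α hα
    obtain ⟨β, hβ, γ, hγ, rfl⟩ := exists_residual_decomp hT hE hA hα
    exact Subgroup.mul_mem _
      (hD P hA.1 (CfsgLib.Fusion.Basic.pResidual_map_subtype_mono (autGroup_mono' hEF P) ⟨β, hβ, rfl⟩))
      (autInducedBy_le_autGroup hA.1 hγ)
  exact le_of_automizers hT hE D (hstep T (fullyAutomized_top hE))
    fun P _ hP _ => hstep P (fullyNormalized_good hT hE hP).1

end Uniqueness

variable {G : Type*} [Group G] [Finite G] {p : ℕ} [Fact p.Prime] {T : Sylow p G}

/-- `O^p` of an automizer is induced by elements of `O^p(G)`. -/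
theorem exists_of_pResidual_aut {P : Subgroup G} (hP : P ≤ T) {α : MulAut P}
    (hα : α ∈ (pResidual p ((groupFusionSystem (T : Subgroup G)).autGroup P)).map
      ((groupFusionSystem (T : Subgroup G)).autGroup P).subtype) :
    ∃ g ∈ pResidual p G, ∀ x : P, ((α x : P) : G) = g * (x : G) * g⁻¹ := by
  have he : (groupFusionSystem (T : Subgroup G)).autGroup P ≤ P.normalizerMonoidHom.range :=
    ((group_autGroup hP).trans (autInducedBy_top P)).le
  obtain ⟨a, ha, rfl⟩ := CfsgLib.Fusion.Basic.pResidual_map_subtype_mono he hα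
  rw [← CfsgLib.Fusion.Basic.map_pResidual_eq _ P.normalizerMonoidHom.rangeRestrict_surjective] at ha
  obtain ⟨g, hg, rfl⟩ := ha
  exact ⟨g, CfsgLib.Fusion.Basic.pResidual_map_subtype_le _ ⟨g, hg, rfl⟩, fun x => rfl⟩

theorem isSylowIn_residual : IsSylowIn p ((T : Subgroup G) ⊓ pResidual p G) (pResidual p G) :=
  isSylowIn_inf ((exists_sylow_iff le_top).1 ⟨T.subtype le_top, Sylow.coe_subtype ..⟩) le_top
    fun g _ => Subgroup.mem_normalizer_iff.2 fun x =>
      ⟨fun hx => Subgroup.Normal.conj_mem inferInstance x hx g, fun hx => by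
        have := Subgroup.Normal.conj_mem (inferInstance : (pResidual p G).Normal) _ hx g⁻¹
        simpa [mul_assoc] using this⟩

theorem group_hyperfocal_le :
    (groupFusionSystem (T : Subgroup G)).hyperfocalSubgroup p ≤ (T : Subgroup G) ⊓ pResidual p G := by
  refine (Subgroup.closure_le _).2 ?_
  rintro _ ⟨P, α, x, hP, hα, rfl⟩
  obtain ⟨g, hg, hgα⟩ := exists_of_pResidual_aut hP ⟨α, hα, rfl⟩
  refine ⟨Subgroup.mul_mem _ (Subgroup.inv_mem _ (hP x.2)) (hP ((α : MulAut P) x).2), ?_⟩
  show (x : G)⁻¹ * _ ∈ pResidual p G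
  rw [show (((α : MulAut P) x : P) : G) = g * x * g⁻¹ from hgα x, ← mul_assoc, ← mul_assoc]
  exact Subgroup.mul_mem _
    (by simpa using Subgroup.Normal.conj_mem (inferInstance : (pResidual p G).Normal) g hg (x : G)⁻¹)
    (Subgroup.inv_mem _ hg)

/-- In a group generated by its elements of order prime to `p`, every `p`-subgroup lies in the derived subgroup. -/
theorem le_commutator_of_pResidual_top {K : Type*} [Group K] [Finite K] (hK : pResidual p K = ⊤)
    {R : Subgroup K} (hR : IsPGroup p R) : R ≤ commutator K := by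
  let C : Subgroup (Abelianization K) :=
    { carrier := {a | Nat.Coprime (orderOf a) p}
      one_mem' := by simp
      mul_mem' := fun {a b} ha hb =>
        Nat.Coprime.coprime_dvd_left ((Commute.all a b).orderOf_mul_dvd_mul_orderOf)
          (Nat.Coprime.mul_left ha hb)
      inv_mem' := fun {a} ha => by simpa using ha }
  have htop : (pResidual p K).map Abelianization.of ≤ C := by
    rw [Subgroup.map_le_iff_le_comap]
    exact (Subgroup.closure_le _).2 fun a ha => Nat.Coprime.coprime_dvd_left (orderOf_map_dvd _ a) ha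
  intro x hx
  rw [← Abelianization.ker_of, MonoidHom.mem_ker]
  obtain ⟨k, hk⟩ := hR ⟨x, hx⟩
  have hk' : (Abelianization.of x) ^ p ^ k = 1 := by
    rw [← map_pow, show x ^ p ^ k = 1 from congrArg Subtype.val hk, map_one]
  exact orderOf_eq_one_iff.1 (Nat.eq_one_of_dvd_coprimes
    ((htop ⟨x, hK.ge (Subgroup.mem_top x), rfl⟩ : Nat.Coprime _ p).pow_right k) dvd_rfl
    (orderOf_dvd_of_pow_eq_one hk'))

/-- The hyperfocal subgroup theorem. -/
theorem group_hyperfocal_eq :
    (groupFusionSystem (T : Subgroup G)).hyperfocalSubgroup p = (T : Subgroup G) ⊓ pResidual p G := by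
  refine le_antisymm group_hyperfocal_le ?_
  set K := pResidual p G with hKdef
  set F := groupFusionSystem (T : Subgroup G)
  set H := F.hyperfocalSubgroup p
  have hTs : IsSylowIn p ((T : Subgroup G) ⊓ K) K := isSylowIn_residual
  set TK := (T : Subgroup G) ⊓ K
  let FK := fusionSystemOfSubgroup K TK hTs.1
  have hTKp : IsPGroup p TK := T.2.to_le inf_le_left
  have hsat : FK.IsSaturated p := subgroupSystem_saturated hTs
  have hsub : FK.IsSubsystemOf F := fun P φ ⟨hP, hφ, g, _, hg⟩ =>
    ⟨hP.trans inf_le_left, fun x => (hφ x).1, g, hg⟩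
  have hhyp : FK.hyperfocalSubgroup p ≤ H := by
    refine (Subgroup.closure_le _).2 ?_
    rintro _ ⟨P, α, x, hP, hα, rfl⟩
    obtain ⟨β, hβ, hβe⟩ :=
      CfsgLib.Fusion.Basic.pResidual_map_subtype_mono (autGroup_mono' hsub P) ⟨α, hα, rfl⟩
    refine Subgroup.subset_closure ⟨P, β, x, hP.trans inf_le_left, hβ, ?_⟩
    rw [show (β : MulAut P) = (α : MulAut P) from hβe]
  -- the focal subgroup of `O^p(G)` is the whole Sylow subgroup
  have hfoc : TK ≤ FK.focalSubgroup := by
    obtain ⟨R, hR⟩ := (exists_sylow_iff hTs.1).2 hTs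
    have h1 : (R : Subgroup K) ≤ commutator K ⊓ (R : Subgroup K) :=
      le_inf (le_commutator_of_pResidual_top CfsgLib.Fusion.Basic.pResidual_pResidual R.2) le_rfl
    rw [Subgroup.commutator_inf_eq_focalSubgroup R, Subgroup.focalSubgroup_def] at h1
    have h2 : (R : Subgroup K).map K.subtype = TK := by
      rw [hR, Subgroup.map_subgroupOf_eq_of_le hTs.1]
    refine h2.symm.le.trans (Subgroup.map_le_iff_le_comap.2 ?_)
    refine h1.trans ((Subgroup.closure_le _).2 ?_)
    rintro _ ⟨hz, x, hx, u, rfl⟩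
    have hxT : (x : G) ∈ TK := h2.le ⟨x, hx, rfl⟩
    have hzT : ((⁅x, u⁆ : K) : G) ∈ TK := h2.le ⟨_, hz, rfl⟩
    have hc : (u : G) * (x : G)⁻¹ * (u : G)⁻¹ = (x : G)⁻¹ * ((⁅x, u⁆ : K) : G) := by
      simp [commutatorElement_def, mul_assoc]
    have hcT : (u : G) * (x : G)⁻¹ * (u : G)⁻¹ ∈ TK := hc ▸ TK.mul_mem (TK.inv_mem hxT) hzT
    have hle : Subgroup.zpowers (x : G)⁻¹ ≤ TK := Subgroup.zpowers_le.2 (TK.inv_mem hxT)
    refine Subgroup.subset_closure ⟨Subgroup.zpowers (x : G)⁻¹, conjHom _ (u : G), ⟨(x : G)⁻¹,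
      Subgroup.mem_zpowers _⟩, ⟨hle, fun y => ?_, u, u.2, fun y => rfl⟩, ?_⟩
    · obtain ⟨_, k, rfl⟩ := y
      show (u : G) * ((x : G)⁻¹) ^ k * (u : G)⁻¹ ∈ TK
      rw [← conj_zpow]
      exact TK.zpow_mem hcT k
    · show _ = ((x : G)⁻¹)⁻¹ * ((u : G) * (x : G)⁻¹ * (u : G)⁻¹)
      rw [hc, inv_inv, mul_inv_cancel_left]
      rfl
  have hle : TK ≤ H ⊔ ⁅TK, TK⁆ :=
    hfoc.trans ((focal_eq_hyperfocal_sup hTKp hsat).le.trans (sup_le_sup hhyp le_rfl))
  -- nilpotence
  have hHT : H ≤ (T : Subgroup G) := group_hyperfocal_le.trans inf_le_left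
  let U := (T : Subgroup G)
  have : Group.IsNilpotent U := T.2.isNilpotent
  have : (H.subgroupOf U).Normal :=
    ⟨fun h hh t => hyperfocal_conj T.2 t.2 hh⟩
  have hnil := CfsgLib.Fusion.Basic.le_of_le_commutator_sup (R := TK.subgroupOf U) (S := H.subgroupOf U) ?_
  · intro x hx
    exact hnil (show (⟨x, hx.1⟩ : U) ∈ TK.subgroupOf U from hx)
  · rw [← Subgroup.map_subtype_le_map_subtype, Subgroup.map_sup, Subgroup.map_commutator,
      Subgroup.map_subgroupOf_eq_of_le inf_le_left, Subgroup.map_subgroupOf_eq_of_le hHT,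
      ← MonoidHom.range_eq_map, Subgroup.range_subtype, sup_comm]
    exact hle.trans (sup_le_sup le_rfl (Subgroup.commutator_mono le_rfl inf_le_left))

/-- The saturated subsystem of `p`-power index over `T ∩ O^p(G)` is the system of `O^p(G)`. -/
theorem pResidual_system_eq {E : FusionSystem ((T : Subgroup G) ⊓ pResidual p G)}
    (hE : E.IsSaturated p)
    (hidx : E.HasPPowerIndexIn (groupFusionSystem (T : Subgroup G)) p) (P : Subgroup G) :
    E.Hom P = (fusionSystemOfSubgroup (pResidual p G) ((T : Subgroup G) ⊓ pResidual p G) inf_le_right).Hom P := by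
  have hTs : IsSylowIn p ((T : Subgroup G) ⊓ pResidual p G) (pResidual p G) := isSylowIn_residual
  set D := fusionSystemOfSubgroup (pResidual p G) ((T : Subgroup G) ⊓ pResidual p G) inf_le_right
  have hTKp : IsPGroup p ↥((T : Subgroup G) ⊓ pResidual p G) := T.2.to_le inf_le_left
  have hD : D.IsSubsystemOf (groupFusionSystem (T : Subgroup G)) := fun P φ ⟨hP, hφ, g, _, hg⟩ =>
    ⟨hP.trans inf_le_left, fun x => (hφ x).1, g, hg⟩
  have h1 : E ≤ D := le_of_pResidual hTKp hE hidx.1 fun Q hQ α hα => by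
    obtain ⟨g, hg, hgα⟩ := exists_of_pResidual_aut (hQ.trans inf_le_left) hα
    exact (mem_autGroup hQ).2 ⟨hQ, fun x => hQ (α x).2, g, hg, hgα⟩
  have h2 : D ≤ E := le_of_pResidual hTKp (subgroupSystem_saturated hTs) hD hidx.2.2
  exact Set.Subset.antisymm (h1 P) (h2 P)

end CfsgLib.Fsys
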