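import Cfsg.Agent.Lib.FusionSystem.PPrimeResidual
import Cfsg.Agent.Lib.FusionSystem.Hyperfocal
import Cfsg.Agent.Lib.FusionSystem.NilpotencyCriterion
import Cfsg.Agent.Lib.FusionSystem.Inner

/-! Weakly normal subsystems: centric subgroups, transport of automorphisms, `p`-elements of the automizers. -/

set_option autoImplicit false

namespace CfsgLib.Fsys.WNR

open Cfsg Cfsg.FusionSystem
open Cfsg.FusionSystem (centralizerIn normalizerIn)

variable {Ω : Type*} [Group Ω] {S T : Subgroup Ω} {F : FusionSystem S} {E : FusionSystem T} {Y Q : Subgroup Ω}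

/-- Conjugation in `F` keeps subgroups centric in an invariant subsystem centric. -/
theorem centric_img (hE : E.IsInvariantIn F) (hY : E.IsCentric Y) {f : Ω → Ω} (hf : Fn F Y f) :
    E.IsCentric (img f Y) := by
  have hTS := hE.2.1.1
  obtain ⟨α, hα, e, he, hfe⟩ := Invariant.frattini hE hY.1 hf
  have hfT : img f Y ≤ T := img_le fun x hx => hfe x hx ▸ autFn_mem α (he.mem hx)
  refine ⟨hfT, fun R hR => ?_⟩
  obtain ⟨g, hg, rfl⟩ := isConj_iff.1 hR
  obtain ⟨χ, hχ, hχe⟩ := Invariant.aut hE hfT hg (inv_mem hα)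
  have hi : img (autFn α⁻¹) (img f Y) = img e Y := by
    rw [← hf.img_comp]
    exact img_congr fun x hx => by
      show autFn α⁻¹ (f x) = e x
      rw [hfe x hx, autFn_inv_apply α (he.mem hx)]
  rw [hi] at hχ
  have hχy : ∀ y ∈ Y, χ (e y) = autFn α⁻¹ (g (f y)) := fun y hy => by
    have h2 := hχe _ (mem_img_of_mem hy)
    rwa [hfe y hy, autFn_inv_apply α (he.mem hy), ← hfe y hy] at h2
  have h1 := hY.2 _ (isConj_trans (isConj_of_fn he) (isConj_of_fn hχ))
  intro c hc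
  obtain ⟨hcT, hcc⟩ := mem_centralizerIn.1 hc
  have hai := (mem_autGroup_iff_fn hTS).1 (inv_mem hα)
  have hmem : autFn α⁻¹ c ∈ img χ (img e Y) := h1 (mem_centralizerIn.2 ⟨autFn_mem _ hcT, fun z hz => by
    obtain ⟨w, hw, rfl⟩ := hχ.mem_img.1 hz
    obtain ⟨y, hy, rfl⟩ := he.mem_img.1 hw
    have hfy : f y ∈ img f Y := mem_img_of_mem hy
    have h := congrArg (autFn α⁻¹) (hcc (g (f y)) (mem_img_of_mem hfy))
    rw [hai.map_mul (hg.mem hfy) hcT, hai.map_mul hcT (hg.mem hfy)] at h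
    rwa [hχy y hy]⟩)
  obtain ⟨w, hw, hwc⟩ := hχ.mem_img.1 hmem
  obtain ⟨y, hy, rfl⟩ := he.mem_img.1 hw
  rw [hχy y hy] at hwc
  have h := congrArg (autFn α) hwc
  rw [autFn_apply_inv α (hg.mem (mem_img_of_mem hy)), autFn_apply_inv α hcT] at h
  exact h ▸ mem_img_of_mem (mem_img_of_mem hy)

/-- An element of `T` centralizing a centric subgroup lies in it. -/
theorem mem_of_commute (hY : E.IsCentric Y) {x : Ω} (hx : x ∈ T) (hc : ∀ y ∈ Y, y * x = x * y) : x ∈ Y :=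
  hY.2 Y (isConj_refl hY.1) (mem_centralizerIn.2 ⟨hx, hc⟩)

/-- Centric subgroups of an invariant system are centric in every other invariant system over the same subgroup. -/
theorem centric_of_invariant {E' : FusionSystem T} (hE : E.IsInvariantIn F) (hE' : E'.IsSubsystemOf F)
    (hY : E.IsCentric Y) : E'.IsCentric Y := by
  refine ⟨hY.1, fun R hR => ?_⟩
  obtain ⟨g, hg, rfl⟩ := isConj_iff.1 hR
  have h := centric_img hE hY (Fn.of_subsystem hE' hg)
  exact h.2 _ (isConj_refl h.1)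

theorem centric_top [Finite T] (E : FusionSystem T) : E.IsCentric T :=
  ⟨le_rfl, fun R hR => by
    rw [eq_of_le_of_card le_rfl (isConj_le_right hR) (isConj_card hR).ge]
    exact inf_le_left⟩

/-- Transport of automorphisms along maps of `F`. -/
theorem congr_mem (hE : E.IsInvariantIn F) (hY : Y ≤ T) {f : Ω → Ω} (hf : Fn F Y f) (hi : img f Y = Q)
    (e : Y ≃* Q) (he : ∀ x : Y, ((e x : Q) : Ω) = f x) {τ : MulAut Y} (hτ : τ ∈ E.autGroup Y) :
    MulAut.congr e τ ∈ E.autGroup Q := by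
  obtain ⟨χ, hχ, hχe⟩ := Invariant.strong hE hY hf le_rfl ((mem_autGroup_iff_fn hY).1 hτ)
    fun x hx => autFn_mem τ hx
  rw [hi] at hχ
  refine (mem_autGroup_iff_fn hχ.le).2 (hχ.congr fun y hy => ?_)
  obtain ⟨x, hx, rfl⟩ := hf.mem_img.1 (hi.ge hy)
  rw [hχe x hx]
  lift x to Y using hx
  simp [← he, MulAut.congr]

/-- An automorphism fixing `Y` pointwise and moving elements within their cosets of `Y`. -/
theorem pow_apply {W : Subgroup Ω} (hYW : Y ≤ W) {b : MulAut W}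
    (hfix : ∀ y ∈ Y, autFn b y = y) {w : Ω} (hw : w ∈ W) {z : Ω} (hz : z ∈ Y)
    (hb : autFn b w = w * z) (j : ℕ) : autFn (b ^ j) w = w * z ^ j := by
  induction j with
  | zero => simp [autFn_id hw]
  | succ j ih =>
    have hzj : z ^ j ∈ Y := Y.pow_mem hz j
    have hm : ∀ {u v : Ω}, u ∈ W → v ∈ W → autFn b (u * v) = autFn b u * autFn b v := fun {u v} hu hv => by
      lift u to W using hu
      lift v to W using hv
      rw [← Subgroup.coe_mul, autFn_coe, autFn_coe, autFn_coe, map_mul, Subgroup.coe_mul]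
    rw [pow_succ', autFn_mul _ _ hw, ih, hm hw (hYW hzj), hb, hfix _ hzj, mul_assoc, ← pow_succ']

/-- Such an automorphism has order dividing the order of `Y`. -/
theorem pow_card_eq_one_of_fix {W : Subgroup Ω} (hYW : Y ≤ W) {b : MulAut W}
    (hfix : ∀ y ∈ Y, autFn b y = y) (hb : ∀ w ∈ W, w⁻¹ * autFn b w ∈ Y) : b ^ Nat.card Y = 1 := by
  refine mulAut_ext fun w hw => ?_
  rw [pow_apply hYW hfix hw (hb w hw) (mul_inv_cancel_left w _).symm, autFn_id hw]
  have h : (⟨w⁻¹ * autFn b w, hb w hw⟩ : Y) ^ Nat.card Y = 1 := pow_card_eq_one'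
  rw [show (w⁻¹ * autFn b w) ^ Nat.card Y = 1 from congrArg Subtype.val h, mul_one]

variable {p : ℕ} [Fact p.Prime]

/-- An exponent killing `p`-parts and fixing elements of order prime to `p`. -/
theorem exists_exponent (K : ℕ) {m : ℕ} (hm : 0 < m) :
    ∃ q r k : ℕ, m = p ^ k * r ∧ Nat.Coprime r p ∧ p ^ K ∣ q ∧ p ^ k ∣ q ∧ q ≡ 1 [MOD r] := by
  obtain ⟨k, r, hr, rfl⟩ := Nat.exists_eq_pow_mul_and_not_dvd hm.ne' p (Fact.out : p.Prime).ne_one
  have hrc : Nat.Coprime r p := ((Fact.out : p.Prime).coprime_iff_not_dvd.2 hr).symm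
  obtain ⟨q, hq0, hq1⟩ := Nat.chineseRemainder (hrc.pow_right (K + k)).symm 0 1
  exact ⟨q, r, k, rfl, hrc, (pow_dvd_pow p (Nat.le_add_right K k)).trans (Nat.modEq_zero_iff_dvd.1 hq0),
    (pow_dvd_pow p (Nat.le_add_left k K)).trans (Nat.modEq_zero_iff_dvd.1 hq0), hq1⟩

theorem pow_eq_self {G : Type*} [Monoid G] {x : G} {q r : ℕ} (hx : x ^ r = 1) (hq : q ≡ 1 [MOD r]) : x ^ q = x := by
  simpa using pow_eq_pow_of_modEq hq hx

omit [Fact p.Prime] in
theorem coprime_orderOf_pow {G : Type*} [Monoid G] {x : G} {m q r k : ℕ} (hm : m = p ^ k * r)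
    (hr : Nat.Coprime r p) (hq : p ^ k ∣ q) (hx : x ^ m = 1) : Nat.Coprime (orderOf (x ^ q)) p := by
  refine Nat.Coprime.coprime_dvd_left (orderOf_dvd_of_pow_eq_one ?_) hr
  obtain ⟨j, rfl⟩ := hq
  rw [← pow_mul, show p ^ k * j * r = m * j by rw [hm]; ring, pow_mul, hx, one_pow]

variable [Finite S]

/-- The `p`-elements of the automizers are common to all weakly normal systems over `T`. -/
theorem pElement_mem (hS : IsPGroup p S) {E₁ E₂ : FusionSystem T} (h₁ : E₁.IsWeaklyNormalIn F p)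
    (h₂ : E₂.IsInvariantIn F) (hY : Y ≤ T) {τ : MulAut Y} (hτ : τ ∈ E₁.autGroup Y) {k : ℕ}
    (hk : τ ^ p ^ k = 1) : τ ∈ E₂.autGroup Y := by
  obtain ⟨h₁s, hF, h₁i⟩ := h₁
  have hT := h₁i.2.1
  haveI := finite_of_le_base hT.1
  obtain ⟨Q, hYQ, hQ⟩ := exists_fullyNormalized (F := F) (hY.trans hT.1)
  obtain ⟨f, hf, hi⟩ := isConj_iff.1 hYQ
  have hQT : Q ≤ T := hi ▸ img_le fun x hx => sc_apply hT hf hx (hY hx)
  obtain ⟨hA, -⟩ := fullyNormalized_good (hS.to_le hT.1) h₁s (fullyNormalized_sub hS hF hT h₁i.1 hQT hQ)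
  haveI := finite_of_le_base hQ.1
  obtain ⟨e, he, -⟩ := exists_transport hf.le hf hi
  have hτ' := congr_mem h₁i hY hf hi e he hτ
  obtain ⟨γ, hγ, hγτ⟩ := exists_conj_into (hS.to_le hT.1) hA (Subgroup.zpowers_le.2 hτ')
    (by
      rintro ⟨x, hx⟩
      obtain ⟨j, rfl⟩ := Subgroup.mem_zpowers_iff.1 hx
      refine ⟨k, Subtype.ext ?_⟩
      show (MulAut.congr e τ ^ j) ^ p ^ k = 1
      rw [← zpow_natCast _ (p ^ k), ← zpow_mul, mul_comm, zpow_mul, zpow_natCast, ← map_pow, hk, map_one, one_zpow])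
  have hx := autInducedBy_le_autGroup (F := E₂) hQT (hγτ _ (Subgroup.mem_zpowers _))
  have hτ₂ := Invariant.conj_mem h₂ hQT (autGroup_mono' h₁i.1 Q (inv_mem hγ)) hx
  simp only [mul_assoc, inv_mul_cancel_left, inv_inv, inv_mul_cancel, mul_one] at hτ₂
  obtain ⟨g, hg, hgf, hgi⟩ := hf.exists_inv
  rw [hi] at hg hgi
  have h := congr_mem h₂ hQT hg hgi e.symm (fun y => by
    obtain ⟨x, rfl⟩ := e.surjective y
    rw [MulEquiv.symm_apply_apply, he, hgf x x.2]) hτ₂
  have heq : MulAut.congr e.symm (MulAut.congr e τ) = τ := MulEquiv.ext fun x => by simp [MulAut.congr]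
  rwa [heq] at h

theorem opAut_le_of_weaklyNormal (hS : IsPGroup p S) {E₁ E₂ : FusionSystem T} (h₁ : E₁.IsWeaklyNormalIn F p)
    (h₂ : E₂.IsInvariantIn F) (hY : Y ≤ T) : opAut p E₁ Y ≤ E₂.autGroup Y := by
  rw [opAut, Subgroup.map_le_iff_le_comap, Subgroup.closure_le]
  rintro t ⟨k, hk⟩
  exact pElement_mem hS h₁ h₂ hY t.2 (k := k) (by
    show (t : MulAut Y) ^ p ^ k = 1
    rw [← SubmonoidClass.coe_pow, ← hk, pow_orderOf_eq_one]
    rfl)

end CfsgLib.Fsys.WNR
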