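import Cfsg.Agent.Lib.FusionSystem.FactorSaturated
import Cfsg.Agent.Lib.FusionSystem.WeakNormalCore
import Cfsg.Agent.Lib.FusionSystem.PrimeToPIndex
import Cfsg.Agent.Lib.FusionSystem.CentralTransfer

/-! A subsystem normal in a factor system by a central subgroup: first facts about preimages. -/

set_option autoImplicit false

namespace CfsgLib.Fsys.Lift

open Cfsg Cfsg.FusionSystem
open Cfsg.FusionSystem (centralizerIn normalizerIn imageAlong preimageAlong)

variable {Ω : Type*} [Group Ω] {S : Subgroup Ω}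
variable {Ω' : Type*} [Group Ω'] {S' T' : Subgroup Ω'}

/-- A subsystem `D` normal in the factor system `E` of `F` by the central subgroup `Z`. -/
structure Data (p : ℕ) (F : FusionSystem S) (Z : Subgroup Ω) (θ : S →* Ω') (E : FusionSystem S')
    (D : FusionSystem T') : Prop where
  hS : IsPGroup p S
  hF : F.IsSaturated p
  hZ : F.IsCentral Z
  hE : F.IsFactorSystem Z θ E
  hD : D.IsNormalIn E p

variable {p : ℕ} {F : FusionSystem S} {Z : Subgroup Ω} {θ : S →* Ω'} {E : FusionSystem S'}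
variable {D : FusionSystem T'} {P Q R : Subgroup Ω} {f g : Ω → Ω} {x y : Ω}

/-- The preimage of the base of `D`. -/
abbrev base (θ : S →* Ω') (T' : Subgroup Ω') : Subgroup Ω := preimageAlong θ T'

/-- An automorphism inducing the identity on the image. -/
def Triv (θ : S →* Ω') (P : Subgroup Ω) (a : MulAut P) : Prop := ∀ x ∈ P, th θ (autFn a x) = th θ x

namespace Data

variable [Fact p.Prime] [Finite S] (h : Data p F Z θ E D)
include h

omit [Fact p.Prime] [Finite S] in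
theorem zS : Z ≤ S := h.hE.1

omit [Fact p.Prime] [Finite S] in
theorem range : θ.range = S' := h.hE.2.2.1

omit [Fact p.Prime] [Finite S] in
theorem th_one_iff (hx : x ∈ S) : th θ x = 1 ↔ x ∈ Z := factor_ker h.hE hx

omit [Fact p.Prime] [Finite S] in
theorem fn_fix (hf : Fn F P f) (hxP : x ∈ P) (hxZ : x ∈ Z) : f x = x := by
  obtain ⟨g, -, he, hfix⟩ := (central_iff_fn.1 h.hZ).2 P f hf
  rw [← he x hxP, hfix x hxZ]

omit [Fact p.Prime] [Finite S] in
theorem z_closed : F.StronglyClosed Z :=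
  stronglyClosed_iff_fn.2 ⟨h.zS, fun _ _ hf _ hx hxZ => (h.fn_fix hf hx hxZ).symm ▸ hxZ⟩

omit [Fact p.Prime] [Finite S] in
theorem z_comm (hs : x ∈ S) (hz : y ∈ Z) : x * y = y * x := by
  have := h.fn_fix (fn_conj (F := F) le_rfl hs) (h.zS hz) hz
  exact mul_inv_eq_iff_eq_mul.1 this

theorem surj : F.IsSurjectiveMorphism E θ := factor_surjectiveMorphism h.hS h.hF h.z_closed h.hE

theorem finite' : Finite S' := finite_target h.surj

omit [Finite S] in
theorem pgroup' : IsPGroup p S' :=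
  h.range ▸ h.hS.of_surjective θ.rangeRestrict θ.rangeRestrict_surjective

omit [Fact p.Prime] [Finite S] in
theorem satE : E.IsSaturated p := h.hD.1.2.1

omit [Fact p.Prime] [Finite S] in
theorem satD : D.IsSaturated p := h.hD.1.1

omit [Fact p.Prime] [Finite S] in
theorem inv : D.IsInvariantIn E := h.hD.1.2.2

omit [Fact p.Prime] [Finite S] in
theorem scT' : E.StronglyClosed T' := h.inv.2.1

omit [Fact p.Prime] [Finite S] in
theorem leT' : T' ≤ S' := h.scT'.1

omit [Fact p.Prime] [Finite S] in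
theorem base_le : base θ T' ≤ S := preimageAlong_le

omit [Fact p.Prime] [Finite S] in
theorem z_le_base : Z ≤ base θ T' := fun _ hz =>
  mem_preimageAlong.2 ⟨h.zS hz, ((h.th_one_iff (h.zS hz)).2 hz).symm ▸ T'.one_mem⟩

omit [Fact p.Prime] [Finite S] in
theorem th_mem' (hx : x ∈ S) : th θ x ∈ S' := h.range ▸ th_mem_range hx

theorem exists_image (hf : Fn F P f) :
    ∃ f', Fn E (imageAlong θ P) f' ∧ ∀ x ∈ P, f' (th θ x) = th θ (f x) := morphism_fn h.surj.1 hf

theorem sc_base : F.StronglyClosed (base θ T') := by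
  refine stronglyClosed_iff_fn.2 ⟨h.base_le, fun P f hf x hx hxT => ?_⟩
  obtain ⟨f', hf', he⟩ := h.exists_image hf
  refine mem_preimageAlong.2 ⟨hf.mem hx, ?_⟩
  rw [← he x hx]
  exact (stronglyClosed_iff_fn.1 h.scT').2 _ _ hf' _ (th_mem_imageAlong hx (hf.le hx))
    (mem_preimageAlong.1 hxT).2

omit [Fact p.Prime] [Finite S] in
theorem preimage_image (hZP : Z ≤ P) (hP : P ≤ S) : preimageAlong θ (imageAlong θ P) = P := by
  refine le_antisymm (fun z hz => ?_) (le_preimageAlong hP)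
  obtain ⟨hzS, hz'⟩ := mem_preimageAlong.1 hz
  obtain ⟨x, hx, hxS, hxz⟩ := mem_imageAlong.1 hz'
  have h1 := (h.th_one_iff (S.mul_mem hzS (S.inv_mem hxS))).1 ((th_eq_iff hzS hxS).1 hxz.symm)
  simpa using P.mul_mem (hZP h1) hx

omit [Fact p.Prime] [Finite S] in
theorem mem_of_th_mem (hZP : Z ≤ P) (hP : P ≤ S) (hx : x ∈ S) (hm : th θ x ∈ imageAlong θ P) : x ∈ P := by
  rw [← h.preimage_image hZP hP]
  exact mem_preimageAlong.2 ⟨hx, hm⟩

omit [Fact p.Prime] [Finite S] in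
theorem image_preimage {P' : Subgroup Ω'} (hP' : P' ≤ S') : imageAlong θ (preimageAlong θ P') = P' :=
  imageAlong_preimageAlong (h.range.symm ▸ hP')

omit [Fact p.Prime] [Finite S] in
theorem z_le_preimage (P' : Subgroup Ω') : Z ≤ preimageAlong θ P' := fun _ hz =>
  mem_preimageAlong.2 ⟨h.zS hz, ((h.th_one_iff (h.zS hz)).2 hz).symm ▸ P'.one_mem⟩

omit [Fact p.Prime] [Finite S] in
theorem preimage_le_base {P' : Subgroup Ω'} (hP' : P' ≤ T') : preimageAlong θ P' ≤ base θ T' := fun _ hx =>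
  mem_preimageAlong.2 ⟨(mem_preimageAlong.1 hx).1, hP' (mem_preimageAlong.1 hx).2⟩

omit [Fact p.Prime] [Finite S] in
theorem image_le_T' (hP : P ≤ base θ T') : imageAlong θ P ≤ T' := fun y hy => by
  obtain ⟨x, hx, -, rfl⟩ := mem_imageAlong.1 hy
  exact (mem_preimageAlong.1 (hP hx)).2

omit [Fact p.Prime] [Finite S] in
theorem image_base : imageAlong θ (base θ T') = T' := h.image_preimage h.leT'

omit [Fact p.Prime] [Finite S] in
theorem z_le_img (hf : Fn F P f) (hZP : Z ≤ P) : Z ≤ img f P := fun z hz =>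
  h.fn_fix hf (hZP hz) hz ▸ mem_img_of_mem (hZP hz)

omit [Fact p.Prime] [Finite S] h in
theorem image_img (hf : Fn F P f) {f' : Ω' → Ω'} (hf' : Fn E (imageAlong θ P) f')
    (he : ∀ x ∈ P, f' (th θ x) = th θ (f x)) :
    imageAlong θ (img f P) = img f' (imageAlong θ P) := by
  refine le_antisymm (fun y hy => ?_) (img_le fun y hy => ?_)
  · obtain ⟨x, hx, -, rfl⟩ := mem_imageAlong.1 hy
    obtain ⟨u, hu, rfl⟩ := hf.mem_img.1 hx
    rw [← he u hu]
    exact mem_img_of_mem (th_mem_imageAlong hu (hf.le hu))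
  · obtain ⟨x, hx, hxS, rfl⟩ := mem_imageAlong.1 hy
    rw [he x hx]
    exact th_mem_imageAlong (mem_img_of_mem hx) (hf.mem hx)

theorem exists_lift {P' : Subgroup Ω'} {f' : Ω' → Ω'} (hf : Fn E P' f') :
    ∃ f : Ω → Ω, Fn F (preimageAlong θ P') f ∧ ∀ x ∈ preimageAlong θ P', f' (th θ x) = th θ (f x) :=
  surjective_fn h.surj hf

omit [Fact p.Prime] [Finite S] in
theorem triv_div {a : MulAut P} (hP : P ≤ S) (ha : Triv θ P a) (hx : x ∈ P) : x⁻¹ * autFn a x ∈ Z := by
  have hy := hP (autFn_mem a hx)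
  refine (h.th_one_iff (S.mul_mem (S.inv_mem (hP hx)) hy)).1 ?_
  rw [th_mul (S.inv_mem (hP hx)) hy, th_inv (hP hx), ha x hx, inv_mul_cancel]

omit [Fact p.Prime] [Finite S] in
theorem triv_apply {a b : MulAut P} (hZP : Z ≤ P) (hP : P ≤ S) (ha : Triv θ P a) (hb : b ∈ F.autGroup P)
    (hx : x ∈ P) : autFn b (autFn a x) = autFn b x * (x⁻¹ * autFn a x) := by
  have hbf := (mem_autGroup_iff_fn hP).1 hb
  have hz := h.triv_div hP ha hx
  conv_lhs => rw [show autFn a x = x * (x⁻¹ * autFn a x) from (mul_inv_cancel_left _ _).symm,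
    hbf.map_mul hx (hZP hz), h.fn_fix hbf (hZP hz) hz]

omit [Fact p.Prime] [Finite S] in
theorem triv_comm {a b : MulAut P} (hZP : Z ≤ P) (hP : P ≤ S) (haF : a ∈ F.autGroup P)
    (hbF : b ∈ F.autGroup P) (ha : Triv θ P a) (hb : Triv θ P b) : a * b = b * a := by
  refine mulAut_ext fun x hx => ?_
  have hu := h.triv_div hP ha hx
  have hv := h.triv_div hP hb hx
  rw [autFn_mul _ _ hx, autFn_mul _ _ hx, h.triv_apply hZP hP hb haF hx, h.triv_apply hZP hP ha hbF hx]
  have key : ∀ u v : Ω, x⁻¹ * u ∈ Z → x⁻¹ * v ∈ Z → u * (x⁻¹ * v) = v * (x⁻¹ * u) := fun u v h1 h2 => by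
    calc u * (x⁻¹ * v) = x * ((x⁻¹ * u) * (x⁻¹ * v)) := by group
      _ = x * ((x⁻¹ * v) * (x⁻¹ * u)) := by rw [h.z_comm (h.zS h1) h2]
      _ = v * (x⁻¹ * u) := by group
  exact key _ _ hu hv

end Data

omit [Group Ω'] in
theorem autFn_one (hx : x ∈ P) : autFn (1 : MulAut P) x = x := autFn_coe 1 ⟨x, hx⟩

/-- The automorphisms of `F` trivial on the image. -/
def trivGroup (F : FusionSystem S) (θ : S →* Ω') (P : Subgroup Ω) : Subgroup (MulAut P) where
  carrier := {a | a ∈ F.autGroup P ∧ Triv θ P a}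
  one_mem' := ⟨one_mem _, fun x hx => by rw [autFn_one hx]⟩
  mul_mem' := fun {a b} ha hb => ⟨mul_mem ha.1 hb.1, fun x hx => by
    rw [autFn_mul _ _ hx, ha.2 _ (autFn_mem b hx), hb.2 x hx]⟩
  inv_mem' := fun {a} ha => ⟨inv_mem ha.1, fun x hx => by
    conv_rhs => rw [← autFn_apply_inv a hx]
    exact (ha.2 _ (autFn_mem _ hx)).symm⟩

theorem triv_conj {a b : MulAut P} (hb : Triv θ P b) (hbij : ∀ u ∈ P, ∀ v ∈ P, th θ u = th θ v →
      th θ (autFn a u) = th θ (autFn a v)) : Triv θ P (a * b * a⁻¹) := fun x hx => by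
  have hy := autFn_mem a⁻¹ hx
  rw [autFn_mul _ _ hx, autFn_mul _ _ hy]
  conv_rhs => rw [← autFn_apply_inv a hx]
  exact hbij _ (autFn_mem b hy) _ hy (hb _ hy)

namespace Data

variable [Fact p.Prime] [Finite S] (h : Data p F Z θ E D)
include h

theorem trivGroup_normal (hP : P ≤ S) {a b : MulAut P} (ha : a ∈ F.autGroup P) (hb : b ∈ trivGroup F θ P) :
    a * b * a⁻¹ ∈ trivGroup F θ P := by
  refine ⟨mul_mem (mul_mem ha hb.1) (inv_mem ha), triv_conj hb.2 fun u hu v hv e => ?_⟩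
  obtain ⟨f', -, he⟩ := h.exists_image ((mem_autGroup_iff_fn hP).1 ha)
  rw [← he u hu, ← he v hv, e]

theorem trivGroup_pGroup (hZP : Z ≤ P) (hP : P ≤ S) : IsPGroup p (trivGroup F θ P) := by
  rintro ⟨a, haF, ha⟩
  haveI := finite_of_le_base h.zS
  obtain ⟨n, hn⟩ := IsPGroup.iff_card.1 (h.hS.to_le h.zS)
  refine ⟨n, Subtype.ext (mulAut_ext fun x hx => ?_)⟩
  show autFn (a ^ p ^ n) x = autFn 1 x
  have hz := h.triv_div hP ha hx
  have hpow : ∀ j : ℕ, autFn (a ^ j) x = x * (x⁻¹ * autFn a x) ^ j := fun j => by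
    induction j with
    | zero => rw [pow_zero, pow_zero, autFn_one hx, mul_one]
    | succ j ih =>
      have haj : a ^ j ∈ F.autGroup P := pow_mem haF j
      rw [pow_succ, autFn_mul _ _ hx, h.triv_apply hZP hP ha haj hx, ih, pow_succ, mul_assoc]
  have hz1 : (x⁻¹ * autFn a x) ^ p ^ n = 1 := by
    rw [← hn]
    exact congrArg Subtype.val (pow_card_eq_one' (x := (⟨_, hz⟩ : Z)))
  rw [hpow, hz1, mul_one, autFn_one hx]

end Data

end CfsgLib.Fsys.Lift
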