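import Cfsg.Agent.Lib.FusionSystem.CentralLiftBase

/-! The generators of the lift of a normal subsystem along a central extension. -/

set_option autoImplicit false

namespace CfsgLib.Fsys.Lift

open Cfsg Cfsg.FusionSystem
open Cfsg.FusionSystem (centralizerIn normalizerIn imageAlong preimageAlong)

variable {Ω : Type*} [Group Ω] {S T : Subgroup Ω}
variable {Ω' : Type*} [Group Ω'] {S' T' : Subgroup Ω'}

/-- The maps with source inside a strongly closed subgroup. -/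
def restrictTo (F : FusionSystem S) (hT : F.StronglyClosed T) : FusionSystem T where
  Hom P := {φ | φ ∈ F.Hom P ∧ P ≤ T}
  le_of_mem := fun {P φ} h => ⟨h.2, fun x => hT.2 P h.2 φ h.1 x⟩
  injective_of_mem h := F.injective_of_mem h.1
  conj_mem := fun hP hg => ⟨F.conj_mem (hP.trans hT.1) (hT.1 hg), hP⟩
  comp_mem := fun hφ hψ h => ⟨F.comp_mem hφ.1 hψ.1 h, hφ.2⟩
  inv_mem := fun {P φ} hφ => by
    obtain ⟨ψ, hψ, he⟩ := F.inv_mem hφ.1
    exact ⟨ψ, ⟨hψ, by rintro _ ⟨x, rfl⟩; exact hT.2 P hφ.2 φ hφ.1 x⟩, he⟩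

theorem fn_restrictTo {F : FusionSystem S} {hT : F.StronglyClosed T} {P : Subgroup Ω} {f : Ω → Ω} :
    Fn (restrictTo F hT) P f ↔ Fn F P f ∧ P ≤ T :=
  ⟨fun ⟨φ, hφ, hf⟩ => ⟨⟨φ, hφ.1, hf⟩, hφ.2⟩, fun ⟨⟨φ, hφ, hf⟩, h⟩ => ⟨φ, ⟨hφ, h⟩, hf⟩⟩

variable {p : ℕ} {F : FusionSystem S} {Z : Subgroup Ω} {θ : S →* Ω'} {E : FusionSystem S'}
variable {D : FusionSystem T'} {P Q R : Subgroup Ω} {f g : Ω → Ω}

/-- The map induces a map of `D`. -/
def Induces (θ : S →* Ω') (D : FusionSystem T') (P : Subgroup Ω) (f : Ω → Ω) : Prop :=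
  ∃ f', Fn D (imageAlong θ P) f' ∧ ∀ x ∈ P, f' (th θ x) = th θ (f x)

/-- The group generated by the transported conjugations by elements of the base. -/
def gGen (F : FusionSystem S) (T P : Subgroup Ω) : Subgroup (MulAut P) :=
  Subgroup.closure {a | ∃ (f : Ω → Ω) (t : Ω), Fn F P f ∧ t ∈ T ∧
    t ∈ Subgroup.normalizer ((img f P : Subgroup Ω) : Set Ω) ∧ ∀ x ∈ P, f (autFn a x) = t * f x * t⁻¹}

/-- The preimages of the centric subgroups of `D`. -/
def Lifted (Z : Subgroup Ω) (θ : S →* Ω') (D : FusionSystem T') (P : Subgroup Ω) : Prop :=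
  Z ≤ P ∧ P ≤ base θ T' ∧ D.IsCentric (imageAlong θ P)

theorem transport_gGen {g : Ω → Ω} (hg : Fn F P g) (hi : img g P = Q)
    (e : P ≃* Q) (he : ∀ x : P, ((e x : Q) : Ω) = g x) {a : MulAut P} (ha : a ∈ gGen F T P) :
    MulAut.congr e a ∈ gGen F T Q := by
  induction ha using Subgroup.closure_induction with
  | mem a ha =>
    obtain ⟨f, t, hf, ht, htn, hfa⟩ := ha
    obtain ⟨k, hk, hkg, hki⟩ := hg.exists_inv
    rw [hi] at hk hki
    have hkm : ∀ y ∈ Q, k y ∈ P := fun y hy => hki.le (mem_img_of_mem hy)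
    refine Subgroup.subset_closure ⟨f ∘ k, t, hk.comp hf hkm, ht, ?_, fun y hy => ?_⟩
    · rwa [hk.img_comp, hki]
    · obtain ⟨x, hx⟩ := e.surjective ⟨y, hy⟩
      have hyx : y = g x := by rw [← he x, hx]
      subst hyx
      show f (k (autFn (MulAut.congr e a) (g x))) = t * f (k (g x)) * t⁻¹
      rw [hkg x x.2, ← hfa x x.2, ← he x, autFn_coe, autFn_coe,
        show (MulAut.congr e a) (e x) = e (a x) by simp [MulAut.congr], he, hkg _ (a x).2]
  | one => rw [map_one]; exact one_mem _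
  | mul a b _ _ ha hb => rw [map_mul]; exact mul_mem ha hb
  | inv a _ ha => rw [map_inv]; exact inv_mem ha

theorem gGen_le_autGroup [Finite S] (hP : P ≤ S) (hT : T ≤ S) : gGen F T P ≤ F.autGroup P := by
  refine (Subgroup.closure_le _).2 fun a ⟨f, t, hf, ht, htn, hfa⟩ => ?_
  obtain ⟨k, hk, hkf, hki⟩ := hf.exists_inv
  have hm : ∀ x ∈ P, t * f x * t⁻¹ ∈ img f P := fun x hx =>
    (mem_normalizer_iff'.1 htn).1 _ (mem_img_of_mem hx)
  refine (mem_autGroup_iff_fn hP).2 (((hf.comp (fn_conj hf.img_le_base (hT ht)) fun x hx =>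
    mem_img_of_mem hx).comp hk hm).congr fun x hx => ?_)
  show k (t * f x * t⁻¹) = _
  rw [← hfa x hx, hkf _ (autFn_mem a hx)]

theorem gGen_normal [Finite S] (hP : P ≤ S) {a b : MulAut P} (ha : a ∈ F.autGroup P) (hb : b ∈ gGen F T P) :
    a * b * a⁻¹ ∈ gGen F T P := by
  have := transport_gGen ((mem_autGroup_iff_fn hP).1 ha) (img_autFn a) a (fun x => (autFn_coe a x).symm) hb
  have e : MulAut.congr a b = a * b * a⁻¹ := MulEquiv.ext fun x => by simp [MulAut.congr]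
  rwa [e] at this

theorem conjAut_mem_gGen (hP : P ≤ S) {t : Ω} (ht : t ∈ T) (htn : t ∈ Subgroup.normalizer (P : Set Ω)) :
    conjAut P htn ∈ gGen F T P := by
  refine Subgroup.subset_closure ⟨id, t, fn_id hP, ht, ?_, fun x hx => ?_⟩
  · rwa [img_id]
  · show autFn (conjAut P htn) x = _
    rw [autFn_coe _ ⟨x, hx⟩, conjAut_coe]
    rfl

theorem autInducedBy_le_gGen (hP : P ≤ S) : autInducedBy T P ≤ gGen F T P := fun a ha => by
  obtain ⟨t, ht, hta⟩ := mem_autInducedBy.1 ha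
  have htn := mem_normalizer_of_autEq hta
  rw [show a = conjAut P htn from MulEquiv.ext fun x => Subtype.ext ((hta x).trans (conjAut_coe htn x).symm)]
  exact conjAut_mem_gGen hP ht htn

namespace Data

variable [Fact p.Prime] [Finite S] (h : Data p F Z θ E D)
include h

/-- The maps of `F` inducing maps of `D`. -/
noncomputable def preSystem : FusionSystem (base θ T') :=
  predSystem (restrictTo F h.sc_base) (Induces θ D)
    (fun P f g he _ hf => by
      obtain ⟨f', hf', hfe⟩ := hf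
      exact ⟨f', hf', fun x hx => (hfe x hx).trans (congrArg _ (he x hx))⟩)
    (fun P hP s hs => ⟨_, fn_conj (h.image_le_T' hP) (mem_preimageAlong.1 hs).2, fun x hx => by
      rw [th_conj (h.base_le hs) (h.base_le (hP hx))]⟩)
    (fun P R f g hf hg hm ⟨f', hf', hfe⟩ ⟨g', hg', hge⟩ => by
      refine ⟨g' ∘ f', hf'.comp hg' fun y hy => ?_, fun x hx => ?_⟩
      · obtain ⟨x, hx, -, rfl⟩ := mem_imageAlong.1 hy
        rw [hfe x hx]
        exact th_mem_imageAlong (hm x hx) (h.base_le ((fn_restrictTo.1 hg).2 (hm x hx)))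
      · show g' (f' (th θ x)) = th θ (g (f x))
        rw [hfe x hx, hge _ (hm x hx)])
    (fun P f g hf hg hgf ⟨f', hf', hfe⟩ => by
      obtain ⟨hfF, -⟩ := fn_restrictTo.1 hf
      obtain ⟨g', hg', hg'f, -⟩ := hf'.exists_inv
      rw [← image_img hfF (Fn.of_subsystem h.inv.1 hf') hfe] at hg'
      refine ⟨g', hg', fun y hy => ?_⟩
      obtain ⟨x, hx, rfl⟩ := hfF.mem_img.1 hy
      rw [hgf x hx, ← hfe x hx, hg'f _ (th_mem_imageAlong hx (hfF.le hx))])

theorem fn_preSystem : Fn h.preSystem P f ↔ Fn F P f ∧ P ≤ base θ T' ∧ Induces θ D P f := by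
  unfold preSystem
  exact fn_predSystem.trans ((and_congr_left' fn_restrictTo).trans and_assoc)

theorem preSystem_sub : h.preSystem.IsSubsystemOf F := fun _ _ hφ => hφ.1.1

theorem gGen_le_pre (hP : P ≤ base θ T') : gGen F (base θ T') P ≤ h.preSystem.autGroup P := by
  have hPS := hP.trans h.base_le
  refine (Subgroup.closure_le _).2 fun a ha => ?_
  have haF := gGen_le_autGroup hPS h.base_le (Subgroup.subset_closure ha)
  obtain ⟨f, t, hf, ht, htn, hfa⟩ := ha
  obtain ⟨f', hf', hfe⟩ := h.exists_image hf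
  obtain ⟨k', hk', hkf, hki⟩ := hf'.exists_inv
  have hP' := h.image_le_T' hP
  have hfP : img f P ≤ base θ T' := img_le fun x hx => (stronglyClosed_iff_fn.1 h.sc_base).2 _ _ hf x hx (hP hx)
  have himg := image_img hf hf' hfe
  have hm : img f' (imageAlong θ P) ≤ T' := himg ▸ h.image_le_T' hfP
  have htS := h.base_le ht
  have hcm : ∀ y ∈ img f' (imageAlong θ P), th θ t * y * (th θ t)⁻¹ ∈ img f' (imageAlong θ P) := by
    rw [← himg]
    intro y hy
    obtain ⟨x, hx, hxS, rfl⟩ := mem_imageAlong.1 hy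
    rw [← th_conj htS hxS]
    exact th_mem_imageAlong ((mem_normalizer_iff'.1 htn).1 x hx) (S.mul_mem (S.mul_mem htS hxS) (S.inv_mem htS))
  obtain ⟨χ, hχ, hχe⟩ := Invariant.strong h.inv hm hk' le_rfl (fn_conj hm (mem_preimageAlong.1 ht).2) hcm
  rw [hki] at hχ
  refine (mem_autGroup_iff_fn hP).2 (h.fn_preSystem.2 ⟨(mem_autGroup_iff_fn hPS).1 haF, hP, χ, hχ,
    fun x hx => ?_⟩)
  have hx' := th_mem_imageAlong (α := θ) hx (hPS hx)
  have h1 := hχe _ (mem_img_of_mem (f := f') hx')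
  rw [hkf _ hx'] at h1
  rw [h1]
  show k' (th θ t * f' (th θ x) * (th θ t)⁻¹) = _
  rw [hfe x hx, ← th_conj htS (hf.mem hx), ← hfa x hx, ← hfe _ (autFn_mem a hx),
    hkf _ (th_mem_imageAlong (autFn_mem a hx) (hPS (autFn_mem a hx)))]

omit [Fact p.Prime] in
theorem lifted_mono (hP : Lifted Z θ D P) (hPR : P ≤ R) (hR : R ≤ base θ T') : Lifted Z θ D R := by
  refine ⟨hP.1.trans hPR, hR, h.image_le_T' hR, fun U hU => ?_⟩
  obtain ⟨f', hf', rfl⟩ := isConj_iff.1 hU
  have hle : imageAlong θ P ≤ imageAlong θ R := fun y hy => by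
    obtain ⟨x, hx, hxS, rfl⟩ := mem_imageAlong.1 hy
    exact th_mem_imageAlong (hPR hx) hxS
  intro c hc
  have h1 := hP.2.2.2 _ (isConj_of_fn (hf'.mono hle))
  obtain ⟨hc1, hc2⟩ := mem_centralizerIn.1 hc
  exact img_mono hle (h1 (mem_centralizerIn.2 ⟨hc1, fun y hy => hc2 y (img_mono hle hy)⟩))

theorem lifted_img (hP : Lifted Z θ D P) (hf : Fn F P f) : Lifted Z θ D (img f P) := by
  obtain ⟨f', hf', hfe⟩ := h.exists_image hf
  refine ⟨h.z_le_img hf hP.1, img_le fun x hx => (stronglyClosed_iff_fn.1 h.sc_base).2 _ _ hf x hx (hP.2.1 hx), ?_⟩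
  rw [image_img hf hf' hfe]
  exact WNR.centric_img h.inv hP.2.2 hf'

omit [Fact p.Prime] in
/-- An element of the base acting trivially on the image of a lifted subgroup lies in it. -/
theorem mem_of_triv (hP : Lifted Z θ D P) {t : Ω} (ht : t ∈ base θ T')
    (hc : ∀ x ∈ P, th θ (t * x * t⁻¹) = th θ x) : t ∈ P := by
  have htS := h.base_le ht
  refine h.mem_of_th_mem hP.1 (hP.2.1.trans h.base_le) htS
    (hP.2.2.2 _ (isConj_refl hP.2.2.1) (mem_centralizerIn.2 ⟨(mem_preimageAlong.1 ht).2, fun y hy => ?_⟩))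
  obtain ⟨x, hx, hxS, rfl⟩ := mem_imageAlong.1 hy
  have h1 := hc x hx
  rw [th_conj htS hxS, mul_inv_eq_iff_eq_mul] at h1
  exact h1.symm

omit [Fact p.Prime] in
theorem inn_of_triv (hP : Lifted Z θ D P) {a : MulAut P} (ha : a ∈ autInducedBy (base θ T') P)
    (hat : Triv θ P a) : a ∈ Inn P := by
  obtain ⟨t, ht, hta⟩ := mem_autInducedBy.1 ha
  have htP := h.mem_of_triv hP ht fun x hx => by
    rw [← hta ⟨x, hx⟩, ← autFn_coe a ⟨x, hx⟩]
    exact hat x hx
  exact ⟨⟨t, htP⟩, MulEquiv.ext fun x => Subtype.ext (hta x).symm⟩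

omit [Fact p.Prime] [Finite S] in
theorem mem_normalizer_iff_image (hZP : Z ≤ P) (hP : P ≤ S) {x : Ω} (hx : x ∈ S) :
    x ∈ Subgroup.normalizer (P : Set Ω) ↔ th θ x ∈ Subgroup.normalizer ((imageAlong θ P : Subgroup Ω') : Set Ω') := by
  constructor
  · intro hn
    refine mem_normalizer_iff'.2 ⟨fun y hy => ?_, fun y hy => ?_⟩
    · obtain ⟨u, hu, huS, rfl⟩ := mem_imageAlong.1 hy
      rw [← th_conj hx huS]
      exact th_mem_imageAlong ((mem_normalizer_iff'.1 hn).1 u hu) (hP ((mem_normalizer_iff'.1 hn).1 u hu))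
    · obtain ⟨u, hu, huS, rfl⟩ := mem_imageAlong.1 hy
      have hm := (mem_normalizer_iff'.1 hn).2 u hu
      rw [show (th θ x)⁻¹ * th θ u * th θ x = th θ x⁻¹ * th θ u * (th θ x⁻¹)⁻¹ by rw [th_inv hx, inv_inv],
        ← th_conj (S.inv_mem hx) huS, inv_inv]
      exact th_mem_imageAlong hm (hP hm)
  · intro hn
    refine mem_normalizer_iff'.2 ⟨fun u hu => ?_, fun u hu => ?_⟩
    · refine h.mem_of_th_mem hZP hP (S.mul_mem (S.mul_mem hx (hP hu)) (S.inv_mem hx)) ?_
      rw [th_conj hx (hP hu)]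
      exact (mem_normalizer_iff'.1 hn).1 _ (th_mem_imageAlong hu (hP hu))
    · refine h.mem_of_th_mem hZP hP (S.mul_mem (S.mul_mem (S.inv_mem hx) (hP hu)) hx) ?_
      rw [show x⁻¹ * u * x = x⁻¹ * u * x⁻¹⁻¹ by rw [inv_inv], th_conj (S.inv_mem hx) (hP hu), th_inv hx, inv_inv]
      exact (mem_normalizer_iff'.1 hn).2 _ (th_mem_imageAlong hu (hP hu))

theorem image_fullyNormalized (hQn : F.IsFullyNormalized Q) (hZQ : Z ≤ Q) (hQ : Q ≤ base θ T') :
    D.IsFullyNormalized (imageAlong θ Q) := by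
  have := h.finite'
  refine ⟨h.image_le_T' hQ, fun R' hR' => ?_⟩
  obtain ⟨d, hd, rfl⟩ := isConj_iff.1 hR'
  obtain ⟨l, hl, hle⟩ := h.exists_lift (Fn.of_subsystem h.inv.1 hd)
  rw [h.preimage_image hZQ (hQ.trans h.base_le)] at hl hle
  obtain ⟨R, rfl⟩ : ∃ R, img l Q = R := ⟨_, rfl⟩
  rw [← image_img hl (Fn.of_subsystem h.inv.1 hd) hle]
  have hR : img l Q ≤ base θ T' := img_le fun x hx => (stronglyClosed_iff_fn.1 h.sc_base).2 _ _ hl x hx (hQ hx)
  obtain ⟨hA, hfc⟩ := fullyNormalized_good h.hS h.hF hQn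
  obtain ⟨g, hg, hgn, hgi⟩ := exists_normalizer_map h.hS hA (fullyCentralized_receptive h.hS h.hF hfc)
    (isConj_symm (isConj_of_fn hl))
  obtain ⟨g', hg', hge⟩ := h.exists_image hg
  set V := imageAlong θ (img l Q)
  have hVT : V ≤ T' := h.image_le_T' hR
  have hsub : normalizerIn T' V ≤ imageAlong θ (normalizerIn S (img l Q)) := fun y hy => by
    obtain ⟨⟨x, hx⟩, rfl⟩ := h.range.symm ▸ h.leT' hy.1
    rw [← th_apply hx]
    refine th_mem_imageAlong ⟨hx, (h.mem_normalizer_iff_image (h.z_le_img hl hZQ) hl.img_le_base hx).2 ?_⟩ hx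
    rw [th_apply hx]
    exact hy.2
  refine card_le_of_map_le (S := S') ((normalizerIn_le).trans h.leT') (hg'.mono hsub) fun y hy => ?_
  obtain ⟨x, hx, hxS, rfl⟩ := mem_imageAlong.1 (hsub hy)
  refine ⟨(stronglyClosed_iff_fn.1 h.scT').2 _ _ hg' _ (hsub hy) hy.1, ?_⟩
  rw [hge x hx]
  exact (h.mem_normalizer_iff_image hZQ (hQ.trans h.base_le) (hg.mem hx)).1 (hgn x hx).2

omit [Fact p.Prime] in
theorem fn_conj_pow {a : MulAut P} {t : Ω} (hfa : ∀ x ∈ P, f (autFn a x) = t * f x * t⁻¹) (k : ℕ) :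
    ∀ x ∈ P, f (autFn (a ^ k) x) = t ^ k * f x * (t ^ k)⁻¹ := by
  induction k with
  | zero => intro x hx; rw [pow_zero, autFn_one hx]; simp
  | succ j ih =>
    intro x hx
    rw [pow_succ, autFn_mul _ _ hx, ih _ (autFn_mem a hx), hfa x hx, pow_succ]
    group

/-- A conjugate of a transported conjugation induced by `S` is induced by the base. -/
theorem conj_gen_mem (hQn : F.IsFullyNormalized Q) (hf : Fn F Q f) {t : Ω} (ht : t ∈ base θ T')
    (htn : t ∈ Subgroup.normalizer ((img f Q : Subgroup Ω) : Set Ω)) {a : MulAut Q}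
    (hfa : ∀ x ∈ Q, f (autFn a x) = t * f x * t⁻¹) {γ : MulAut Q} (hγ : γ ∈ F.autGroup Q) (k : ℕ)
    (hS' : γ * a ^ k * γ⁻¹ ∈ autInducedBy S Q) : γ * a ^ k * γ⁻¹ ∈ autInducedBy (base θ T') Q := by
  obtain ⟨s, hs, hsa⟩ := mem_autInducedBy.1 hS'
  obtain ⟨v, hv, hvf, hvi⟩ := hf.exists_inv
  have hm : ∀ y ∈ img f Q, v y ∈ Q := fun y hy => hvi.le (mem_img_of_mem hy)
  have hγf := (mem_autGroup_iff_fn hQn.1).1 hγ
  have hcomp := hv.comp hγf hm
  obtain ⟨N, w, hw, hQN, hN, hwe⟩ := receptive_extend (fullyNormalized_receptive h.hS h.hF hQn) hcomp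
    (by rw [hv.img_comp, hvi, img_autFn])
  have htk : t ^ k ∈ base θ T' := pow_mem ht k
  have htkn : t ^ k ∈ Subgroup.normalizer ((img f Q : Subgroup Ω) : Set Ω) := pow_mem htn k
  have hpow := h.fn_conj_pow hfa k
  have htN : t ^ k ∈ N := by
    refine (hN _).2 ⟨h.base_le htk, htkn, s, hs, fun y hy => ?_⟩
    obtain ⟨x, hx, rfl⟩ := hf.mem_img.1 hy
    show autFn γ (v (t ^ k * f x * (t ^ k)⁻¹)) = s * autFn γ (v (f x)) * s⁻¹
    rw [← hpow x hx, hvf _ (autFn_mem _ hx), hvf x hx]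
    have h1 := hsa (γ ⟨x, hx⟩)
    simp only [MulAut.mul_apply, MulAut.inv_apply_self] at h1
    rw [autFn_coe (a ^ k) ⟨x, hx⟩, autFn_coe γ, autFn_coe γ ⟨x, hx⟩]
    exact h1
  refine mem_autInducedBy.2 ⟨w (t ^ k), (stronglyClosed_iff_fn.1 h.sc_base).2 _ _ hw _ htN htk, fun y => ?_⟩
  obtain ⟨x, rfl⟩ := γ.surjective y
  simp only [MulAut.mul_apply, MulAut.inv_apply_self]
  have hfx : f (x : Ω) ∈ N := hQN (mem_img_of_mem x.2)
  have h1 : t ^ k * f x * (t ^ k)⁻¹ ∈ N := N.mul_mem (N.mul_mem htN hfx) (N.inv_mem htN)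
  have h2 := hw.map_conj htN hfx
  rw [hwe _ ((mem_normalizer_iff'.1 htkn).1 _ (mem_img_of_mem x.2)), hwe _ (mem_img_of_mem x.2)] at h2
  show _ = w (t ^ k) * _ * (w (t ^ k))⁻¹
  simp only [Function.comp] at h2
  rw [← hpow x x.2, hvf _ (autFn_mem _ x.2), hvf x x.2, autFn_coe (a ^ k) x, autFn_coe γ, autFn_coe γ] at h2
  exact h2

/-- An automorphism of the preimage system induced by `S` is, up to a trivial one, induced by the base. -/
theorem induced_decomp (hZQ : Z ≤ Q) (hQb : Q ≤ base θ T') (hDA : D.IsFullyAutomized p (imageAlong θ Q))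
    {x : MulAut Q} (hxG : x ∈ h.preSystem.autGroup Q) (hxS : x ∈ autInducedBy S Q) :
    ∃ a ∈ autInducedBy (base θ T') Q, ∃ b ∈ trivGroup F θ Q, x = a * b := by
  have hQS := hQb.trans h.base_le
  obtain ⟨s, hs, hsx⟩ := mem_autInducedBy.1 hxS
  have := h.finite'
  set Q' := imageAlong θ Q
  have hQ'S : Q' ≤ S' := (h.image_le_T' hQb).trans h.leT'
  haveI := finite_of_le_base hQ'S
  haveI : Finite (MulAut Q') := Finite.of_injective (fun f : MulAut Q' => (f : Q' → Q')) DFunLike.coe_injective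
  obtain ⟨-, f', hf', hfe⟩ := (h.fn_preSystem.1 ((mem_autGroup_iff_fn hQb).1 hxG)).2
  have hns : th θ s ∈ Subgroup.normalizer (Q' : Set Ω') :=
    (h.mem_normalizer_iff_image hZQ hQS hs).1 (mem_normalizer_of_autEq hsx)
  obtain ⟨Syl, hSyl⟩ := hDA.2
  let B : Subgroup (D.autGroup Q') := (autInducedBy S' Q').subgroupOf (D.autGroup Q')
  have hBp : IsPGroup p B :=
    (isPGroup_autInducedBy h.pgroup').comap_of_injective _ (Subgroup.subtype_injective _)
  have hle : (Syl : Subgroup (D.autGroup Q')) ≤ B := by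
    rw [hSyl]
    intro a ha
    obtain ⟨t, ht, hta⟩ := mem_autInducedBy.1 ha
    exact mem_autInducedBy.2 ⟨t, h.leT' ht, hta⟩
  have hBeq : B = (Syl : Subgroup (D.autGroup Q')) := Syl.3 hBp hle
  have hd : conjAut Q' hns ∈ D.autGroup Q' := by
    refine (mem_autGroup_iff_fn (h.image_le_T' hQb)).2 (hf'.congr fun y hy => ?_)
    obtain ⟨u, hu, huS, rfl⟩ := mem_imageAlong.1 hy
    rw [hfe u hu, autFn_coe _ ⟨_, hy⟩, conjAut_coe, autFn_coe x ⟨u, hu⟩, hsx, th_conj hs huS]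
  have hmem : (⟨_, hd⟩ : D.autGroup Q') ∈ B := conjAut_mem_autInducedBy hns (h.th_mem' hs)
  rw [hBeq, hSyl] at hmem
  obtain ⟨t', ht', htx⟩ := mem_autInducedBy.1 (show conjAut Q' hns ∈ autInducedBy T' Q' from hmem)
  obtain ⟨⟨t, htS⟩, rfl⟩ := h.range.symm ▸ h.leT' ht'
  rw [← th_apply htS] at ht' htx
  have htb : t ∈ base θ T' := mem_preimageAlong.2 ⟨htS, ht'⟩
  have htn : t ∈ Subgroup.normalizer (Q : Set Ω) :=
    (h.mem_normalizer_iff_image hZQ hQS htS).2 (mem_normalizer_of_autEq htx)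
  refine ⟨_, conjAut_mem_autInducedBy htn htb, (conjAut Q htn)⁻¹ * x, ⟨mul_mem (inv_mem
    (autInducedBy_le_autGroup hQS (conjAut_mem_autInducedBy htn htS))) (autGroup_mono' h.preSystem_sub Q hxG), fun u hu => ?_⟩,
    (mul_inv_cancel_left _ _).symm⟩
  have hu' := th_mem_imageAlong (α := θ) hu (hQS hu)
  have e1 := htx ⟨_, hu'⟩
  rw [conjAut_coe] at e1
  rw [autFn_mul _ _ hu]
  have hv := autFn_mem (conjAut Q htn)⁻¹ (autFn_mem x hu)
  have e2 := autFn_apply_inv (conjAut Q htn) (autFn_mem x hu)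
  rw [autFn_coe _ ⟨_, hv⟩, conjAut_coe] at e2
  have e3 := congrArg (th θ) e2
  rw [th_conj htS (hQS hv)] at e3
  have e4 : th θ (autFn x u) = th θ s * th θ u * (th θ s)⁻¹ := by
    rw [autFn_coe x ⟨u, hu⟩, hsx, th_conj hs (hQS hu)]
  rw [e4] at e3
  exact mul_left_cancel (mul_right_cancel (e3.trans e1))

/-- Trivial automorphisms of a fully automized subgroup are induced by `S`. -/
theorem trivGroup_le_induced (hA : F.IsFullyAutomized p Q) (hZQ : Z ≤ Q) :
    trivGroup F θ Q ≤ autInducedBy S Q := fun b hb => by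
  obtain ⟨γ, hγ, hγc⟩ := exists_conj_into h.hS hA (T := trivGroup F θ Q) (fun _ hx => hx.1)
    (h.trivGroup_pGroup hZQ hA.1)
  have := hγc _ (h.trivGroup_normal hA.1 (inv_mem hγ) hb)
  simpa [mul_assoc] using this

theorem gGen_triv_fullyNormalized (hQn : F.IsFullyNormalized Q) (hQ : Lifted Z θ D Q) {z : MulAut Q}
    (hzG : z ∈ gGen F (base θ T') Q) (hzt : Triv θ Q z) : z ∈ Inn Q := by
  classical
  obtain ⟨hZQ, hQb, hQc⟩ := id hQ
  have hQS := hQn.1
  haveI := finite_of_le_base hQS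
  haveI : Finite (MulAut Q) := Finite.of_injective (fun f : MulAut Q => (f : Q → Q)) DFunLike.coe_injective
  obtain ⟨hA, -⟩ := fullyNormalized_good h.hS h.hF hQn
  set G := gGen F (base θ T') Q with hG
  have hGF : G ≤ F.autGroup Q := gGen_le_autGroup hQS h.base_le
  set K := trivGroup F θ Q with hK
  have hKn : ∀ γ ∈ F.autGroup Q, ∀ b ∈ K, γ * b * γ⁻¹ ∈ K := fun γ hγ b hb => h.trivGroup_normal hQS hγ hb
  have hKS : K ≤ autInducedBy S Q := h.trivGroup_le_induced hA hZQ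
  set A := autInducedBy (base θ T') Q with hA'
  have hAG : A ≤ G := autInducedBy_le_gGen hQS
  have hAS : A ≤ autInducedBy S Q := fun a ha => by
    obtain ⟨t, ht, hta⟩ := mem_autInducedBy.1 ha
    exact mem_autInducedBy.2 ⟨t, h.base_le ht, hta⟩
  have hAn : ∀ a ∈ A, ∀ b ∈ autInducedBy S Q, b * a * b⁻¹ ∈ A := fun a ha b hb => by
    obtain ⟨t, ht, hta⟩ := mem_autInducedBy.1 ha
    obtain ⟨s, hs, hsb⟩ := mem_autInducedBy.1 hb
    refine mem_autInducedBy.2 ⟨s * t * s⁻¹, sc_conj h.sc_base hs ht, fun x => ?_⟩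
    obtain ⟨y, rfl⟩ := b.surjective x
    simp only [MulAut.mul_apply, MulAut.inv_apply_self]
    rw [hsb, hsb, hta]
    group
  -- `G` acts trivially on the trivial automorphisms modulo `Inn`
  have hcent : ∀ g ∈ G, g ∈ F.autGroup Q ∧ ∀ b ∈ K, g * b * g⁻¹ * b⁻¹ ∈ Inn Q := by
    intro g hg
    induction hg using Subgroup.closure_induction with
    | mem a ha =>
      have haF := hGF (Subgroup.subset_closure ha)
      obtain ⟨f, t, hf, ht, htn, hfa⟩ := ha
      refine ⟨haF, fun b hb => ?_⟩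
      obtain ⟨j, hj⟩ := h.hS.to_le h.base_le ⟨t, ht⟩
      have hap : IsPGroup p (Subgroup.zpowers a) := by
        have h1 : a ^ p ^ j = 1 := mulAut_ext fun x hx => hf.inj (autFn_mem _ hx) (autFn_mem _ hx) (by
          rw [h.fn_conj_pow hfa _ x hx, show t ^ p ^ j = 1 from congrArg Subtype.val hj, autFn_one hx]
          simp)
        obtain ⟨i, -, hi⟩ := (Nat.dvd_prime_pow Fact.out).1 (orderOf_dvd_of_pow_eq_one h1)
        exact IsPGroup.of_card (n := i) (by rw [Nat.card_zpowers, hi])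
      obtain ⟨γ, hγ, hγc⟩ := exists_conj_into h.hS hA (Subgroup.zpowers_le.2 haF) hap
      have h1 := h.conj_gen_mem hQn hf ht htn hfa hγ 1 (by rw [pow_one]; exact hγc a (Subgroup.mem_zpowers a))
      rw [pow_one] at h1
      set a' := γ * a * γ⁻¹
      set b' := γ * b * γ⁻¹
      have hb' : b' ∈ K := hKn γ hγ b hb
      have h2 : a' * b' * a'⁻¹ * b'⁻¹ ∈ A := by
        have := A.mul_mem h1 (hAn _ (A.inv_mem h1) b' (hKS hb'))
        simpa [mul_assoc] using this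
      have h3 : a' * b' * a'⁻¹ * b'⁻¹ ∈ K :=
        K.mul_mem (hKn a' (mul_mem (mul_mem hγ haF) (inv_mem hγ)) b' hb') (K.inv_mem hb')
      have h4 := h.inn_of_triv hQ h2 h3.2
      have h5 := (innNormal Q).conj_mem _ h4 γ⁻¹
      convert h5 using 1
      simp only [a', b']
      group
    | one => exact ⟨one_mem _, fun b _ => by simp⟩
    | mul x y _ _ hx hy =>
      refine ⟨mul_mem hx.1 hy.1, fun b hb => ?_⟩
      have h1 := (innNormal Q).conj_mem _ (hy.2 b hb) x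
      convert mul_mem h1 (hx.2 b hb) using 1
      group
    | inv x _ hx =>
      refine ⟨inv_mem hx.1, fun b hb => ?_⟩
      have hb' := hKn x⁻¹ (inv_mem hx.1) b hb
      rw [inv_inv] at hb'
      have h1 := inv_mem (hx.2 _ hb')
      convert h1 using 1
      group
  -- the induced automorphisms in `G` have abelian image modulo those of the base
  have hdec : ∀ x ∈ G, x ∈ autInducedBy S Q → ∃ a ∈ A, ∃ b ∈ K, x = a * b := fun x hxG hxS => by
    have := h.finite'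
    haveI := finite_of_le_base h.leT'
    exact h.induced_decomp hZQ hQb (fullyNormalized_good (h.pgroup'.to_le h.leT') h.satD
      (h.image_fullyNormalized hQn hZQ hQb)).1 (h.gGen_le_pre hQb hxG) hxS
  let R₀ : Subgroup G := (autInducedBy S Q).subgroupOf G
  have hR₀p : IsPGroup p R₀ := (isPGroup_autInducedBy h.hS).comap_of_injective _ (Subgroup.subtype_injective _)
  have hidx : ¬ p ∣ R₀.index := by
    obtain ⟨P₀⟩ := (inferInstance : Nonempty (Sylow p G))
    obtain ⟨γ, hγ, hγc⟩ := exists_conj_into h.hS hA (T := (P₀ : Subgroup G).map G.subtype)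
      ((Subgroup.map_subtype_le _).trans hGF) (P₀.2.map _)
    obtain ⟨Pm, hPm⟩ := hR₀p.exists_le_sylow
    have hcard : Nat.card P₀ ≤ Nat.card R₀ := by
      refine Nat.card_le_card_of_injective (fun a : P₀ => (⟨⟨γ * (a : MulAut Q) * γ⁻¹,
        gGen_normal hQS hγ (a : G).2⟩, hγc _ ⟨(a : G), a.2, rfl⟩⟩ : R₀)) fun a b hab => ?_
      have := congrArg (fun u : R₀ => ((u : G) : MulAut Q)) hab
      exact Subtype.ext (Subtype.ext (mul_left_cancel (mul_right_cancel this)))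
    have : R₀ = (Pm : Subgroup G) := Subgroup.eq_of_le_of_card_ge hPm
      (le_of_eq_of_le (by rw [Sylow.card_eq_multiplicity, ← Sylow.card_eq_multiplicity P₀]) hcard)
    rw [this]
    exact Pm.not_dvd_index
  have hzK : z ∈ K := ⟨hGF hzG, hzt⟩
  suffices (⟨z, hzG⟩ : G) ∈ A.subgroupOf G from h.inn_of_triv hQ this hzt
  refine mem_of_central_mod R₀ (A.subgroupOf G) hidx hR₀p (fun a ha => hAS ha) ?_ (hKS hzK) ?_ ?_
  · intro x hx y hy
    obtain ⟨a, ha, k, hk, ex⟩ := hdec x x.2 hx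
    obtain ⟨b, hb, l, hl, ey⟩ := hdec y y.2 hy
    show (x : MulAut Q) * y * (x : MulAut Q)⁻¹ * (y : MulAut Q)⁻¹ ∈ A
    rw [ex, ey]
    have e : (a * k) * (b * l) * (a * k)⁻¹ * (b * l)⁻¹ = a * (k * b * k⁻¹) * (l * a⁻¹ * l⁻¹) * b⁻¹ := by
      have := h.triv_comm hZQ hQS hk.1 hl.1 hk.2 hl.2
      rw [show (a * k) * (b * l) * (a * k)⁻¹ * (b * l)⁻¹ =
        a * (k * b * (k⁻¹ * (k * l)) * k⁻¹ * a⁻¹ * l⁻¹ * b⁻¹) by group, this]
      group
    rw [e]
    exact A.mul_mem (A.mul_mem (A.mul_mem ha (hAn b hb k (hKS hk))) (hAn _ (A.inv_mem ha) l (hKS hl)))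
      (A.inv_mem hb)
  · intro g
    have h1 := (hcent _ (inv_mem g.2)).2 z hzK
    rw [inv_inv] at h1
    show (g : MulAut Q)⁻¹ * z * (g : MulAut Q) * z⁻¹ ∈ A
    obtain ⟨q, hq⟩ := h1
    exact mem_autInducedBy.2 ⟨q, hQb q.2, fun x => by rw [← hq]; rfl⟩
  · have hle : G ≤ Subgroup.map G.subtype (Subgroup.closure ({x : G | ∀ (g : G) (k : ℕ),
        g⁻¹ * x ^ k * g ∈ R₀ → g⁻¹ * x ^ k * g ∈ A.subgroupOf G} ∪ {x : G | Nat.Coprime (orderOf x) p})) := by
      rw [MonoidHom.map_closure]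
      refine (Subgroup.closure_le _).2 fun a ha => ?_
      have haG : a ∈ G := Subgroup.subset_closure ha
      refine Subgroup.subset_closure ⟨⟨a, haG⟩, Or.inl fun g k hg => ?_, rfl⟩
      obtain ⟨f, t, hf, ht, htn, hfa⟩ := ha
      have := h.conj_gen_mem hQn hf ht htn hfa (inv_mem (hGF g.2)) k (by rw [inv_inv]; exact hg)
      rw [inv_inv] at this
      exact this
    obtain ⟨z', hz', e⟩ := hle hzG
    have : z' = ⟨z, hzG⟩ := Subtype.ext e
    rwa [this] at hz'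

/-- The transported conjugations contain no further trivial automorphisms. -/
theorem gGen_triv (hP : Lifted Z θ D P) {z : MulAut P} (hzG : z ∈ gGen F (base θ T') P)
    (hzt : Triv θ P z) : z ∈ Inn P := by
  have hPS := hP.2.1.trans h.base_le
  obtain ⟨Q, hPQ, hQn⟩ := exists_fullyNormalized (F := F) hPS
  obtain ⟨g, hg, hgi⟩ := isConj_iff.1 hPQ
  obtain ⟨e, he, -⟩ := exists_transport hPS hg hgi
  have hzF := gGen_le_autGroup hPS h.base_le hzG
  have hQ : Lifted Z θ D Q := hgi ▸ h.lifted_img hP hg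
  have ht : Triv θ Q (MulAut.congr e z) := fun y hy => by
    obtain ⟨g', -, hge⟩ := h.exists_image hg
    obtain ⟨x, hx⟩ := e.surjective ⟨y, hy⟩
    have hyx : y = ((e x : Q) : Ω) := by rw [hx]
    subst hyx
    rw [autFn_coe, show (MulAut.congr e z) (e x) = e (z x) by simp [MulAut.congr], he, he,
      ← hge _ (z x).2, ← hge x x.2, ← autFn_coe z x, hzt x x.2]
  obtain ⟨q, hq⟩ := h.gGen_triv_fullyNormalized hQn hQ (transport_gGen hg hgi e he hzG) ht
  refine ⟨e.symm q, MulEquiv.ext fun x => e.injective ?_⟩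
  have := MulEquiv.congr_fun hq (e x)
  simp [MulAut.congr] at this ⊢
  exact this

end Data

end CfsgLib.Fsys.Lift
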