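import Cfsg.Agent.Lib.FusionSystem.Generation
import Cfsg.Agent.Lib.Fusion.Basic
import Cfsg.Agent.Lib.Solvable.Cores
import Mathlib.GroupTheory.Sylow

/-! A saturation criterion: generation by, and saturation on, a family of subgroups. -/

set_option autoImplicit false

namespace CfsgLib.Fsys.Criterion

open Cfsg Cfsg.FusionSystem
open Cfsg.FusionSystem (centralizerIn normalizerIn)
open scoped Pointwise

variable {Ω : Type*} [Group Ω] {S : Subgroup Ω} {F : FusionSystem S} {p : ℕ} [Fact p.Prime]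

/-- `P` is conjugate to a fully automized receptive subgroup. -/
def Good (F : FusionSystem S) (p : ℕ) (P : Subgroup Ω) : Prop :=
  ∃ Q, F.IsConj P Q ∧ F.IsFullyAutomized p Q ∧ F.IsReceptive Q

/-- A map moving `Q` to `Q'` defined on a subgroup of order at least `r` of the normalizer of `Q`. -/
def Edge (F : FusionSystem S) (r : ℕ) (Q Q' : Subgroup Ω) : Prop :=
  ∃ (R : Subgroup Ω) (g : Ω → Ω), Fn F R g ∧ Q ≤ R ∧ R ≤ normalizerIn S Q ∧ r ≤ Nat.card R ∧ img g Q = Q'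

/-- A map moving `Q` to `P` defined on the whole normalizer of `Q`. -/
def Up (F : FusionSystem S) (Q P : Subgroup Ω) : Prop :=
  ∃ g : Ω → Ω, Fn F (normalizerIn S Q) g ∧ img g Q = P

/-- Connection by edges. -/
def Conn (F : FusionSystem S) (r : ℕ) : Subgroup Ω → Subgroup Ω → Prop := Relation.ReflTransGen (Edge F r)

/-- The automorphisms of `P` generated by restrictions of maps on larger subgroups of its normalizer. -/
def Gen (F : FusionSystem S) (r : ℕ) (P : Subgroup Ω) : Subgroup (MulAut P) :=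
  Subgroup.closure {α | ∃ (R : Subgroup Ω) (g : Ω → Ω), Fn F R g ∧ P ≤ R ∧ R ≤ normalizerIn S P ∧
    r ≤ Nat.card R ∧ ∀ x : P, ((α x : P) : Ω) = g x}

omit [Fact p.Prime] in
theorem Edge.mono {r r' : ℕ} (h : r' ≤ r) {Q Q' : Subgroup Ω} (he : Edge F r Q Q') : Edge F r' Q Q' :=
  let ⟨R, g, hg, hQ, hR, hr, hi⟩ := he
  ⟨R, g, hg, hQ, hR, h.trans hr, hi⟩

omit [Fact p.Prime] in
theorem Edge.isConj {r : ℕ} {Q Q' : Subgroup Ω} (he : Edge F r Q Q') : F.IsConj Q Q' :=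
  let ⟨_, g, hg, hQ, _, _, hi⟩ := he
  isConj_iff.2 ⟨g, hg.mono hQ, hi⟩

variable [Finite S]

omit [Fact p.Prime] in
theorem Edge.symm {r : ℕ} {Q Q' : Subgroup Ω} (he : Edge F r Q Q') : Edge F r Q' Q := by
  obtain ⟨R, g, hg, hQ, hR, hr, hi⟩ := he
  obtain ⟨g', hg', hg'g, -⟩ := hg.exists_inv
  refine ⟨_, g', hg', hi ▸ img_mono hQ, img_le fun n hn => hg.map_normalizer hQ hi hn (hR hn).2,
    hg.card_img.symm ▸ hr, ?_⟩
  rw [← hi, ← (hg.mono hQ).img_comp]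
  refine (img_congr fun x hx => ?_).trans (img_id Q)
  exact hg'g x (hQ hx)

omit [Fact p.Prime] in
theorem Conn.symm {r : ℕ} {Q Q' : Subgroup Ω} (h : Conn F r Q Q') : Conn F r Q' Q := by
  induction h with
  | refl => exact Relation.ReflTransGen.refl
  | tail _ he ih => exact Relation.ReflTransGen.head he.symm ih

/-- A Sylow subgroup is reached from a `p`-subgroup inside a normal subgroup with `p`-quotient. -/
theorem sylow_conj_normal {G : Type*} [Group G] [Finite G] (K : Subgroup G) [K.Normal]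
    (hK : ∀ a : G, ∃ n : ℕ, a ^ p ^ n ∈ K) (T : Sylow p G) {B : Subgroup G} (hB : IsPGroup p B) :
    ∃ k ∈ K, ∀ b ∈ B, k * b * k⁻¹ ∈ (T : Subgroup G) := by
  obtain ⟨T', hT'⟩ := hB.exists_le_sylow
  obtain ⟨a, ha⟩ := MulAction.exists_smul_eq G T' T
  have hq : IsPGroup p (G ⧸ K) := by
    intro q
    obtain ⟨b, rfl⟩ := QuotientGroup.mk'_surjective K q
    obtain ⟨n, hn⟩ := hK b
    exact ⟨n, by rw [← map_pow]; exact (QuotientGroup.eq_one_iff _).2 hn⟩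
  obtain ⟨j, hj⟩ := IsPGroup.iff_card.1 hq
  have htop := CfsgLib.Fusion.Basic.sup_eq_top_of_index (K := K) (U := (T : Subgroup G)) (k := j) hj T.not_dvd_index
  have hmem : a ∈ (((T : Subgroup G) ⊔ K : Subgroup G) : Set G) := by
    rw [sup_comm, htop]
    exact Subgroup.mem_top a
  rw [Subgroup.mul_normal] at hmem
  obtain ⟨t, ht, k, hk, rfl⟩ := hmem
  refine ⟨k, hk, fun b hb => ?_⟩
  have h1 : MulAut.conj (t * k) b ∈ (T : Subgroup G) := by
    rw [← ha]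
    exact ⟨b, hT' hb, rfl⟩
  have h2 := Subgroup.mul_mem _ (Subgroup.mul_mem _ (Subgroup.inv_mem _ ht) h1) ht
  simpa [mul_assoc] using h2

omit [Fact p.Prime] in
/-- Conjugation transported along a map. -/
theorem exists_transported {X W : Subgroup Ω} {f : Ω → Ω} (hf : Fn F X f) (hi : img f X = W) {m : Ω}
    (hm : m ∈ normalizerIn S X) : ∃ τ ∈ F.autGroup W, ∀ x ∈ X, autFn τ (f x) = f (m * x * m⁻¹) := by
  obtain ⟨e, he, hmap⟩ := exists_transport hf.le hf hi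
  refine ⟨MulAut.congr e (conjAut X hm.2), hmap ▸ ⟨_, autInducedBy_le_autGroup hf.le
    (conjAut_mem_autInducedBy hm.2 hm.1), rfl⟩, fun x hx => ?_⟩
  lift x to X using hx
  rw [← he, autFn_coe, ← conjAut_coe hm.2 x, ← he]
  simp [MulAut.congr]

omit [Fact p.Prime] in
/-- Extension when the transported conjugations are induced by `S`. -/
theorem extend_one {W X : Subgroup Ω} (hr : F.IsReceptive W) {σ : MulAut W} (hσ : σ ∈ F.autGroup W)
    {f : Ω → Ω} (hf : Fn F X f) (hi : img f X = W) {M : Subgroup Ω} (hM : M ≤ normalizerIn S X)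
    (h : ∀ m ∈ M, ∀ τ : MulAut W, (∀ x ∈ X, autFn τ (f x) = f (m * x * m⁻¹)) →
      σ * τ * σ⁻¹ ∈ autInducedBy S W) :
    ∃ g : Ω → Ω, Fn F (X ⊔ M) g ∧ ∀ x ∈ X, g x = autFn σ (f x) := by
  have hcomp : Fn F X (autFn σ ∘ f) :=
    hf.comp ((mem_autGroup_iff_fn hr.1).1 hσ) fun x hx => hi.le (mem_img_of_mem hx)
  have hci : img (autFn σ ∘ f) X = W := by rw [hf.img_comp, hi, img_autFn]
  obtain ⟨N, g, hg, hXN, hN, hge⟩ := receptive_extend hr hcomp hci
  refine ⟨g, hg.mono (sup_le hXN fun m hm => (hN m).2 ?_), hge⟩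
  obtain ⟨τ, -, hτ⟩ := exists_transported hf hi (hM hm)
  obtain ⟨s, hs, hsx⟩ := mem_autInducedBy.1 (h m hm τ hτ)
  refine ⟨(hM hm).1, (hM hm).2, s, hs, fun x hx => ?_⟩
  have hfx : f x ∈ W := hi.le (mem_img_of_mem hx)
  have h1 := hsx (σ ⟨f x, hfx⟩)
  simp only [MulAut.mul_apply, MulAut.inv_apply_self] at h1
  show autFn σ (f (m * x * m⁻¹)) = s * autFn σ (f x) * s⁻¹
  rw [← hτ x hx, autFn_coe τ ⟨f x, hfx⟩, autFn_coe σ ⟨f x, hfx⟩, autFn_coe]
  exact h1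

/-- Simultaneous extension of two maps onto a good subgroup, up to an element of `K`. -/
theorem two_push (hS : IsPGroup p S) {W X₁ X₂ : Subgroup Ω} (hA : F.IsFullyAutomized p W) (hr : F.IsReceptive W)
    {G₀ K : Subgroup (MulAut W)} (hG : G₀ ≤ F.autGroup W) (hKG : K ≤ G₀)
    (hKn : ∀ a ∈ G₀, ∀ k ∈ K, a * k * a⁻¹ ∈ K) (hKp : ∀ a ∈ G₀, ∃ n : ℕ, a ^ p ^ n ∈ K)
    {f₁ f₂ : Ω → Ω} (hf₁ : Fn F X₁ f₁) (hi₁ : img f₁ X₁ = W) (hf₂ : Fn F X₂ f₂) (hi₂ : img f₂ X₂ = W)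
    {M₁ M₂ : Subgroup Ω} (hM₁ : M₁ ≤ normalizerIn S X₁) (hM₂ : M₂ ≤ normalizerIn S X₂)
    (h₁ : ∀ m ∈ M₁, ∃ τ ∈ G₀, ∀ x ∈ X₁, autFn τ (f₁ x) = f₁ (m * x * m⁻¹))
    (h₂ : ∀ m ∈ M₂, ∃ τ ∈ G₀, ∀ x ∈ X₂, autFn τ (f₂ x) = f₂ (m * x * m⁻¹)) :
    ∃ γ ∈ F.autGroup W, ∃ δ ∈ K, ∃ g₁ g₂ : Ω → Ω, Fn F (X₁ ⊔ M₁) g₁ ∧ Fn F (X₂ ⊔ M₂) g₂ ∧
      (∀ x ∈ X₁, g₁ x = autFn γ (f₁ x)) ∧ ∀ x ∈ X₂, g₂ x = autFn γ (autFn δ (f₂ x)) := by
  classical
  haveI := finite_of_le_base hr.1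
  haveI : Finite (MulAut W) := Finite.of_injective (fun f : MulAut W => (f : W → W)) DFunLike.coe_injective
  have key : ∀ (X : Subgroup Ω) (f : Ω → Ω) (M : Subgroup Ω), Fn F X f → img f X = W → M ≤ normalizerIn S X →
      (∀ m ∈ M, ∃ τ ∈ G₀, ∀ x ∈ X, autFn τ (f x) = f (m * x * m⁻¹)) →
      ∃ B : Subgroup G₀, IsPGroup p B ∧ ∀ m ∈ M, ∀ τ : MulAut W,
        (∀ x ∈ X, autFn τ (f x) = f (m * x * m⁻¹)) → ∃ h : τ ∈ G₀, (⟨τ, h⟩ : G₀) ∈ B := by
    intro X f M hf hi hM h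
    choose τ hτG hτ using h
    have huniq : ∀ σ σ' : MulAut W, (∀ x ∈ X, autFn σ (f x) = autFn σ' (f x)) → σ = σ' := fun σ σ' he =>
      mulAut_ext fun y hy => by
        obtain ⟨x, hx, rfl⟩ := hf.mem_img.1 (hi.ge hy)
        exact he x hx
    let c : M →* G₀ := MonoidHom.mk' (fun m => ⟨τ m m.2, hτG m m.2⟩) fun a b => Subtype.ext (huniq _ _ fun x hx => by
      have hfx : f x ∈ W := hi.le (mem_img_of_mem hx)
      show autFn (τ (a * b : M) (a * b : M).2) (f x) = autFn (τ a a.2 * τ b b.2) (f x)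
      rw [hτ _ _ x hx, autFn_mul _ _ hfx, hτ _ _ x hx,
        hτ _ _ _ ((Subgroup.mem_normalizer_iff.1 (hM b.2).2 x).1 hx), Subgroup.coe_mul]
      exact congrArg f (by group))
    refine ⟨c.range, ((hS.to_le (hM.trans normalizerIn_le)).of_surjective c.rangeRestrict c.rangeRestrict_surjective),
      fun m hm σ hσ => ?_⟩
    have e : σ = τ m hm := huniq _ _ fun x hx => by rw [hσ x hx, hτ m hm x hx]
    exact ⟨e ▸ hτG m hm, ⟨m, hm⟩, Subtype.ext e.symm⟩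
  obtain ⟨B₁, hB₁p, hB₁⟩ := key X₁ f₁ M₁ hf₁ hi₁ hM₁ h₁
  obtain ⟨B₂, hB₂p, hB₂⟩ := key X₂ f₂ M₂ hf₂ hi₂ hM₂ h₂
  obtain ⟨T₁, hT₁⟩ := hB₁p.exists_le_sylow
  haveI : (K.subgroupOf G₀).Normal := ⟨fun k hk a => hKn a a.2 k hk⟩
  obtain ⟨δ, hδ, hδB⟩ := sylow_conj_normal (K.subgroupOf G₀) (fun a => (hKp a a.2).imp fun n hn => hn) T₁ hB₂p
  obtain ⟨γ, hγ, hγT⟩ := exists_conj_into hS hA (T := (T₁ : Subgroup G₀).map G₀.subtype)
    ((Subgroup.map_subtype_le _).trans hG) (T₁.2.map _)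
  obtain ⟨g₁, hg₁, hg₁e⟩ := extend_one hr hγ hf₁ hi₁ hM₁ fun m hm τ hτ => by
    obtain ⟨h, hB⟩ := hB₁ m hm τ hτ
    exact hγT τ ⟨⟨τ, h⟩, hT₁ hB, rfl⟩
  obtain ⟨g₂, hg₂, hg₂e⟩ := extend_one hr (Subgroup.mul_mem _ hγ (hG δ.2)) hf₂ hi₂ hM₂ fun m hm τ hτ => by
    obtain ⟨h, hB⟩ := hB₂ m hm τ hτ
    have := hγT _ ⟨_, hδB _ hB, rfl⟩
    simpa [mul_assoc] using this
  exact ⟨γ, hγ, δ, hδ, g₁, g₂, hg₁, hg₂, hg₁e, fun x hx => by
    rw [hg₂e x hx, autFn_mul _ _ (hi₂.le (mem_img_of_mem hx))]⟩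

/-- An edge with no full end is replaced by two larger edges. -/
theorem expand_conn (hS : IsPGroup p S) {R Q : Subgroup Ω} {g : Ω → Ω} (hg : Fn F R g) (hQR : Q ≤ R)
    (hR : R ≤ normalizerIn S Q) (hlt : R ≠ normalizerIn S Q) (hlt' : img g R ≠ normalizerIn S (img g Q))
    (hgood : Good F p R) : Conn F (Nat.card R + 1) Q (img g Q) := by
  classical
  obtain ⟨W, hW, hA, hr⟩ := hgood
  obtain ⟨f₁, hf₁, hi₁⟩ := isConj_iff.1 hW
  obtain ⟨g', hg', hg'g, hg'i⟩ := hg.exists_inv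
  have hgm : ∀ y ∈ img g R, g' y ∈ R := fun y hy => hg'i.le (mem_img_of_mem hy)
  have hf₂ := hg'.comp hf₁ hgm
  have hi₂ : img (f₁ ∘ g') (img g R) = W := by rw [hg'.img_comp, hg'i, hi₁]
  set Q₀ := img f₁ Q
  have hQ₀W : Q₀ ≤ W := hi₁ ▸ img_mono hQR
  let G₀ : Subgroup (MulAut W) :=
    { carrier := {τ | τ ∈ F.autGroup W ∧ ∀ y : W, (y : Ω) ∈ Q₀ → ((τ y : W) : Ω) ∈ Q₀}
      one_mem' := ⟨Subgroup.one_mem _, fun y hy => hy⟩
      mul_mem' := fun ha hb => ⟨Subgroup.mul_mem _ ha.1 hb.1, fun y hy => ha.2 _ (hb.2 y hy)⟩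
      inv_mem' := fun {a} ha => ⟨Subgroup.inv_mem _ ha.1, fun y hy => by
        haveI := finite_of_le_base ((hi₁ ▸ hf₁.img_le_base) : W ≤ S)
        have hfa := ((mem_autGroup_iff_fn hr.1).1 ha.1).mono hQ₀W
        have hs := hfa.img_eq_self fun z hz => by rw [autFn_coe a ⟨z, hQ₀W hz⟩]; exact ha.2 _ hz
        haveI := finite_of_le_base hfa.le
        obtain ⟨z, hz, hzy⟩ := hfa.mem_img.1 (hs.ge hy)
        rw [autFn_coe a ⟨z, hQ₀W hz⟩] at hzy
        rw [show y = a ⟨z, hQ₀W hz⟩ from Subtype.ext hzy.symm, MulAut.inv_apply_self]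
        exact hz⟩ }
  have hgi : img g Q ≤ img g R := img_mono hQR
  set Q' := img g Q
  have hg₂Q : img (f₁ ∘ g') Q' = Q₀ := by
    rw [← (hg.mono hQR).img_comp]
    exact img_congr fun x hx => congrArg f₁ (hg'g x (hQR hx))
  have hgR : img g R ≤ normalizerIn S Q' := img_le fun n hn => hg.map_normalizer hQR rfl hn (hR hn).2
  have hstab : ∀ (X Y : Subgroup Ω) (f : Ω → Ω), Fn F X f → img f X = W → Y ≤ X → img f Y = Q₀ →
      ∀ m ∈ normalizerIn (normalizerIn S Y) X, ∃ τ ∈ G₀, ∀ x ∈ X, autFn τ (f x) = f (m * x * m⁻¹) := by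
    intro X Y f hf hi hYX hY m hm
    obtain ⟨τ, hτ, hτe⟩ := exists_transported hf hi (⟨hm.1.1, hm.2⟩ : m ∈ normalizerIn S X)
    refine ⟨τ, ⟨hτ, fun y hy => ?_⟩, hτe⟩
    obtain ⟨x, hx, hxy⟩ := (hf.mono hYX).mem_img.1 (hY.ge hy)
    rw [← autFn_coe, ← hxy, hτe x (hYX hx), ← hY]
    exact mem_img_of_mem ((Subgroup.mem_normalizer_iff.1 hm.1.2 x).1 hx)
  obtain ⟨γ, hγ, δ, hδ, h₁, h₂, hh₁, hh₂, he₁, he₂⟩ := two_push hS hA hr (G₀ := G₀) (K := G₀) (fun a ha => ha.1)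
    le_rfl (fun a ha k hk => Subgroup.mul_mem _ (Subgroup.mul_mem _ ha hk) (Subgroup.inv_mem _ ha))
    (fun a ha => ⟨0, by simpa using ha⟩) hf₁ hi₁ hf₂ hi₂
    (M₁ := normalizerIn (normalizerIn S Q) R) (M₂ := normalizerIn (normalizerIn S Q') (img g R))
    (fun m hm => ⟨hm.1.1, hm.2⟩) (fun m hm => ⟨hm.1.1, hm.2⟩)
    (hstab R Q f₁ hf₁ hi₁ hQR rfl) (hstab (img g R) Q' (f₁ ∘ g') hf₂ hi₂ hgi hg₂Q)
  have hlarge : ∀ (X Y : Subgroup Ω), X ≤ normalizerIn S Y → X ≠ normalizerIn S Y →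
      Nat.card X + 1 ≤ Nat.card ↥(X ⊔ normalizerIn (normalizerIn S Y) X) := by
    intro X Y hX hne
    haveI := finite_of_le_base (normalizerIn_le (S := S) (P := Y))
    have h := lt_normalizerIn (S := normalizerIn S Y) (hS.to_le normalizerIn_le) (lt_of_le_of_ne hX hne)
    have hle : X ⊔ normalizerIn (normalizerIn S Y) X ≤ S :=
      sup_le (hX.trans normalizerIn_le) (normalizerIn_le.trans normalizerIn_le)
    haveI := finite_of_le_base hle
    exact Set.Finite.card_lt_card (Set.toFinite ((X ⊔ normalizerIn (normalizerIn S Y) X : Subgroup Ω) : Set Ω))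
      (lt_of_lt_of_le h le_sup_right : X < X ⊔ normalizerIn (normalizerIn S Y) X)
  have hcard := hg.card_img
  have e1 : Edge F (Nat.card R + 1) Q (img h₁ Q) :=
    ⟨_, h₁, hh₁, hQR.trans le_sup_left, sup_le hR fun m hm => hm.1, hlarge R Q hR hlt, rfl⟩
  have e2 : Edge F (Nat.card R + 1) Q' (img h₁ Q) := by
    refine ⟨_, h₂, hh₂, hgi.trans le_sup_left, sup_le hgR fun m hm => hm.1, hcard ▸ hlarge _ Q' hgR hlt', ?_⟩
    have hδQ : img (autFn δ) Q₀ = Q₀ := by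
      haveI := finite_of_le_base hr.1
      haveI : Finite Q₀ := finite_of_le_base (hQ₀W.trans hr.1)
      refine (((mem_autGroup_iff_fn hr.1).1 hδ.1).mono hQ₀W).img_eq_self fun z hz => ?_
      rw [autFn_coe δ ⟨z, hQ₀W hz⟩]
      exact hδ.2 _ hz
    have e3 : img h₂ Q' = img (autFn γ ∘ autFn δ ∘ (f₁ ∘ g')) Q' :=
      img_congr fun x hx => he₂ x (hgi hx)
    have e4 : img h₁ Q = img (autFn γ ∘ f₁) Q := img_congr fun x hx => he₁ x (hQR hx)
    rw [e3, e4, (hf₁.mono hQR).img_comp]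
    have hδf : Fn F Q' (autFn δ ∘ (f₁ ∘ g')) := (hf₂.mono hgi).comp ((mem_autGroup_iff_fn hr.1).1 hδ.1)
      fun x hx => hi₂.le (mem_img_of_mem (hgi hx))
    rw [hδf.img_comp, (hf₂.mono hgi).img_comp, hg₂Q, hδQ]
  exact Relation.ReflTransGen.head e1 (Relation.ReflTransGen.single e2.symm)

/-- Connected subgroups map into a normalizer-maximal one. -/
theorem up_of_conn (hS : IsPGroup p S) {P : Subgroup Ω} (hP : F.IsFullyNormalized P)
    (hgood : ∀ R ≤ S, Nat.card P < Nat.card R → Good F p R) :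
    ∀ r, Nat.card P < r → ∀ Q, Conn F r Q P → Up F Q P := by
  intro r
  induction hk : Nat.card S + 1 - r using Nat.strong_induction_on generalizing r with
  | _ k ih =>
  intro hr Q hQ
  induction hQ using Relation.ReflTransGen.head_induction_on with
  | refl => exact ⟨id, fn_id normalizerIn_le, img_id P⟩
  | @head Q Q₁ he hrest ihc =>
    obtain ⟨R, g, hg, hQR, hRN, hrR, hi⟩ := he
    subst hi
    obtain ⟨ψ, hψ, hψi⟩ := ihc
    have hgR : ∀ n ∈ R, g n ∈ normalizerIn S (img g Q) := fun n hn => hg.map_normalizer hQR rfl hn (hRN hn).2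
    have hRS : Nat.card R ≤ Nat.card S := Subgroup.card_le_of_le hg.le
    by_cases h1 : R = normalizerIn S Q
    · subst h1
      exact ⟨ψ ∘ g, hg.comp hψ hgR, by rw [(hg.mono hQR).img_comp, hψi]⟩
    by_cases h2 : img g R = normalizerIn S (img g Q)
    · have hcomp := hg.comp hψ hgR
      have hcQ : img (ψ ∘ g) Q = P := by rw [(hg.mono hQR).img_comp, hψi]
      have hPQ : F.IsConj P Q := isConj_symm (isConj_iff.2 ⟨_, hcomp.mono hQR, hcQ⟩)
      have hlt : Nat.card R < Nat.card (normalizerIn S Q) := by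
        haveI := finite_of_le_base (normalizerIn_le (S := S) (P := Q))
        exact Set.Finite.card_lt_card (Set.toFinite (normalizerIn S Q : Set Ω))
          (lt_of_le_of_ne hRN h1 : R < normalizerIn S Q)
      have hne : img (ψ ∘ g) R ≠ normalizerIn S (img (ψ ∘ g) Q) := by
        rw [hcQ]
        intro e
        have := hP.2 Q hPQ
        rw [← e, hcomp.card_img] at this
        omega
      have hc := expand_conn hS hcomp hQR hRN h1 hne (hgood R hg.le (lt_of_lt_of_le hr hrR))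
      rw [hcQ] at hc
      exact ih (Nat.card S + 1 - (Nat.card R + 1)) (by omega) _ rfl (by omega) Q hc
    · have hc := expand_conn hS hg hQR hRN h1 h2 (hgood R hg.le (lt_of_lt_of_le hr hrR))
      have hlt : Nat.card R < Nat.card (normalizerIn S (img g Q)) := by
        haveI := finite_of_le_base (normalizerIn_le (S := S) (P := img g Q))
        rw [← hg.card_img]
        exact Set.Finite.card_lt_card (Set.toFinite (normalizerIn S (img g Q) : Set Ω))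
          (lt_of_le_of_ne (img_le hgR) h2 : img g R < normalizerIn S (img g Q))
      have he2 : Edge F (Nat.card R + 1) (img g Q) P :=
        ⟨_, ψ, hψ, le_normalizerIn (hg.mono hQR).img_le_base, le_rfl, hlt, hψi⟩
      exact ih (Nat.card S + 1 - (Nat.card R + 1)) (by omega) _ rfl (by omega) Q (hc.tail he2)

section Class

variable (ℋ : Set (Subgroup Ω)) (hS : IsPGroup p S) (hℋS : ∀ P ∈ ℋ, P ≤ S)
  (hℋconj : ∀ P ∈ ℋ, ∀ Q, F.IsConj P Q → Q ∈ ℋ)
  (hgen : ∀ E : FusionSystem S, (∀ P ∈ ℋ, F.Hom P ⊆ E.Hom P) → F ≤ E)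
  {P : Subgroup Ω} (hP : F.IsFullyNormalized P) (hPH : P ∉ ℋ) (hPS : P ≠ S)
  (hgood : ∀ R ≤ S, Nat.card P < Nat.card R → Good F p R)
include hS hℋS hℋconj hgen hP hPH hPS hgood

/-- Every conjugate maps into `P` on its normalizer. -/
theorem exists_up {Q : Subgroup Ω} (hPQ : F.IsConj P Q) : Up F Q P := by
  let C : Subgroup Ω → (Ω → Ω) → Prop := fun X f =>
    ∀ Q ≤ X, F.IsConj P Q → Conn F (Nat.card P + 1) Q (img f Q)
  have hedge : ∀ (R : Subgroup Ω) (f : Ω → Ω) (Q : Subgroup Ω), Fn F R f → Q < R → F.IsConj P Q →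
      Conn F (Nat.card P + 1) Q (img f Q) := by
    intro R f Q hf hQR hPQ
    haveI := finite_of_le_base hf.le
    have h := lt_normalizerIn (hS.to_le hf.le) hQR
    haveI := finite_of_le_base ((normalizerIn_le (S := R) (P := Q)).trans hf.le)
    have hlt := Set.Finite.card_lt_card (Set.toFinite (normalizerIn R Q : Set Ω)) h
    refine Relation.ReflTransGen.single ⟨normalizerIn R Q, f, hf.mono normalizerIn_le,
      h.le, inf_le_inf hf.le le_rfl, ?_, rfl⟩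
    rw [← isConj_card hPQ]
    exact hlt
  let E := predSystem F C
    (fun X f g he _ h Q hQ hPQ => by rw [← img_congr fun x hx => he x (hQ hx)]; exact h Q hQ hPQ)
    (fun X hX s hs Q hQ hPQ => by
      refine hedge S _ Q (fn_conj le_rfl hs) (lt_of_le_of_ne (hQ.trans hX) fun e => hPS ?_) hPQ
      subst e
      exact eq_of_le_of_card le_rfl hP.1 (isConj_card hPQ).le)
    (fun X R f g hf hg hm h h' Q hQ hPQ => by
      have hfQ := hf.mono hQ
      rw [hfQ.img_comp]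
      exact (h Q hQ hPQ).trans (h' _ (img_le fun x hx => hm x (hQ hx)) (isConj_trans hPQ (isConj_of_fn hfQ))))
    (fun X f g hf hg hgf h Q hQ hPQ => by
      have hgQ := hg.mono hQ
      have hQ' : img g Q ≤ X := img_le fun y hy => by
        obtain ⟨x, hx, rfl⟩ := hf.mem_img.1 (hQ hy)
        rw [hgf x hx]
        exact hx
      have e : img f (img g Q) = Q := by
        rw [← hgQ.img_comp]
        refine (img_congr fun y hy => ?_).trans (img_id Q)
        obtain ⟨x, hx, rfl⟩ := hf.mem_img.1 (hQ hy)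
        show f (g (f x)) = f x
        rw [hgf x hx]
      have hc := h _ hQ' (isConj_trans hPQ (isConj_of_fn hgQ))
      rw [e] at hc
      exact hc.symm)
  have hle : F ≤ E := hgen E fun X hX φ hφ => ⟨hφ, fun Q hQ hPQ =>
    hedge X _ Q (fn_ofHom hφ) (lt_of_le_of_ne hQ fun e => hPH (hℋconj X hX P (e ▸ isConj_symm hPQ))) hPQ⟩
  obtain ⟨f, hf, hfi⟩ := isConj_iff.1 (isConj_symm hPQ)
  have hc := (fn_predSystem.1 (fn_of_le hle hf)).2 Q le_rfl hPQ
  rw [hfi] at hc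
  exact up_of_conn hS hP hgood _ (Nat.lt_succ_self _) Q hc

omit hℋS hℋconj hgen hP hPH hPS hgood hS in
theorem exists_pushed {X Q : Subgroup Ω} {f ψ ψ' : Ω → Ω} (hf : Fn F X f) (hQX : Q ≤ X)
    (hψ : Fn F (normalizerIn S Q) ψ) (hψi : img ψ Q = P) (hψ' : Fn F (normalizerIn S (img f Q)) ψ')
    (hψ'i : img ψ' (img f Q) = P) :
    ∃ α ∈ F.autGroup P, ∀ x ∈ Q, autFn α (ψ x) = ψ' (f x) := by
  have hQS : Q ≤ S := hQX.trans hf.le
  have hψQ := hψ.mono (le_normalizerIn hQS)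
  obtain ⟨φ, hφ, hφψ, hφi⟩ := hψQ.exists_inv
  rw [hψi] at hφ hφi
  have hm1 : ∀ y ∈ P, φ y ∈ X := fun y hy => hQX (hφi.le (mem_img_of_mem hy))
  have hfQ := hf.mono hQX
  have hm2 : ∀ y ∈ P, (f ∘ φ) y ∈ normalizerIn S (img f Q) := fun y hy =>
    le_normalizerIn hfQ.img_le_base (mem_img_of_mem (hφi.le (mem_img_of_mem hy)))
  have hc := (hφ.comp hf hm1).comp hψ' hm2
  have hci : img (ψ' ∘ (f ∘ φ)) P = P := by
    rw [(hφ.comp hf hm1).img_comp, hφ.img_comp, hφi, hψ'i]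
  obtain ⟨α, hα, hαe⟩ := exists_aut_of_fn hc hci
  refine ⟨α, hα, fun x hx => ?_⟩
  have hxP : ψ x ∈ P := hψi.le (mem_img_of_mem hx)
  rw [autFn_coe α ⟨ψ x, hxP⟩, hαe]
  show ψ' (f (φ (ψ x))) = _
  rw [hφψ x hx]

/-- The automorphisms are generated by restrictions from larger subgroups of the normalizer. -/
theorem autGroup_le_gen : F.autGroup P ≤ Gen F (Nat.card P + 1) P := by
  let C : Subgroup Ω → (Ω → Ω) → Prop := fun X f =>
    ∀ Q ≤ X, F.IsConj P Q → ∀ ψ ψ' : Ω → Ω, Fn F (normalizerIn S Q) ψ → img ψ Q = P →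
      Fn F (normalizerIn S (img f Q)) ψ' → img ψ' (img f Q) = P →
      ∀ α : MulAut P, (∀ x ∈ Q, autFn α (ψ x) = ψ' (f x)) → α ∈ Gen F (Nat.card P + 1) P
  have hedge : ∀ (R : Subgroup Ω) (f : Ω → Ω) (Q : Subgroup Ω), Fn F R f → Q < R → F.IsConj P Q →
      ∀ ψ ψ' : Ω → Ω, Fn F (normalizerIn S Q) ψ → img ψ Q = P →
      Fn F (normalizerIn S (img f Q)) ψ' → img ψ' (img f Q) = P →
      ∀ α : MulAut P, (∀ x ∈ Q, autFn α (ψ x) = ψ' (f x)) → α ∈ Gen F (Nat.card P + 1) P := by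
    intro R f Q hf hQR hPQ ψ ψ' hψ hψi hψ' hψ'i α hα
    haveI := finite_of_le_base hf.le
    have h := lt_normalizerIn (hS.to_le hf.le) hQR
    haveI := finite_of_le_base ((normalizerIn_le (S := R) (P := Q)).trans hf.le)
    have hlt := Set.Finite.card_lt_card (Set.toFinite (normalizerIn R Q : Set Ω)) h
    have hRN : normalizerIn R Q ≤ normalizerIn S Q := inf_le_inf hf.le le_rfl
    have hψR := hψ.mono hRN
    obtain ⟨φ, hφ, hφψ, hφi⟩ := hψR.exists_inv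
    have hm1 : ∀ y ∈ img ψ (normalizerIn R Q), φ y ∈ normalizerIn R Q := fun y hy => hφi.le (mem_img_of_mem hy)
    have hm2 : ∀ y ∈ img ψ (normalizerIn R Q), (f ∘ φ) y ∈ normalizerIn S (img f Q) := fun y hy =>
      hf.map_normalizer hQR.le rfl (hm1 y hy).1 (hm1 y hy).2
    refine Subgroup.subset_closure ⟨_, _, (hφ.comp (hf.mono normalizerIn_le) hm1).comp hψ' hm2,
      hψi ▸ img_mono h.le, img_le fun n hn => hψ.map_normalizer (le_normalizerIn (hQR.le.trans hf.le)) hψi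
        (hRN hn) hn.2, ?_, fun x => ?_⟩
    · rw [hψR.card_img, ← isConj_card hPQ]
      exact hlt
    · obtain ⟨y, hy, hyx⟩ := (hψ.mono (le_normalizerIn (hQR.le.trans hf.le))).mem_img.1 (hψi.ge x.2)
      show _ = ψ' (f (φ x))
      rw [← hyx, hφψ y (h.le hy), ← hα y hy, hyx, autFn_coe]
  let E := predSystem F C
    (fun X f g he _ h Q hQ hPQ ψ ψ' h1 h2 h3 h4 α hα => by
      have e : img f Q = img g Q := img_congr fun x hx => he x (hQ hx)
      exact h Q hQ hPQ ψ ψ' h1 h2 (e ▸ h3) (e ▸ h4) α fun x hx => by rw [hα x hx, he x (hQ hx)])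
    (fun X hX s hs Q hQ hPQ => by
      refine hedge S _ Q (fn_conj le_rfl hs) (lt_of_le_of_ne (hQ.trans hX) fun e => hPS ?_) hPQ
      subst e
      exact eq_of_le_of_card le_rfl hP.1 (isConj_card hPQ).le)
    (fun X R f g hf hg hm h h' Q hQ hPQ ψ ψ' h1 h2 h3 h4 α hα => by
      have hfQ := hf.mono hQ
      have hQ'R : img f Q ≤ R := img_le fun x hx => hm x (hQ hx)
      have hPQ' := isConj_trans hPQ (isConj_of_fn hfQ)
      obtain ⟨ψm, hψm, hψmi⟩ := exists_up ℋ hS hℋS hℋconj hgen hP hPH hPS hgood hPQ'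
      rw [hfQ.img_comp] at h3 h4
      obtain ⟨β, -, hβ⟩ := exists_pushed hf hQ h1 h2 hψm hψmi
      obtain ⟨β', -, hβ'⟩ := exists_pushed hg hQ'R hψm hψmi h3 h4
      have e : α = β' * β := mulAut_ext fun y hy => by
        obtain ⟨x, hx, rfl⟩ := (h1.mono (le_normalizerIn hfQ.le)).mem_img.1 (h2.ge hy)
        rw [hα x hx, autFn_mul _ _ hy, hβ x hx, hβ' _ (mem_img_of_mem hx)]
        rfl
      rw [e]
      exact Subgroup.mul_mem _ (h' _ hQ'R hPQ' ψm ψ' hψm hψmi h3 h4 β' hβ')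
        (h Q hQ hPQ ψ ψm h1 h2 hψm hψmi β hβ))
    (fun X f g hf hg hgf h Q hQ hPQ ψ ψ' h1 h2 h3 h4 α hα => by
      have hgQ := hg.mono hQ
      have hQ' : img g Q ≤ X := img_le fun y hy => by
        obtain ⟨x, hx, rfl⟩ := hf.mem_img.1 (hQ hy)
        rw [hgf x hx]
        exact hx
      have hfg : ∀ y ∈ Q, f (g y) = y := fun y hy => by
        obtain ⟨x, hx, rfl⟩ := hf.mem_img.1 (hQ hy)
        rw [hgf x hx]
      have e : img f (img g Q) = Q := by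
        rw [← hgQ.img_comp]
        exact (img_congr fun y hy => hfg y hy).trans (img_id Q)
      have hc := h _ hQ' (isConj_trans hPQ (isConj_of_fn hgQ)) ψ' ψ h3 h4 (e.symm ▸ h1) (e.symm ▸ h2) α⁻¹
        fun y hy => by
          obtain ⟨x, hx, rfl⟩ := hgQ.mem_img.1 hy
          rw [hfg x hx, ← hα x hx, autFn_inv_apply α (h2.le (mem_img_of_mem hx))]
      simpa using Subgroup.inv_mem _ hc)
  have hle : F ≤ E := hgen E fun X hX φ hφ => ⟨hφ, fun Q hQ hPQ =>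
    hedge X _ Q (fn_ofHom hφ) (lt_of_le_of_ne hQ fun e => hPH (hℋconj X hX P (e ▸ isConj_symm hPQ))) hPQ⟩
  intro α hα
  refine (fn_predSystem.1 (fn_of_le hle ((mem_autGroup_iff_fn hP.1).1 hα))).2 P le_rfl (isConj_refl hP.1) id id
    (fn_id normalizerIn_le) (img_id P) (fn_id normalizerIn_le) ?_ α fun x hx => rfl
  rw [img_autFn, img_id]

/-- A maximal representative with an overgroup through which all automorphisms extend is fully automized
and receptive; the class is good. -/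
theorem good_of_core
    (hL : ∃ n ∈ S, n ∉ P ∧ ∃ o ∈ (pCore p (F.autGroup P)).map (F.autGroup P).subtype,
      ∀ x : P, ((o x : P) : Ω) = n * (x : Ω) * n⁻¹) : Good F p P := by
  classical
  haveI := finite_of_le_base hP.1
  haveI : Finite (MulAut P) := Finite.of_injective (fun f : MulAut P => (f : P → P)) DFunLike.coe_injective
  set A := F.autGroup P
  set O := (pCore p A).map A.subtype with hO
  have hOA : O ≤ A := Subgroup.map_subtype_le _
  have hOp : IsPGroup p O := (CfsgLib.Solvable.Cores.isPGroup_pCore p).map _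
  haveI : (pCore p A).Normal := CfsgLib.Solvable.Cores.pCore_normal p
  have hOn : ∀ a ∈ A, ∀ o ∈ O, a * o * a⁻¹ ∈ O := by
    rintro a ha _ ⟨o, ho, rfl⟩
    exact ⟨⟨a, ha⟩ * o * ⟨a, ha⟩⁻¹, Subgroup.Normal.conj_mem inferInstance o ho ⟨a, ha⟩, rfl⟩
  let L : Subgroup Ω :=
    { carrier := {n | n ∈ S ∧ ∃ o ∈ O, ∀ x : P, ((o x : P) : Ω) = n * (x : Ω) * n⁻¹}
      one_mem' := ⟨S.one_mem, 1, Subgroup.one_mem _, fun x => by simp⟩
      mul_mem' := fun {a b} ⟨ha, oa, hoa, ea⟩ ⟨hb, ob, hob, eb⟩ =>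
        ⟨S.mul_mem ha hb, oa * ob, Subgroup.mul_mem _ hoa hob, fun x => by
          rw [MulAut.mul_apply, ea, eb]; group⟩
      inv_mem' := fun {a} ⟨ha, oa, hoa, ea⟩ => ⟨S.inv_mem ha, oa⁻¹, Subgroup.inv_mem _ hoa, fun x => by
        have h := ea (oa⁻¹ x)
        rw [MulAut.apply_inv_self] at h
        rw [h]; group⟩ }
  have hLN : L ≤ normalizerIn S P := fun n hn =>
    ⟨hn.1, mem_normalizer_of_autEq hn.2.choose_spec.2⟩
  have hLS : L ≤ S := hLN.trans normalizerIn_le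
  have hPL : P ≤ L := by
    have hInn : (Inn P).subgroupOf A ≤ pCore p A := by
      refine le_sSup (s := {N : Subgroup A | N.Normal ∧ IsPGroup p N}) ⟨⟨?_⟩, ?_⟩
      · rintro a ⟨x, hx⟩ g
        refine ⟨(g : MulAut P) x, ?_⟩
        show MulAut.conj ((g : MulAut P) x) = (g : MulAut P) * (a : MulAut P) * (g : MulAut P)⁻¹
        have ha : (a : MulAut P) = MulAut.conj x := hx.symm
        rw [ha]
        ext y
        simp [MulAut.mul_apply]
      · refine IsPGroup.comap_of_injective (H := Inn P) ?_ _ (Subgroup.subtype_injective _)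
        exact (hS.to_le hP.1).of_surjective (MulAut.conj : P →* MulAut P).rangeRestrict
          (MonoidHom.rangeRestrict_surjective _)
    intro n hn
    have hcA : MulAut.conj (⟨n, hn⟩ : P) ∈ A := autInducedBy_le_autGroup hP.1
      (mem_autInducedBy.2 ⟨n, hP.1 hn, fun x => rfl⟩)
    exact ⟨hP.1 hn, _, ⟨⟨_, hcA⟩, hInn ⟨⟨n, hn⟩, rfl⟩, rfl⟩, fun x => rfl⟩
  have hPlt : P < L := by
    obtain ⟨n, hnS, hnP, ho⟩ := hL
    exact lt_of_le_of_ne hPL fun e => hnP (e.ge ⟨hnS, ho⟩)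
  haveI := finite_of_le_base hLS
  have hPLcard : Nat.card P < Nat.card L := Set.Finite.card_lt_card (Set.toFinite (L : Set Ω)) hPlt
  have hLn : ∀ n ∈ normalizerIn S P, ∀ l ∈ L, n * l * n⁻¹ ∈ L := by
    rintro n hn l ⟨hl, o, ho, he⟩
    refine ⟨S.mul_mem (S.mul_mem hn.1 hl) (S.inv_mem hn.1), _, hOn _ (autInducedBy_le_autGroup hP.1
      (conjAut_mem_autInducedBy hn.2 hn.1)) o ho, fun x => ?_⟩
    rw [MulAut.mul_apply, MulAut.mul_apply, conjAut_coe, he]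
    have h := conjAut_coe hn.2 ((conjAut P hn.2)⁻¹ x)
    rw [MulAut.apply_inv_self] at h
    rw [h]; group
  -- maps on overgroups of `L` stabilize `L`
  have hstab : ∀ (R : Subgroup Ω) (g : Ω → Ω) (α : MulAut P), Fn F R g → P ≤ R → α ∈ A →
      (∀ x : P, ((α x : P) : Ω) = g x) → ∀ l ∈ R, l ∈ L → g l ∈ L := by
    rintro R g α hg hPR hα hαg l hlR ⟨hl, o, ho, he⟩
    refine ⟨hg.mem hlR, _, hOn α hα o ho, fun x => ?_⟩
    obtain ⟨y, rfl⟩ := α.surjective x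
    rw [MulAut.mul_apply, MulAut.mul_apply, MulAut.inv_apply_self, hαg, hαg, he, hg.map_conj hlR (hPR y.2)]
  let Ext : Subgroup (MulAut P) :=
    { carrier := {α | α ∈ A ∧ ∃ g : Ω → Ω, Fn F L g ∧ ∀ x : P, ((α x : P) : Ω) = g x}
      one_mem' := ⟨Subgroup.one_mem _, id, fn_id hLS, fun x => rfl⟩
      mul_mem' := fun {a b} ⟨ha, g, hg, hga⟩ ⟨hb, g', hg', hgb⟩ =>
        ⟨Subgroup.mul_mem _ ha hb, g ∘ g', hg'.comp hg fun l hl => hstab L g' b hg' hPL hb hgb l hl hl,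
          fun x => by rw [MulAut.mul_apply, hga, hgb]; rfl⟩
      inv_mem' := fun {a} ⟨ha, g, hg, hga⟩ => by
        obtain ⟨g', hg', hg'g, -⟩ := hg.exists_inv
        rw [hg.img_eq_self fun l hl => hstab L g a hg hPL ha hga l hl hl] at hg'
        refine ⟨Subgroup.inv_mem _ ha, g', hg', fun x => ?_⟩
        obtain ⟨y, rfl⟩ := a.surjective x
        rw [MulAut.inv_apply_self, hga y, hg'g _ (hPL y.2)] }
  have hgenE : ∀ r, Nat.card P < r → Gen F r P ≤ Ext := by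
    intro r
    induction hk : Nat.card S + 1 - r using Nat.strong_induction_on generalizing r with
    | _ k ih =>
    intro hr
    refine (Subgroup.closure_le _).2 ?_
    rintro α ⟨R, g, hg, hPR, hRN, hrR, hαg⟩
    have hgP : img g P = P := (hg.mono hPR).img_eq_self fun x hx => hαg ⟨x, hx⟩ ▸ (α ⟨x, hx⟩).2
    have hαA : α ∈ A := (mem_autGroup hP.1).2 (mem_hom_of_fn (hg.mono hPR) hαg)
    by_cases hLR : L ≤ R
    · exact ⟨hαA, g, hg.mono hLR, hαg⟩
    have hRS : Nat.card R ≤ Nat.card S := Subgroup.card_le_of_le hg.le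
    have hnext : Gen F (Nat.card R + 1) P ≤ Ext :=
      ih (Nat.card S + 1 - (Nat.card R + 1)) (by omega) _ rfl (by omega)
    set R₂ := img g R
    have hPR₂ : P ≤ R₂ := hgP ▸ img_mono hPR
    have hR₂N : R₂ ≤ normalizerIn S P := img_le fun n hn => hg.map_normalizer hPR hgP hn (hRN hn).2
    obtain ⟨W, hW, hA', hr'⟩ := hgood R hg.le (lt_of_lt_of_le hr hrR)
    obtain ⟨f₁, hf₁, hi₁⟩ := isConj_iff.1 hW
    obtain ⟨g', hg', hg'g, hg'i⟩ := hg.exists_inv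
    have hLR₂ : ¬ L ≤ R₂ := fun h => by
      have hg'P : ∀ x : P, ((α⁻¹ x : P) : Ω) = g' x := fun x => by
        obtain ⟨y, rfl⟩ := α.surjective x
        rw [MulAut.inv_apply_self, hαg y, hg'g _ (hPR y.2)]
      have h1 : img g' L ≤ L := img_le fun l hl =>
        hstab R₂ g' α⁻¹ hg' hPR₂ (Subgroup.inv_mem _ hαA) hg'P l (h hl) hl
      have h2 : img g' L = L := eq_of_le_of_card hLS h1 (hg'.mono h).card_img.ge
      exact hLR (h2 ▸ (img_mono h).trans hg'i.le)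
    have hm : ∀ y ∈ R₂, g' y ∈ R := fun y hy => hg'i.le (mem_img_of_mem hy)
    have hf₂ := hg'.comp hf₁ hm
    have hi₂ : img (f₁ ∘ g') R₂ = W := by rw [hg'.img_comp, hg'i, hi₁]
    have hfP : ∀ x : P, f₁ x ∈ W := fun x => hi₁.le (mem_img_of_mem (hPR x.2))
    let G₀ : Subgroup (MulAut W) :=
      { carrier := {τ | τ ∈ F.autGroup W ∧ ∃ o ∈ O, ∀ x : P, autFn τ (f₁ x) = f₁ ((o x : P) : Ω)}
        one_mem' := ⟨Subgroup.one_mem _, 1, Subgroup.one_mem _, fun x => autFn_coe 1 ⟨_, hfP x⟩⟩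
        mul_mem' := fun {a b} ⟨ha, oa, hoa, ea⟩ ⟨hb, ob, hob, eb⟩ =>
          ⟨Subgroup.mul_mem _ ha hb, oa * ob, Subgroup.mul_mem _ hoa hob, fun x => by
            rw [autFn_mul _ _ (hfP x), eb, ea, MulAut.mul_apply]⟩
        inv_mem' := fun {a} ⟨ha, oa, hoa, ea⟩ =>
          ⟨Subgroup.inv_mem _ ha, oa⁻¹, Subgroup.inv_mem _ hoa, fun x => by
            obtain ⟨y, rfl⟩ := oa.surjective x
            rw [← ea y, autFn_inv_apply a (hfP y), MulAut.inv_apply_self]⟩ }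
    let K : Subgroup (MulAut W) :=
      { carrier := {τ | τ ∈ F.autGroup W ∧ ∀ x : P, autFn τ (f₁ x) = f₁ x}
        one_mem' := ⟨Subgroup.one_mem _, fun x => autFn_coe 1 ⟨_, hfP x⟩⟩
        mul_mem' := fun {a b} ⟨ha, ea⟩ ⟨hb, eb⟩ =>
          ⟨Subgroup.mul_mem _ ha hb, fun x => by rw [autFn_mul _ _ (hfP x), eb, ea]⟩
        inv_mem' := fun {a} ⟨ha, ea⟩ => ⟨Subgroup.inv_mem _ ha, fun x => by
            conv_lhs => rw [← ea x]
            exact autFn_inv_apply a (hfP x)⟩ }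
    have hKn : ∀ a ∈ G₀, ∀ k ∈ K, a * k * a⁻¹ ∈ K := by
      intro a ha k hk
      refine ⟨Subgroup.mul_mem _ (Subgroup.mul_mem _ ha.1 hk.1) (Subgroup.inv_mem _ ha.1), fun x => ?_⟩
      obtain ⟨-, o', -, eo'⟩ := G₀.inv_mem ha
      rw [autFn_mul _ _ (hfP x), eo', autFn_mul _ _ (hfP _), hk.2, ← eo', autFn_apply_inv a (hfP x)]
    have hKp : ∀ a ∈ G₀, ∃ n : ℕ, a ^ p ^ n ∈ K := by
      rintro a ⟨ha, o, ho, e⟩
      obtain ⟨n, hn⟩ := hOp ⟨o, ho⟩
      refine ⟨n, Subgroup.pow_mem _ ha _, fun x => ?_⟩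
      have hpow : ∀ (j : ℕ) (x : P), autFn (a ^ j) (f₁ x) = f₁ (((o ^ j) x : P) : Ω) := by
        intro j
        induction j with
        | zero => intro x; exact autFn_coe 1 ⟨_, hfP x⟩
        | succ j ihj => intro x; rw [pow_succ, pow_succ, autFn_mul _ _ (hfP x), e, ihj, MulAut.mul_apply]
      rw [hpow, show o ^ p ^ n = 1 from congrArg Subtype.val hn]
      rfl
    have hM₁ : ∀ m ∈ normalizerIn L R, ∃ τ ∈ G₀, ∀ x ∈ R, autFn τ (f₁ x) = f₁ (m * x * m⁻¹) := by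
      intro m hm
      obtain ⟨τ, hτ, hτe⟩ := exists_transported hf₁ hi₁ (⟨hLS hm.1, hm.2⟩ : m ∈ normalizerIn S R)
      obtain ⟨-, o, ho, he⟩ := hm.1
      exact ⟨τ, ⟨hτ, o, ho, fun x => by rw [hτe x (hPR x.2), he]⟩, hτe⟩
    have hM₂ : ∀ m ∈ normalizerIn L R₂, ∃ τ ∈ G₀, ∀ x ∈ R₂, autFn τ ((f₁ ∘ g') x) = (f₁ ∘ g') (m * x * m⁻¹) := by
      intro m hm
      obtain ⟨τ, hτ, hτe⟩ := exists_transported hf₂ hi₂ (⟨hLS hm.1, hm.2⟩ : m ∈ normalizerIn S R₂)
      obtain ⟨-, o, ho, he⟩ := hm.1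
      refine ⟨τ, ⟨hτ, α⁻¹ * o * α, ?_, fun x => ?_⟩, hτe⟩
      · have := hOn α⁻¹ (Subgroup.inv_mem _ hαA) o ho
        rwa [inv_inv] at this
      · have hgx : g x ∈ R₂ := mem_img_of_mem (hPR x.2)
        have h := hτe _ hgx
        show autFn τ (f₁ x) = _
        rw [show (f₁ ∘ g') (g x) = f₁ x from congrArg f₁ (hg'g _ (hPR x.2))] at h
        rw [h]
        show f₁ (g' (m * g x * m⁻¹)) = f₁ ((α⁻¹ (o (α x)) : P) : Ω)
        rw [← hαg, ← he]
        congr 1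
        obtain ⟨z, hz⟩ := α.surjective (o (α x))
        rw [← hz, MulAut.inv_apply_self, hαg, hg'g _ (hPR z.2)]
    obtain ⟨γ, hγ, δ, hδ, h₁, h₂, hh₁, hh₂, he₁, he₂⟩ := two_push hS hA' hr' (G₀ := G₀) (K := K)
      (fun a ha => ha.1) (fun a ha => ⟨ha.1, 1, Subgroup.one_mem _, ha.2⟩) hKn hKp hf₁ hi₁ hf₂ hi₂
      (M₁ := normalizerIn L R) (M₂ := normalizerIn L R₂)
      (fun m hm => ⟨hLS hm.1, hm.2⟩) (fun m hm => ⟨hLS hm.1, hm.2⟩) hM₁ hM₂
    have hlarge : ∀ X : Subgroup Ω, P ≤ X → X ≤ normalizerIn S P → ¬ L ≤ X →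
        Nat.card X + 1 ≤ Nat.card ↥(X ⊔ normalizerIn L X) ∧ X ⊔ normalizerIn L X ≤ normalizerIn S P := by
      intro X hPX hX hne
      refine ⟨?_, sup_le hX (normalizerIn_le.trans hLN)⟩
      have hXL : X ⊔ L ≤ S := sup_le (hX.trans normalizerIn_le) hLS
      haveI := finite_of_le_base hXL
      have hnorm : X ≤ Subgroup.normalizer (L : Set Ω) := fun n hn =>
        mem_normalizer_of_map_le fun l hl => hLn n (hX hn) l hl
      have h := lt_normalizerIn (S := X ⊔ L) (hS.to_le hXL) (lt_of_le_of_ne le_sup_left fun e => hne (e ▸ le_sup_right))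
      obtain ⟨n, hn, hnX⟩ := SetLike.exists_of_lt h
      have hn1 : n ∈ ((X ⊔ L : Subgroup Ω) : Set Ω) := hn.1
      rw [Subgroup.coe_mul_of_left_le_normalizer_right X L hnorm] at hn1
      obtain ⟨a, ha, l, hl, rfl⟩ := hn1
      have hlN : l ∈ Subgroup.normalizer (X : Set Ω) := by
        have := Subgroup.mul_mem _ (Subgroup.inv_mem _ (Subgroup.le_normalizer ha)) hn.2
        simpa using this
      have hlX : l ∉ X := fun h' => hnX (X.mul_mem ha h')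
      have hlt : X < X ⊔ normalizerIn L X :=
        lt_of_le_of_ne le_sup_left fun e => hlX (e.ge (Subgroup.mem_sup_right ⟨hl, hlN⟩))
      haveI := finite_of_le_base ((sup_le (hX.trans normalizerIn_le) (normalizerIn_le.trans hLS)) :
        X ⊔ normalizerIn L X ≤ S)
      exact Set.Finite.card_lt_card (Set.toFinite ((X ⊔ normalizerIn L X : Subgroup Ω) : Set Ω)) hlt
    obtain ⟨hc₁, hN₁⟩ := hlarge R hPR hRN hLR
    obtain ⟨hc₂, hN₂⟩ := hlarge R₂ hPR₂ hR₂N hLR₂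
    rw [hg.card_img] at hc₂
    have hkey : ∀ x ∈ P, h₂ (g x) = h₁ x := fun x hx => by
      rw [he₂ _ (mem_img_of_mem (hPR hx)), he₁ x (hPR hx)]
      show autFn γ (autFn δ (f₁ (g' (g x)))) = _
      rw [hg'g x (hPR hx), hδ.2 ⟨x, hx⟩]
    set Q₃ := img h₁ P
    have h12 : img h₂ P = Q₃ := by
      conv_lhs => rw [← hgP, ← (hg.mono hPR).img_comp]
      exact img_congr hkey
    obtain ⟨ψ, hψ, hψi⟩ := exists_up ℋ hS hℋS hℋconj hgen hP hPH hPS hgood
      (isConj_of_fn (hh₁.mono (hPR.trans le_sup_left)) : F.IsConj P Q₃)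
    have mk : ∀ (X : Subgroup Ω) (h : Ω → Ω), Fn F X h → P ≤ X → X ≤ normalizerIn S P → Nat.card R + 1 ≤ Nat.card X →
        img h P = Q₃ → ∃ β : MulAut P, β ∈ Ext ∧ ∀ x : P, ((β x : P) : Ω) = ψ (h x) := by
      intro X h hh hPX hX hc hi
      have hc' := hh.comp hψ fun n hn => hh.map_normalizer hPX hi hn (hX hn).2
      have hci : img (ψ ∘ h) P = P := by rw [(hh.mono hPX).img_comp, hi, hψi]
      obtain ⟨β, -, hβe⟩ := exists_aut_of_fn (hc'.mono hPX) hci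
      exact ⟨β, hnext (Subgroup.subset_closure ⟨X, _, hc', hPX, hX, hc, hβe⟩), hβe⟩
    obtain ⟨β₁, hβ₁, e₁⟩ := mk _ h₁ hh₁ (hPR.trans le_sup_left) hN₁ hc₁ rfl
    obtain ⟨β₂, hβ₂, e₂⟩ := mk _ h₂ hh₂ (hPR₂.trans le_sup_left) hN₂ hc₂ h12
    have e : α = β₂⁻¹ * β₁ := eq_inv_mul_of_mul_eq (MulEquiv.ext fun x => Subtype.ext (by
      rw [MulAut.mul_apply, e₁, e₂, hαg, hkey x x.2]))
    rw [e]
    exact Ext.mul_mem (Ext.inv_mem hβ₂) hβ₁
  have hAExt : A ≤ Ext := (autGroup_le_gen ℋ hS hℋS hℋconj hgen hP hPH hPS hgood).trans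
    (hgenE _ (Nat.lt_succ_self _))
  -- move to a good conjugate of `L`
  obtain ⟨W, hW, hWA, hWr⟩ := hgood L hLS hPLcard
  obtain ⟨g₀, hg₀, hg₀n, hg₀i⟩ := exists_normalizer_map hS hWA hWr hW
  have hNP : normalizerIn S P ≤ normalizerIn S L := fun n hn =>
    ⟨hn.1, mem_normalizer_of_map_le fun l hl => hLn n hn l hl⟩
  have hgN := hg₀.mono hNP
  have hPN := le_normalizerIn hP.1
  set Q := img g₀ P
  have hgPf := hgN.mono hPN
  have hPQ : F.IsConj P Q := isConj_of_fn hgPf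
  have himg : img g₀ (normalizerIn S P) = normalizerIn S Q :=
    eq_of_le_of_card normalizerIn_le (img_le fun n hn => hgN.map_normalizer hPN rfl hn hn.2)
      (hgN.card_img.symm ▸ hP.2 Q hPQ)
  have hQn : F.IsFullyNormalized Q :=
    ⟨hgPf.img_le_base, fun T hT => (hP.2 T (isConj_trans hPQ hT)).trans (by rw [← himg, hgN.card_img])⟩
  have hQcard : Nat.card Q = Nat.card P := isConj_card hPQ
  have hQH : Q ∉ ℋ := fun h => hPH (hℋconj Q h P (isConj_symm hPQ))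
  have hQS' : Q ≠ S := fun e => hPS (eq_of_le_of_card le_rfl hP.1 (by rw [← hQcard, e]))
  have hgood' : ∀ T ≤ S, Nat.card Q < Nat.card T → Good F p T := hQcard.symm ▸ hgood
  have hWS : W ≤ S := hWA.1
  have hQW : Q ≤ W := hg₀i ▸ img_mono hPL
  have hWN : W ≤ normalizerIn S Q := hg₀i ▸ img_le fun l hl =>
    himg.le (mem_img_of_mem (hLN hl))
  have hWn : normalizerIn S Q ≤ normalizerIn S W := himg ▸ img_le fun n hn => hg₀n n (hNP hn)
  have hCW : centralizerIn S Q ≤ W := fun c hc => by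
    obtain ⟨n, hn, rfl⟩ := hgN.mem_img.1 (himg.ge ⟨hc.1, (inExt_of_commute (f := id) hc).2.1⟩)
    rw [← hg₀i]
    refine mem_img_of_mem ⟨hn.1, 1, Subgroup.one_mem _, fun x => ?_⟩
    have h1 := (mem_centralizerIn.1 hc).2 _ (mem_img_of_mem x.2)
    rw [← hgN.map_mul (hPN x.2) hn, ← hgN.map_mul hn (hPN x.2)] at h1
    have h2 := hgN.inj (Subgroup.mul_mem _ (hPN x.2) hn) (Subgroup.mul_mem _ hn (hPN x.2)) h1
    show (x : Ω) = n * x * n⁻¹
    rw [← h2, mul_inv_cancel_right]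
  haveI := finite_of_le_base hWS
  haveI := finite_of_le_base hQn.1
  haveI : Finite (MulAut W) := Finite.of_injective (fun f : MulAut W => (f : W → W)) DFunLike.coe_injective
  haveI : Finite (MulAut Q) := Finite.of_injective (fun f : MulAut Q => (f : Q → Q)) DFunLike.coe_injective
  -- the stabilizer and the restriction
  let Stab : Subgroup (MulAut W) :=
    { carrier := {τ | τ ∈ F.autGroup W ∧ ∀ y : W, (y : Ω) ∈ Q ↔ ((τ y : W) : Ω) ∈ Q}
      one_mem' := ⟨Subgroup.one_mem _, fun y => Iff.rfl⟩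
      mul_mem' := fun ha hb => ⟨Subgroup.mul_mem _ ha.1 hb.1, fun y => (hb.2 y).trans (ha.2 _)⟩
      inv_mem' := fun {a} ha => ⟨Subgroup.inv_mem _ ha.1, fun y => by
        have h := ha.2 (a⁻¹ y)
        rw [MulAut.apply_inv_self] at h
        exact h.symm⟩ }
  have hres : ∀ τ : Stab, ∃ a ∈ F.autGroup Q, ∀ x ∈ Q, autFn a x = autFn (τ : MulAut W) x := by
    intro τ
    have hf := ((mem_autGroup_iff_fn hWS).1 τ.2.1).mono hQW
    obtain ⟨a, ha, hae⟩ := exists_aut_of_fn hf (hf.img_eq_self fun x hx => by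
      rw [autFn_coe (τ : MulAut W) ⟨x, hQW hx⟩]
      exact (τ.2.2 ⟨x, hQW hx⟩).1 hx)
    exact ⟨a, ha, fun x hx => (autFn_coe a ⟨x, hx⟩).trans (hae ⟨x, hx⟩)⟩
  choose r hr1 hr2 using hres
  let res : Stab →* F.autGroup Q := MonoidHom.mk' (fun τ => ⟨r τ, hr1 τ⟩) fun a b =>
    Subtype.ext (mulAut_ext fun x hx => by
      show autFn (r (a * b)) x = autFn (r a * r b) x
      rw [hr2 _ x hx, autFn_mul _ _ hx, hr2 b x hx, Subgroup.coe_mul, autFn_mul _ _ (hQW hx)]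
      refine (hr2 a _ ?_).symm
      rw [autFn_coe (b : MulAut W) ⟨x, hQW hx⟩]
      exact (b.2.2 ⟨x, hQW hx⟩).1 hx)
  have hsur : Function.Surjective res := by
    intro a
    have haf := (mem_autGroup_iff_fn hQn.1).1 a.2
    obtain ⟨k₀, hk₀, hk₀g, hk₀i⟩ := hgN.exists_inv
    rw [himg] at hk₀ hk₀i
    obtain ⟨α, hα, hαe⟩ := exists_pushed (P := P) (X := Q) (Q := Q) (f := autFn (a : MulAut Q)) haf le_rfl hk₀
      (by
        show img k₀ (img g₀ P) = P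
        rw [← hgPf.img_comp]
        exact (img_congr fun x hx => hk₀g x (hPN hx)).trans (img_id P))
      (by rw [img_autFn]; exact hk₀) (by
        rw [img_autFn]
        show img k₀ (img g₀ P) = P
        rw [← hgPf.img_comp]
        exact (img_congr fun x hx => hk₀g x (hPN hx)).trans (img_id P))
    obtain ⟨-, e, he, hee⟩ := hAExt hα
    have hke : ∀ w ∈ W, k₀ w ∈ L := fun w hw => by
      obtain ⟨l, hl, rfl⟩ := (hg₀.mono (hLN.trans hNP)).mem_img.1 (hg₀i.ge hw)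
      rw [hk₀g l (hLN hl)]
      exact hl
    have heL : ∀ l ∈ L, e l ∈ L := fun l hl => hstab L e α he hPL hα hee l hl hl
    have hF' := ((hk₀.mono hWN).comp he hke).comp hgN fun w hw => hLN (heL _ (hke w hw))
    have hi : img (g₀ ∘ e ∘ k₀) W = W := hF'.img_eq_self fun w hw =>
      hg₀i.le (mem_img_of_mem (heL _ (hke w hw)))
    obtain ⟨τ, hτ, hτe⟩ := exists_aut_of_fn hF' hi
    have hτQ : ∀ x ∈ Q, autFn τ x = autFn (a : MulAut Q) x := by
      intro x hx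
      rw [autFn_coe τ ⟨x, hQW hx⟩, hτe]
      show g₀ (e (k₀ x)) = _
      obtain ⟨y, hy, rfl⟩ := hgPf.mem_img.1 hx
      rw [hk₀g y (hPN hy), ← hee ⟨y, hy⟩]
      have h := hαe _ hx
      rw [hk₀g y (hPN hy), autFn_coe α ⟨y, hy⟩] at h
      rw [h]
      obtain ⟨z, hz, hzy⟩ := hgPf.mem_img.1 (autFn_mem (a : MulAut Q) hx)
      rw [← hzy, hk₀g z (hPN hz)]
    have hst : τ ∈ Stab := ⟨hτ, fun y => ⟨fun hy => by
        rw [← autFn_coe, hτQ _ hy]; exact autFn_mem _ hy, fun hy => by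
        obtain ⟨x, hx, hxe⟩ := haf.mem_img.1 ((img_autFn (a : MulAut Q)).ge hy)
        rw [← hτQ x hx, autFn_coe τ ⟨x, hQW hx⟩] at hxe
        rw [← τ.injective (Subtype.ext hxe)]
        exact hx⟩⟩
    exact ⟨⟨τ, hst⟩, Subtype.ext (mulAut_ext fun x hx => by
      show autFn (r _) x = _
      rw [hr2 _ x hx]; exact hτQ x hx)⟩
  -- the Sylow subgroup of the stabilizer
  have hcst : ∀ n (hn : n ∈ normalizerIn S Q), conjAut W (hWn hn).2 ∈ Stab := fun n hn =>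
    ⟨autInducedBy_le_autGroup hWS (conjAut_mem_autInducedBy _ hn.1), fun y => by
      rw [conjAut_coe]; exact Subgroup.mem_normalizer_iff.1 hn.2 _⟩
  let cQ : normalizerIn S Q →* Stab := MonoidHom.mk' (fun n => ⟨_, hcst n n.2⟩) fun a b =>
    Subtype.ext (MulEquiv.ext fun y => Subtype.ext (by
      show ((a * b : normalizerIn S Q) : Ω) * y * ((a * b : normalizerIn S Q) : Ω)⁻¹ =
        (a : Ω) * ((b : Ω) * y * (b : Ω)⁻¹) * (a : Ω)⁻¹
      rw [Subgroup.coe_mul]; group))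
  haveI := finite_of_le_base (normalizerIn_le (S := S) (P := Q))
  have hUp : IsPGroup p cQ.range :=
    (hS.to_le normalizerIn_le).of_surjective cQ.rangeRestrict cQ.rangeRestrict_surjective
  obtain ⟨T, hT⟩ := hUp.exists_le_sylow
  have hTU : (T : Subgroup Stab) ≤ cQ.range := by
    obtain ⟨γ, hγ, hγT⟩ := exists_conj_into hS hWA (T := (T : Subgroup Stab).map Stab.subtype)
      (by rintro _ ⟨τ, -, rfl⟩; exact τ.2.1) (T.2.map _)
    obtain ⟨h, hh, hhe⟩ := extend_one hWr hγ (fn_id hWS) (img_id W) (M := normalizerIn S Q)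
      (fun m hm => ⟨hm.1, (hWn hm).2⟩) fun m hm τ hτ => by
        have e : τ = conjAut W (hWn hm).2 := MulEquiv.ext fun y => Subtype.ext (by
          rw [← autFn_coe, conjAut_coe]; exact hτ y y.2)
        rw [e]
        exact hγT _ ⟨⟨_, hcst m hm⟩, hT ⟨⟨m, hm⟩, rfl⟩, rfl⟩
    have hh' := hh.mono (le_sup_right : normalizerIn S Q ≤ W ⊔ normalizerIn S Q)
    have hQle := le_normalizerIn hQn.1
    set Q' := img h Q
    have himg' : img h (normalizerIn S Q) = normalizerIn S Q' :=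
      eq_of_le_of_card normalizerIn_le (img_le fun n hn => hh'.map_normalizer hQle rfl hn hn.2)
        (hh'.card_img.symm ▸ hQn.2 Q' (isConj_of_fn (hh'.mono hQle)))
    intro τ hτ
    obtain ⟨s, hs, hse⟩ := mem_autInducedBy.1 (hγT _ ⟨τ, hτ, rfl⟩)
    have hk : ∀ y : W, h ((τ : MulAut W) y : W) = s * h y * s⁻¹ := fun y => by
      have h1 := hse (γ y)
      simp only [MulAut.mul_apply, MulAut.inv_apply_self, Subgroup.coe_subtype] at h1
      rw [hhe _ (Subtype.prop _), hhe _ y.2]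
      show autFn γ _ = s * autFn γ _ * s⁻¹
      simpa [autFn_coe] using h1
    have hs' : s ∈ normalizerIn S Q' := by
      refine ⟨hs, ?_⟩
      haveI := finite_of_le_base (hh'.mono hQle).img_le_base
      refine mem_normalizer_of_map_le fun z hz => ?_
      obtain ⟨x, hx, rfl⟩ := (hh'.mono hQle).mem_img.1 hz
      rw [← hk ⟨x, hQW hx⟩]
      exact mem_img_of_mem ((τ.2.2 ⟨x, hQW hx⟩).1 hx)
    obtain ⟨n, hn, hns⟩ := hh'.mem_img.1 (himg'.ge hs')
    refine ⟨⟨n, hn⟩, Subtype.ext (MulEquiv.ext fun y => Subtype.ext (hh.inj ?_ ?_ ?_))⟩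
    · exact Subgroup.mem_sup_left (Subtype.prop _)
    · exact Subgroup.mem_sup_left (Subtype.prop _)
    · rw [hk y, ← hns]
      exact hh.map_conj (Subgroup.mem_sup_right hn) (Subgroup.mem_sup_left y.2)
  have hTeq : (T : Subgroup Stab) = cQ.range := le_antisymm hTU hT
  have hresU : ∀ n : normalizerIn S Q, (res (cQ n) : MulAut Q) = conjAut Q n.2.2 := fun n =>
    mulAut_ext fun x hx => by
      show autFn (r _) x = _
      rw [hr2 _ x hx, autFn_coe _ ⟨x, hQW hx⟩, autFn_coe _ ⟨x, hx⟩]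
      rfl
  refine ⟨Q, hPQ, ⟨hQn.1, T.mapSurjective hsur, ?_⟩, ?_⟩
  · rw [Sylow.coe_mapSurjective, hTeq]
    ext a
    constructor
    · rintro ⟨_, ⟨n, rfl⟩, rfl⟩
      show (res (cQ n) : MulAut Q) ∈ autInducedBy S Q
      rw [hresU]
      exact conjAut_mem_autInducedBy _ n.2.1
    · intro ha
      obtain ⟨s, hs, hsa⟩ := mem_autInducedBy.1 ha
      refine ⟨cQ ⟨s, hs, mem_normalizer_of_autEq hsa⟩, ⟨_, rfl⟩, Subtype.ext ?_⟩
      rw [hresU]
      exact MulEquiv.ext fun x => Subtype.ext (hsa x).symm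
  -- receptivity
  refine receptive_of_extend hQn.1 fun Q₀ f hf hfi => ?_
  have hQ₀ : F.IsConj Q Q₀ := isConj_symm (isConj_iff.2 ⟨f, hf, hfi⟩)
  obtain ⟨ψ, hψ, hψi⟩ := exists_up ℋ hS hℋS hℋconj hgen hQn hQH hQS' hgood' hQ₀
  obtain ⟨φ, hφ, hφf⟩ := id hf
  set Nf := FusionSystem.extender S Q₀ φ
  have hNf : ∀ x, x ∈ Nf ↔ InExt S Q₀ f x := fun x => mem_extender hφf
  have hNfN : Nf ≤ normalizerIn S Q₀ := fun x hx => ⟨((hNf x).1 hx).1, ((hNf x).1 hx).2.1⟩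
  have hQ₀Nf : Q₀ ≤ Nf := fun x hx => (hNf x).2 (inExt_of_mem hf hx)
  have hψN := hψ.mono hNfN
  set M := img ψ Nf
  have hMQ : M ≤ normalizerIn S Q := img_le fun n hn =>
    hψ.map_normalizer (le_normalizerIn hf.le) hψi (hNfN hn) (hNfN hn).2
  have hψ0 := hψ.mono (le_normalizerIn hf.le)
  obtain ⟨a, ha, hae⟩ := exists_pushed (P := Q) (X := Q₀) (Q := Q₀) hf le_rfl hψ hψi
    (ψ' := id) (fn_id normalizerIn_le) (by rw [img_id, hfi])
  obtain ⟨τ, hτ⟩ := hsur ⟨a, ha⟩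
  have hτa : ∀ x ∈ Q, autFn (τ : MulAut W) x = autFn a x := fun x hx => by
    rw [← hr2 τ x hx]
    exact congrArg (fun b : F.autGroup Q => autFn (b : MulAut Q) x) hτ
  let G₁ : Subgroup Stab := ((autInducedBy S Q).subgroupOf (F.autGroup Q)).comap res
  let K₁ : Subgroup G₁ := (res.ker).subgroupOf G₁
  haveI : K₁.Normal := ⟨fun k hk g => by
    show (g : Stab) * (k : Stab) * (g : Stab)⁻¹ ∈ res.ker
    exact res.normal_ker.conj_mem _ hk _⟩
  have hTG : (T : Subgroup Stab) ≤ G₁ := hTeq ▸ fun _ ⟨n, e⟩ => e ▸ by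
    show (res (cQ n) : MulAut Q) ∈ autInducedBy S Q
    rw [hresU]
    exact conjAut_mem_autInducedBy _ n.2.1
  have hMG : ∀ m (hm : m ∈ M), τ * cQ ⟨m, hMQ hm⟩ * τ⁻¹ ∈ G₁ := by
    intro m hm
    show (res (τ * cQ ⟨m, hMQ hm⟩ * τ⁻¹) : MulAut Q) ∈ autInducedBy S Q
    rw [map_mul, map_mul, map_inv, hτ, Subgroup.coe_mul, Subgroup.coe_mul, hresU, Subgroup.coe_inv]
    obtain ⟨n, hn, rfl⟩ := hψN.mem_img.1 hm
    obtain ⟨-, -, s, hs, hse⟩ := (hNf n).1 hn
    refine mem_autInducedBy.2 ⟨s, hs, fun x => ?_⟩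
    obtain ⟨y, hy⟩ := a.surjective x
    obtain ⟨z, hz, hzy⟩ := hψ0.mem_img.1 (hψi.ge y.2)
    subst hy
    rw [MulAut.mul_apply, MulAut.mul_apply, MulAut.inv_apply_self, ← autFn_coe, conjAut_coe, ← autFn_coe a y,
      ← hzy]
    rw [← hψN.map_conj hn (hQ₀Nf hz), hae z hz,
      hae _ ((Subgroup.mem_normalizer_iff.1 (hNfN hn).2 z).1 hz)]
    exact hse z hz
  haveI := finite_of_le_base hψN.img_le_base
  let cM : M →* G₁ := MonoidHom.mk' (fun m => ⟨_, hMG m m.2⟩) fun a b => Subtype.ext (by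
    show τ * cQ ⟨((a * b : M) : Ω), _⟩ * τ⁻¹ = τ * cQ ⟨(a : Ω), _⟩ * τ⁻¹ * (τ * cQ ⟨(b : Ω), _⟩ * τ⁻¹)
    rw [show (⟨((a * b : M) : Ω), hMQ (a * b).2⟩ : normalizerIn S Q) = ⟨(a : Ω), hMQ a.2⟩ * ⟨(b : Ω), hMQ b.2⟩
      from rfl, map_mul]
    group)
  have hBp : IsPGroup p cM.range :=
    (hS.to_le hψN.img_le_base).of_surjective cM.rangeRestrict cM.rangeRestrict_surjective
  haveI : Finite G₁ := inferInstance
  obtain ⟨k, hk, hkB⟩ := sylow_conj_normal K₁ (fun g => by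
    obtain ⟨j, hj⟩ := (isPGroup_autInducedBy (P := Q) hS) ⟨(res g : MulAut Q), g.2⟩
    refine ⟨j, ?_⟩
    show res ((g ^ p ^ j : G₁) : Stab) = 1
    rw [SubmonoidClass.coe_pow, map_pow]
    exact Subtype.ext (by rw [SubmonoidClass.coe_pow]; exact congrArg Subtype.val hj)) (T.subtype hTG) hBp
  set σ : Stab := (k : Stab) * τ
  have hσQ : ∀ x ∈ Q, autFn (σ : MulAut W) x = autFn a x := fun x hx => by
    have hres' : res σ = ⟨a, ha⟩ := by rw [map_mul, show res (k : Stab) = 1 from hk, one_mul, hτ]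
    rw [← hr2 σ x hx]
    exact congrArg (fun b : F.autGroup Q => autFn (b : MulAut Q) x) hres'
  obtain ⟨h, hh, hhe⟩ := extend_one hWr σ.2.1 (fn_id hWS) (img_id W) (M := M)
    (fun m hm => ⟨(hMQ hm).1, (hWn (hMQ hm)).2⟩) fun m hm ρ hρ => by
      have e : ρ = conjAut W (hWn (hMQ hm)).2 := MulEquiv.ext fun y => Subtype.ext (by
        rw [← autFn_coe, conjAut_coe]; exact hρ y y.2)
      rw [e]
      have h1 := hkB (cM ⟨m, hm⟩) ⟨_, rfl⟩
      rw [Sylow.coe_subtype, Subgroup.mem_subgroupOf, hTeq] at h1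
      obtain ⟨n, hn⟩ := h1
      have h2 : ((σ * cQ ⟨m, hMQ hm⟩ * σ⁻¹ : Stab) : MulAut W) = ((cQ n : Stab) : MulAut W) := by
        rw [hn]
        simp [σ, cM, mul_assoc]
      show ((σ * cQ ⟨m, hMQ hm⟩ * σ⁻¹ : Stab) : MulAut W) ∈ _
      rw [h2]
      exact conjAut_mem_autInducedBy _ n.2.1
  refine ⟨h ∘ ψ, fun N hN => ?_, fun x hx => ?_⟩
  · have hle : N ≤ Nf := fun x hx => (hNf x).2 (hN x hx)
    exact (hψ.mono (hle.trans hNfN)).comp hh fun x hx => Subgroup.mem_sup_right (mem_img_of_mem (hle hx))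
  · have hxQ : ψ x ∈ Q := hψi.le (mem_img_of_mem hx)
    show h (ψ x) = f x
    rw [hhe _ (hQW hxQ)]
    show autFn (σ : MulAut W) (ψ x) = f x
    rw [hσQ _ hxQ, hae x hx]
    rfl

end Class

/-- The saturation criterion. -/
theorem saturated_of_generating (hS : IsPGroup p S) (ℋ : Set (Subgroup Ω)) (hℋS : ∀ P ∈ ℋ, P ≤ S)
    (hℋconj : ∀ P ∈ ℋ, ∀ Q, F.IsConj P Q → Q ∈ ℋ) (hsat : ∀ P ∈ ℋ, Good F p P)
    (hgen : ∀ E : FusionSystem S, (∀ P ∈ ℋ, F.Hom P ⊆ E.Hom P) → F ≤ E)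
    (hstar : ∀ P : Subgroup Ω, F.IsCentric P → P ∉ ℋ → ∃ Q, F.IsConj P Q ∧
      ¬ (autInducedBy S Q ⊓ (pCore p (F.autGroup Q)).map (F.autGroup Q).subtype ≤ Inn Q)) :
    F.IsSaturated p := by
  intro P₀ hP₀
  refine induction_down (C := fun P => Good F p P) P₀ hP₀ ?_
  intro P₁ hP₁ ih
  obtain ⟨P, hconj, hPn⟩ := exists_fullyNormalized (F := F) hP₁
  suffices h : Good F p P by
    obtain ⟨Q, hQ, hA, hr⟩ := h
    exact ⟨Q, isConj_trans hconj hQ, hA, hr⟩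
  have hgood : ∀ R ≤ S, Nat.card P < Nat.card R → Good F p R := fun R hR h => ih R hR (isConj_card hconj ▸ h)
  by_cases hPH : P ∈ ℋ
  · exact hsat P hPH
  haveI := finite_of_le_base hPn.1
  haveI : Finite (MulAut P) := Finite.of_injective (fun f : MulAut P => (f : P → P)) DFunLike.coe_injective
  have hPS : P ≠ S := by
    rintro rfl
    have hc : F.IsCentric P := ⟨le_rfl, fun Q hQ => by
      rw [eq_of_le_of_card le_rfl (isConj_le_right hQ) (isConj_card hQ).ge]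
      exact inf_le_left⟩
    obtain ⟨Q, hQ, hQ'⟩ := hstar P hc hPH
    obtain rfl : Q = P := eq_of_le_of_card le_rfl (isConj_le_right hQ) (isConj_card hQ).ge
    refine hQ' fun α hα => ?_
    obtain ⟨s, hs, hsα⟩ := mem_autInducedBy.1 hα.1
    exact ⟨⟨s, hs⟩, MulEquiv.ext fun x => Subtype.ext (hsα x).symm⟩
  refine good_of_core ℋ hS hℋS hℋconj hgen hPn hPH hPS hgood ?_
  by_cases hcen : centralizerIn S P ≤ P
  swap
  · obtain ⟨n, hn, hnP⟩ := SetLike.not_le_iff_exists.1 hcen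
    refine ⟨n, hn.1, hnP, 1, Subgroup.one_mem _, fun x => ?_⟩
    show (x : Ω) = n * x * n⁻¹
    rw [← (mem_centralizerIn.1 hn).2 x x.2, mul_inv_cancel_right]
  have hc : F.IsCentric P := ⟨hPn.1, fun Q hQ c hc => by
    obtain ⟨ψ, hψ, hψi⟩ := exists_up ℋ hS hℋS hℋconj hgen hPn hPH hPS hgood hQ
    have hQN := le_normalizerIn (isConj_le_right hQ)
    have hcN := centralizerIn_le_normalizerIn hc
    have h1 := hcen (hψ.map_centralizer hQN hψi hcN hc)
    obtain ⟨y, hy, hye⟩ := (hψ.mono hQN).mem_img.1 (hψi.ge h1)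
    exact hψ.inj hcN (hQN hy) hye.symm ▸ hy⟩
  obtain ⟨Q, hQ, hQ'⟩ := hstar P hc hPH
  obtain ⟨α, ⟨hαS, hαO⟩, hαI⟩ := SetLike.not_le_iff_exists.1 hQ'
  obtain ⟨n, hn, hne⟩ := mem_autInducedBy.1 hαS
  have hnN : n ∈ normalizerIn S Q := ⟨hn, mem_normalizer_of_autEq hne⟩
  obtain ⟨ψ, hψ, hψi⟩ := exists_up ℋ hS hℋS hℋconj hgen hPn hPH hPS hgood hQ
  have hQS := isConj_le_right hQ
  haveI := finite_of_le_base hQS
  haveI : Finite (MulAut Q) := Finite.of_injective (fun f : MulAut Q => (f : Q → Q)) DFunLike.coe_injective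
  have hQN := le_normalizerIn hQS
  obtain ⟨e, he, hmap⟩ := exists_transport hQS (hψ.mono hQN) hψi
  refine ⟨ψ n, hψ.mem hnN, fun hmem => ?_, MulAut.congr e α, ?_, fun x => ?_⟩
  · obtain ⟨y, hy, hye⟩ := (hψ.mono hQN).mem_img.1 (hψi.ge hmem)
    obtain rfl := hψ.inj (hQN hy) hnN hye
    exact hαI ⟨⟨y, hy⟩, MulEquiv.ext fun z => Subtype.ext (hne z).symm⟩
  · let Φ : F.autGroup Q →* F.autGroup P :=
      ((MulAut.congr e).toMonoidHom.comp (F.autGroup Q).subtype).codRestrict _ fun a => hmap ▸ ⟨a, a.2, rfl⟩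
    have hΦ : Function.Surjective Φ := by
      intro b
      obtain ⟨a, ha, hab⟩ := hmap.ge b.2
      exact ⟨⟨a, ha⟩, Subtype.ext hab⟩
    haveI := CfsgLib.Solvable.Cores.pCore_normal (G := F.autGroup Q) p
    have hle : (pCore p (F.autGroup Q)).map Φ ≤ pCore p (F.autGroup P) :=
      le_sSup (s := {N : Subgroup (F.autGroup P) | N.Normal ∧ IsPGroup p N})
        ⟨Subgroup.Normal.map inferInstance Φ hΦ, (CfsgLib.Solvable.Cores.isPGroup_pCore p).map Φ⟩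
    obtain ⟨a, ha, rfl⟩ := hαO
    exact ⟨Φ a, hle ⟨a, ha, rfl⟩, rfl⟩
  · obtain ⟨y, rfl⟩ := e.surjective x
    rw [show (MulAut.congr e α) (e y) = e (α y) by simp [MulAut.congr], he, he, hne y,
      hψ.map_conj hnN (hQN y.2)]

end CfsgLib.Fsys.Criterion
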