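import Cfsg.Agent.Lib.FusionSystem.CentralLiftSystem
import Cfsg.Agent.Lib.FusionSystem.Criterion

/-! The lift of a normal subsystem is fully automized and receptive on lifted subgroups. -/

set_option autoImplicit false

namespace CfsgLib.Fsys.Lift

open Cfsg Cfsg.FusionSystem
open Cfsg.FusionSystem (centralizerIn normalizerIn imageAlong preimageAlong)

variable {Ω : Type*} [Group Ω] {S : Subgroup Ω}
variable {Ω' : Type*} [Group Ω'] {S' T' : Subgroup Ω'}
variable {p : ℕ} {F : FusionSystem S} {Z : Subgroup Ω} {θ : S →* Ω'} {E : FusionSystem S'}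
variable {D : FusionSystem T'} {P Q R : Subgroup Ω} {f g : Ω → Ω}

namespace Data

variable [Fact p.Prime] [Finite S] (h : Data p F Z θ E D)
include h

/-- The trivial automorphisms in the lift are inner. -/
def Hyp (P : Subgroup Ω) : Prop := ∀ k ∈ h.liftSystem.autGroup P, Triv θ P k → k ∈ Inn P

omit [Fact p.Prime] in
theorem finite_base : Finite (base θ T') := finite_of_le_base h.base_le

omit [Fact p.Prime] in
theorem pgroup_base : IsPGroup p (base θ T') := h.hS.to_le h.base_le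

theorem liftSystem_fn_F (hf : Fn h.liftSystem P f) : Fn F P f := Fn.of_subsystem h.liftSystem_sub hf

theorem liftSystem_image (hf : Fn h.liftSystem P f) :
    ∃ f', Fn D (imageAlong θ P) f' ∧ ∀ x ∈ P, f' (th θ x) = th θ (f x) :=
  (h.fn_preSystem.1 (h.liftSystem_pre hf)).2.2

omit [Fact p.Prime] [Finite S] in
theorem eq_of_image_eq (hP : P ≤ S) (hQ : Q ≤ S) (hZP : Z ≤ P) (hZQ : Z ≤ Q)
    (e : imageAlong θ P = imageAlong θ Q) : P = Q := by
  rw [← h.preimage_image hZP hP, ← h.preimage_image hZQ hQ, e]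

/-- Every lifted subgroup is conjugate in the lift to one with fully normalized image. -/
theorem exists_normalized (hP : Lifted Z θ D P) :
    ∃ Q, h.liftSystem.IsConj P Q ∧ Lifted Z θ D Q ∧ D.IsFullyNormalized (imageAlong θ Q) := by
  have := h.finite'
  haveI := finite_of_le_base h.leT'
  obtain ⟨R', hR', hRn⟩ := exists_fullyNormalized (F := D) hP.2.2.1
  obtain ⟨d, hd, hdi⟩ := isConj_iff.1 hR'
  obtain ⟨l, hl, hle⟩ := h.exists_lift_map hd
  rw [h.preimage_image hP.1 (hP.2.1.trans h.base_le)] at hl hle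
  have hlF := h.liftSystem_fn_F hl
  refine ⟨img l P, isConj_of_fn hl, h.lifted_img hP hlF, ?_⟩
  rw [image_img hlF (Fn.of_subsystem h.inv.1 hd) hle, hdi]
  exact hRn

theorem hyp_of_conj (hc : h.liftSystem.IsConj P Q) (hQ : h.Hyp Q) : h.Hyp P := by
  obtain ⟨l, hl, hli⟩ := isConj_iff.1 hc
  haveI := h.finite_base
  have hPb := hl.le
  obtain ⟨e, he, hmap⟩ := exists_transport hPb hl hli
  intro k hk hkt
  obtain ⟨l', -, hle⟩ := h.exists_image (h.liftSystem_fn_F hl)
  have ht : Triv θ Q (MulAut.congr e k) := fun y hy => by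
    obtain ⟨x, hx⟩ := e.surjective ⟨y, hy⟩
    have hyx : y = ((e x : Q) : Ω) := by rw [hx]
    subst hyx
    rw [autFn_coe, show (MulAut.congr e k) (e x) = e (k x) by simp [MulAut.congr], he, he,
      ← hle _ (k x).2, ← hle x x.2, ← autFn_coe k x, hkt x x.2]
  obtain ⟨q, hq⟩ := hQ _ (hmap ▸ ⟨k, hk, rfl⟩) ht
  refine ⟨e.symm q, MulEquiv.ext fun x => e.injective ?_⟩
  have := MulEquiv.congr_fun hq (e x)
  simp [MulAut.congr] at this ⊢
  exact this

omit [Fact p.Prime] [Finite S] in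
theorem preimage_normalizer (hZP : Z ≤ P) (hP : P ≤ S) :
    preimageAlong θ (normalizerIn T' (imageAlong θ P)) = normalizerIn (base θ T') P := by
  ext x
  constructor
  · intro hx
    obtain ⟨hxS, hxT, hxn⟩ := mem_preimageAlong.1 hx
    exact ⟨mem_preimageAlong.2 ⟨hxS, hxT⟩, (h.mem_normalizer_iff_image hZP hP hxS).2 hxn⟩
  · intro hx
    obtain ⟨hxS, hxT⟩ := mem_preimageAlong.1 hx.1
    exact mem_preimageAlong.2 ⟨hxS, hxT, (h.mem_normalizer_iff_image hZP hP hxS).1 hx.2⟩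

/-- Conjugates move up to a subgroup with fully normalized image on their normalizers. -/
theorem normalizer_map (hP : Lifted Z θ D P) (hPn : D.IsFullyNormalized (imageAlong θ P))
    (hc : h.liftSystem.IsConj Q P) :
    ∃ ψ, Fn h.liftSystem (normalizerIn (base θ T') Q) ψ ∧ img ψ Q = P ∧
      ∀ n ∈ normalizerIn (base θ T') Q, ψ n ∈ normalizerIn (base θ T') P := by
  obtain ⟨l, hl, hli⟩ := isConj_iff.1 (isConj_symm hc)
  have hlF := h.liftSystem_fn_F hl
  have hQ : Lifted Z θ D Q := hli ▸ h.lifted_img hP hlF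
  obtain ⟨l', hl', hle⟩ := h.liftSystem_image hl
  have := h.finite'
  haveI := finite_of_le_base h.leT'
  haveI := h.finite_base
  have hT'p : IsPGroup p T' := h.pgroup'.to_le h.leT'
  have hQi : imageAlong θ Q = img l' (imageAlong θ P) := by
    rw [← hli, image_img hlF (Fn.of_subsystem h.inv.1 hl') hle]
  have hc' : D.IsConj (imageAlong θ Q) (imageAlong θ P) := hQi ▸ isConj_symm (isConj_of_fn hl')
  obtain ⟨hA, hfc⟩ := fullyNormalized_good hT'p h.satD hPn
  obtain ⟨d, hd, -, hdi⟩ := exists_normalizer_map hT'p hA (fullyCentralized_receptive hT'p h.satD hfc) hc'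
  obtain ⟨ψ, hψ, hψe⟩ := h.exists_lift_map hd
  have hQS := hQ.2.1.trans h.base_le
  rw [h.preimage_normalizer hQ.1 hQS] at hψ hψe
  have hQN : Q ≤ normalizerIn (base θ T') Q := le_normalizerIn hQ.2.1
  have hψQ := hψ.mono hQN
  have hψi : img ψ Q = P := by
    refine h.eq_of_image_eq (h.liftSystem_fn_F hψQ).img_le_base (hP.2.1.trans h.base_le)
      (h.z_le_img (h.liftSystem_fn_F hψQ) hQ.1) hP.1 ?_
    have hle' : imageAlong θ Q ≤ normalizerIn T' (imageAlong θ Q) := le_normalizerIn (h.image_le_T' hQ.2.1)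
    rw [image_img (h.liftSystem_fn_F hψQ) (Fn.of_subsystem h.inv.1 (hd.mono hle'))
      (fun x hx => hψe x (hQN hx)), hdi]
  exact ⟨ψ, hψ, hψi, fun n hn => hψ.map_normalizer hQN hψi hn hn.2⟩

theorem receptive (hQ : Lifted Z θ D Q) (hQn : D.IsFullyNormalized (imageAlong θ Q)) (hyp : h.Hyp Q) :
    h.liftSystem.IsReceptive Q := by
  have := h.finite'
  haveI := finite_of_le_base h.leT'
  haveI := h.finite_base
  have hT'p : IsPGroup p T' := h.pgroup'.to_le h.leT'
  refine receptive_of_extend hQ.2.1 fun R f hf hfi => ?_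
  have hfF := h.liftSystem_fn_F hf
  obtain ⟨v, hv, hvf, hvi⟩ := hf.exists_inv
  rw [hfi] at hv hvi
  have hR : Lifted Z θ D R := hvi ▸ h.lifted_img hQ (h.liftSystem_fn_F hv)
  have hRS := hR.2.1.trans h.base_le
  obtain ⟨f', hf', hfe⟩ := h.liftSystem_image hf
  have hfi' : img f' (imageAlong θ R) = imageAlong θ Q := by
    rw [← image_img hfF (Fn.of_subsystem h.inv.1 hf') hfe, hfi]
  obtain ⟨N', d, hd, hRN, hN, hde⟩ := receptive_extend (fullyNormalized_receptive hT'p h.satD hQn) hf' hfi'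
  obtain ⟨l, hl, hle⟩ := h.exists_lift_map hd
  have hRp : R ≤ preimageAlong θ N' := fun x hx =>
    mem_preimageAlong.2 ⟨hRS hx, hRN (th_mem_imageAlong hx (hRS hx))⟩
  have hlR := hl.mono hRp
  have hli : img l R = Q := by
    refine h.eq_of_image_eq (h.liftSystem_fn_F hlR).img_le_base (hQ.2.1.trans h.base_le)
      (h.z_le_img (h.liftSystem_fn_F hlR) hR.1) hQ.1 ?_
    rw [image_img (h.liftSystem_fn_F hlR) (Fn.of_subsystem h.inv.1 (hd.mono hRN))
      (fun x hx => hle x (hRp hx)), img_congr hde, hfi']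
  have hvm : ∀ y ∈ Q, v y ∈ R := fun y hy => hvi.le (mem_img_of_mem hy)
  have hcomp := hv.comp hlR hvm
  obtain ⟨a, ha, hae⟩ := exists_aut_of_fn hcomp (by rw [hv.img_comp, hvi, hli])
  have hfv : ∀ y ∈ Q, f (v y) = y := fun y hy => by
    obtain ⟨x, hx, rfl⟩ := hf.mem_img.1 (hfi.ge hy)
    rw [hvf x hx]
  obtain ⟨q, hq⟩ := hyp a ha fun y hy => by
    have hx := hvm y hy
    rw [autFn_coe a ⟨y, hy⟩, hae]
    show th θ (l (v y)) = _
    rw [← hle _ (hRp hx), hde _ (th_mem_imageAlong hx (hRS hx)), hfe _ hx, hfv y hy]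
  have hqb := hQ.2.1 q.2
  refine ⟨fun x => (q : Ω)⁻¹ * l x * (q : Ω)⁻¹⁻¹, fun N hN' => ?_, fun x hx => ?_⟩
  · have hsub : N ≤ preimageAlong θ N' := fun x hx => by
      obtain ⟨hxb, hxn, s, hs, hse⟩ := hN' x hx
      have hxS := h.base_le hxb
      refine mem_preimageAlong.2 ⟨hxS, (hN _).2 ⟨(mem_preimageAlong.1 hxb).2,
        (h.mem_normalizer_iff_image hR.1 hRS hxS).1 hxn, th θ s, (mem_preimageAlong.1 hs).2, fun y hy => ?_⟩⟩
      obtain ⟨u, hu, huS, rfl⟩ := mem_imageAlong.1 hy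
      rw [← th_conj hxS huS, hfe _ ((mem_normalizer_iff'.1 hxn).1 u hu), hse u hu,
        th_conj (h.base_le hs) (hfF.mem hu), ← hfe u hu]
    exact (hl.mono hsub).comp (fn_conj le_rfl (inv_mem hqb)) fun x hx => (hl.mono hsub).mem hx
  · have hfx : f x ∈ Q := hfi.le (mem_img_of_mem hx)
    have e := hae ⟨f x, hfx⟩
    rw [← hq] at e
    have e' : (q : Ω) * f x * (q : Ω)⁻¹ = l (v (f x)) := e
    rw [hvf x hx] at e'
    show (q : Ω)⁻¹ * l x * (q : Ω)⁻¹⁻¹ = f x
    rw [← e']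
    group

theorem fullyAutomized (hQ : Lifted Z θ D Q) (hQn : D.IsFullyNormalized (imageAlong θ Q)) (hyp : h.Hyp Q) :
    h.liftSystem.IsFullyAutomized p Q := by
  classical
  have := h.finite'
  haveI := finite_of_le_base h.leT'
  haveI := h.finite_base
  have hT'p : IsPGroup p T' := h.pgroup'.to_le h.leT'
  have hQb := hQ.2.1
  have hQS := hQb.trans h.base_le
  haveI := finite_of_le_base hQS
  haveI : Finite (MulAut Q) := Finite.of_injective (fun f : MulAut Q => (f : Q → Q)) DFunLike.coe_injective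
  obtain ⟨⟨-, Syl, hSyl⟩, -⟩ := fullyNormalized_good hT'p h.satD hQn
  set A : Subgroup (h.liftSystem.autGroup Q) :=
    (autInducedBy (base θ T') Q).subgroupOf (h.liftSystem.autGroup Q) with hA
  have hAp : IsPGroup p A :=
    (isPGroup_autInducedBy h.pgroup_base).comap_of_injective _ (Subgroup.subtype_injective _)
  obtain ⟨P₀, hP₀⟩ := hAp.exists_le_sylow
  have hLF := autGroup_mono' h.liftSystem_sub Q
  obtain ⟨Φ, hΦ⟩ := exists_autHom (h := h.surj.1) hQS (rfl : imageAlong θ Q = imageAlong θ Q)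
  have hmem : ∀ b : h.liftSystem.autGroup Q,
      (Φ ⟨b, hLF b.2⟩ : MulAut (imageAlong θ Q)) ∈ D.autGroup (imageAlong θ Q) := fun b => by
    obtain ⟨f', hf', hfe⟩ := h.liftSystem_image ((mem_autGroup_iff_fn hQb).1 b.2)
    refine (mem_autGroup_iff_fn (h.image_le_T' hQb)).2 (hf'.congr fun y hy => ?_)
    obtain ⟨x, hx, -, rfl⟩ := mem_imageAlong.1 hy
    rw [hfe x hx, hΦ ⟨b, hLF b.2⟩ x hx]
  let Ψ : h.liftSystem.autGroup Q →* D.autGroup (imageAlong θ Q) :=
    (((E.autGroup (imageAlong θ Q)).subtype.comp Φ).comp (Subgroup.inclusion hLF)).codRestrict _ hmem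
  have hΨ : ∀ (b : h.liftSystem.autGroup Q), ∀ x ∈ Q,
      autFn (Ψ b : MulAut (imageAlong θ Q)) (th θ x) = th θ (autFn (b : MulAut Q) x) :=
    fun b x hx => hΦ ⟨b, hLF b.2⟩ x hx
  have hge : (Syl : Subgroup (D.autGroup (imageAlong θ Q))) ≤ (P₀ : Subgroup _).map Ψ := by
    rw [hSyl]
    intro d hd
    obtain ⟨t', ht', htx⟩ := mem_autInducedBy.1 (show (d : MulAut (imageAlong θ Q)) ∈ autInducedBy T' _ from hd)
    obtain ⟨⟨t, htS⟩, rfl⟩ := h.range.symm ▸ h.leT' ht'
    rw [← th_apply htS] at ht' htx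
    have htb : t ∈ base θ T' := mem_preimageAlong.2 ⟨htS, ht'⟩
    have htn := (h.mem_normalizer_iff_image hQ.1 hQS htS).2 (mem_normalizer_of_autEq htx)
    refine ⟨⟨conjAut Q htn, autInducedBy_le_autGroup hQb (conjAut_mem_autInducedBy htn htb)⟩,
      hP₀ (conjAut_mem_autInducedBy htn htb), Subtype.ext (mulAut_ext fun y hy => ?_)⟩
    obtain ⟨x, hx, hxS, rfl⟩ := mem_imageAlong.1 hy
    rw [hΨ _ x hx, autFn_coe _ ⟨x, hx⟩, conjAut_coe, th_conj htS hxS, autFn_coe _ ⟨_, hy⟩, htx]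
  have heq := Syl.3 (P₀.2.map Ψ) hge
  refine ⟨hQb, P₀, le_antisymm (fun b hb => ?_) hP₀⟩
  have hb' : Ψ b ∈ (Syl : Subgroup (D.autGroup (imageAlong θ Q))) := heq ▸ ⟨b, hb, rfl⟩
  rw [hSyl] at hb'
  obtain ⟨t', ht', htx⟩ := mem_autInducedBy.1 (show (Ψ b : MulAut (imageAlong θ Q)) ∈ autInducedBy T' _ from hb')
  obtain ⟨⟨t, htS⟩, rfl⟩ := h.range.symm ▸ h.leT' ht'
  rw [← th_apply htS] at ht' htx
  have htb : t ∈ base θ T' := mem_preimageAlong.2 ⟨htS, ht'⟩
  have htn := (h.mem_normalizer_iff_image hQ.1 hQS htS).2 (mem_normalizer_of_autEq htx)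
  have hc := conjAut_mem_autInducedBy (K := base θ T') htn htb
  obtain ⟨q, hq⟩ := hyp ((conjAut Q htn)⁻¹ * (b : MulAut Q))
    (mul_mem (inv_mem (autInducedBy_le_autGroup hQb hc)) b.2) fun x hx => by
      have e1 := hΨ b x hx
      rw [autFn_coe _ ⟨_, th_mem_imageAlong hx (hQS hx)⟩, htx] at e1
      have hu := autFn_mem (b : MulAut Q) hx
      rw [autFn_mul _ _ hx]
      have hv := autFn_mem (conjAut Q htn)⁻¹ hu
      have e2 := congrArg (th θ) (autFn_apply_inv (conjAut Q htn) hu)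
      rw [autFn_coe _ ⟨_, hv⟩, conjAut_coe, th_conj htS (hQS hv), ← e1] at e2
      exact mul_left_cancel (mul_right_cancel e2)
  show (b : MulAut Q) ∈ autInducedBy (base θ T') Q
  rw [← mul_inv_cancel_left (conjAut Q htn) (b : MulAut Q), ← hq]
  exact mul_mem hc (mem_autInducedBy.2 ⟨q, hQb q.2, fun x => rfl⟩)

theorem good (hP : Lifted Z θ D P)
    (hyp : ∀ R, Lifted Z θ D R → Nat.card R = Nat.card P → h.Hyp R) :
    Criterion.Good h.liftSystem p P := by
  obtain ⟨Q, hPQ, hQ, hQn⟩ := h.exists_normalized hP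
  have := hyp Q hQ (isConj_card hPQ)
  exact ⟨Q, hPQ, h.fullyAutomized hQ hQn this, h.receptive hQ hQn this⟩

end Data

end CfsgLib.Fsys.Lift
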