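import Cfsg.Agent.Lib.FusionSystem.CentralLiftGood

/-! The trivial automorphisms in the lift are inner. -/

set_option autoImplicit false

namespace CfsgLib.Fsys.Lift

open Cfsg Cfsg.FusionSystem
open Cfsg.FusionSystem (centralizerIn normalizerIn imageAlong preimageAlong)

variable {Ω : Type*} [Group Ω] {S : Subgroup Ω}
variable {Ω' : Type*} [Group Ω'] {S' T' : Subgroup Ω'}
variable {p : ℕ} {F : FusionSystem S} {Z : Subgroup Ω} {θ : S →* Ω'} {E : FusionSystem S'}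
variable {D : FusionSystem T'} {P Q R W : Subgroup Ω} {f g : Ω → Ω}

/-- A `p`-element stabilizing a subgroup restricts to a transported conjugation. -/
theorem stab_pElement [Fact p.Prime] [Finite S] {T : Subgroup Ω} [Finite T] (hTp : IsPGroup p T)
    {L : FusionSystem T} (hLF : L.IsSubsystemOf F) (hA : L.IsFullyAutomized p W) {τ : MulAut W}
    (hτ : τ ∈ L.autGroup W) {j : ℕ} (hj : τ ^ p ^ j = 1) {P₀ : Subgroup Ω} (hP₀ : P₀ ≤ W)
    (hst : ∀ x ∈ P₀, autFn τ x ∈ P₀) {φ : Ω → Ω} (hφ : Fn F P₀ φ) (hφi : img φ P₀ = P) {α : MulAut P}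
    (hα : ∀ x ∈ P₀, autFn α (φ x) = φ (autFn τ x)) : α ∈ gGen F T P := by
  haveI := finite_of_le_base hA.1
  have hτp : IsPGroup p (Subgroup.zpowers τ) := by
    obtain ⟨i, -, hi⟩ := (Nat.dvd_prime_pow Fact.out).1 (orderOf_dvd_of_pow_eq_one hj)
    exact IsPGroup.of_card (n := i) (by rw [Nat.card_zpowers, hi])
  obtain ⟨γ, hγ, hγc⟩ := exists_conj_into hTp hA (Subgroup.zpowers_le.2 hτ) hτp
  obtain ⟨t, ht, htx⟩ := mem_autInducedBy.1 (hγc τ (Subgroup.mem_zpowers τ))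
  have hγf : Fn F W (autFn γ) := Fn.of_subsystem hLF ((mem_autGroup_iff_fn hA.1).1 hγ)
  obtain ⟨v, hv, hvφ, hvi⟩ := hφ.exists_inv
  rw [hφi] at hv hvi
  have hvm : ∀ y ∈ P, v y ∈ P₀ := fun y hy => hvi.le (mem_img_of_mem hy)
  have hcj : ∀ x ∈ W, autFn γ (autFn τ x) = t * autFn γ x * t⁻¹ := fun x hx => by
    have e := htx (γ ⟨x, hx⟩)
    simp only [MulAut.mul_apply, MulAut.inv_apply_self] at e
    rw [autFn_coe τ ⟨x, hx⟩, autFn_coe γ, autFn_coe γ ⟨x, hx⟩]
    exact e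
  refine Subgroup.subset_closure ⟨autFn γ ∘ v, t, hv.comp hγf fun y hy => hP₀ (hvm y hy), ht, ?_, fun y hy => ?_⟩
  · rw [hv.img_comp, hvi]
    haveI : Finite (img (autFn γ) P₀) := finite_of_le_base (hγf.mono hP₀).img_le_base
    refine mem_normalizer_of_map_le fun z hz => ?_
    obtain ⟨x, hx, rfl⟩ := (hγf.mono hP₀).mem_img.1 hz
    rw [← hcj x (hP₀ hx)]
    exact mem_img_of_mem (hst x hx)
  · obtain ⟨x, hx, rfl⟩ := hφ.mem_img.1 (hφi.ge hy)
    show autFn γ (v (autFn α (φ x))) = t * autFn γ (v (φ x)) * t⁻¹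
    rw [hα x hx, hvφ _ (hst x hx), hvφ x hx, hcj x (hP₀ hx)]

namespace Data

variable [Fact p.Prime] [Finite S] (h : Data p F Z θ E D)
include h

/-- The restrictions of automorphisms of the normalizer in the base. -/
def resGroup (hP : P ≤ base θ T') : Subgroup (MulAut P) where
  carrier := {a | ∃ g, Fn h.liftSystem (normalizerIn (base θ T') P) g ∧ ∀ x : P, ((a x : P) : Ω) = g x}
  one_mem' := ⟨id, fn_id normalizerIn_le, fun x => rfl⟩
  mul_mem' := by
    rintro a b ⟨g, hg, hga⟩ ⟨g', hg', hgb⟩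
    haveI := h.finite_base
    have hN := le_normalizerIn hP
    have hi : img g' P = P := (hg'.mono hN).img_eq_self fun x hx => hgb ⟨x, hx⟩ ▸ (b ⟨x, hx⟩).2
    exact ⟨g ∘ g', hg'.comp hg fun n hn => hg'.map_normalizer hN hi hn hn.2,
      fun x => by rw [MulAut.mul_apply, hga, hgb]; rfl⟩
  inv_mem' := by
    rintro a ⟨g, hg, hga⟩
    haveI := h.finite_base
    have hN := le_normalizerIn hP
    have hi : img g P = P := (hg.mono hN).img_eq_self fun x hx => hga ⟨x, hx⟩ ▸ (a ⟨x, hx⟩).2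
    obtain ⟨g', hg', hg'g, -⟩ := hg.exists_inv
    rw [hg.img_eq_self fun n hn => hg.map_normalizer hN hi hn hn.2] at hg'
    refine ⟨g', hg', fun x => ?_⟩
    obtain ⟨y, rfl⟩ := a.surjective x
    rw [MulAut.inv_apply_self, hga y, hg'g _ (hN y.2)]

/-- The group containing all automorphisms of the lift. -/
def autBound (hP : P ≤ base θ T') : Subgroup (MulAut P) := gGen F (base θ T') P ⊔ h.resGroup hP

/-- Automorphisms extending to larger subgroups of the normalizer are in the bound. -/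
theorem key_extension (hP : Lifted Z θ D P) (hPn : D.IsFullyNormalized (imageAlong θ P))
    (hbig : ∀ R, Lifted Z θ D R → Nat.card P < Nat.card R → h.Hyp R) :
    ∀ (n : ℕ) (R : Subgroup Ω) (g : Ω → Ω) (α : MulAut P), Nat.card S - Nat.card R = n →
      Fn h.liftSystem R g → P ≤ R → R ≤ normalizerIn (base θ T') P → Nat.card P < Nat.card R →
      (∀ x : P, ((α x : P) : Ω) = g x) → α ∈ h.autBound hP.2.1 := by
  classical
  intro n
  induction n using Nat.strong_induction_on with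
  | _ n ih =>
  intro R g α hn hg hPR hRN hlt hαg
  haveI := h.finite_base
  set N := normalizerIn (base θ T') P with hNdef
  by_cases hRe : R = N
  · subst hRe
    exact Subgroup.mem_sup_right ⟨g, hg, hαg⟩
  have hgP : img g P = P := (hg.mono hPR).img_eq_self fun x hx => hαg ⟨x, hx⟩ ▸ (α ⟨x, hx⟩).2
  set R₂ := img g R with hR₂def
  have hR₂N : R₂ ≤ N := img_le fun n hn => hg.map_normalizer hPR hgP hn (hRN hn).2
  have hPR₂ : P ≤ R₂ := hgP ▸ img_mono hPR
  have hRb : R ≤ base θ T' := hg.le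
  have hlift : ∀ X, P ≤ X → X ≤ base θ T' → Lifted Z θ D X := fun X h1 h2 => h.lifted_mono hP h1 h2
  obtain ⟨W, hW, hA, hr⟩ := h.good (hlift R hPR hRb) fun X hX hc => hbig X hX (hc ▸ hlt)
  obtain ⟨f₁, hf₁, hi₁⟩ := isConj_iff.1 hW
  obtain ⟨g', hg', hg'g, hg'i⟩ := hg.exists_inv
  have hgm : ∀ y ∈ R₂, g' y ∈ R := fun y hy => hg'i.le (mem_img_of_mem hy)
  have hf₂ := hg'.comp hf₁ hgm
  have hi₂ : img (f₁ ∘ g') R₂ = W := by rw [hg'.img_comp, hg'i, hi₁]
  set P₀ := img f₁ P with hP₀def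
  have hP₀W : P₀ ≤ W := hi₁ ▸ img_mono hPR
  haveI := finite_of_le_base hA.1
  haveI : Finite (MulAut W) := Finite.of_injective (fun f : MulAut W => (f : W → W)) DFunLike.coe_injective
  let gens : Set (MulAut W) :=
    {τ | τ ∈ h.liftSystem.autGroup W ∧ (∀ x ∈ P₀, autFn τ x ∈ P₀) ∧ ∃ j : ℕ, τ ^ p ^ j = 1}
  set G₀ := Subgroup.closure gens with hG₀
  have hG₀L : G₀ ≤ h.liftSystem.autGroup W := (Subgroup.closure_le _).2 fun τ hτ => hτ.1
  have hG₀P : ∀ a ∈ G₀, ∀ x ∈ P₀, autFn a x ∈ P₀ := by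
    intro a ha
    induction ha using Subgroup.closure_induction with
    | mem a ha => exact ha.2.1
    | one => intro x hx; rw [autFn_one (hP₀W hx)]; exact hx
    | mul a b _ _ ha hb => intro x hx; rw [autFn_mul _ _ (hP₀W hx)]; exact ha _ (hb x hx)
    | inv a haG ha =>
      intro x hx
      have hfa := (Fn.of_subsystem h.liftSystem_sub ((mem_autGroup_iff_fn hA.1).1 (hG₀L haG))).mono hP₀W
      obtain ⟨u, hu, hux⟩ := hfa.mem_img.1 ((hfa.img_eq_self ha).ge hx)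
      rw [← hux, autFn_inv_apply a (hP₀W hu)]
      exact hu
  have hstab : ∀ (X : Subgroup Ω) (f : Ω → Ω), Fn h.liftSystem X f → img f X = W → P ≤ X → img f P = P₀ →
      ∀ m ∈ normalizerIn N X, ∃ τ ∈ G₀, ∀ x ∈ X, autFn τ (f x) = f (m * x * m⁻¹) := by
    intro X f hf hi hPX hfP m hm
    have hmN : m ∈ normalizerIn (base θ T') X := ⟨hm.1.1, hm.2⟩
    obtain ⟨τ, hτ, hτe⟩ := Criterion.exists_transported hf hi hmN
    refine ⟨τ, Subgroup.subset_closure ⟨hτ, fun y hy => ?_, ?_⟩, hτe⟩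
    · obtain ⟨x, hx, rfl⟩ := (hf.mono hPX).mem_img.1 (hfP.ge hy)
      rw [hτe x (hPX hx), ← hfP]
      exact mem_img_of_mem ((mem_normalizer_iff'.1 hm.1.2).1 x hx)
    · obtain ⟨j, hj⟩ := h.pgroup_base ⟨m, hm.1.1⟩
      have hpow : ∀ k : ℕ, ∀ x ∈ X, autFn (τ ^ k) (f x) = f (m ^ k * x * (m ^ k)⁻¹) := fun k => by
        induction k with
        | zero => intro x hx; rw [pow_zero, autFn_one (hi.le (mem_img_of_mem hx))]; simp
        | succ k ihk =>
          intro x hx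
          rw [pow_succ, autFn_mul _ _ (hi.le (mem_img_of_mem hx)), hτe x hx,
            ihk _ ((mem_normalizer_iff'.1 hm.2).1 x hx), pow_succ]
          exact congrArg f (by group)
      refine ⟨j, mulAut_ext fun y hy => ?_⟩
      obtain ⟨x, hx, rfl⟩ := hf.mem_img.1 (hi.ge hy)
      rw [hpow _ x hx, show m ^ p ^ j = 1 from congrArg Subtype.val hj, autFn_one hy]
      simp
  have hg'P : img (f₁ ∘ g') P = P₀ := by
    conv_lhs => rw [← hgP, ← (hg.mono hPR).img_comp]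
    exact img_congr fun x hx => congrArg f₁ (hg'g x (hPR hx))
  obtain ⟨γ, hγ, δ, hδ, h₁, h₂, hh₁, hh₂, he₁, he₂⟩ := Criterion.two_push h.pgroup_base hA hr (G₀ := G₀) (K := G₀)
    hG₀L le_rfl (fun a ha k hk => G₀.mul_mem (G₀.mul_mem ha hk) (G₀.inv_mem ha))
    (fun a ha => ⟨0, by simpa using ha⟩) hf₁ hi₁ hf₂ hi₂ (M₁ := normalizerIn N R) (M₂ := normalizerIn N R₂)
    (fun m hm => ⟨hm.1.1, hm.2⟩) (fun m hm => ⟨hm.1.1, hm.2⟩)
    (hstab R f₁ hf₁ hi₁ hPR rfl) (hstab R₂ (f₁ ∘ g') hf₂ hi₂ hPR₂ hg'P)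
  have hNb : N ≤ base θ T' := normalizerIn_le
  haveI := finite_of_le_base hNb
  have hlarge : ∀ X : Subgroup Ω, X ≤ N → X ≠ N →
      Nat.card X < Nat.card ↥(X ⊔ normalizerIn N X) ∧ X ⊔ normalizerIn N X ≤ N := by
    intro X hX hne
    refine ⟨?_, sup_le hX normalizerIn_le⟩
    have hlt' := lt_normalizerIn (S := N) (h.pgroup_base.to_le hNb) (lt_of_le_of_ne hX hne)
    haveI : Finite (X ⊔ normalizerIn N X : Subgroup Ω) :=
      finite_of_le_base ((sup_le hX normalizerIn_le).trans hNb)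
    exact Set.Finite.card_lt_card (Set.toFinite ((X ⊔ normalizerIn N X : Subgroup Ω) : Set Ω))
      (lt_of_lt_of_le hlt' le_sup_right : X < X ⊔ normalizerIn N X)
  have hcR : Nat.card R₂ = Nat.card R := hg.card_img
  obtain ⟨hc₁, hN₁⟩ := hlarge R hRN hRe
  obtain ⟨hc₂, hN₂⟩ := hlarge R₂ hR₂N fun e => hRe (eq_of_le_of_card hNb hRN (by rw [← hcR, e]))
  set Q₃ := img h₁ P with hQ₃def
  have hQ₃ : img (autFn γ) P₀ = Q₃ := by
    rw [hP₀def, ← (hf₁.mono hPR).img_comp]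
    exact (img_congr fun x hx => he₁ x (hPR hx)).symm
  obtain ⟨ψ, hψ, hψi, hψn⟩ := h.normalizer_map hP hPn
    (isConj_symm (isConj_of_fn (hh₁.mono (hPR.trans le_sup_left))))
  have hδP : ∀ x ∈ P₀, autFn δ x ∈ P₀ := hG₀P δ hδ
  have hγP : ∀ x ∈ P₀, autFn γ x ∈ Q₃ := fun x hx => hQ₃ ▸ mem_img_of_mem hx
  have hγf := (mem_autGroup_iff_fn hA.1).1 hγ
  have hQ₃b : Q₃ ≤ base θ T' := hQ₃ ▸ (hγf.mono hP₀W).img_le_base
  have hφ : Fn h.liftSystem P₀ (ψ ∘ autFn γ) :=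
    (hγf.mono hP₀W).comp hψ fun x hx => le_normalizerIn hQ₃b (hγP x hx)
  have hφi : img (ψ ∘ autFn γ) P₀ = P := by rw [(hγf.mono hP₀W).img_comp, hQ₃, hψi]
  have hη : ∀ a ∈ G₀, ∃ η ∈ gGen F (base θ T') P,
      ∀ x ∈ P₀, autFn η (ψ (autFn γ x)) = ψ (autFn γ (autFn a x)) := by
    intro a ha
    obtain ⟨e, he, -⟩ := exists_transport hφ.le hφ hφi
    have hmemP : ∀ x ∈ P₀, ψ (autFn γ x) ∈ P := fun x hx => hφi.le (mem_img_of_mem (f := ψ ∘ autFn γ) hx)
    induction ha using Subgroup.closure_induction with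
    | mem τ hτ =>
      obtain ⟨hτL, hτP, j, hj⟩ := hτ
      have hτf := ((mem_autGroup_iff_fn hA.1).1 hτL).mono hP₀W
      haveI := finite_of_le_base hφ.le
      obtain ⟨a, -, hae⟩ := exists_aut_of_fn hτf (hτf.img_eq_self hτP)
      have hval : ∀ x ∈ P₀, autFn (MulAut.congr e a) (ψ (autFn γ x)) = ψ (autFn γ (autFn τ x)) := by
        intro x hx
        show autFn (MulAut.congr e a) ((ψ ∘ autFn γ) x) = (ψ ∘ autFn γ) (autFn τ x)
        rw [← he ⟨x, hx⟩, autFn_coe, show (MulAut.congr e a) (e ⟨x, hx⟩) = e (a ⟨x, hx⟩) by simp [MulAut.congr],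
          he, hae]
      exact ⟨_, stab_pElement h.pgroup_base h.liftSystem_sub hA hτL hj hP₀W hτP (h.liftSystem_fn_F hφ) hφi hval,
        hval⟩
    | one => exact ⟨1, one_mem _, fun x hx => by rw [autFn_one (hmemP x hx), autFn_one (hP₀W hx)]⟩
    | mul a b haG hbG ha hb =>
      obtain ⟨ηa, hηa, hηae⟩ := ha
      obtain ⟨ηb, hηb, hηbe⟩ := hb
      refine ⟨ηa * ηb, mul_mem hηa hηb, fun x hx => ?_⟩
      rw [autFn_mul _ _ (hmemP x hx), hηbe x hx, hηae _ (hG₀P b hbG x hx), autFn_mul _ _ (hP₀W hx)]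
    | inv a haG ha =>
      obtain ⟨η, hη, hηe⟩ := ha
      refine ⟨η⁻¹, inv_mem hη, fun x hx => ?_⟩
      have hu := hG₀P _ (G₀.inv_mem haG) x hx
      have h1 := hηe _ hu
      rw [autFn_apply_inv a (hP₀W hx)] at h1
      rw [← h1, autFn_inv_apply η (hmemP _ hu)]
  obtain ⟨η, hηG, hηe⟩ := hη δ hδ
  have hh₂P : ∀ x ∈ P, h₂ (g x) = autFn γ (autFn δ (f₁ x)) := fun x hx => by
    rw [he₂ _ (mem_img_of_mem (hPR hx))]
    show autFn γ (autFn δ (f₁ (g' (g x)))) = _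
    rw [hg'g x (hPR hx)]
  have hγδ : ∀ x ∈ P, autFn γ (autFn δ (f₁ x)) ∈ Q₃ := fun x hx => hγP _ (hδP _ (mem_img_of_mem hx))
  have h12 : img h₂ P = Q₃ := by
    refine eq_of_le_of_card (S := base θ T') hQ₃b (img_le fun y hy => ?_) ?_
    · obtain ⟨x, hx, rfl⟩ := (hg.mono hPR).mem_img.1 (hgP.ge hy)
      rw [hh₂P x hx]
      exact hγδ x hx
    · rw [(hh₂.mono (hPR₂.trans le_sup_left)).card_img, hQ₃def, (hh₁.mono (hPR.trans le_sup_left)).card_img]
  have mk : ∀ (X : Subgroup Ω) (k : Ω → Ω), Fn h.liftSystem X k → P ≤ X → X ≤ N →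
      Nat.card R < Nat.card X → img k P = Q₃ →
      ∃ β : MulAut P, β ∈ h.autBound hP.2.1 ∧ ∀ x : P, ((β x : P) : Ω) = ψ (k x) := by
    intro X k hk hPX hX hc hi
    have hkm : ∀ n ∈ X, k n ∈ normalizerIn (base θ T') Q₃ := fun n hn => hk.map_normalizer hPX hi hn (hX hn).2
    have hc' := hk.comp hψ hkm
    have hci : img (ψ ∘ k) P = P := by rw [(hk.mono hPX).img_comp, hi, hψi]
    haveI := finite_of_le_base hP.2.1
    obtain ⟨β, -, hβe⟩ := exists_aut_of_fn (hc'.mono hPX) hci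
    have hXS : Nat.card X ≤ Nat.card S := Subgroup.card_le_of_le ((hX.trans hNb).trans h.base_le)
    exact ⟨β, ih (Nat.card S - Nat.card X) (by omega) X _ β rfl hc' hPX hX (hlt.trans hc) hβe, hβe⟩
  obtain ⟨β₁, hβ₁, e₁⟩ := mk _ h₁ hh₁ (hPR.trans le_sup_left) hN₁ hc₁ rfl
  obtain ⟨β₂, hβ₂, e₂⟩ := mk _ h₂ hh₂ (hPR₂.trans le_sup_left) hN₂ (hcR ▸ hc₂) h12
  have e : α = β₂⁻¹ * (η * β₁) := eq_inv_mul_of_mul_eq (MulEquiv.ext fun x => Subtype.ext (by
    rw [MulAut.mul_apply, MulAut.mul_apply, e₂, hαg, hh₂P x x.2, ← autFn_coe η, e₁, he₁ x (hPR x.2),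
      hηe _ (mem_img_of_mem x.2)]))
  rw [e]
  exact mul_mem (inv_mem hβ₂) (mul_mem (Subgroup.mem_sup_left hηG) hβ₁)

/-- The automorphisms of the lift lie in the bound. -/
theorem autGroup_le_bound (hP : Lifted Z θ D P) (hPn : D.IsFullyNormalized (imageAlong θ P))
    (hPb : P ≠ base θ T') (hbig : ∀ R, Lifted Z θ D R → Nat.card P < Nat.card R → h.Hyp R) :
    h.liftSystem.autGroup P ≤ h.autBound hP.2.1 := by
  classical
  haveI := h.finite_base
  set Y := h.autBound hP.2.1 with hY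
  let C : Subgroup Ω → (Ω → Ω) → Prop := fun X f =>
    ∀ Q ≤ X, h.liftSystem.IsConj P Q → ∀ ψ ψ' : Ω → Ω,
      Fn h.liftSystem (normalizerIn (base θ T') Q) ψ → img ψ Q = P →
      Fn h.liftSystem (normalizerIn (base θ T') (img f Q)) ψ' → img ψ' (img f Q) = P →
      ∀ α : MulAut P, (∀ x ∈ Q, autFn α (ψ x) = ψ' (f x)) → α ∈ Y
  have hedge : ∀ (R : Subgroup Ω) (f : Ω → Ω) (Q : Subgroup Ω), Fn h.liftSystem R f → Q < R →
      h.liftSystem.IsConj P Q → ∀ ψ ψ' : Ω → Ω,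
      Fn h.liftSystem (normalizerIn (base θ T') Q) ψ → img ψ Q = P →
      Fn h.liftSystem (normalizerIn (base θ T') (img f Q)) ψ' → img ψ' (img f Q) = P →
      ∀ α : MulAut P, (∀ x ∈ Q, autFn α (ψ x) = ψ' (f x)) → α ∈ Y := by
    intro R f Q hf hQR hPQ ψ ψ' hψ hψi hψ' hψ'i α hα
    haveI := finite_of_le_base hf.le
    have hlt' := lt_normalizerIn (h.pgroup_base.to_le hf.le) hQR
    haveI := finite_of_le_base ((normalizerIn_le (S := R) (P := Q)).trans hf.le)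
    have hlt := Set.Finite.card_lt_card (Set.toFinite (normalizerIn R Q : Set Ω)) hlt'
    have hRN : normalizerIn R Q ≤ normalizerIn (base θ T') Q := inf_le_inf hf.le le_rfl
    have hψR := hψ.mono hRN
    obtain ⟨φ, hφ, hφψ, hφi⟩ := hψR.exists_inv
    have hm1 : ∀ y ∈ img ψ (normalizerIn R Q), φ y ∈ normalizerIn R Q := fun y hy => hφi.le (mem_img_of_mem hy)
    have hm2 : ∀ y ∈ img ψ (normalizerIn R Q), (f ∘ φ) y ∈ normalizerIn (base θ T') (img f Q) := fun y hy =>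
      hf.map_normalizer hQR.le rfl (hm1 y hy).1 (hm1 y hy).2
    have hQb : Q ≤ base θ T' := hQR.le.trans hf.le
    refine h.key_extension hP hPn hbig _ _ _ α rfl ((hφ.comp (hf.mono normalizerIn_le) hm1).comp hψ' hm2)
      (hψi ▸ img_mono hlt'.le)
      (img_le fun n hn => hψ.map_normalizer (le_normalizerIn hQb) hψi (hRN hn) hn.2) ?_ fun x => ?_
    · rw [hψR.card_img, ← isConj_card hPQ]
      exact hlt
    · obtain ⟨y, hy, hyx⟩ := (hψ.mono (le_normalizerIn hQb)).mem_img.1 (hψi.ge x.2)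
      show _ = ψ' (f (φ x))
      rw [← hyx, hφψ y (hlt'.le hy), ← hα y hy, hyx, autFn_coe]
  have hne : ∀ Q, h.liftSystem.IsConj P Q → Q ≠ base θ T' := fun Q hPQ e => hPb
    (eq_of_le_of_card le_rfl hP.2.1 (by rw [← isConj_card hPQ, e]))
  let M := predSystem h.liftSystem C
    (fun X f g he _ hf Q hQ hPQ ψ ψ' h1 h2 h3 h4 α hα => by
      have e : img f Q = img g Q := img_congr fun x hx => he x (hQ hx)
      exact hf Q hQ hPQ ψ ψ' h1 h2 (e ▸ h3) (e ▸ h4) α fun x hx => by rw [hα x hx, he x (hQ hx)])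
    (fun X hX s hs Q hQ hPQ =>
      hedge _ _ Q (fn_conj le_rfl hs) (lt_of_le_of_ne (hQ.trans hX) (hne Q hPQ)) hPQ)
    (fun X R f g hf hg hm hcf hcg Q hQ hPQ ψ ψ' h1 h2 h3 h4 α hα => by
      have hfQ := hf.mono hQ
      have hQ'R : img f Q ≤ R := img_le fun x hx => hm x (hQ hx)
      have hPQ' := isConj_trans hPQ (isConj_of_fn hfQ)
      obtain ⟨ψm, hψm, hψmi, -⟩ := h.normalizer_map hP hPn (isConj_symm hPQ')
      rw [hfQ.img_comp] at h3 h4
      obtain ⟨β, -, hβ⟩ := Criterion.exists_pushed hf hQ h1 h2 hψm hψmi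
      obtain ⟨β', -, hβ'⟩ := Criterion.exists_pushed hg hQ'R hψm hψmi h3 h4
      have e : α = β' * β := mulAut_ext fun y hy => by
        obtain ⟨x, hx, rfl⟩ := (h1.mono (le_normalizerIn hfQ.le)).mem_img.1 (h2.ge hy)
        rw [hα x hx, autFn_mul _ _ hy, hβ x hx, hβ' _ (mem_img_of_mem hx)]
        rfl
      rw [e]
      exact mul_mem (hcg _ hQ'R hPQ' ψm ψ' hψm hψmi h3 h4 β' hβ') (hcf Q hQ hPQ ψ ψm h1 h2 hψm hψmi β hβ))
    (fun X f g hf hg hgf hc Q hQ hPQ ψ ψ' h1 h2 h3 h4 α hα => by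
      have hgQ := hg.mono hQ
      have hQ' : img g Q ≤ X := img_le fun y hy => by
        obtain ⟨x, hx, rfl⟩ := hf.mem_img.1 (hQ hy)
        rw [hgf x hx]
        exact hx
      have hfg : ∀ y ∈ Q, f (g y) = y := fun y hy => by
        obtain ⟨x, hx, rfl⟩ := hf.mem_img.1 (hQ hy)
        rw [hgf x hx]
      have e : img f (img g Q) = Q := by
        rw [← hgQ.img_comp]
        exact (img_congr fun y hy => hfg y hy).trans (img_id Q)
      have hc' := hc _ hQ' (isConj_trans hPQ (isConj_of_fn hgQ)) ψ' ψ h3 h4 (e.symm ▸ h1) (e.symm ▸ h2) α⁻¹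
        fun y hy => by
          obtain ⟨x, hx, rfl⟩ := hgQ.mem_img.1 hy
          rw [hfg x hx, ← hα x hx, autFn_inv_apply α (h2.le (mem_img_of_mem hx))]
      simpa using inv_mem hc')
  have hM : h.Gens M := by
    refine ⟨fun X hX a ha => ?_, fun a ha => ?_⟩
    · have haL := (mem_autGroup_iff_fn hX.2.1).1 (h.liftSystem_gens.1 X hX ha)
      refine (mem_autGroup_iff_fn hX.2.1).2 (fn_predSystem.2 ⟨haL, fun Q hQ hPQ ψ ψ' h1 h2 h3 h4 α hα => ?_⟩)
      rcases eq_or_lt_of_le hQ with rfl | hlt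
      · rw [img_autFn] at h3 h4
        have hQN : Q ≤ normalizerIn (base θ T') Q := le_normalizerIn hX.2.1
        have hψQ := h1.mono hQN
        haveI := finite_of_le_base hP.2.1
        obtain ⟨e, he, -⟩ := exists_transport hX.2.1 hψQ h2
        have hg1 := transport_gGen (h.liftSystem_fn_F hψQ) h2 e he ha
        have hpush := hedge _ id Q (fn_id (le_rfl : base θ T' ≤ base θ T'))
          (lt_of_le_of_ne hX.2.1 (hne Q hPQ)) hPQ ψ ψ' h1 h2 (by rwa [img_id]) (by rwa [img_id])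
          (α * (MulAut.congr e a)⁻¹) fun x hx => ?_
        · have := mul_mem hpush (Subgroup.mem_sup_left (T := h.resGroup hP.2.1) hg1)
          rwa [inv_mul_cancel_right] at this
        · have hψx : ψ x ∈ P := h2.le (mem_img_of_mem hx)
          set a' := MulAut.congr e a
          have h5 : autFn a' (ψ (autFn a⁻¹ x)) = ψ x := by
            have hy := autFn_mem a⁻¹ hx
            rw [← he ⟨_, hy⟩, autFn_coe, show a' (e ⟨_, hy⟩) = e (a ⟨_, hy⟩) by simp [a', MulAut.congr], he]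
            exact congrArg ψ ((autFn_coe a ⟨_, hy⟩).symm.trans (autFn_apply_inv a hx))
          have h6 : autFn a'⁻¹ (ψ x) = ψ (autFn a⁻¹ x) := by
            conv_lhs => rw [← h5]
            exact autFn_inv_apply a' (h2.le (mem_img_of_mem (autFn_mem a⁻¹ hx)))
          rw [autFn_mul _ _ hψx, h6, hα _ (autFn_mem a⁻¹ hx), autFn_apply_inv a hx]
          rfl
      · exact hedge X _ Q haL hlt hPQ ψ ψ' h1 h2 h3 h4 α hα
    · have haL := (mem_autGroup_iff_fn le_rfl).1 (h.liftSystem_gens.2 ha)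
      refine (mem_autGroup_iff_fn le_rfl).2 (fn_predSystem.2 ⟨haL, fun Q hQ hPQ => ?_⟩)
      exact hedge _ _ Q haL (lt_of_le_of_ne hQ (hne Q hPQ)) hPQ
  intro α hα
  refine (fn_predSystem.1 (h.liftSystem_le hM ((mem_autGroup_iff_fn hP.2.1).1 hα))).2 P le_rfl (isConj_refl hP.2.1)
    id id (fn_id normalizerIn_le) (img_id P) (fn_id normalizerIn_le) ?_ α fun x hx => rfl
  rw [img_autFn, img_id]

theorem hyp_base : h.Hyp (base θ T') := by
  haveI := h.finite_base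
  let C : Subgroup Ω → (Ω → Ω) → Prop := fun P f => P = base θ T' →
    ∃ a ∈ Inn (base θ T') ⊔ h.hGen, ∀ x ∈ base θ T', f x = autFn a x
  let M := predSystem h.liftSystem C
    (fun P f g he _ hf hP => by
      obtain ⟨a, ha, hax⟩ := hf hP
      exact ⟨a, ha, fun x hx => (he x (hP ▸ hx)).symm.trans (hax x hx)⟩)
    (fun P _ s hs _ => ⟨MulAut.conj ⟨s, hs⟩, Subgroup.mem_sup_left ⟨_, rfl⟩,
      fun x hx => (autFn_coe (MulAut.conj (⟨s, hs⟩ : base θ T')) ⟨x, hx⟩).symm⟩)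
    (fun P R f g hf hg hm hcf hcg hP => by
      subst hP
      have hR : R = base θ T' := le_antisymm hg.le
        ((hf.img_eq_self fun x hx => hf.mem hx).ge.trans (img_le hm))
      obtain ⟨a, ha, hax⟩ := hcf rfl
      obtain ⟨b, hb, hbx⟩ := hcg hR
      refine ⟨b * a, mul_mem hb ha, fun x hx => ?_⟩
      show g (f x) = _
      rw [autFn_mul _ _ hx, ← hax x hx, hbx _ (hf.mem hx)])
    (fun P f g hf _ hgf hc hP => by
      have hPS : P = base θ T' := eq_of_le_of_card le_rfl hf.le (by rw [← hf.card_img, hP])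
      obtain ⟨a, ha, hax⟩ := hc hPS
      refine ⟨a⁻¹, inv_mem ha, fun x hx => ?_⟩
      obtain ⟨y, hy, rfl⟩ := hf.mem_img.1 (hP.ge hx)
      rw [hgf y hy, hax y (hPS ▸ hy), autFn_inv_apply a (hPS ▸ hy)])
  have hM : h.Gens M := by
    refine ⟨fun P hP a ha => ?_, fun a ha => ?_⟩
    · refine (mem_autGroup_iff_fn hP.2.1).2 (fn_predSystem.2
        ⟨(mem_autGroup_iff_fn hP.2.1).1 (h.liftSystem_gens.1 P hP ha), fun e => ?_⟩)
      subst e
      refine ⟨a, Subgroup.mem_sup_left ?_, fun x hx => rfl⟩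
      refine (Subgroup.closure_le _).2 ?_ ha
      rintro b ⟨f, t, hf, ht, -, hfb⟩
      obtain ⟨u, hu, rfl⟩ := hf.mem_img.1 ((weaklyClosed_img (weaklyClosed_of_stronglyClosed h.sc_base) le_rfl hf).ge ht)
      refine ⟨⟨u, hu⟩, mulAut_ext fun x hx => hf.inj (autFn_mem _ hx) (autFn_mem _ hx) ?_⟩
      rw [hfb x hx, autFn_coe _ ⟨x, hx⟩, ← hf.map_conj hu hx]
      rfl
    · exact (mem_autGroup_iff_fn le_rfl).2 (fn_predSystem.2
        ⟨(mem_autGroup_iff_fn le_rfl).1 (h.liftSystem_gens.2 ha),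
          fun _ => ⟨a, Subgroup.mem_sup_right ha, fun x hx => rfl⟩⟩)
  intro k hk hkt
  obtain ⟨a, ha, hax⟩ := (fn_predSystem.1 (h.liftSystem_le hM ((mem_autGroup_iff_fn le_rfl).1 hk))).2 rfl
  rw [← mulAut_ext (fun x hx => (hax x hx))] at ha
  exact h.top_triv ha hkt

theorem hyp_all : ∀ P, Lifted Z θ D P → h.Hyp P := by
  classical
  haveI := h.finite_base
  intro P hP
  refine induction_down (S := base θ T') (C := fun P => Lifted Z θ D P → h.Hyp P) P hP.2.1 ?_ hP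
  intro P hPb ih hP
  rcases eq_or_ne P (base θ T') with rfl | hne
  · exact h.hyp_base
  obtain ⟨Q, hPQ, hQ, hQn⟩ := h.exists_normalized hP
  refine h.hyp_of_conj hPQ ?_
  have hQne : Q ≠ base θ T' := fun e => hne (eq_of_le_of_card le_rfl hPb (by rw [← isConj_card hPQ, e]))
  have hbig : ∀ R, Lifted Z θ D R → Nat.card Q < Nat.card R → h.Hyp R := fun R hR hlt =>
    ih R hR.2.1 (isConj_card hPQ ▸ hlt) hR
  intro k hk hkt
  have hQS := hQ.2.1.trans h.base_le
  haveI := finite_of_le_base hQS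
  haveI : Finite (MulAut Q) := Finite.of_injective (fun f : MulAut Q => (f : Q → Q)) DFunLike.coe_injective
  have hkY := h.autGroup_le_bound hQ hQn hQne hbig hk
  set G := gGen F (base θ T') Q with hG
  have hresF : h.resGroup hQ.2.1 ≤ F.autGroup Q := fun b ⟨g, hg, hgb⟩ =>
    (mem_autGroup hQS).2 (mem_hom_of_fn ((h.liftSystem_fn_F hg).mono (le_normalizerIn hQ.2.1)) fun x => hgb x)
  have hnorm : h.resGroup hQ.2.1 ≤ Subgroup.normalizer (G : Set (MulAut Q)) := fun b hb =>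
    Subgroup.mem_normalizer_iff.2 fun x => ⟨fun hx => gGen_normal hQS (hresF hb) hx, fun hx => by
      have := gGen_normal hQS (inv_mem (hresF hb)) hx
      rwa [show b⁻¹ * (b * x * b⁻¹) * b⁻¹⁻¹ = x by group] at this⟩
  rw [autBound, sup_comm] at hkY
  have hkY' : k ∈ ((h.resGroup hQ.2.1 ⊔ G : Subgroup _) : Set (MulAut Q)) := hkY
  rw [Subgroup.coe_mul_of_left_le_normalizer_right _ G hnorm] at hkY'
  obtain ⟨b, hb, x, hx, rfl⟩ := hkY'
  obtain ⟨g, hg, hgb⟩ := hb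
  have hQN := le_normalizerIn hQ.2.1
  set N := normalizerIn (base θ T') Q with hN
  have hNb : N ≤ base θ T' := normalizerIn_le
  haveI := finite_of_le_base hNb
  have hgQ : img g Q = Q := (hg.mono hQN).img_eq_self fun y hy => hgb ⟨y, hy⟩ ▸ (b ⟨y, hy⟩).2
  obtain ⟨τ, hτ, hτg⟩ := exists_aut_of_fn hg (hg.img_eq_self fun n hn => hg.map_normalizer hQN hgQ hn hn.2)
  haveI : Finite (MulAut N) := Finite.of_injective (fun f : MulAut N => (f : N → N)) DFunLike.coe_injective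
  have hτQ : ∀ j : ℕ, ∀ y ∈ Q, autFn (b ^ j) y = autFn (τ ^ j) y := fun j => by
    induction j with
    | zero => intro y hy; rw [pow_zero, pow_zero, autFn_one hy, autFn_one (hQN hy)]
    | succ j ihj =>
      intro y hy
      rw [pow_succ, pow_succ, autFn_mul _ _ hy, autFn_mul _ _ (hQN hy), autFn_coe b ⟨y, hy⟩, hgb,
        autFn_coe τ ⟨y, hQN hy⟩, hτg, ihj _ (hgQ.le (mem_img_of_mem hy))]
  obtain ⟨a, m, hm, hτo⟩ := Nat.exists_eq_pow_mul_and_not_dvd (orderOf_pos τ).ne' p (Fact.out : p.Prime).ne_one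
  obtain ⟨i, hi⟩ := h.trivGroup_pGroup hQ.1 hQS ⟨b * x, autGroup_mono' h.liftSystem_sub Q hk, hkt⟩
  obtain ⟨q, hq0, hq1⟩ := Nat.chineseRemainder
    (Nat.Coprime.pow_right (a + i) ((Nat.Prime.coprime_iff_not_dvd Fact.out).2 hm).symm) 0 1
  have hτp : (τ ^ q) ^ p ^ a = 1 := by
    rw [← pow_mul]
    refine orderOf_dvd_iff_pow_eq_one.1 ?_
    rw [hτo, mul_comm q]
    exact Nat.mul_dvd_mul_left _ (Nat.modEq_zero_iff_dvd.1 hq0)
  have hbqG : b ^ q ∈ G := by
    have hW := h.good (h.lifted_mono hQ hQN hNb) fun R hR hc => hbig R hR (hc ▸ ?_)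
    · obtain ⟨W, hW, hA, -⟩ := hW
      obtain ⟨f, hf, hfi⟩ := isConj_iff.1 hW
      obtain ⟨e, he, hmap⟩ := exists_transport hNb hf hfi
      obtain ⟨v, hv, hvf, hvi⟩ := hf.exists_inv
      have hQf : img f Q ≤ W := hfi ▸ img_mono hQN
      have hvQ := hv.mono (img_mono (f := f) hQN)
      have heτ : ∀ y ∈ Q, autFn (MulAut.congr e (τ ^ q)) (f y) = f (autFn (τ ^ q) y) := fun y hy => by
        rw [← he ⟨y, hQN hy⟩, autFn_coe,
          show (MulAut.congr e (τ ^ q)) (e ⟨y, hQN hy⟩) = e ((τ ^ q) ⟨y, hQN hy⟩) by simp [MulAut.congr],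
          he, autFn_coe (τ ^ q) ⟨y, hQN hy⟩]
      refine stab_pElement h.pgroup_base h.liftSystem_sub hA (τ := MulAut.congr e (τ ^ q))
        (hmap.le ⟨τ ^ q, pow_mem hτ q, rfl⟩)
        (j := a) ?_ hQf (fun z hz => ?_) (φ := v) (h.liftSystem_fn_F hvQ) ?_ fun z hz => ?_
      · rw [← map_pow, hτp, map_one]
      · obtain ⟨y, hy, rfl⟩ := (hf.mono hQN).mem_img.1 hz
        rw [heτ y hy, ← hτQ q y hy]
        exact mem_img_of_mem (autFn_mem _ hy)
      · rw [← (hf.mono hQN).img_comp]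
        exact (img_congr fun y hy => hvf y (hQN hy)).trans (img_id Q)
      · obtain ⟨y, hy, rfl⟩ := (hf.mono hQN).mem_img.1 hz
        rw [hvf y (hQN hy), heτ y hy, hvf _ (autFn_mem _ (hQN hy)), hτQ q y hy]
    · exact Set.Finite.card_lt_card (Set.toFinite (N : Set Ω))
        (lt_normalizerIn h.pgroup_base (lt_of_le_of_ne hQ.2.1 hQne))
  refine h.gGen_triv hQ ?_ hkt
  haveI : (G.subgroupOf (F.autGroup Q)).Normal := ⟨fun n hn c => gGen_normal hQS c.2 hn⟩
  let π := QuotientGroup.mk' (G.subgroupOf (F.autGroup Q))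
  have hbF : b ∈ F.autGroup Q := hresF ⟨g, hg, hgb⟩
  have hxF : x ∈ F.autGroup Q := gGen_le_autGroup hQS h.base_le hx
  set bF : F.autGroup Q := ⟨b, hbF⟩
  set kF : F.autGroup Q := ⟨b * x, mul_mem hbF hxF⟩
  have e1 : π kF = π bF := by
    rw [show kF = bF * ⟨x, hxF⟩ from rfl, map_mul,
      show π ⟨x, hxF⟩ = 1 from (QuotientGroup.eq_one_iff _).2 hx, mul_one]
  have e2 : π bF ^ q = 1 := by
    rw [← map_pow]
    exact (QuotientGroup.eq_one_iff _).2 hbqG
  have hkq : kF ^ q = kF := by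
    apply Subtype.ext
    show (b * x) ^ q = b * x
    have hpi : (b * x) ^ p ^ i = 1 := congrArg Subtype.val hi
    conv_rhs => rw [← pow_one (b * x)]
    refine pow_eq_pow_iff_modEq.2 ?_
    exact (hq1.of_dvd ((orderOf_dvd_of_pow_eq_one hpi).trans (pow_dvd_pow p (Nat.le_add_left i a))))
  have : π kF = 1 := by rw [← hkq, map_pow, e1, e2]
  exact (QuotientGroup.eq_one_iff kF).1 this

end Data

end CfsgLib.Fsys.Lift
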