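import Cfsg.Agent.Lib.FusionSystem.WeakNormalLift

/-! The `p'`-residual of a weakly normal subsystem is normal. -/

set_option autoImplicit false

namespace CfsgLib.Fsys.WNR

open Cfsg Cfsg.FusionSystem
open Cfsg.FusionSystem (centralizerIn normalizerIn)

variable {Ω : Type*} [Group Ω] {S T : Subgroup Ω} {F : FusionSystem S} {E D : FusionSystem T}
variable {p : ℕ} [Fact p.Prime] [Finite S]

theorem opAut_closure {P : Subgroup Ω} {B : Subgroup (MulAut P)}
    (h : ∀ τ ∈ E.autGroup P, (∃ k : ℕ, τ ^ p ^ k = 1) → τ ∈ B) : opAut p E P ≤ B := by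
  rw [opAut, Subgroup.map_le_iff_le_comap, Subgroup.closure_le]
  rintro t ⟨k, hk⟩
  refine h t t.2 ⟨k, ?_⟩
  rw [← SubmonoidClass.coe_pow, ← hk, pow_orderOf_eq_one]
  rfl

/-- Maps of the residual extend compatibly to the centralizer. -/
theorem residual_cExt (hS : IsPGroup p S) (hE : E.IsWeaklyNormalIn F p) (hD : E.IsPPrimeResidual p D)
    {α : MulAut T} (hα : α ∈ D.autGroup T) : CExt F T T (autFn α) := by
  have hEi := hE.2.2
  have hT := hEi.2.1
  haveI := finite_of_le_base hT.1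
  let DE : FusionSystem T := predSystem E (fun P f => ∀ X ≤ P, E.IsCentric X → CExt F T X f)
    (fun P f g he _ h X hX hXc => (h X hX hXc).congr fun x hx => he x (hX hx))
    (fun P hP s hs X hX _ => cExt_conj hT (hX.trans hP) hs)
    (fun P R f g hf hg hm h h' X hX hXc => by
      have hfX := Fn.of_subsystem hEi.1 (hf.mono hX)
      have hi : img f X ≤ R := img_le fun x hx => hm x (hX hx)
      exact (h X hX hXc).comp hEi hXc (centric_img hEi hXc hfX).1 (fun x hx => mem_img_of_mem hx)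
        (h' _ hi (centric_img hEi hXc hfX)))
    (fun P f g hf hg hgf h X hX hXc => by
      have hgX := Fn.of_subsystem hEi.1 (hg.mono hX)
      have hi : img g X ≤ P := img_le fun y hy => by
        obtain ⟨x, hx, rfl⟩ := hf.mem_img.1 (hX hy)
        rw [hgf x hx]
        exact hx
      have he : img f (img g X) = X := by
        rw [← hgX.img_comp]
        refine (img_congr fun y hy => ?_).trans (img_id X)
        obtain ⟨x, hx, rfl⟩ := hf.mem_img.1 (hX hy)
        show f (g (f x)) = f x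
        rw [hgf x hx]
      have := (h _ hi (centric_img hEi hXc hgX)).inv hEi (centric_img hEi hXc hgX) (g := g) fun y hy => hgf y (hi hy)
      rwa [he] at this)
  have h1 : ∀ P : Subgroup Ω, E.IsCentric P → opAut p E P ≤ DE.autGroup P := fun P hP =>
    opAut_closure fun τ hτ ⟨k, hk⟩ => (mem_autGroup_iff_fn hP.1).2
      (fn_predSystem.2 ⟨(mem_autGroup_iff_fn hP.1).1 hτ, fun X hX _ => (cExt_pElement hS hE hP hτ hk).mono hX⟩)
  have hle := pPrimeResidual_le (hS.to_le hT.1) hE.1 hD DE h1 fun β hβ P hP hβP =>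
    fn_predSystem.2 ⟨(mem_autGroup_iff_fn le_rfl).1 hβ,
      fun X hX _ => (cExt_of_restrict hS hE hβ hP ((fn_predSystem.1 hβP).2 P le_rfl hP)).mono hX⟩
  exact (fn_predSystem.1 (fn_of_le hle ((mem_autGroup_iff_fn le_rfl).1 hα))).2 T le_rfl (centric_top E)

/-- The residual is invariant under `Aut_F(T)`. -/
theorem residual_transform (hS : IsPGroup p S) (hE : E.IsWeaklyNormalIn F p) (hD : E.IsPPrimeResidual p D)
    {α : MulAut T} (hα : α ∈ F.autGroup T) {P : Subgroup Ω} {g : Ω → Ω} (hg : Fn D P g) :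
    ∃ χ : Ω → Ω, Fn D (img (autFn α) P) χ ∧ ∀ x ∈ P, χ (autFn α x) = autFn α (g x) := by
  have hEi := hE.2.2
  have hT := hEi.2.1
  haveI := finite_of_le_base hT.1
  have hTp := hS.to_le hT.1
  have hαf : Fn F T (autFn α) := (mem_autGroup_iff_fn hT.1).1 hα
  let DM : FusionSystem T := predSystem E
    (fun P g => ∃ χ : Ω → Ω, Fn D (img (autFn α) P) χ ∧ ∀ x ∈ P, χ (autFn α x) = autFn α (g x))
    (fun P f g he _ h => by
      obtain ⟨χ, hχ, hχe⟩ := h
      exact ⟨χ, hχ, fun x hx => by rw [hχe x hx, he x hx]⟩)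
    (fun P hP s hs => ⟨fun y => autFn α s * y * (autFn α s)⁻¹,
      fn_conj (img_le fun x hx => autFn_mem α (hP hx)) (autFn_mem α hs),
      fun x hx => (hαf.map_conj hs (hP hx)).symm⟩)
    (fun P R f g hf' _ hm h h' => by
      obtain ⟨χ, hχ, hχe⟩ := h
      obtain ⟨χ', hχ', hχ'e⟩ := h'
      refine ⟨χ' ∘ χ, hχ.comp hχ' fun y hy => ?_, fun x hx => ?_⟩
      · obtain ⟨x, hx, rfl⟩ := (hαf.mono hf'.le).mem_img.1 hy
        rw [hχe x hx]
        exact mem_img_of_mem (hm x hx)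
      · show χ' (χ (autFn α x)) = autFn α (g (f x))
        rw [hχe x hx, hχ'e _ (hm x hx)])
    (fun P f g hf' _ hgf h => by
      obtain ⟨χ, hχ, hχe⟩ := h
      obtain ⟨χ', hχ', hχ'χ, -⟩ := hχ.exists_inv
      have hi : img χ (img (autFn α) P) = img (autFn α) (img f P) := by
        rw [← (hαf.mono hf'.le).img_comp, ← hf'.img_comp]
        exact img_congr fun x hx => hχe x hx
      rw [hi] at hχ'
      refine ⟨χ', hχ', fun y hy => ?_⟩
      obtain ⟨x, hx, rfl⟩ := hf'.mem_img.1 hy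
      rw [← hχe x hx, hχ'χ _ (mem_img_of_mem hx), hgf x hx])
  have h1 : ∀ P : Subgroup Ω, E.IsCentric P → opAut p E P ≤ DM.autGroup P := fun P hP =>
    opAut_closure fun τ hτ ⟨k, hk⟩ => by
      refine (mem_autGroup_iff_fn hP.1).2 (fn_predSystem.2 ⟨(mem_autGroup_iff_fn hP.1).1 hτ, ?_⟩)
      have hf := hαf.mono hP.1
      obtain ⟨e, he, -⟩ := exists_transport hf.le hf rfl
      have hτ' := congr_mem hEi hP.1 hf rfl e he hτ
      have hQ : img (autFn α) P ≤ T := img_le fun x hx => autFn_mem α (hP.1 hx)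
      have hτD : MulAut.congr e τ ∈ D.autGroup (img (autFn α) P) :=
        hD.2.1.2 _ hQ (mem_opAut_of_pow hτ' (k := k) (by rw [← map_pow, hk, map_one]))
      refine ⟨_, (mem_autGroup_iff_fn hQ).1 hτD, fun x hx => ?_⟩
      lift x to P using hx
      rw [← he x, autFn_coe]
      simp [MulAut.congr, he]
  have hle := pPrimeResidual_le hTp hE.1 hD DM h1 fun β hβ P hP hβP => by
    refine fn_predSystem.2 ⟨(mem_autGroup_iff_fn le_rfl).1 hβ, ?_⟩
    have hγ := (mem_autGroup_iff_fn le_rfl).1 (Invariant.conj_mem hEi le_rfl hα hβ)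
    obtain ⟨χ, hχ, hχe⟩ := (fn_predSystem.1 hβP).2
    have hc := centric_img hEi hP (hαf.mono hP.1)
    have hval : ∀ x ∈ T, autFn (α * β * α⁻¹) (autFn α x) = autFn α (autFn β x) := fun x hx => by
      rw [autFn_mul _ _ (autFn_mem α hx), autFn_inv_apply α hx, autFn_mul _ _ hx]
    have hfull : Fn D T (autFn (α * β * α⁻¹)) := fn_of_restrict hTp hE.1 (fun Q φ h => hD.2.1.1 Q h) hD.1
      hc hc.1 hγ (hχ.congr fun y hy => by
        obtain ⟨x, hx, rfl⟩ := (hαf.mono hP.1).mem_img.1 hy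
        rw [hχe x hx, hval x (hP.1 hx)])
    rw [img_autFn]
    exact ⟨_, hfull, hval⟩
  exact (fn_predSystem.1 (fn_of_le hle hg)).2

/-- The `p'`-residual of a weakly normal subsystem is normal. -/
theorem residual_normal (hS : IsPGroup p S) (hE : E.IsWeaklyNormalIn F p) (hD : E.IsPPrimeResidual p D) :
    D.IsNormalIn F p := by
  obtain ⟨hEs, hF, hEi⟩ := id hE
  have hT := hEi.2.1
  haveI := finite_of_le_base hT.1
  have hTp := hS.to_le hT.1
  refine ⟨⟨hD.1, hF, fun P φ h => hEi.1 P (hD.2.1.1 P h), hT, ?_, ?_⟩, ?_⟩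
  · intro P hP φ hφ α hα
    obtain ⟨χ, hχ, hχe⟩ := residual_transform hS hE hD hα (fn_ofHom hφ)
    have e : (P.subgroupOf T).map (T.subtype.comp α.toMonoidHom) = img (autFn α) P := by
      refine le_antisymm ?_ (img_le fun x hx => ⟨⟨x, hP hx⟩, hx, (autFn_coe α ⟨x, hP hx⟩).symm⟩)
      rintro _ ⟨x, hx, rfl⟩
      show ((α x : T) : Ω) ∈ _
      rw [← autFn_coe]
      exact mem_img_of_mem hx
    rw [← e] at hχ
    obtain ⟨ψ, hψ, hψe⟩ := hχ
    refine ⟨ψ, hψ, fun x hφx hαx => ?_⟩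
    rw [hψe]
    have := hχe x x.2
    rw [ofHom_coe, autFn_coe α ⟨φ x, hφx⟩] at this
    rw [← this]
    show χ ((α ⟨(x : Ω), hP x.2⟩ : T) : Ω) = _
    rw [← autFn_coe]
  · intro P hP φ hφ
    obtain ⟨α, hα, u, hu, hφu⟩ := Invariant.frattini hEi hP (fn_ofHom hφ)
    obtain ⟨β, hβ, d, hdF, hdd, hud⟩ :=
      exists_good_decomp hTp hEs (fun Q hQ => hD.2.1.2 Q hQ.1) hu
    obtain ⟨φ₀, hφ₀, hφ₀d⟩ := hdd.fn hdF fun x _ => rfl
    refine ⟨α * β, mul_mem hα (autGroup_mono' hEi.1 T hβ), φ₀, hφ₀, fun x hx => ?_⟩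
    rw [← ofHom_coe φ x, hφu x x.2, hud x x.2, ← hφ₀d x, ← autFn_mul α β hx]
    exact autFn_coe _ ⟨φ₀ x, hx⟩
  · intro α hα
    obtain ⟨h, hh, hhα, hhc⟩ := residual_cExt hS hE hD hα
    have hαT : ∀ y ∈ T, h y ∈ T := fun y hy => (hhα y hy).symm ▸ autFn_mem α hy
    have hm : ∀ x ∈ T ⊔ centralizerIn S T, h x ∈ T ⊔ centralizerIn S T :=
      map_sup_mem le_rfl hh (fun y hy => Subgroup.mem_sup_left (hαT y hy)) fun c hc => by
        have := Subgroup.mul_mem _ (Subgroup.mem_sup_right (S := T) hc) (Subgroup.mem_sup_left (hhc c hc))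
        rwa [mul_inv_cancel_left] at this
    obtain ⟨β, hβ, hβe⟩ := exists_aut_of_fn hh (hh.img_eq_self hm)
    refine ⟨β, hβ, fun x => ?_, fun c hc => ?_⟩
    · rw [hβe]
      exact (hhα x x.2).trans (autFn_coe α x)
    · rw [hβe c]
      refine ⟨hhc c hc, ?_⟩
      have hcC := (mem_centralizerIn.1 hc).2
      have hhC := (mem_centralizerIn.1 (hh.map_centralizer le_sup_left
        ((hh.mono le_sup_left).img_eq_self hαT) c.2 hc)).2
      intro y hy
      have h2 : y * (c : Ω)⁻¹ = (c : Ω)⁻¹ * y := (Commute.inv_right (show Commute y (c : Ω) from hcC y hy)).eq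
      rw [← mul_assoc, h2, mul_assoc, hhC y hy, ← mul_assoc]

end CfsgLib.Fsys.WNR
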