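import Cfsg.Agent.Lib.FusionSystem.CentralLiftGen
import Cfsg.Agent.Lib.FusionSystem.WeaklyNormalResidual

/-! The lift of a normal subsystem: the top automizer and surjectivity. -/

set_option autoImplicit false

namespace CfsgLib.Fsys.Lift

open Cfsg Cfsg.FusionSystem
open Cfsg.FusionSystem (centralizerIn normalizerIn imageAlong preimageAlong)

variable {Ω : Type*} [Group Ω] {S : Subgroup Ω}
variable {Ω' : Type*} [Group Ω'] {S' T' : Subgroup Ω'}
variable {p : ℕ} {F : FusionSystem S} {Z : Subgroup Ω} {θ : S →* Ω'} {E : FusionSystem S'}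
variable {D : FusionSystem T'} {P Q R : Subgroup Ω} {f g : Ω → Ω}

namespace Data

variable [Fact p.Prime] [Finite S] (h : Data p F Z θ E D)
include h

/-- The generators at the top. -/
noncomputable def hGen : Subgroup (MulAut (base θ T')) :=
  (pResidual p (h.preSystem.autGroup (base θ T'))).map (h.preSystem.autGroup (base θ T')).subtype

/-- A system containing all the generators. -/
def Gens (M : FusionSystem (base θ T')) : Prop :=
  (∀ P : Subgroup Ω, Lifted Z θ D P → gGen F (base θ T') P ≤ M.autGroup P) ∧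
    h.hGen ≤ M.autGroup (base θ T')

/-- The lift: the system generated by the generators. -/
noncomputable def liftSystem : FusionSystem (base θ T') :=
  predSystem h.preSystem (fun P f => ∀ M : FusionSystem (base θ T'), h.Gens M → Fn M P f)
    (fun _ _ _ he _ hf M hM => (hf M hM).congr he)
    (fun _ hP _ hs M _ => fn_conj hP hs)
    (fun _ _ _ _ _ _ hm hf hg M hM => (hf M hM).comp (hg M hM) hm)
    (fun P f g _ _ hgf hf M hM => by
      obtain ⟨k, hk, hkf, -⟩ := (hf M hM).exists_inv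
      refine hk.congr fun y hy => ?_
      obtain ⟨x, hx, rfl⟩ := (hf M hM).mem_img.1 hy
      rw [hkf x hx, hgf x hx])

theorem liftSystem_le {M : FusionSystem (base θ T')} (hM : h.Gens M) (hf : Fn h.liftSystem P f) : Fn M P f := by
  unfold liftSystem at hf
  exact (fn_predSystem.1 hf).2 M hM

theorem liftSystem_pre (hf : Fn h.liftSystem P f) : Fn h.preSystem P f := by
  unfold liftSystem at hf
  exact (fn_predSystem.1 hf).1

theorem liftSystem_gens : h.Gens h.liftSystem := by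
  refine ⟨fun P hP a ha => ?_, fun a ha => ?_⟩
  · refine (mem_autGroup_iff_fn hP.2.1).2 ?_
    unfold liftSystem
    exact fn_predSystem.2 ⟨(mem_autGroup_iff_fn hP.2.1).1 (h.gGen_le_pre hP.2.1 ha),
      fun M hM => (mem_autGroup_iff_fn hP.2.1).1 (hM.1 P hP ha)⟩
  · refine (mem_autGroup_iff_fn le_rfl).2 ?_
    unfold liftSystem
    exact fn_predSystem.2 ⟨(mem_autGroup_iff_fn le_rfl).1 (Subgroup.map_subtype_le _ ha),
      fun M hM => (mem_autGroup_iff_fn le_rfl).1 (hM.2 ha)⟩

theorem liftSystem_sub : h.liftSystem.IsSubsystemOf F := fun _ _ hφ => h.preSystem_sub _ hφ.1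

theorem lifted_base : Lifted Z θ D (base θ T') :=
  ⟨h.z_le_base, le_rfl, by
    have := h.finite'
    haveI := finite_of_le_base h.leT'
    rw [h.image_base]
    exact WNR.centric_top D⟩

theorem base_fullyAutomized : F.IsFullyAutomized p (base θ T') :=
  (fullyNormalized_good h.hS h.hF (fullyNormalized_of_weaklyClosed (weaklyClosed_of_stronglyClosed h.sc_base))).1

theorem exists_topHom : ∃ Φ : F.autGroup (base θ T') →* E.autGroup T', Function.Surjective Φ ∧
    ∀ (a : F.autGroup (base θ T')), ∀ x ∈ base θ T',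
      autFn (Φ a : MulAut T') (th θ x) = th θ (autFn (a : MulAut (base θ T')) x) :=
  exists_autHom_surjective h.surj h.leT'

theorem mem_pre_top (Φ : F.autGroup (base θ T') →* E.autGroup T')
    (hΦ : ∀ (a : F.autGroup (base θ T')), ∀ x ∈ base θ T',
      autFn (Φ a : MulAut T') (th θ x) = th θ (autFn (a : MulAut (base θ T')) x))
    (a : F.autGroup (base θ T')) :
    (a : MulAut (base θ T')) ∈ h.preSystem.autGroup (base θ T') ↔ (Φ a : MulAut T') ∈ D.autGroup T' := by
  rw [mem_autGroup_iff_fn le_rfl, h.fn_preSystem]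
  constructor
  · rintro ⟨-, -, f', hf', hfe⟩
    rw [h.image_base] at hf'
    refine (mem_autGroup_iff_fn le_rfl).2 (hf'.congr fun y hy => ?_)
    obtain ⟨⟨x, hx⟩, rfl⟩ := h.range.symm ▸ h.leT' hy
    rw [← th_apply hx] at hy ⊢
    have hxb : x ∈ base θ T' := mem_preimageAlong.2 ⟨hx, hy⟩
    rw [hfe x hxb, hΦ a x hxb]
  · intro ha
    refine ⟨(mem_autGroup_iff_fn h.base_le).1 a.2, le_rfl, autFn (Φ a : MulAut T'), ?_, hΦ a⟩
    rw [h.image_base]
    exact (mem_autGroup_iff_fn le_rfl).1 ha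

theorem pre_top_conj {α x : MulAut (base θ T')} (hα : α ∈ F.autGroup (base θ T'))
    (hx : x ∈ h.preSystem.autGroup (base θ T')) : α * x * α⁻¹ ∈ h.preSystem.autGroup (base θ T') := by
  obtain ⟨Φ, -, hΦ⟩ := h.exists_topHom
  have hxF := autGroup_mono' h.preSystem_sub _ hx
  refine (h.mem_pre_top Φ hΦ (⟨α, hα⟩ * ⟨x, hxF⟩ * ⟨α, hα⟩⁻¹)).2 ?_
  rw [map_mul, map_mul, map_inv]
  exact Invariant.conj_mem h.inv le_rfl (Φ ⟨α, hα⟩).2 ((h.mem_pre_top Φ hΦ ⟨x, hxF⟩).1 hx)

/-- The top automizer of the preimage system centralizes the trivial automorphisms modulo `Inn`. -/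
theorem pre_top_central {x : MulAut (base θ T')} (hx : x ∈ h.preSystem.autGroup (base θ T'))
    {z : MulAut (base θ T')} (hz : z ∈ trivGroup F θ (base θ T')) : x * z * x⁻¹ * z⁻¹ ∈ Inn (base θ T') := by
  haveI := finite_of_le_base h.base_le
  obtain ⟨Φ, -, hΦ⟩ := h.exists_topHom
  have hxF := autGroup_mono' h.preSystem_sub _ hx
  obtain ⟨β, hβ, hβT, hβC⟩ := h.hD.2 _ ((h.mem_pre_top Φ hΦ ⟨x, hxF⟩).1 hx)
  have hWS : (T' ⊔ centralizerIn S' T') ≤ S' := sup_le h.leT' centralizerIn_le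
  have := h.finite'
  obtain ⟨b, hb, hbe⟩ := h.exists_lift ((mem_autGroup_iff_fn hWS).1 hβ)
  set U := preimageAlong θ (T' ⊔ centralizerIn S' T')
  have hBU : (base θ T') ≤ U := fun u hu =>
    mem_preimageAlong.2 ⟨(mem_preimageAlong.1 hu).1, Subgroup.mem_sup_left (mem_preimageAlong.1 hu).2⟩
  have hbB : ∀ u ∈ (base θ T'), b u ∈ (base θ T') := fun u hu => (stronglyClosed_iff_fn.1 h.sc_base).2 _ _ hb u (hBU hu) hu
  obtain ⟨b₀, hb₀, hb₀e⟩ := exists_aut_of_fn (hb.mono hBU) ((hb.mono hBU).img_eq_self hbB)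
  have hk : b₀⁻¹ * x ∈ trivGroup F θ (base θ T') := by
    refine ⟨mul_mem (inv_mem hb₀) hxF, fun u hu => ?_⟩
    rw [autFn_mul _ _ hu]
    have hv := autFn_mem b₀⁻¹ (autFn_mem x hu)
    have e2 := congrArg (th θ) (autFn_apply_inv b₀ (autFn_mem x hu))
    rw [autFn_coe b₀ ⟨_, hv⟩, hb₀e] at e2
    have huT := (mem_preimageAlong.1 hu).2
    have hvT := (mem_preimageAlong.1 hv).2
    rw [← hbe _ (hBU hv), ← hΦ ⟨x, hxF⟩ u hu] at e2
    refine ((mem_autGroup_iff_fn hWS).1 hβ).inj (Subgroup.mem_sup_left hvT) (Subgroup.mem_sup_left huT) ?_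
    rw [e2, autFn_coe β ⟨_, Subgroup.mem_sup_left huT⟩, autFn_coe _ ⟨_, huT⟩]
    exact (hβT ⟨_, huT⟩).symm
  have hzS := h.trivGroup_le_induced h.base_fullyAutomized h.z_le_base hz
  obtain ⟨s, hs, hsz⟩ := mem_autInducedBy.1 hzS
  have hsC : th θ s ∈ centralizerIn S' T' := by
    refine mem_centralizerIn.2 ⟨h.th_mem' hs, fun y hy => ?_⟩
    obtain ⟨⟨u, hu⟩, rfl⟩ := h.range.symm ▸ h.leT' hy
    rw [← th_apply hu] at hy ⊢
    have hub : u ∈ (base θ T') := mem_preimageAlong.2 ⟨hu, hy⟩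
    have h1 := hz.2 u hub
    rw [autFn_coe z ⟨u, hub⟩, hsz, th_conj hs hu, mul_inv_eq_iff_eq_mul] at h1
    exact h1.symm
  have hsW : th θ s ∈ (T' ⊔ centralizerIn S' T') := Subgroup.mem_sup_right hsC
  have hsU : s ∈ U := mem_preimageAlong.2 ⟨hs, hsW⟩
  have hbs : b s ∈ S := hb.mem hsU
  have hu : s⁻¹ * b s ∈ (base θ T') := by
    refine mem_preimageAlong.2 ⟨S.mul_mem (S.inv_mem hs) hbs, ?_⟩
    rw [th_mul (S.inv_mem hs) hbs, th_inv hs, ← hbe s hsU, autFn_coe β ⟨_, hsW⟩]
    exact (hβC ⟨_, hsW⟩ hsC).1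
  have e1 : b₀ * z * b₀⁻¹ = z * MulAut.conj (⟨_, hu⟩ : (base θ T')) := by
    refine MulEquiv.ext fun y => Subtype.ext ?_
    obtain ⟨w, rfl⟩ := b₀.surjective y
    simp only [MulAut.mul_apply, MulAut.inv_apply_self]
    rw [hb₀e, hsz, hb.map_conj hsU (hBU w.2), ← hb₀e, hsz]
    show _ = s * ((s⁻¹ * b s) * ((b₀ w : (base θ T')) : Ω) * (s⁻¹ * b s)⁻¹) * s⁻¹
    group
  have hx' : x * z * x⁻¹ = b₀ * z * b₀⁻¹ := by
    have hcomm := h.triv_comm h.z_le_base h.base_le hk.1 hz.1 hk.2 hz.2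
    calc x * z * x⁻¹ = b₀ * ((b₀⁻¹ * x) * z) * (b₀⁻¹ * x)⁻¹ * b₀⁻¹ := by group
      _ = b₀ * (z * (b₀⁻¹ * x)) * (b₀⁻¹ * x)⁻¹ * b₀⁻¹ := by rw [hcomm]
      _ = _ := by group
  rw [hx', e1]
  have := (innNormal (base θ T')).conj_mem _ (show MulAut.conj (⟨_, hu⟩ : (base θ T')) ∈ Inn (base θ T') from ⟨_, rfl⟩) z
  exact this

theorem top_triv {k : MulAut (base θ T')} (hk : k ∈ Inn (base θ T') ⊔ h.hGen) (hkt : Triv θ (base θ T') k) :
    k ∈ Inn (base θ T') := by
  classical
  haveI := finite_of_le_base h.base_le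
  haveI : Finite (MulAut (base θ T')) := Finite.of_injective (fun f : MulAut (base θ T') => (f : (base θ T') → (base θ T'))) DFunLike.coe_injective
  set X := h.preSystem.autGroup (base θ T') with hX
  have hXF : X ≤ F.autGroup (base θ T') := autGroup_mono' h.preSystem_sub _
  have hA := h.base_fullyAutomized
  have := h.finite'
  haveI := finite_of_le_base h.leT'
  let R₀ : Subgroup X := (autInducedBy S (base θ T')).subgroupOf X
  have hR₀p : IsPGroup p R₀ := (isPGroup_autInducedBy h.hS).comap_of_injective _ (Subgroup.subtype_injective _)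
  have hidx : ¬ p ∣ R₀.index := by
    obtain ⟨P₀⟩ := (inferInstance : Nonempty (Sylow p X))
    obtain ⟨γ, hγ, hγc⟩ := exists_conj_into h.hS hA (T := (P₀ : Subgroup X).map X.subtype)
      ((Subgroup.map_subtype_le _).trans hXF) (P₀.2.map _)
    obtain ⟨Pm, hPm⟩ := hR₀p.exists_le_sylow
    have hcard : Nat.card P₀ ≤ Nat.card R₀ := by
      refine Nat.card_le_card_of_injective (fun a : P₀ => (⟨⟨γ * (a : MulAut (base θ T')) * γ⁻¹,
        h.pre_top_conj hγ (a : X).2⟩, hγc _ ⟨(a : X), a.2, rfl⟩⟩ : R₀)) fun a b hab => ?_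
      have := congrArg (fun u : R₀ => ((u : X) : MulAut (base θ T'))) hab
      exact Subtype.ext (Subtype.ext (mul_left_cancel (mul_right_cancel this)))
    have : R₀ = (Pm : Subgroup X) := Subgroup.eq_of_le_of_card_ge hPm
      (le_of_eq_of_le (by rw [Sylow.card_eq_multiplicity, ← Sylow.card_eq_multiplicity P₀]) hcard)
    rw [this]
    exact Pm.not_dvd_index
  have hInnX : Inn (base θ T') ≤ X := inn_le_autGroup le_rfl
  have hInnS : Inn (base θ T') ≤ autInducedBy S (base θ T') := inn_le_autInducedBy h.base_le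
  have hkX : k ∈ X := sup_le hInnX (Subgroup.map_subtype_le _) hk
  have hkK : k ∈ trivGroup F θ (base θ T') := ⟨hXF hkX, hkt⟩
  have hInn_eq : ∀ a ∈ autInducedBy (base θ T') (base θ T'), a ∈ Inn (base θ T') := fun a ha => by
    obtain ⟨t, ht, hta⟩ := mem_autInducedBy.1 ha
    exact ⟨⟨t, ht⟩, MulEquiv.ext fun x => Subtype.ext (hta x).symm⟩
  suffices (⟨k, hkX⟩ : X) ∈ (Inn (base θ T')).subgroupOf X from this
  refine mem_of_central_mod R₀ ((Inn (base θ T')).subgroupOf X) hidx hR₀p (fun a ha => hInnS ha) ?_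
    (h.trivGroup_le_induced hA h.z_le_base hkK) ?_ ?_
  · intro x hx y hy
    have hDA : D.IsFullyAutomized p (imageAlong θ (base θ T')) := by
      rw [h.image_base]
      exact fullyAutomized_top h.satD
    obtain ⟨a, ha, u, hu, ex⟩ := h.induced_decomp h.z_le_base le_rfl hDA x.2 hx
    obtain ⟨b, hb, v, hv, ey⟩ := h.induced_decomp h.z_le_base le_rfl hDA y.2 hy
    show (x : MulAut (base θ T')) * y * (x : MulAut (base θ T'))⁻¹ * (y : MulAut (base θ T'))⁻¹ ∈ Inn (base θ T')
    rw [ex, ey]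
    have e : (a * u) * (b * v) * (a * u)⁻¹ * (b * v)⁻¹ = a * (u * b * u⁻¹) * (v * a⁻¹ * v⁻¹) * b⁻¹ := by
      have := h.triv_comm h.z_le_base h.base_le hu.1 hv.1 hu.2 hv.2
      rw [show (a * u) * (b * v) * (a * u)⁻¹ * (b * v)⁻¹ =
        a * (u * b * (u⁻¹ * (u * v)) * u⁻¹ * a⁻¹ * v⁻¹ * b⁻¹) by group, this]
      group
    rw [e]
    exact mul_mem (mul_mem (mul_mem (hInn_eq a ha) ((innNormal (base θ T')).conj_mem _ (hInn_eq b hb) u))
      ((innNormal (base θ T')).conj_mem _ (inv_mem (hInn_eq a ha)) v)) (inv_mem (hInn_eq b hb))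
  · intro g
    have h1 := h.pre_top_central (inv_mem g.2) hkK
    rw [inv_inv] at h1
    exact h1
  · have hle : Inn (base θ T') ⊔ h.hGen ≤ Subgroup.map X.subtype (Subgroup.closure ({x : X | ∀ (g : X) (k : ℕ),
        g⁻¹ * x ^ k * g ∈ R₀ → g⁻¹ * x ^ k * g ∈ (Inn (base θ T')).subgroupOf X} ∪ {x : X | Nat.Coprime (orderOf x) p})) := by
      refine sup_le (fun a ha => ⟨⟨a, hInnX ha⟩, Subgroup.subset_closure (Or.inl fun g k _ => ?_), rfl⟩) ?_
      · show (g : MulAut (base θ T'))⁻¹ * a ^ k * (g : MulAut (base θ T')) ∈ Inn (base θ T')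
        have := (innNormal (base θ T')).conj_mem _ (pow_mem ha k) (g : MulAut (base θ T'))⁻¹
        rwa [inv_inv] at this
      · refine Subgroup.map_mono ?_
        rw [pResidual]
        exact Subgroup.closure_mono Set.subset_union_right
    obtain ⟨z', hz', e⟩ := hle hk
    have : z' = ⟨k, hkX⟩ := Subtype.ext e
    rwa [this] at hz'

/-- Every map of `D` lifts. -/
theorem exists_lift_map {P' : Subgroup Ω'} {f' : Ω' → Ω'} (hf : Fn D P' f') :
    ∃ l : Ω → Ω, Fn h.liftSystem (preimageAlong θ P') l ∧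
      ∀ x ∈ preimageAlong θ P', f' (th θ x) = th θ (l x) := by
  classical
  have := h.finite'
  haveI := finite_of_le_base h.leT'
  have hT'p : IsPGroup p T' := h.pgroup'.to_le h.leT'
  let C : Subgroup Ω' → (Ω' → Ω') → Prop := fun P' f' => ∃ l : Ω → Ω,
    Fn h.liftSystem (preimageAlong θ P') l ∧ ∀ x ∈ preimageAlong θ P', f' (th θ x) = th θ (l x)
  let D₁ : FusionSystem T' := predSystem D C
    (fun P f g he _ hf => by
      obtain ⟨l, hl, hle⟩ := hf
      exact ⟨l, hl, fun x hx => (he _ (mem_preimageAlong.1 hx).2).symm.trans (hle x hx)⟩)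
    (fun P hP s hs => by
      obtain ⟨⟨t, ht⟩, rfl⟩ := h.range.symm ▸ h.leT' hs
      rw [← th_apply ht] at hs ⊢
      exact ⟨_, fn_conj (h.preimage_le_base hP) (mem_preimageAlong.2 ⟨ht, hs⟩), fun x hx => by
        rw [th_conj ht (mem_preimageAlong.1 hx).1]⟩)
    (fun P R f g _ _ hm ⟨l, hl, hle⟩ ⟨k, hk, hke⟩ => by
      have hlm : ∀ x ∈ preimageAlong θ P, l x ∈ preimageAlong θ R := fun x hx =>
        mem_preimageAlong.2 ⟨h.base_le (hl.mem hx), hle x hx ▸ hm _ (mem_preimageAlong.1 hx).2⟩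
      exact ⟨k ∘ l, hl.comp hk hlm, fun x hx => by
        show g (f (th θ x)) = th θ (k (l x))
        rw [hle x hx, hke _ (hlm x hx)]⟩)
    (fun P f g hf _ hgf ⟨l, hl, hle⟩ => by
      obtain ⟨k, hk, hkl, -⟩ := hl.exists_inv
      have hP : P ≤ S' := hf.le.trans h.leT'
      have hlF : Fn F (preimageAlong θ P) l := Fn.of_subsystem h.liftSystem_sub hl
      have e : img l (preimageAlong θ P) = preimageAlong θ (img f P) := by
        rw [← h.preimage_image (h.z_le_img hlF (h.z_le_preimage P)) hlF.img_le_base]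
        congr 1
        have := image_img hlF (f' := f) (by rw [h.image_preimage hP]; exact Fn.of_subsystem h.inv.1 hf) hle
        rw [h.image_preimage hP] at this
        exact this
      rw [e] at hk
      refine ⟨k, hk, fun y hy => ?_⟩
      obtain ⟨x, hx, rfl⟩ := hl.mem_img.1 (e.ge hy)
      rw [hkl x hx, ← hle x hx, hgf _ (mem_preimageAlong.1 hx).2])
  have hlt : D ≤ D₁ := by
    refine le_of_automizers hT'p h.satD D₁ ?_ fun P' hPT hP hbig => ?_
    · intro α hα
      obtain ⟨β, hβ, γ, hγ, rfl⟩ := exists_residual_decomp hT'p h.satD (fullyAutomized_top h.satD) hα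
      refine mul_mem ?_ (autInducedBy_le_autGroup le_rfl hγ)
      obtain ⟨Φ, hsur, hΦ⟩ := h.exists_topHom
      haveI := finite_of_le_base h.base_le
      haveI : Finite (MulAut (base θ T')) :=
        Finite.of_injective (fun f : MulAut (base θ T') => (f : base θ T' → base θ T')) DFunLike.coe_injective
      let X := h.preSystem.autGroup (base θ T')
      let Ψ : X →* D.autGroup T' :=
        ((E.autGroup T').subtype.comp (Φ.comp (Subgroup.inclusion (autGroup_mono' h.preSystem_sub _)))).codRestrict _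
          fun x => (h.mem_pre_top Φ hΦ ⟨x, autGroup_mono' h.preSystem_sub _ x.2⟩).1 x.2
      have hΨ : Function.Surjective Ψ := by
        intro d
        obtain ⟨a, ha⟩ := hsur ⟨d, autGroup_mono' h.inv.1 _ d.2⟩
        have haX := (h.mem_pre_top Φ hΦ a).2 (by rw [ha]; exact d.2)
        refine ⟨⟨a, haX⟩, Subtype.ext ?_⟩
        show (Φ a : MulAut T') = (d : MulAut T')
        rw [ha]
      rw [← CfsgLib.Fusion.Basic.map_pResidual_eq Ψ hΨ] at hβ
      obtain ⟨a, ha, rfl⟩ := hβ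
      refine (mem_autGroup_iff_fn le_rfl).2 (fn_predSystem.2 ⟨(mem_autGroup_iff_fn le_rfl).1 (Ψ a).2,
        autFn (a : MulAut (base θ T')), ?_, fun x hx => hΦ ⟨a, _⟩ x hx⟩)
      exact (mem_autGroup_iff_fn le_rfl).1 (h.liftSystem_gens.2 ⟨a, ha, rfl⟩)
    have hext' : ∀ α, ExtAut D P' α → α ∈ D₁.autGroup P' := by
      rintro α ⟨N, g, hPN, hg, hgα⟩
      refine (mem_autGroup hPT.le).2 (mem_hom_of_fn ((hbig N g ?_ hg).mono hPN.le) fun x => (hgα x).symm)
      haveI := finite_of_le_base hg.le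
      exact Set.Finite.card_lt_card (Set.toFinite (N : Set Ω')) hPN
    rcases extClosure_eq_or_essential hT'p h.satD hPT hP with he | hess
    · rw [← he]
      exact (Subgroup.closure_le _).2 hext'
    have hPc := hess.1
    haveI := finite_of_le_base (hPT.le.trans h.leT')
    obtain ⟨hA, hfc⟩ := fullyNormalized_good hT'p h.satD hP
    haveI : Finite (MulAut P') := Finite.of_injective (fun f : MulAut P' => (f : P' → P')) DFunLike.coe_injective
    have hAS : autInducedBy T' P' ≤ opAut p D P' := fun τ hτ => by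
      obtain ⟨k, hk⟩ := isPGroup_autInducedBy hT'p ⟨τ, hτ⟩
      exact mem_opAut_of_pow (autInducedBy_le_autGroup hPT.le hτ) (congrArg Subtype.val hk)
    have hP'S : P' ≤ S' := hPT.le.trans h.leT'
    have hop : opAut p D P' ≤ D₁.autGroup P' := WNR.opAut_closure fun τ hτ ⟨k, hk⟩ => by
      have hτp : IsPGroup p (Subgroup.zpowers τ) := by
        obtain ⟨i, -, hi⟩ := (Nat.dvd_prime_pow Fact.out).1 (orderOf_dvd_of_pow_eq_one hk)
        exact IsPGroup.of_card (n := i) (by rw [Nat.card_zpowers, hi])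
      obtain ⟨γ, hγ, hγc⟩ := exists_conj_into hT'p hA (Subgroup.zpowers_le.2 hτ) hτp
      obtain ⟨t', ht', htx⟩ := mem_autInducedBy.1 (hγc τ (Subgroup.mem_zpowers τ))
      obtain ⟨⟨t, htS⟩, rfl⟩ := h.range.symm ▸ h.leT' ht'
      rw [← th_apply htS] at ht' htx
      set P := preimageAlong θ P'
      have hZP : Z ≤ P := h.z_le_preimage P'
      have hPS : P ≤ S := preimageAlong_le
      have hPb : P ≤ base θ T' := h.preimage_le_base hPT.le
      haveI := finite_of_le_base hPS
      obtain ⟨k, hk, hke⟩ := h.exists_lift (Fn.of_subsystem h.inv.1 ((mem_autGroup_iff_fn hPT.le).1 hγ))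
      have hkP : ∀ x ∈ P, k x ∈ P := fun x hx =>
        mem_preimageAlong.2 ⟨hk.mem hx, hke x hx ▸ autFn_mem γ (mem_preimageAlong.1 hx).2⟩
      have htb : t ∈ base θ T' := mem_preimageAlong.2 ⟨htS, ht'⟩
      have htn : t ∈ Subgroup.normalizer (P : Set Ω) := (h.mem_normalizer_iff_image hZP hPS htS).2
        (by rw [h.image_preimage hP'S]; exact mem_normalizer_of_autEq htx)
      obtain ⟨c, hc, hcm, hci⟩ := hk.exists_inv
      rw [hk.img_eq_self hkP] at hc hci
      have htm : ∀ x ∈ P, t * x * t⁻¹ ∈ P := (mem_normalizer_iff'.1 htn).1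
      have hfn : Fn F P (c ∘ (fun x => t * x * t⁻¹) ∘ k) :=
        (hk.comp (fn_conj hPS htS) hkP).comp hc fun x hx => htm _ (hkP x hx)
      obtain ⟨a, -, hae⟩ := exists_aut_of_fn hfn (hfn.img_eq_self fun x hx =>
        hci.le (mem_img_of_mem (htm _ (hkP x hx))))
      have hka : ∀ x ∈ P, k (autFn a x) = t * k x * t⁻¹ := fun x hx => by
        rw [autFn_coe a ⟨x, hx⟩, hae]
        obtain ⟨u, hu, hue⟩ := hk.mem_img.1 ((hk.img_eq_self hkP).ge (htm _ (hkP x hx)))
        show k (c (t * k x * t⁻¹)) = _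
        rw [← hue, hcm u hu]
      have hlift : Lifted Z θ D P := ⟨hZP, hPb, by rw [h.image_preimage hP'S]; exact hPc⟩
      have haL := h.liftSystem_gens.1 P hlift (show a ∈ gGen F (base θ T') P from
        Subgroup.subset_closure ⟨k, t, hk, htb, by rwa [hk.img_eq_self hkP], hka⟩)
      refine (mem_autGroup_iff_fn hPT.le).2 (fn_predSystem.2 ⟨(mem_autGroup_iff_fn hPT.le).1 hτ,
        autFn a, (mem_autGroup_iff_fn hPb).1 haL, fun x hx => ?_⟩)
      have hy := (mem_preimageAlong.1 hx).2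
      have hax := autFn_mem a hx
      have e1 := congrArg (th θ) (hka x hx)
      rw [th_conj htS (hk.mem hx), ← hke x hx, ← hke _ hax] at e1
      have e2 := htx (γ ⟨_, hy⟩)
      simp only [MulAut.mul_apply, MulAut.inv_apply_self] at e2
      rw [← autFn_coe γ, ← autFn_coe γ ⟨th θ x, hy⟩, ← autFn_coe τ] at e2
      have hax' : th θ (autFn a x) ∈ P' := (mem_preimageAlong.1 hax).2
      exact ((mem_autGroup_iff_fn hPT.le).1 hγ).inj (autFn_mem τ hy) hax' (e2.trans e1.symm)
    intro α hα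
    obtain ⟨-, Syl, hSyl⟩ := hA
    let N := (opAut p D P').subgroupOf (D.autGroup P')
    haveI : N.Normal := ⟨fun n hn a => conj_mem_opAut hn a.2⟩
    have hTN : (Syl : Subgroup (D.autGroup P')) ≤ N := by
      rw [hSyl]
      exact fun a ha => hAS ha
    have hsup : (Subgroup.normalizer ((Syl : Subgroup (D.autGroup P')) : Set (D.autGroup P'))) ⊔ N = ⊤ :=
      Sylow.normalizer_sup_eq_top' Syl hTN
    have hmem : (⟨α, hα⟩ : D.autGroup P') ∈
        ((Subgroup.normalizer ((Syl : Subgroup (D.autGroup P')) : Set (D.autGroup P')) ⊔ N : Subgroup _) :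
          Set (D.autGroup P')) := by
      rw [hsup]
      exact Subgroup.mem_top _
    rw [Subgroup.mul_normal] at hmem
    obtain ⟨a, ha, o, ho, e'⟩ := hmem
    rw [← show (a : MulAut P') * (o : MulAut P') = α from congrArg Subtype.val e']
    refine mul_mem ?_ (hop ho)
    obtain ⟨n, -, hn, hnP⟩ := exists_mem_normalizer_not_mem hT'p (le_refl T') hPT
    refine hext' _ (extAut_of_receptive (fullyCentralized_receptive hT'p h.satD hfc) a.2 hn hnP ?_)
    have hcn : (⟨conjAut P' hn.2, autInducedBy_le_autGroup hPT.le (conjAut_mem_autInducedBy hn.2 hn.1)⟩ :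
        D.autGroup P') ∈ (Syl : Subgroup (D.autGroup P')) := by
      rw [hSyl]
      exact conjAut_mem_autInducedBy hn.2 hn.1
    have h1 := (Subgroup.mem_normalizer_iff.1 ha _).1 hcn
    rw [hSyl] at h1
    exact h1
  exact (fn_predSystem.1 (fn_of_le hlt hf)).2

end Data

end CfsgLib.Fsys.Lift
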