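import Cfsg.Agent.Lib.FusionSystem.ModelTheorem
import Cfsg.Prelude.Def_FusionReduction
/-
Normalizer systems of centric subgroups are constrained; models of subsystems with a common centric
normal subgroup embed into the models of the normalizer systems.
-/
set_option autoImplicit false

namespace CfsgLib.Fsys

open Cfsg
open Cfsg.FusionSystem (centralizerIn normalizerIn imageAlong preimageAlong)

universe u

section Involves

theorem involves_of_injective {H : Type*} [Group H] {L G : Type*} [Group L] [Group G] {e : L →* G}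
    (he : Function.Injective e) (h : Involves H L) : Involves H G := by
  obtain ⟨K, R, hn, ⟨f⟩⟩ := h
  refine ⟨K.map e, R.map e, ?_, ?_⟩
  · refine ⟨?_⟩
    rintro ⟨_, k, hk, rfl⟩ ⟨r, hr, hre⟩ ⟨_, g, hg, rfl⟩
    have hr' : r = k := he hre
    subst hr'
    refine ⟨g * r * g⁻¹, hn.conj_mem ⟨r, hk⟩ hr ⟨g, hg⟩, ?_⟩
    simp
  · let ψ : K ≃* K.map e := K.equivMapOfInjective e he
    have hmap : (R.subgroupOf K).map ψ.toMonoidHom = (R.map e).subgroupOf (K.map e) := by
      ext ⟨y, hy⟩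
      constructor
      · rintro ⟨⟨x, hx⟩, hxR, hxy⟩
        exact ⟨x, hxR, congrArg Subtype.val hxy⟩
      · rintro ⟨r, hr, hre⟩
        obtain ⟨k, hk, hke⟩ := hy
        have : r = k := he (hre.trans hke.symm)
        exact ⟨⟨k, hk⟩, show k ∈ R from this ▸ hr, Subtype.ext hke⟩
    have : ((R.map e).subgroupOf (K.map e)).Normal := hmap ▸ hn.map ψ.toMonoidHom ψ.surjective
    exact ⟨(QuotientGroup.congr _ _ ψ hmap).symm.trans f⟩

end Involves

variable {Ω : Type u} [Group Ω] {S : Subgroup Ω} {F : FusionSystem S} {P Q T : Subgroup Ω}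

theorem fn_normalizerSystem {N : FusionSystem (normalizerIn S Q)} (hN : F.IsNormalizerSystem Q N) {f : Ω → Ω} :
    Fn N P f ↔ P ≤ normalizerIn S Q ∧ (∀ x ∈ P, f x ∈ normalizerIn S Q) ∧
      ∃ g, Fn F (P ⊔ Q) g ∧ (∀ x ∈ P, g x = f x) ∧ img g Q = Q := by
  constructor
  · rintro ⟨φ, hφ, hf⟩
    rw [hN P] at hφ
    obtain ⟨-, hP, hm, ψ, hψ, he, hi⟩ := hφ
    have hg : ∀ x, ψ x = ofHom ψ x := fun x => (ofHom_coe ψ x).symm
    refine ⟨hP, fun x hx => hf ⟨x, hx⟩ ▸ hm ⟨x, hx⟩, _, fn_ofHom hψ, fun x hx => ?_,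
      (map_subgroupOf_eq_img hg le_sup_right).symm.trans hi⟩
    rw [(extends_iff hg).1 he x hx, ofHom_apply φ hx]
    exact hf ⟨x, hx⟩
  · rintro ⟨hP, hm, g, hg, he, hi⟩
    obtain ⟨φ, hφ, hφf⟩ := (hg.mono le_sup_left).congr he
    obtain ⟨ψ, hψ, hψg⟩ := id hg
    refine ⟨φ, (hN P).symm ▸ ⟨hφ, hP, fun x => (hφf x).symm ▸ hm x x.2, ψ, hψ, ?_,
      (map_subgroupOf_eq_img hψg le_sup_right).trans hi⟩, hφf⟩
    exact (extends_iff hψg).2 fun x hx => by rw [he x hx, ofHom_apply φ hx, hφf]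

theorem normalizerSystem_sub {N : FusionSystem (normalizerIn S Q)} (hN : F.IsNormalizerSystem Q N) :
    N.IsSubsystemOf F := fun P φ hφ => by
  rw [hN P] at hφ
  exact hφ.1

theorem normalizerSystem_normal {N : FusionSystem (normalizerIn S Q)} (hN : F.IsNormalizerSystem Q N)
    (hQ : Q ≤ S) : N.IsNormal Q := by
  refine normal_iff_fn.2 ⟨le_normalizerIn hQ, fun P f hf => ?_⟩
  obtain ⟨hP, hm, g, hg, he, hi⟩ := (fn_normalizerSystem hN).1 hf
  refine ⟨g, (fn_normalizerSystem hN).2 ⟨sup_le hP (le_normalizerIn hQ), fun x hx => ?_, g,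
    by rw [sup_assoc, sup_idem]; exact hg, fun x _ => rfl, hi⟩, he, hi⟩
  have : img g (P ⊔ Q) ≤ normalizerIn S Q := by
    rw [hg.img_sup, hi]
    exact sup_le (img_le fun y hy => (he y hy).symm ▸ hm y hy) (le_normalizerIn hQ)
  exact this (mem_img_of_mem hx)

theorem centric_of_sub {E : FusionSystem T} (h : E.IsSubsystemOf F) (hQ : F.IsCentric Q) (hQT : Q ≤ T) :
    E.IsCentric Q := by
  refine ⟨hQT, fun R hR => ?_⟩
  obtain ⟨φ, hφ, hr⟩ := hR
  refine fun c hc => hQ.2 R ⟨φ, h Q hφ, hr⟩ ?_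
  exact mem_centralizerIn.2 ⟨subsystem_le h (mem_centralizerIn.1 hc).1, (mem_centralizerIn.1 hc).2⟩

theorem centralizerIn_le_normalizerIn' : centralizerIn S Q ≤ normalizerIn S Q := fun _ h =>
  centralizerIn_le_normalizerIn h

theorem normalizerSystem_finite [Finite S] : Finite (normalizerIn S Q) := finite_of_le_base normalizerIn_le

variable {p : ℕ} [Fact p.Prime] [Finite S]

/-- Normalizer systems of fully normalized centric subgroups are constrained. -/
theorem normalizerSystem_constrained (hS : IsPGroup p S) (hF : F.IsSaturated p) (hQ : F.IsFullyNormalized Q)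
    (hc : F.IsCentric Q) {N : FusionSystem (normalizerIn S Q)} (hN : F.IsNormalizerSystem Q N) :
    N.IsConstrained p :=
  ⟨normalizerSystem_saturated hS hF hQ hN, Q, normalizerSystem_normal hN hQ.1,
    centric_of_sub (normalizerSystem_sub hN) hc (le_normalizerIn hQ.1)⟩

theorem exists_normalizer_model (hS : IsPGroup p S) (hF : F.IsSaturated p) (hQ : F.IsFullyNormalized Q)
    (hc : F.IsCentric Q) {N : FusionSystem (normalizerIn S Q)} (hN : F.IsNormalizerSystem Q N) :
    ∃ (G : Type u) (_ : Group G) (ι : normalizerIn S Q →* G), N.IsModel p G ι :=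
  haveI := normalizerSystem_finite (S := S) (Q := Q)
  exists_model (hS.to_le normalizerIn_le) (normalizerSystem_constrained hS hF hQ hc hN)

/-- A model of a subsystem in which the fully normalized centric `Q` is normal embeds into the model
of the normalizer system. -/
theorem embed_model_of_fullyNormalized (hS : IsPGroup p S) (hF : F.IsSaturated p) (hQn : F.IsFullyNormalized Q)
    (hc : F.IsCentric Q) {N : FusionSystem (normalizerIn S Q)} (hN : F.IsNormalizerSystem Q N)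
    {E : FusionSystem T} (hEF : E.IsSubsystemOf F) (hQE : E.IsNormal Q)
    {L : Type*} [Group L] {ι : T →* L} (hL : E.IsModel p L ι)
    {G : Type*} [Group G] {ιG : normalizerIn S Q →* G} (hG : N.IsModel p G ιG) :
    ∃ e : L →* G, Function.Injective e := by
  have hTS := subsystem_le hEF
  have := finite_of_le_base hTS
  have := normalizerSystem_finite (S := S) (Q := Q)
  have hQT : Q ≤ T := hQE.1
  have hTN : T ≤ normalizerIn S Q := fun x hx =>
    ⟨hTS hx, sc_le_normalizer (normal_stronglyClosed hQE) hx⟩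
  have hQN := normalizerSystem_normal hN hQn.1
  have hcN := centric_of_sub (normalizerSystem_sub hN) hc (le_normalizerIn hQn.1)
  have hcE := centric_of_sub hEF hc hQT
  have hEN : E.IsSubsystemOf N := fun P φ hφ => by
    obtain ⟨g, hg, hge, hgi⟩ := (normal_iff_fn.1 hQE).2 P _ (fn_ofHom hφ)
    exact mem_hom_of_fn (f := ofHom φ) ((fn_normalizerSystem hN).2
      ⟨(fn_ofHom hφ).le.trans hTN, fun x hx => hTN ((fn_ofHom hφ).mem hx), g, hg.of_subsystem hEF, hge, hgi⟩)
      fun x => (ofHom_coe φ x).symm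
  obtain ⟨pG, hpG, hpGι⟩ := exists_model_proj (hQ := hQN) hG
  obtain ⟨pL, hpL, hpLι⟩ := exists_model_proj (hQ := hQE) hL
  let πG : G →* MulAut Q := (N.autGroup Q).subtype.comp pG
  let πL : L →* MulAut Q := (E.autGroup Q).subtype.comp pL
  obtain ⟨-, ⟨hGinj, hGreal⟩, -, -⟩ := id hG
  obtain ⟨-, ⟨hLinj, hLreal⟩, ⟨TL, hTL⟩, -⟩ := id hL
  have : Finite G := hG.1
  have : Finite L := hL.1
  have hT_eq : ∀ x : T, πG (ιG ⟨(x : Ω), hTN x.2⟩) = πL (ι x) := fun x =>
    MulEquiv.ext fun q => Subtype.ext <| by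
      show (((pG _ : MulAut Q) q : Q) : Ω) = (((pL _ : MulAut Q) q : Q) : Ω)
      rw [hpGι, hpLι]
      rfl
  have hsurj : ∀ a ∈ E.autGroup Q, ∃ l, πL l = a := fun a ha => by
    have hfn : Fn E Q (autFn a) := (mem_autGroup_iff_fn hQT).1 ha
    obtain ⟨φ, hφ, hφe⟩ := id hfn
    obtain ⟨l, hl⟩ := (hLreal _ hQT φ (E.le_of_mem hφ).2).1 hφ
    refine ⟨l, mulAut_ext fun q hq => ?_⟩
    have h := hl ⟨q, hq⟩
    rw [eq_mul_inv_iff_mul_eq] at h
    exact ((congrArg Subtype.val (hLinj (mul_right_cancel (h.trans (hpL l q hq))))).symm).trans (hφe ⟨q, hq⟩)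
  let H : Subgroup G := πL.range.comap πG
  let ιH : T →* H := (ιG.comp (Subgroup.inclusion hTN)).codRestrict H fun x => ⟨ι x, (hT_eq x).symm⟩
  have hkerG : ∀ g, πG g = 1 → ∃ z : normalizerIn S Q, (z : Ω) ∈ Q ∧ g = ιG z := fun g hg => by
    obtain ⟨z, hz, e⟩ := model_proj_ker (hQ := hQN) hcN hG hpG (Subtype.ext hg)
    exact ⟨z, (normalConj_eq_one hQN hcN hz).1, e⟩
  have hHmodel : E.IsModel p H ιH := by
    refine ⟨inferInstance, ⟨fun x y h => ?_, fun P hP φ hφT => ⟨fun hφ => ?_, ?_⟩⟩, ?_, ?_⟩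
    · exact Subtype.ext (congrArg (fun z : normalizerIn S Q => (z : Ω)) (hGinj (congrArg Subtype.val h)))
    · obtain ⟨ψ, hψ, hψe, hψi⟩ := (normal_iff_fn.1 hQE).2 P _ (fn_ofHom hφ)
      obtain ⟨ψ', hψ', hψ'e⟩ := id (hψ.of_subsystem hEN)
      obtain ⟨g, hg⟩ := (hGreal _ (hψ.of_subsystem hEN).le ψ' (N.le_of_mem hψ').2).1 hψ'
      obtain ⟨a, ha, hae⟩ := exists_aut_of_fn (hψ.mono le_sup_right) hψi
      obtain ⟨l, hl⟩ := hsurj a ha
      have hgH : g ∈ H := ⟨l, hl.trans <| mulAut_ext fun q hq => by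
        have h := hg ⟨q, Subgroup.mem_sup_right hq⟩
        rw [eq_mul_inv_iff_mul_eq] at h
        refine ((autFn_coe a ⟨q, hq⟩).trans (hae ⟨q, hq⟩)).trans ?_
        rw [← hψ'e ⟨q, Subgroup.mem_sup_right hq⟩]
        exact congrArg Subtype.val (hGinj (mul_right_cancel (h.trans (hpG g q hq))))⟩
      refine ⟨⟨g, hgH⟩, fun x => Subtype.ext ?_⟩
      show ιG ⟨φ x, _⟩ = g * ιG ⟨(x : Ω), _⟩ * g⁻¹
      rw [← hg ⟨x, Subgroup.mem_sup_left x.2⟩]
      refine congrArg ιG (Subtype.ext ?_)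
      show φ x = ψ' _
      rw [hψ'e, hψe _ x.2, ofHom_coe]
    · rintro ⟨⟨g, l, hl⟩, hg⟩
      have hg' : ∀ x : P, ιG ⟨φ x, hTN (hφT x)⟩ = g * ιG ⟨(x : Ω), hTN (hP x.2)⟩ * g⁻¹ := fun x =>
        congrArg Subtype.val (hg x)
      let M : Subgroup T := (ι.range.comap (MulAut.conj l).toMonoidHom).comap ι
      have hPM : ∀ x : P, (⟨(x : Ω), hP x.2⟩ : T) ∈ M := fun x => by
        have e : πL (ι ⟨φ x, hφT x⟩ * l) = πL (l * ι ⟨(x : Ω), hP x.2⟩) := by
          rw [map_mul, map_mul, ← hT_eq, ← hT_eq, hl, ← map_mul, ← map_mul, hg' x, inv_mul_cancel_right]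
        obtain ⟨z, -, hz⟩ := model_proj_ker (hQ := hQE) hcE hL hpL
          (g := (ι ⟨φ x, hφT x⟩)⁻¹ * (l * ι ⟨(x : Ω), hP x.2⟩ * l⁻¹)) (Subtype.ext <| by
            show πL _ = 1
            rw [map_mul, map_inv, map_mul _ _ l⁻¹, ← e, map_mul, map_inv, mul_inv_cancel_right, inv_mul_cancel])
        exact ⟨⟨φ x, hφT x⟩ * z, by rw [map_mul, ← hz, mul_inv_cancel_left]; rfl⟩
      have hex : ∀ x : M, ∃ y : T, ι y = l * ι (x : T) * l⁻¹ := fun x => x.2
      choose y hy using hex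
      let e : M.map T.subtype →* Ω := (T.subtype.comp (MonoidHom.mk' y fun a b => hLinj <| by
        rw [map_mul, hy, hy, hy, Subgroup.coe_mul, map_mul]; group)).comp
          (Subgroup.equivMapOfInjective M T.subtype T.subtype_injective).symm.toMonoidHom
      have heval : ∀ x : M, e ⟨((x : T) : Ω), ⟨x, x.2, rfl⟩⟩ = (y x : Ω) := fun x => by
        show ((y _ : T) : Ω) = _
        refine congrArg (fun z => (y z : Ω)) ((MulEquiv.symm_apply_eq _).2 ?_)
        exact Subtype.ext rfl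
      have heT : ∀ x, e x ∈ T := fun x => SetLike.coe_mem _
      have he : Fn E (M.map T.subtype) (ofHom e) := by
        refine fn_ofHom ((hLreal _ (Subgroup.map_subtype_le _) e heT).2 ⟨l, ?_⟩)
        rintro ⟨_, x, hx, rfl⟩
        have h2 : (⟨e ⟨_, ⟨x, hx, rfl⟩⟩, heT _⟩ : T) = y ⟨x, hx⟩ := Subtype.ext (heval ⟨x, hx⟩)
        exact h2 ▸ hy ⟨x, hx⟩
      have hQM : Q ≤ M.map T.subtype := fun q hq => ⟨⟨q, hQT hq⟩,
        ⟨⟨aFn (pL l) q, hQT (aFn_mem _ hq)⟩, eq_mul_inv_iff_mul_eq.2 (hpL l q hq).symm⟩, rfl⟩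
      have hPM' : P ≤ M.map T.subtype := fun x hx => ⟨⟨x, hP hx⟩, hPM ⟨x, hx⟩, rfl⟩
      let K : Subgroup (normalizerIn S Q) := (ιG.range.comap (MulAut.conj g).toMonoidHom).comap ιG
      have hex' : ∀ x : K, ∃ y : normalizerIn S Q, ιG y = g * ιG (x : normalizerIn S Q) * g⁻¹ := fun x => x.2
      choose y' hy' using hex'
      let f : K.map (normalizerIn S Q).subtype →* Ω :=
        ((normalizerIn S Q).subtype.comp (MonoidHom.mk' y' fun a b => hGinj <| by
        rw [map_mul, hy', hy', hy', Subgroup.coe_mul, map_mul]; group)).comp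
          (Subgroup.equivMapOfInjective K _ (normalizerIn S Q).subtype_injective).symm.toMonoidHom
      have hfeval : ∀ x : K, f ⟨((x : normalizerIn S Q) : Ω), ⟨x, x.2, rfl⟩⟩ = (y' x : Ω) := fun x => by
        show ((y' _ : normalizerIn S Q) : Ω) = _
        refine congrArg (fun z => (y' z : Ω)) ((MulEquiv.symm_apply_eq _).2 ?_)
        exact Subtype.ext rfl
      have hfN : ∀ x, f x ∈ normalizerIn S Q := fun x => SetLike.coe_mem _
      have hf : Fn N (K.map (normalizerIn S Q).subtype) (ofHom f) := by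
        refine fn_ofHom ((hGreal _ (Subgroup.map_subtype_le _) f hfN).2 ⟨g, ?_⟩)
        rintro ⟨_, x, hx, rfl⟩
        have h2 : (⟨f ⟨_, ⟨x, hx, rfl⟩⟩, hfN _⟩ : normalizerIn S Q) = y' ⟨x, hx⟩ := Subtype.ext (hfeval ⟨x, hx⟩)
        exact h2 ▸ hy' ⟨x, hx⟩
      have hfval : ∀ (x : Ω) (hx : x ∈ normalizerIn S Q) (z : normalizerIn S Q),
          ιG z = g * ιG ⟨x, hx⟩ * g⁻¹ →
            x ∈ K.map (normalizerIn S Q).subtype ∧ ofHom f x = (z : Ω) := fun x hx z hz => by
        have hK : (⟨x, hx⟩ : normalizerIn S Q) ∈ K := ⟨z, hz⟩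
        have hm : x ∈ K.map (normalizerIn S Q).subtype := ⟨⟨x, hx⟩, hK, rfl⟩
        refine ⟨hm, ?_⟩
        rw [ofHom_apply f hm, ← hGinj ((hy' ⟨_, hK⟩).trans hz.symm)]
        exact hfeval ⟨⟨x, hx⟩, hK⟩
      have hQK : ∀ q (hq : q ∈ Q), q ∈ K.map (normalizerIn S Q).subtype ∧ ofHom f q = aFn (pG g) q := fun q hq =>
        hfval q (le_normalizerIn hQn.1 hq) ⟨_, le_normalizerIn hQn.1 (aFn_mem _ hq)⟩
          (eq_mul_inv_iff_mul_eq.2 (hpG g q hq).symm)
      have hPQ : P ⊔ Q ≤ K.map (normalizerIn S Q).subtype :=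
        sup_le (fun x hx => (hfval x (hTN (hP hx)) _ (hg' ⟨x, hx⟩)).1) fun q hq => (hQK q hq).1
      have hPQM : P ⊔ Q ≤ M.map T.subtype := sup_le hPM' hQM
      obtain ⟨z, hz, -, hze⟩ := rigidity (hS.to_le normalizerIn_le) (normalizerSystem_saturated hS hF hQn hN)
        hcN le_sup_right ((he.mono hPQM).of_subsystem hEN) (hf.mono hPQ) fun q hq => by
          rw [(hQK q hq).2]
          let mq : M := ⟨⟨q, hQT hq⟩, ⟨⟨aFn (pL l) q, hQT (aFn_mem _ hq)⟩,
            eq_mul_inv_iff_mul_eq.2 (hpL l q hq).symm⟩⟩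
          have h1 : ofHom e q = (y mq : Ω) := (ofHom_apply e (hQM hq)).trans (heval mq)
          have h2 : (⟨aFn (pL l) q, hQT (aFn_mem _ hq)⟩ : T) = y mq :=
            hLinj ((eq_mul_inv_iff_mul_eq.2 (hpL l q hq).symm).trans (hy mq).symm)
          rw [h1, ← h2]
          exact congrArg (fun a => autFn a q) hl
      have hzT : z ∈ T := hQT hz
      refine mem_hom_of_fn ((fn_conj (F := E) hP hzT).comp (he.mono hPQM) fun x hx => ?_) fun x => ?_
      · exact mul_mem (mul_mem (Subgroup.mem_sup_right hz) (Subgroup.mem_sup_left hx))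
          (inv_mem (Subgroup.mem_sup_right hz))
      · show φ x = ofHom e (z * (x : Ω) * z⁻¹)
        rw [← hze _ (Subgroup.mem_sup_left x.2)]
        exact (hfval x (hTN (hP x.2)) _ (hg' x)).2.symm
    · have e : ιH.range = (ι.range.map πL.rangeRestrict).comap
          ((πG.comp H.subtype).codRestrict πL.range fun h => h.2) := by
        ext ⟨g, hg⟩
        constructor
        · rintro ⟨x, hx⟩
          refine ⟨ι x, ⟨x, rfl⟩, Subtype.ext ?_⟩
          show πL (ι x) = πG g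
          rw [← hT_eq]
          exact congrArg πG (congrArg Subtype.val hx :)
        · rintro ⟨_, ⟨x, rfl⟩, hx⟩
          have hx' : πL (ι x) = πG g := congrArg Subtype.val hx
          obtain ⟨z, hz, hze⟩ := hkerG ((ιG ⟨(x : Ω), hTN x.2⟩)⁻¹ * g)
            (by rw [map_mul, map_inv, hT_eq, hx', inv_mul_cancel])
          refine ⟨x * ⟨z, hQT hz⟩, Subtype.ext ?_⟩
          show ιG (_ : normalizerIn S Q) = g
          rw [show g = ιG ⟨(x : Ω), hTN x.2⟩ * ιG z by rw [← hze, mul_inv_cancel_left], ← map_mul]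
          rfl
      have hsur : Function.Surjective ((πG.comp H.subtype).codRestrict πL.range fun h => h.2) := by
        rintro ⟨_, l, rfl⟩
        have ha : (pL l : MulAut Q) ∈ N.autGroup Q := by
          have := ((mem_autGroup_iff_fn hQT).1 (pL l).2).of_subsystem hEN
          exact (mem_autGroup_iff_fn (le_normalizerIn hQn.1)).2 this
        obtain ⟨φ, hφ, hφe⟩ := id ((mem_autGroup_iff_fn (le_normalizerIn hQn.1)).1 ha)
        obtain ⟨g, hg⟩ := (hGreal _ (le_normalizerIn hQn.1) φ (N.le_of_mem hφ).2).1 hφ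
        have hgl : πG g = πL l := mulAut_ext fun q hq => by
          have h := hg ⟨q, hq⟩
          rw [eq_mul_inv_iff_mul_eq] at h
          exact ((congrArg Subtype.val (hGinj (mul_right_cancel (h.trans (hpG g q hq))))).symm).trans (hφe ⟨q, hq⟩)
        exact ⟨⟨g, ⟨l, hgl.symm⟩⟩, Subtype.ext hgl⟩
      refine ⟨((hS.to_le hTS).of_surjective _ ιH.rangeRestrict_surjective).toSylow ?_, rfl⟩
      rw [e, Subgroup.index_comap_of_surjective _ hsur]
      intro hp
      refine TL.not_dvd_index (dvd_trans hp ?_)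
      rw [hTL]
      exact Subgroup.index_map_dvd _ πL.rangeRestrict_surjective
    · have hn : ((Q.subgroupOf T).map ιH).Normal := by
        refine ⟨?_⟩
        rintro _ ⟨q, hq, rfl⟩ ⟨g, hg⟩
        refine ⟨⟨_, hQT (aFn_mem (pG g) hq)⟩, aFn_mem (pG g) hq, Subtype.ext ?_⟩
        exact eq_mul_inv_iff_mul_eq.2 (hpG g _ hq).symm
      have hle := LocalEven.SylowIn.le_pCore (hN := hn) (((hS.to_le hTS).to_subgroup (Q.subgroupOf T)).map ιH)
      intro g hg
      refine hle ?_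
      have hga : πG g.1 = 1 := mulAut_ext fun q hq => by
        have h1 := congrArg Subtype.val (Subgroup.mem_centralizer_iff.1 hg (ιH ⟨q, hQT hq⟩)
          (hle (Subgroup.mem_map_of_mem _ (show (⟨q, hQT hq⟩ : T) ∈ Q.subgroupOf T from hq))))
        have h2 : ιG ⟨q, le_normalizerIn hQn.1 hq⟩ * g.1 = g.1 * ιG ⟨q, le_normalizerIn hQn.1 hq⟩ := h1
        rw [hpG _ q hq] at h2
        have h3 : q = aFn (pG g.1) q := congrArg Subtype.val (hGinj (mul_right_cancel h2))
        show aFn (pG g.1) q = autFn (1 : MulAut Q) q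
        rw [← h3]
        exact (autFn_coe (1 : MulAut Q) ⟨q, hq⟩).symm
      obtain ⟨z, hz, hze⟩ := hkerG _ hga
      exact ⟨⟨z, hQT hz⟩, hz, Subtype.ext hze.symm⟩
  obtain ⟨Φ, -⟩ := model_unique (hS.to_le hTS) (model_constrained hL) hL hHmodel
  exact ⟨H.subtype.comp Φ.toMonoidHom, Subtype.val_injective.comp Φ.injective⟩

/-- A model of a subsystem with a normal centric subgroup embeds into the model of the normalizer
system of a fully normalized conjugate. -/
theorem embed_model (hS : IsPGroup p S) (hF : F.IsSaturated p) (hc : F.IsCentric Q)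
    {E : FusionSystem T} (hEF : E.IsSubsystemOf F) (hQE : E.IsNormal Q)
    {L : Type*} [Group L] {ι : T →* L} (hL : E.IsModel p L ι) :
    ∃ Q' : Subgroup Ω, F.IsConj Q Q' ∧ F.IsFullyNormalized Q' ∧ F.IsCentric Q' ∧
      ∀ (N : FusionSystem (normalizerIn S Q')), F.IsNormalizerSystem Q' N →
        ∀ (G : Type u) [Group G] (ιG : normalizerIn S Q' →* G), N.IsModel p G ιG →
          ∃ e : L →* G, Function.Injective e := by
  obtain ⟨Q', hQQ', hQ'n⟩ := exists_fullyNormalized (F := F) hc.1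
  have hc' : F.IsCentric Q' := ⟨hQ'n.1, fun R hR => hc.2 R (isConj_trans hQQ' hR)⟩
  obtain ⟨hA, hC⟩ := fullyNormalized_good hS hF hQ'n
  obtain ⟨g, hg, hgn, hgi⟩ := exists_normalizer_map hS hA (fullyCentralized_receptive hS hF hC) hQQ'
  refine ⟨Q', hQQ', hQ'n, hc', fun N hN G _ ιG hG => ?_⟩
  have hTS := subsystem_le hEF
  have := finite_of_le_base hTS
  have hTN : T ≤ normalizerIn S Q := fun x hx => ⟨hTS hx, sc_le_normalizer (normal_stronglyClosed hQE) hx⟩
  have hgT := hg.mono hTN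
  let θ : T →* Ω := MonoidHom.mk' (fun x => g x) fun a b => hgT.map_mul a.2 b.2
  have hθi : Function.Injective θ := fun a b h => Subtype.ext (hgT.inj a.2 b.2 h)
  have hk : ∀ x : T, θ x = 1 ↔ (x : Ω) ∈ (⊥ : Subgroup Ω) := fun x => by
    rw [Subgroup.mem_bot]
    exact (hgT.eq_one_iff x.2)
  obtain ⟨E', hE'⟩ := exists_factorSystem (F := E) (S' := θ.range) sc_bot θ hk rfl
  have hth : ∀ x ∈ T, th θ x = g x := fun x hx => th_apply hx
  obtain ⟨gi, hgi', hgiv, -⟩ := hgT.exists_inv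
  have hrange : θ.range = img g T := Fn.range_eq_img fun x => rfl
  have hpre : ∀ {P' : Subgroup Ω}, P' ≤ θ.range → ∀ y ∈ P', ∃ x ∈ preimageAlong θ P', g x = y :=
    fun {P'} hP' y hy => by
      obtain ⟨x, rfl⟩ := hP' hy
      exact ⟨x, mem_preimageAlong.2 ⟨x.2, (hth _ x.2).symm ▸ hy⟩, rfl⟩
  have hE'F : E'.IsSubsystemOf F := fun P' φ' hφ' => by
    obtain ⟨hP', f, hf, he⟩ := (factor_fn (sc_bot) hE').1 (fn_ofHom hφ')
    have hgi2 : Fn F P' gi := hgi'.mono (hrange ▸ hP')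
    refine mem_hom_of_fn (f := g ∘ f ∘ gi)
      (((hgi2.comp (hf.of_subsystem hEF) fun y hy => ?_).comp hgT fun y hy => ?_)) fun y => ?_
    · obtain ⟨x, hx, rfl⟩ := hpre hP' y hy
      rw [hgiv x (preimageAlong_le hx)]
      exact hx
    · obtain ⟨x, hx, rfl⟩ := hpre hP' y hy
      rw [Function.comp_apply, hgiv x (preimageAlong_le hx)]
      exact hf.mem hx
    · obtain ⟨x, hx, e⟩ := hpre hP' y y.2
      show φ' y = g (f (gi y))
      rw [← ofHom_coe φ' y, ← e, hgiv x (preimageAlong_le hx), ← hth _ (hf.mem hx), ← he x hx,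
        hth _ (preimageAlong_le hx)]
  have hQT := hQE.1
  have hQ'E : E'.IsNormal Q' := by
    refine normal_iff_fn.2 ⟨?_, fun P' f' hf' => ?_⟩
    · rw [hrange, ← hgi]
      exact img_mono hQT
    · obtain ⟨hP', f, hf, he⟩ := (factor_fn (sc_bot) hE').1 hf'
      obtain ⟨k, hk', hke, hki⟩ := (normal_iff_fn.1 hQE).2 _ f hf
      have hsup : preimageAlong θ (P' ⊔ Q') ≤ preimageAlong θ P' ⊔ Q := by
        intro x hx
        obtain ⟨hxT, hx2⟩ := mem_preimageAlong.1 hx
        rw [hth x hxT] at hx2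
        have hle : P' ⊔ Q' ≤ img g (preimageAlong θ P' ⊔ Q) := by
          refine sup_le (fun y hy => ?_) (hgi.symm.le.trans (img_mono le_sup_right))
          obtain ⟨z, hz, rfl⟩ := hpre hP' y hy
          exact mem_img_of_mem (Subgroup.mem_sup_left hz)
        have hsT : preimageAlong θ P' ⊔ Q ≤ T := sup_le preimageAlong_le hQT
        obtain ⟨z, hz, hzx⟩ := (hgT.mono hsT).mem_img.1 (hle hx2)
        exact hgT.inj (hsT hz) hxT hzx ▸ hz
      refine ⟨g ∘ k ∘ gi, (factor_fn (sc_bot) hE').2 ⟨sup_le hP' ?_, k, hk'.mono hsup, fun x hx => ?_⟩,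
        fun y hy => ?_, ?_⟩
      · rw [hrange, ← hgi]
        exact img_mono hQT
      · show g (k (gi (th θ x))) = th θ (k x)
        rw [hth _ (preimageAlong_le hx), hgiv x (preimageAlong_le hx), hth _ (hk'.mem (hsup hx))]
      · obtain ⟨x, hx, rfl⟩ := hpre hP' y hy
        show g (k (gi (g x))) = f' (g x)
        rw [hgiv x (preimageAlong_le hx), hke x hx, ← hth _ (hf.mem hx), ← he x hx, hth _ (preimageAlong_le hx)]
      · rw [← hgi, ← (hgT.mono hQT).img_comp]
        have hkm : img k Q ≤ T := hki.le.trans hQT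
        rw [show img ((g ∘ k ∘ gi) ∘ g) Q = img (g ∘ k) Q from
          img_congr fun q hq => by simp [hgiv q (hQT hq)], (hk'.mono le_sup_right).img_comp, hki]
  let eT : T ≃* θ.range := MonoidHom.ofInjective hθi
  have hmodel : E'.IsModel p L (ι.comp eT.symm.toMonoidHom) := by
    obtain ⟨hfin, ⟨hinj, hreal⟩, ⟨TL, hTL⟩, hcent⟩ := hL
    refine ⟨hfin, ⟨hinj.comp eT.symm.injective, fun P' hP' φ' hφ'S => ?_⟩, ⟨TL, ?_⟩, hcent⟩
    · have hP : preimageAlong θ P' ≤ T := preimageAlong_le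
      have key : ∀ (x : T), eT.symm ⟨g x, ⟨x, rfl⟩⟩ = x := fun x => eT.symm_apply_eq.2 (Subtype.ext rfl)
      constructor
      · intro hφ'
        obtain ⟨-, f, hf, he⟩ := (factor_fn (sc_bot) hE').1 (fn_ofHom hφ')
        obtain ⟨φ, hφ, hφf⟩ := id hf
        obtain ⟨l, hl⟩ := (hreal _ hP φ (E.le_of_mem hφ).2).1 hφ
        refine ⟨l, fun y => ?_⟩
        obtain ⟨x, hx, hxy⟩ := hpre hP' y y.2
        have h1 : (⟨(y : Ω), hP' y.2⟩ : θ.range) = ⟨g (⟨x, hP hx⟩ : T), ⟨_, rfl⟩⟩ := Subtype.ext hxy.symm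
        have h2 : (⟨φ' y, hφ'S y⟩ : θ.range) =
            ⟨g (⟨φ ⟨x, hx⟩, (E.le_of_mem hφ).2 _⟩ : T), ⟨_, rfl⟩⟩ := Subtype.ext <| by
          show φ' y = g (φ ⟨x, hx⟩)
          rw [hφf, ← hth _ (hf.mem hx), ← he x hx, hth _ (hP hx), hxy, ofHom_coe]
        show ι (eT.symm _) = l * ι (eT.symm _) * l⁻¹
        rw [h1, h2, key, key]
        exact hl ⟨x, hx⟩
      · rintro ⟨l, hl⟩
        let y : preimageAlong θ P' → P' := fun x =>
          ⟨g x, hth _ (hP x.2) ▸ (mem_preimageAlong.1 x.2).2⟩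
        let φ : preimageAlong θ P' →* Ω := MonoidHom.mk'
          (fun x => ((eT.symm ⟨φ' (y x), hφ'S _⟩ : T) : Ω)) fun a b => by
            rw [← Subgroup.coe_mul, ← map_mul]
            refine congrArg (fun z => ((eT.symm z : T) : Ω)) (Subtype.ext ?_)
            show φ' (y (a * b)) = φ' (y a) * φ' (y b)
            rw [← map_mul]
            exact congrArg φ' (Subtype.ext (hgT.map_mul (hP a.2) (hP b.2)))
        have hφ : φ ∈ E.Hom _ := (hreal _ hP φ fun x => SetLike.coe_mem _).2 ⟨l, fun x => by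
          have := hl (y x)
          rw [show (⟨((y x : P') : Ω), hP' (y x).2⟩ : θ.range) = ⟨g (⟨(x : Ω), hP x.2⟩ : T), ⟨_, rfl⟩⟩ from rfl]
            at this
          change ι (eT.symm _) = l * ι (eT.symm _) * l⁻¹ at this
          rw [key] at this
          exact this⟩
        refine mem_hom_of_fn (f := ofHom φ') ((factor_fn (sc_bot) hE').2 ⟨hP', _, fn_ofHom hφ, fun x hx => ?_⟩)
          fun z => (ofHom_coe φ' z).symm
        have hm : g x ∈ P' := hth _ (hP hx) ▸ (mem_preimageAlong.1 hx).2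
        rw [hth _ (hP hx), ofHom_apply φ' hm, ofHom_apply φ hx]
        show _ = th θ (((eT.symm ⟨φ' (y ⟨x, hx⟩), hφ'S _⟩ : T) : Ω))
        rw [hth _ (SetLike.coe_mem _)]
        exact (congrArg Subtype.val (eT.apply_symm_apply ⟨φ' (y ⟨x, hx⟩), hφ'S _⟩)).symm
    · rw [hTL]
      ext z
      constructor
      · rintro ⟨x, rfl⟩
        exact ⟨eT x, by simp⟩
      · rintro ⟨x, rfl⟩
        exact ⟨eT.symm x, rfl⟩
  exact embed_model_of_fullyNormalized hS hF hQ'n hc' hN hE'F hQ'E hmodel hG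

end CfsgLib.Fsys
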