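import Cfsg.Agent.Lib.Fusion.Offender
import Cfsg.Agent.Lib.LocalEven.Large
import Cfsg.Agent.Lib.LocalEven.InvolvesDihedral
import Cfsg.Agent.S2759

/-!
An abelian offender acting faithfully on an abelian group of odd order forces a section `S₄`.
-/

set_option autoImplicit false
set_option linter.style.haveILetI false

open scoped commutatorElement

namespace CfsgLib.Fsys.ThompsonA

open CfsgLib.Fusion.ReplacementEA (wt)
open CfsgLib.Solvable.Basic

variable {G : Type*} [Group G]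

/-- Conjugation on `W` only depends on the coset of `C(W)`. -/
theorem act_congr {W : Subgroup G} [(Subgroup.centralizer (W : Set G)).Normal] {x y : G}
    (h : QuotientGroup.mk' (Subgroup.centralizer (W : Set G)) x = QuotientGroup.mk' (Subgroup.centralizer (W : Set G)) y)
    {w : G} (hw : w ∈ W) : x * w * x⁻¹ = y * w * y⁻¹ := by
  have h' := Subgroup.mem_centralizer_iff.mp (QuotientGroup.eq.mp h) w hw
  calc x * w * x⁻¹ = x * (w * (x⁻¹ * y)) * y⁻¹ := by group
    _ = x * ((x⁻¹ * y) * w) * y⁻¹ := by rw [h']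
    _ = _ := by group

theorem fix_iff {x w : G} : x * w * x⁻¹ = w ↔ x * w = w * x := mul_inv_eq_iff_eq_mul

theorem sfour_of_offender [Finite G] {W K A : Subgroup G} [W.Normal] [K.Normal]
    (hW : Cfsg.IsElementaryAbelian 2 W) {n : ℕ} (hn : Odd n)
    (hKc : ∀ x ∈ K, ∀ y ∈ K, ⁅x, y⁆ ∈ Subgroup.centralizer (W : Set G))
    (hKn : ∀ x ∈ K, x ^ n ∈ Subgroup.centralizer (W : Set G))
    (hA2 : IsPGroup 2 A) (hAab : ∀ a ∈ A, ∀ b ∈ A, a * b = b * a)
    (hAne : ¬ A ≤ Subgroup.centralizer (W : Set G))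
    (hfaith : ∀ a ∈ A, (∀ x ∈ K, ⁅a, x⁆ ∈ Subgroup.centralizer (W : Set G)) →
      a ∈ Subgroup.centralizer (W : Set G))
    (hwt : wt W (A ⊓ Subgroup.centralizer (W : Set G)) ≤ wt W A) :
    Cfsg.Involves (Equiv.Perm (Fin 4)) G := by
  classical
  haveI : Fact (Nat.Prime 2) := ⟨Nat.prime_two⟩
  set CW := Subgroup.centralizer (W : Set G) with hCW
  haveI : CW.Normal := inferInstanceAs (Subgroup.centralizer (W : Set G)).Normal
  have hWc : ∀ x ∈ W, ∀ y ∈ W, x * y = y * x := isMulCommutative_subgroup_iff.mp hW.1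
  have hW2 : ∀ w ∈ W, w * w = 1 := fun w hw => by rw [← pow_two]; exact hW.2 w hw
  have hWp : IsPGroup 2 W := fun w => ⟨1, Subtype.ext (by simpa using hW.2 _ w.2)⟩
  have hnormW : ∀ B : Subgroup G, B ≤ Subgroup.normalizer (W : Set G) := fun B => by
    rw [Subgroup.normalizer_eq_top]; exact le_top
  -- an offender of least order among the best ones
  obtain ⟨B₁, hB₁A, hB₁⟩ := Set.exists_max_image {B : Subgroup G | B ≤ A} (fun B => wt W B)
    (Set.toFinite _) ⟨A, le_refl A⟩
  obtain ⟨B₀, hB₀⟩ : ∃ B : Subgroup G, B ≤ A ∧ ¬ B ≤ CW ∧ wt W B = wt W B₁ := by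
    rcases (hB₁ A (le_refl A)).lt_or_eq with h | h
    · refine ⟨B₁, hB₁A, fun hle => ?_, rfl⟩
      refine absurd h (not_lt.mpr (le_trans ?_ hwt))
      have e : ∀ B : Subgroup G, B ≤ CW → W ⊓ Subgroup.centralizer (B : Set G) = W := fun B hB =>
        inf_eq_left.mpr (Subgroup.le_centralizer_iff.mp hB)
      rw [wt, wt, e _ hle, e _ inf_le_right]
      exact Nat.mul_le_mul_right _ (Subgroup.card_le_of_le (le_inf hB₁A hle))
    · exact ⟨A, le_rfl, hAne, h⟩
  obtain ⟨D, -, ⟨hDA, hDne, hDwt⟩, hDmin⟩ := Finite.exists_le_minimal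
    (p := fun B : Subgroup G => B ≤ A ∧ ¬ B ≤ CW ∧ wt W B = wt W B₁) (a := B₀) hB₀
  have hoff : ∀ B ≤ D, wt W B ≤ wt W D := fun B hB => hDwt ▸ hB₁ B (hB.trans hDA)
  have hDab : ∀ a ∈ D, ∀ b ∈ D, a * b = b * a := fun a ha b hb => hAab a (hDA ha) b (hDA hb)
  have hDcomm : ⁅D, D⁆ ≤ Subgroup.centralizer (W : Set G) := Subgroup.commutator_le.mpr fun a ha b hb => by
    rw [commutatorElement_eq_one_iff_mul_comm.mpr (hDab a ha b hb)]; exact one_mem _
  obtain ⟨hw1, hw2⟩ := Fusion.Offender.replacement hWc (hnormW D) hDcomm hoff (le_refl W)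
  -- `D` acts quadratically
  have hquad : D ≤ Subgroup.centralizer ((⁅W, D⁆ : Subgroup G) : Set G) := by
    set D' := D ⊓ Subgroup.centralizer ((⁅W, D⁆ : Subgroup G) : Set G) with hD'
    have hD'ne : ¬ D' ≤ CW := by
      intro hle
      have hWle : W ≤ ⁅W, D⁆ ⊔ (W ⊓ Subgroup.centralizer (D : Set G)) := by
        rw [← hw2]; exact le_inf le_rfl (Subgroup.le_centralizer_iff.mp hle)
      have hlt : ⁅W, D⁆ = ⊥ := by
        by_contra hne
        have hWDW : ⁅W, D⁆ ≤ W := Subgroup.le_normalizer_iff_commutator_le_left.mp (hnormW D)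
        refine (Coprime.commutator_lt_of_isPGroup (hA2.to_le hDA) (hWp.to_le hWDW)
          (Subgroup.normalizer_commutator_ge_right W D) hne).not_ge ?_
        rw [Subgroup.commutator_le]
        intro v hv b hb
        have hv' := hWle hv
        have hle : W ⊓ Subgroup.centralizer (D : Set G) ≤ Subgroup.normalizer ((⁅W, D⁆ : Subgroup G) : Set G) :=
          le_trans (fun c hc => Subgroup.mem_centralizer_iff.mpr fun u hu => hWc u (hWDW hu) c hc.1)
            (Subgroup.centralizer_le_normalizer _)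
        rw [← SetLike.mem_coe, Subgroup.coe_mul_of_right_le_normalizer_left _ _ hle] at hv'
        obtain ⟨u, hu, c, hc, rfl⟩ := hv'
        have hcb : c * b = b * c := (Subgroup.mem_centralizer_iff.mp hc.2 b hb).symm
        have h1 : ⁅u * c, b⁆ = ⁅u, b⁆ := by
          calc ⁅u * c, b⁆ = u * (c * b) * c⁻¹ * u⁻¹ * b⁻¹ := by simp only [commutatorElement_def]; group
            _ = u * (b * c) * c⁻¹ * u⁻¹ * b⁻¹ := by rw [hcb]
            _ = ⁅u, b⁆ := by simp only [commutatorElement_def]; group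
        rw [h1]
        exact Subgroup.commutator_mem_commutator hu hb
      exact hDne (Subgroup.le_centralizer_iff.mp (Subgroup.commutator_eq_bot_iff_le_centralizer.mp hlt))
    exact (hDmin ⟨inf_le_left.trans hDA, hD'ne, hw1.trans hDwt⟩ inf_le_left).trans inf_le_right
  -- the quotient by `C(W)`
  set π := QuotientGroup.mk' CW with hπ
  have hπ1 : ∀ x, π x = 1 ↔ x ∈ CW := fun x => QuotientGroup.eq_one_iff x
  have hcom : ∀ x y : G, ⁅x, y⁆ ∈ CW ↔ π x * π y = π y * π x := fun x y => by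
    rw [← hπ1, map_commutatorElement, commutatorElement_eq_one_iff_mul_comm]
  have hsq : ∀ d ∈ D, π d * π d = 1 := by
    intro d hd
    rw [← map_mul, hπ1, hCW, Subgroup.mem_centralizer_iff]
    intro w hw
    have hu : ⁅w, d⁆ ∈ ⁅W, D⁆ := Subgroup.commutator_mem_commutator hw hd
    have hfix := Subgroup.mem_centralizer_iff.mp (hquad hd) _ hu
    have hwi : w⁻¹ = w := inv_eq_of_mul_eq_one_right (hW2 w hw)
    set u := ⁅w, d⁆ with hudef
    have huW : u ∈ W := (Subgroup.le_normalizer_iff_commutator_le_left.mp (hnormW D)) hu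
    have h1 : d * w * d⁻¹ = w * u := by
      rw [hudef, commutatorElement_def]
      calc d * w * d⁻¹ = w⁻¹ * (w * d * w * d⁻¹) := by group
        _ = w * (w * d * w⁻¹ * d⁻¹) := by rw [hwi]
    have h2 : d * u * d⁻¹ = u := fix_iff.mpr hfix.symm
    have h3 : d * d * w * (d * d)⁻¹ = w := by
      calc d * d * w * (d * d)⁻¹ = d * (d * w * d⁻¹) * d⁻¹ := by group
        _ = d * (w * u) * d⁻¹ := by rw [h1]
        _ = (d * w * d⁻¹) * (d * u * d⁻¹) := by group
        _ = w * (u * u) := by rw [h1, h2, mul_assoc]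
        _ = w := by rw [hW2 u huW, mul_one]
    exact (fix_iff.mp h3).symm
  -- a subgroup of index two
  obtain ⟨B, -, ⟨hBD, x₀, hx₀K, hx₀B, hx₀D⟩, hBmax⟩ := Finite.exists_le_maximal
    (p := fun B : Subgroup G => B ≤ D ∧ ∃ x ∈ K, (∀ b ∈ B, ⁅b, x⁆ ∈ CW) ∧ ¬ ∀ d ∈ D, ⁅d, x⁆ ∈ CW)
    (a := D ⊓ CW) (by
      refine ⟨inf_le_left, ?_⟩
      obtain ⟨a, haD, haC⟩ := SetLike.not_le_iff_exists.mp hDne
      by_contra hall
      push Not at hall
      refine haC (hfaith a (hDA haD) fun x hx => ?_)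
      exact hall x hx (fun b hb => (hcom _ _).mpr (by rw [(hπ1 b).mpr hb.2, one_mul, mul_one])) a haD)
  push Not at hx₀D
  obtain ⟨d, hdD, hdx⟩ := hx₀D
  have hdB : d ∉ B := fun h => hdx (hx₀B d h)
  have hmax : ∀ e ∈ D, e ∉ B → ∀ x ∈ K, (∀ b ∈ B, π b * π x = π x * π b) → π e * π x = π x * π e →
      ∀ d' ∈ D, π d' * π x = π x * π d' := by
    intro e heD heB x hx hxB hxe d' hd'
    by_contra hne
    have hle : B ⊔ Subgroup.zpowers e ≤ B := hBmax ⟨sup_le hBD (Subgroup.zpowers_le.mpr heD), x, hx,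
      fun b hb => ?_, fun h => hne ((hcom _ _).mp (h d' hd'))⟩ le_sup_left
    · exact heB (hle (Subgroup.mem_sup_right (Subgroup.mem_zpowers e)))
    · rw [hcom]
      have hle' : B ⊔ Subgroup.zpowers e ≤ (Subgroup.centralizer {π x}).comap π :=
        sup_le (fun c hc => Subgroup.mem_centralizer_singleton_iff.mpr (hxB c hc))
          (Subgroup.zpowers_le.mpr (Subgroup.mem_centralizer_singleton_iff.mpr hxe))
      exact Subgroup.mem_centralizer_singleton_iff.mp (hle' hb)
  have hKcomm : ∀ x ∈ K, ∀ y ∈ K, π x * π y = π y * π x := fun x hx y hy => (hcom _ _).mp (hKc x hx y hy)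
  have hone : ∀ x ∈ K, π x * π x = 1 → π x = 1 := by
    intro x hx h2
    obtain ⟨k, hk⟩ := hn
    have h := (hπ1 _).mpr (hKn x hx)
    rwa [map_pow, hk, pow_succ, pow_mul, pow_two, h2, one_pow, one_mul] at h
  have hinv : ∀ e ∈ D, (π e)⁻¹ = π e := fun e he => inv_eq_of_mul_eq_one_right (hsq e he)
  have hK' : ∀ e x : G, x ∈ K → e * x * e⁻¹ ∈ K := fun e x hx => Subgroup.Normal.conj_mem inferInstance x hx e
  obtain ⟨g, hgK, hgr, hgB, hgd⟩ : ∃ g ∈ K, (orderOf (π g)).Prime ∧ (∀ b ∈ B, π b * π g = π g * π b) ∧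
      π d * π g * (π d)⁻¹ = (π g)⁻¹ := by
    set z := ⁅d, x₀⁆ with hzdef
    have hzK : z ∈ K := by
      rw [hzdef, commutatorElement_def]; exact K.mul_mem (hK' d x₀ hx₀K) (K.inv_mem hx₀K)
    have hz1 : π z ≠ 1 := fun h => hdx ((hπ1 _).mp h)
    have hzd : π d * π z * (π d)⁻¹ = (π z)⁻¹ := by
      rw [hzdef, map_commutatorElement, commutatorElement_def, hinv d hdD]
      calc π d * (π d * π x₀ * π d * (π x₀)⁻¹) * π d
          = (π d * π d) * π x₀ * π d * (π x₀)⁻¹ * π d := by group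
        _ = π x₀ * (π d)⁻¹ * (π x₀)⁻¹ * (π d)⁻¹ := by rw [hsq d hdD, hinv d hdD, one_mul]
        _ = (π d * π x₀ * π d * (π x₀)⁻¹)⁻¹ := by group
    have hzB : ∀ b ∈ B, π b * π z = π z * π b := by
      intro b hb
      have h1 : π b * π d = π d * π b := by rw [← map_mul, ← map_mul, hDab b (hBD hb) d hdD]
      have h2 : π b * π x₀ = π x₀ * π b := (hcom _ _).mp (hx₀B b hb)
      rw [hzdef, map_commutatorElement, commutatorElement_def]
      exact ((show Commute (π b) (π d) from h1).mul_right h2).mul_right (Commute.inv_right h1)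
        |>.mul_right (Commute.inv_right h2) |>.eq
    obtain ⟨r, hr, hro⟩ := Nat.exists_prime_and_dvd (orderOf_eq_one_iff.not.mpr hz1)
    obtain ⟨m, hm⟩ := hro
    refine ⟨z ^ m, K.pow_mem hzK m, ?_, fun b hb => ?_, ?_⟩
    · have h : orderOf (π z ^ m) = r := by
        have hm0 : 0 < m := by
          rcases Nat.eq_zero_or_pos m with rfl | h
          · exact absurd (hm.trans (mul_zero r)) (orderOf_pos (π z)).ne'
          · exact h
        rw [orderOf_pow' _ hm0.ne', hm, Nat.gcd_eq_right (dvd_mul_left m r), Nat.mul_div_cancel _ hm0]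
      rwa [map_pow, h]
    · rw [map_pow]; exact (Commute.pow_right (hzB b hb) m).eq
    · rw [map_pow, ← conj_pow, hzd, inv_pow]
  have hg1 : π g ≠ 1 := fun h => Nat.not_prime_one (orderOf_eq_one_iff.mpr h ▸ hgr)
  have hDB : ∀ e ∈ D, e ∉ B → π e * π g * (π e)⁻¹ = (π g)⁻¹ := by
    intro e he heB
    set y := g * (e * g * e⁻¹) with hy
    have hyK : y ∈ K := K.mul_mem hgK (hK' e g hgK)
    have hed : π e * π d = π d * π e := by rw [← map_mul, ← map_mul, hDab e he d hdD]
    have hgg : π g * (π e * π g * (π e)⁻¹) = π e * π g * (π e)⁻¹ * π g := by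
      have := hKcomm g hgK _ (hK' e g hgK)
      simpa [map_mul, map_inv] using this
    have hyB : ∀ b ∈ B, π b * π y = π y * π b := by
      intro b hb
      have h1 : Commute (π b) (π e) := by
        show π b * π e = π e * π b
        rw [← map_mul, ← map_mul, hDab b (hBD hb) e he]
      have h2 : Commute (π b) (π g) := hgB b hb
      simp only [hy, map_mul, map_inv]
      exact (h2.mul_right ((h1.mul_right h2).mul_right h1.inv_right)).eq
    have hye : π e * π y = π y * π e := by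
      rw [← mul_inv_eq_iff_eq_mul]
      simp only [hy, map_mul, map_inv]
      calc π e * (π g * (π e * π g * (π e)⁻¹)) * (π e)⁻¹
          = π e * π g * (π e)⁻¹ * ((π e * π e) * π g * (π e * π e)⁻¹) := by group
        _ = π e * π g * (π e)⁻¹ * π g := by rw [hsq e he]; simp
        _ = _ := hgg.symm
    have hyd := hmax e he heB y hyK hyB hye d hdD
    have hyi : π d * π y * (π d)⁻¹ = (π y)⁻¹ := by
      simp only [hy, map_mul, map_inv]
      calc π d * (π g * (π e * π g * (π e)⁻¹)) * (π d)⁻¹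
          = (π d * π g * (π d)⁻¹) * ((π d * π e) * π g * (π d * π e)⁻¹) := by group
        _ = (π d * π g * (π d)⁻¹) * (π e * (π d * π g * (π d)⁻¹) * (π e)⁻¹) := by rw [← hed]; group
        _ = (π g)⁻¹ * (π e * (π g)⁻¹ * (π e)⁻¹) := by rw [hgd]
        _ = (π e * π g * (π e)⁻¹ * π g)⁻¹ := by group
        _ = _ := by rw [← hgg]
    rw [fix_iff.mpr hyd] at hyi
    have h1 := hone y hyK (by nth_rewrite 2 [hyi]; exact mul_inv_cancel _)
    simp only [hy, map_mul, map_inv] at h1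
    exact eq_inv_of_mul_eq_one_right h1
  have hidx : Nat.card D ≤ 2 * Nat.card B := by
    have h2 : (B.subgroupOf D).index = 2 := by
      rw [Subgroup.index_eq_two_iff]
      refine ⟨⟨d, hdD⟩, fun e => ?_⟩
      by_cases he : (e : G) ∈ B
      · refine Or.inr ⟨he, fun h => hdB ?_⟩
        have := B.mul_mem (B.inv_mem he) (Subgroup.mem_subgroupOf.mp h)
        simpa using this
      · refine Or.inl ⟨?_, he⟩
        by_contra h
        have h1 := hDB _ (D.mul_mem e.2 hdD) (fun h' => h (Subgroup.mem_subgroupOf.mpr h'))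
        rw [map_mul] at h1
        have h3 : π (e : G) * (π g)⁻¹ * (π (e : G))⁻¹ = (π g)⁻¹ := by
          calc π (e : G) * (π g)⁻¹ * (π (e : G))⁻¹
              = π (e : G) * (π d * π g * (π d)⁻¹) * (π (e : G))⁻¹ := by rw [hgd]
            _ = π (e : G) * π d * π g * (π (e : G) * π d)⁻¹ := by group
            _ = _ := h1
        have h4 : π g = (π g)⁻¹ := by
          have := congrArg (·⁻¹) (hDB _ e.2 he)
          rw [inv_inv] at this
          calc π g = (π (e : G) * π g * (π (e : G))⁻¹)⁻¹ := this.symm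
            _ = π (e : G) * (π g)⁻¹ * (π (e : G))⁻¹ := by group
            _ = _ := h3
        exact hg1 (hone g hgK (by nth_rewrite 2 [h4]; exact mul_inv_cancel _))
    have h := (B.subgroupOf D).card_mul_index
    rw [h2, Nat.card_congr (Subgroup.subgroupOfEquivOfLe hBD).toEquiv] at h
    omega
  -- the fixed points
  set U := W ⊓ Subgroup.centralizer (B : Set G) with hU
  set F₁ := W ⊓ Subgroup.centralizer (D : Set G) with hF₁
  have hUF : Nat.card U ≤ 2 * Nat.card F₁ := by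
    refine Nat.le_of_mul_le_mul_left ?_ (Nat.card_pos (α := B))
    calc Nat.card B * Nat.card U ≤ Nat.card D * Nat.card F₁ := hoff B hBD
      _ ≤ 2 * Nat.card B * Nat.card F₁ := Nat.mul_le_mul_right _ hidx
      _ = _ := by ring
  have hF₁U : F₁ ≤ U := inf_le_inf_left _ (Subgroup.centralizer_le hBD)
  have hWconj : ∀ x w : G, w ∈ W → x * w * x⁻¹ ∈ W := fun x w hw => Subgroup.Normal.conj_mem inferInstance w hw x
  have hnU : ∀ x : G, (∀ b ∈ B, π b * π x = π x * π b) → ∀ u ∈ U, x * u * x⁻¹ ∈ U := by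
    intro x hx u hu
    refine ⟨hWconj x u hu.1, Subgroup.mem_centralizer_iff.mpr fun b hb => fix_iff.mp ?_⟩
    calc b * (x * u * x⁻¹) * b⁻¹ = b * x * u * (b * x)⁻¹ := by group
      _ = x * b * u * (x * b)⁻¹ := act_congr (by show π (b * x) = π (x * b); rw [map_mul, map_mul, hx b hb]) hu.1
      _ = x * (b * u * b⁻¹) * x⁻¹ := by group
      _ = x * u * x⁻¹ := by rw [fix_iff.mpr (Subgroup.mem_centralizer_iff.mp hu.2 b hb)]
  have hnorm : ∀ x : G, (∀ b ∈ B, π b * π x = π x * π b) → x ∈ Subgroup.normalizer (U : Set G) := fun x hx =>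
    Subgroup.mem_normalizer_fintype (fun u hu => hnU x hx u hu)
  let f : W →* G :=
    { toFun := fun w => g * w * g⁻¹ * (w : G)⁻¹
      map_one' := by simp
      map_mul' := fun v w => by
        simp only [Subgroup.coe_mul, mul_inv_rev]
        have hm : g * (w : G) * g⁻¹ * (w : G)⁻¹ ∈ W := W.mul_mem (hWconj g w w.2) (W.inv_mem w.2)
        calc g * ((v : G) * w) * g⁻¹ * ((w : G)⁻¹ * (v : G)⁻¹)
            = g * v * g⁻¹ * ((g * w * g⁻¹ * (w : G)⁻¹) * (v : G)⁻¹) := by group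
          _ = g * v * g⁻¹ * ((v : G)⁻¹ * (g * w * g⁻¹ * (w : G)⁻¹)) := by rw [hWc _ hm _ (W.inv_mem v.2)]
          _ = _ := by group }
  have hfW : ∀ w : W, f w ∈ W := fun w => W.mul_mem (hWconj g w w.2) (W.inv_mem w.2)
  have hfree : ∀ w : W, g * f w * g⁻¹ = f w → f w = 1 := by
    intro w hfix
    have key : ∀ k : ℕ, g ^ k * (w : G) * (g ^ k)⁻¹ = f w ^ k * w := by
      intro k
      induction k with
      | zero => simp
      | succ k ih =>
        calc g ^ (k + 1) * (w : G) * (g ^ (k + 1))⁻¹ = g * (g ^ k * w * (g ^ k)⁻¹) * g⁻¹ := by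
              rw [pow_succ']; group
          _ = (g * f w ^ k * g⁻¹) * (g * w * g⁻¹) := by rw [ih]; group
          _ = f w ^ k * (f w * w) := by
              rw [← conj_pow, hfix]
              congr 1
              show g * (w : G) * g⁻¹ = g * w * g⁻¹ * (w : G)⁻¹ * w
              group
          _ = _ := by rw [pow_succ, mul_assoc]
    have h := key n
    rw [fix_iff.mpr (Subgroup.mem_centralizer_iff.mp (hKn g hgK) w w.2).symm, eq_comm, mul_eq_right] at h
    obtain ⟨k, hk⟩ := hn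
    rwa [hk, pow_succ, pow_mul, pow_two, hW2 _ (hfW w), one_pow, one_mul] at h
  obtain ⟨u₀, hu₀U, hu₀⟩ : ∃ u : W, (u : G) ∈ U ∧ f u ≠ 1 := by
    by_contra hall
    push Not at hall
    have hR : f.range ≠ ⊥ := by
      intro h
      refine hg1 ((hπ1 g).mpr (Subgroup.mem_centralizer_iff.mpr fun w hw => (fix_iff.mp ?_).symm))
      have h' : f ⟨w, hw⟩ ∈ f.range := ⟨_, rfl⟩
      rw [h, Subgroup.mem_bot] at h'
      exact mul_inv_eq_one.mp h'
    have hRW : f.range ≤ W := by rintro _ ⟨w, rfl⟩; exact hfW w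
    have hBR : B ≤ Subgroup.normalizer (f.range : Set G) := by
      intro b hb
      refine Subgroup.mem_normalizer_fintype ?_
      rintro _ ⟨w, rfl⟩
      refine ⟨⟨_, hWconj b w w.2⟩, ?_⟩
      show g * (b * (w : G) * b⁻¹) * g⁻¹ * (b * (w : G) * b⁻¹)⁻¹ = b * (g * w * g⁻¹ * (w : G)⁻¹) * b⁻¹
      have e : g * (b * (w : G) * b⁻¹) * g⁻¹ = b * (g * w * g⁻¹) * b⁻¹ := by
        calc g * (b * (w : G) * b⁻¹) * g⁻¹ = g * b * w * (g * b)⁻¹ := by group
          _ = b * g * w * (b * g)⁻¹ := act_congr (by show π (g * b) = π (b * g); rw [map_mul, map_mul, hgB b hb]) w.2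
          _ = _ := by group
      rw [e]; group
    obtain ⟨y, ⟨⟨w, rfl⟩, hyc⟩, hy1⟩ := LocalEven.Large.exists_fixed (hA2.to_le (hBD.trans hDA))
      (hWp.to_le hRW) hR hBR
    exact hy1 (hfree w (mul_inv_eq_one.mp (hall ⟨f w, hfW w⟩ ⟨hfW w, hyc⟩)))
  -- a fixed subgroup of index at most four
  obtain ⟨s, hsK, hsB, hsg⟩ : ∃ s ∈ K, (∀ b ∈ B, π b * π s = π s * π b) ∧ π s * π s = π g := by
    obtain ⟨k, hk⟩ := hn
    refine ⟨g ^ (k + 1), K.pow_mem hgK _, fun b hb => by rw [map_pow]; exact (Commute.pow_right (hgB b hb) _).eq, ?_⟩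
    have h := (hπ1 _).mpr (hKn g hgK)
    rw [map_pow, hk] at h
    rw [map_pow, ← pow_add, show k + 1 + (k + 1) = (2 * k + 1) + 1 by omega, pow_succ, h, one_mul]
  have hsd : π d * π s * (π d)⁻¹ = (π s)⁻¹ := by
    have hc : π s * π g = π g * π s := hKcomm s hsK g hgK
    have h0 : π s * (π d * π s * (π d)⁻¹) = π d * π s * (π d)⁻¹ * π s := by
      have := hKcomm s hsK _ (hK' d s hsK)
      simpa [map_mul, map_inv] using this
    have h1 := hone (s * (d * s * d⁻¹)) (K.mul_mem hsK (hK' d s hsK)) (by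
      simp only [map_mul, map_inv]
      calc π s * (π d * π s * (π d)⁻¹) * (π s * (π d * π s * (π d)⁻¹))
          = π s * ((π d * π s * (π d)⁻¹) * π s) * (π d * π s * (π d)⁻¹) := by group
        _ = (π s * π s) * (π d * (π s * π s) * (π d)⁻¹) := by rw [← h0]; group
        _ = 1 := by rw [hsg, hgd, mul_inv_cancel])
    simp only [map_mul, map_inv] at h1
    exact eq_inv_of_mul_eq_one_right h1
  have hdB' : ∀ b ∈ B, π b * π d = π d * π b := fun b hb => by
    rw [← map_mul, ← map_mul, hDab b (hBD hb) d hdD]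
  set F₂ := F₁.map (MulAut.conj s⁻¹).toMonoidHom with hF₂
  have hF₂U : F₂ ≤ U := by
    rintro _ ⟨u, hu, rfl⟩
    have := hnU s⁻¹ (fun b hb => by rw [map_inv]; exact (Commute.inv_right (hsB b hb)).eq) u (hF₁U hu)
    simpa using this
  have hfixg : ∀ u ∈ F₁ ⊓ F₂, g * u * g⁻¹ = u := by
    rintro u ⟨hu1, v, hv, rfl⟩
    have hd1 : ∀ x ∈ F₁, d * x * d⁻¹ = x := fun x hx => fix_iff.mpr (Subgroup.mem_centralizer_iff.mp hx.2 d hdD)
    simp only [MulEquiv.coe_toMonoidHom, MulAut.conj_apply, inv_inv] at hu1 ⊢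
    have e : π g⁻¹ = π (s⁻¹ * d * s * d) := by
      rw [map_inv, map_mul, map_mul, map_mul, map_inv, ← hsg]
      calc (π s * π s)⁻¹ = (π s)⁻¹ * (π d * π s * (π d)⁻¹) := by rw [hsd, mul_inv_rev]
        _ = _ := by rw [hinv d hdD]; group
    have h1 : g⁻¹ * (s⁻¹ * v * s) * g = s⁻¹ * v * s := by
      calc g⁻¹ * (s⁻¹ * v * s) * g = g⁻¹ * (s⁻¹ * v * s) * (g⁻¹)⁻¹ := by rw [inv_inv]
        _ = s⁻¹ * d * s * d * (s⁻¹ * v * s) * (s⁻¹ * d * s * d)⁻¹ := act_congr e hu1.1
        _ = s⁻¹ * d * (s * (d * (s⁻¹ * v * s) * d⁻¹) * s⁻¹) * d⁻¹ * s := by group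
        _ = s⁻¹ * (d * v * d⁻¹) * s := by rw [hd1 _ hu1]; group
        _ = _ := by rw [hd1 v hv]
    conv_lhs => rw [← h1]
    group
  have hU4 : Nat.card U ≤ 4 * Nat.card (F₁ ⊓ F₂ : Subgroup G) := by
    have hc := Fusion.Thompson.card_sup_mul_card_inf (N := F₁) (K := F₂)
      (le_trans (fun x hx => Subgroup.mem_centralizer_iff.mpr fun y hy => hWc y hy.1 x (hF₂U hx).1)
        (Subgroup.centralizer_le_normalizer _))
    have hle : Nat.card (F₁ ⊔ F₂ : Subgroup G) ≤ Nat.card U := Subgroup.card_le_of_le (sup_le hF₁U hF₂U)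
    have hF₂c : Nat.card F₂ = Nat.card F₁ := Subgroup.card_map_of_injective (MulAut.conj s⁻¹).injective
    rw [hF₂c] at hc
    refine Nat.le_of_mul_le_mul_left ?_ (Nat.card_pos (α := U))
    calc Nat.card U * Nat.card U ≤ (2 * Nat.card F₁) * (2 * Nat.card F₁) := Nat.mul_le_mul hUF hUF
      _ = 4 * (Nat.card F₁ * Nat.card F₁) := by ring
      _ = 4 * (Nat.card (F₁ ⊔ F₂ : Subgroup G) * Nat.card (F₁ ⊓ F₂ : Subgroup G)) := by rw [hc]
      _ ≤ 4 * (Nat.card U * Nat.card (F₁ ⊓ F₂ : Subgroup G)) := Nat.mul_le_mul_left _ (Nat.mul_le_mul_right _ hle)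
      _ = _ := by ring
  let fU : U →* G := f.comp (Subgroup.inclusion inf_le_left)
  have hR4 : Nat.card fU.range ≤ 4 := by
    have h1 : (F₁ ⊓ F₂ : Subgroup G).subgroupOf U ≤ fU.ker := fun x hx =>
      mul_inv_eq_one.mpr (hfixg _ (Subgroup.mem_subgroupOf.mp hx))
    have h2 := Subgroup.card_le_of_le h1
    rw [Nat.card_congr (Subgroup.subgroupOfEquivOfLe (inf_le_left.trans hF₁U)).toEquiv] at h2
    have h3 := fU.ker.card_mul_index
    rw [Subgroup.index_ker] at h3
    refine Nat.le_of_mul_le_mul_left ?_ (Nat.card_pos (α := fU.ker))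
    calc Nat.card fU.ker * Nat.card fU.range = Nat.card U := h3
      _ ≤ 4 * Nat.card (F₁ ⊓ F₂ : Subgroup G) := hU4
      _ ≤ 4 * Nat.card fU.ker := Nat.mul_le_mul_left _ h2
      _ = _ := Nat.mul_comm _ _
  -- the order of the image of `g`
  set r := orderOf (π g) with hr
  have hr3 : r = 3 := by
    have hr2 : r ≠ 2 := fun h => hg1 (hone g hgK (by rw [← pow_two, ← h]; exact pow_orderOf_eq_one _))
    set v := f u₀ with hv
    have hvne : v ≠ 1 := hu₀
    have hvU : v ∈ U := U.mul_mem (hnU g hgB _ hu₀U) (U.inv_mem hu₀U)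
    have hmem : ∀ i : ℕ, g ^ i * v * (g ^ i)⁻¹ ∈ fU.range := by
      intro i
      have hgi : ∀ b ∈ B, π b * π (g ^ i) = π (g ^ i) * π b := fun b hb => by
        rw [map_pow]; exact (Commute.pow_right (hgB b hb) i).eq
      refine ⟨⟨g ^ i * (u₀ : G) * (g ^ i)⁻¹, hnU _ hgi _ hu₀U⟩, ?_⟩
      show g * (g ^ i * (u₀ : G) * (g ^ i)⁻¹) * g⁻¹ * (g ^ i * (u₀ : G) * (g ^ i)⁻¹)⁻¹ =
        g ^ i * (g * (u₀ : G) * g⁻¹ * (u₀ : G)⁻¹) * (g ^ i)⁻¹
      group
    let F : Option (Fin r) → fU.range := fun o => match o with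
      | none => 1
      | some i => ⟨_, hmem i⟩
    have hinj : Function.Injective F := by
      have hne : ∀ i : ℕ, g ^ i * v * (g ^ i)⁻¹ ≠ 1 := fun i h => hvne (conj_eq_one_iff.mp h)
      have hdist : ∀ i j : ℕ, i < j → j < r → g ^ i * v * (g ^ i)⁻¹ ≠ g ^ j * v * (g ^ j)⁻¹ := by
        intro i j hij hjr h
        refine hvne (hfree u₀ ?_)
        have hk : g ^ (j - i) * v * (g ^ (j - i))⁻¹ = v := by
          rw [show g ^ j = g ^ i * g ^ (j - i) by rw [← pow_add]; congr 1; omega] at h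
          have h' : g ^ i * v * (g ^ i)⁻¹ = g ^ i * (g ^ (j - i) * v * (g ^ (j - i))⁻¹) * (g ^ i)⁻¹ := by
            rw [h]; group
          exact (mul_left_cancel (mul_right_cancel h')).symm
        have hcop : (j - i).Coprime r := ((hgr.coprime_iff_not_dvd).mpr
          (Nat.not_dvd_of_pos_of_lt (by omega) (by omega))).symm
        obtain ⟨m, hm⟩ := exists_pow_eq_self_of_coprime hcop
        have hfixm : g ^ ((j - i) * m) ∈ Subgroup.centralizer {v} := by
          rw [pow_mul]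
          exact pow_mem (Subgroup.mem_centralizer_singleton_iff.mpr (fix_iff.mp hk)) m
        calc g * v * g⁻¹ = g ^ ((j - i) * m) * v * (g ^ ((j - i) * m))⁻¹ :=
              act_congr (by show π g = π (g ^ ((j - i) * m)); rw [map_pow, pow_mul, hm]) hvU.1
          _ = v := fix_iff.mpr (Subgroup.mem_centralizer_singleton_iff.mp hfixm)
      rintro (_ | i) (_ | j) h
      · rfl
      · exact absurd (congrArg Subtype.val h).symm (hne j)
      · exact absurd (congrArg Subtype.val h) (hne i)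
      · rcases lt_trichotomy (i : ℕ) j with h' | h' | h'
        · exact absurd (congrArg Subtype.val h) (hdist i j h' j.2)
        · rw [Fin.ext h']
        · exact absurd (congrArg Subtype.val h).symm (hdist j i h' i.2)
    have hc := Nat.card_le_card_of_injective F hinj
    rw [Finite.card_option, Nat.card_fin] at hc
    have := hgr.two_le
    omega
  -- the symmetric group of degree three
  refine Cfsg.Agent.S2759.result.mpr ⟨U, hWp.to_le inf_le_left, ?_⟩
  set N := Subgroup.normalizer (U : Set G) with hN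
  set C' := (Subgroup.centralizer (U : Set G)).subgroupOf N
  have hCWU : CW ≤ Subgroup.centralizer (U : Set G) := Subgroup.centralizer_le inf_le_left
  haveI : C'.Normal := by infer_instance
  set x : N ⧸ C' := QuotientGroup.mk' C' ⟨d, hnorm d hdB'⟩ with hx
  set y : N ⧸ C' := QuotientGroup.mk' C' ⟨g, hnorm g hgB⟩ with hy
  have hq : ∀ a : N, π (a : G) = 1 → QuotientGroup.mk' C' a = 1 := fun a ha =>
    (QuotientGroup.eq_one_iff a).mpr (hCWU ((hπ1 _).mp ha))
  have hxo : ∃ k : ℕ, orderOf x = 2 ^ k := by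
    have h : x ^ 2 = 1 := by
      rw [hx, ← map_pow]
      exact hq _ (by simpa [map_pow, pow_two] using hsq d hdD)
    obtain ⟨k, -, hk⟩ := (Nat.dvd_prime_pow Nat.prime_two).mp
      (by rw [pow_one]; exact orderOf_dvd_of_pow_eq_one h : orderOf x ∣ 2 ^ 1)
    exact ⟨k, hk⟩
  have hy1 : y ≠ 1 := by
    intro h
    refine hu₀ (mul_inv_eq_one.mpr (fix_iff.mpr ?_))
    exact (Subgroup.mem_centralizer_iff.mp (Subgroup.mem_subgroupOf.mp ((QuotientGroup.eq_one_iff (N := C') _).mp h)) _ hu₀U).symm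
  have hy3 : y ^ 3 = 1 := by
    rw [hy, ← map_pow]
    exact hq _ (by rw [SubgroupClass.coe_pow, map_pow, ← hr3]; exact pow_orderOf_eq_one _)
  haveI : Fact (Nat.Prime 3) := ⟨Nat.prime_three⟩
  have hxy : x * y * x⁻¹ = y⁻¹ := by
    rw [← mul_eq_one_iff_eq_inv, hx, hy, ← map_inv, ← map_mul, ← map_mul, ← map_mul]
    exact hq _ (by
      simp only [Subgroup.coe_mul, Subgroup.coe_inv, map_mul, map_inv]
      rw [hgd, inv_mul_cancel])
  have hdi := LocalEven.InvolvesDihedral.involves_of_inverted (p := 3) (by norm_num) hxo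
    ⟨1, by rw [pow_one]; exact orderOf_eq_prime hy3 hy1⟩ hy1 hxy
  obtain ⟨e⟩ := Cfsg.Agent.S2759.perm_three_equiv
  exact Cfsg.Agent.S2759.involves_congr e.symm hdi

end CfsgLib.Fsys.ThompsonA
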