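import Cfsg.Agent.Lib.FusionSystem.NilpotencyCriterion
import Cfsg.Agent.Lib.Fusion.GlaubermanThompson
/-
The functor `Q ↦ Z(J(Q))` (abelian version of `J`) and the Glauberman-Thompson criterion for saturated systems.
-/
set_option autoImplicit false

namespace CfsgLib.Fsys

open Cfsg
open Cfsg.FusionSystem (centralizerIn normalizerIn)
open CfsgLib.Fusion

universe u

/-- `Z(J(Q))` as a functor on groups. -/
def zjA (Q : Type u) [Group Q] : Subgroup Q := centerThompsonAOf (⊤ : Subgroup Q)

theorem centerThompsonAOf_map {G H : Type u} [Group G] [Group H] [Finite G] [Finite H] (f : G →* H)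
    (hf : Function.Injective f) (U : Subgroup G) : centerThompsonAOf (U.map f) = (centerThompsonAOf U).map f := by
  have hU : ∀ u ∈ U, u ^ Nat.card U = 1 := fun u hu =>
    congrArg Subtype.val (pow_card_eq_one' (x := (⟨u, hu⟩ : U)))
  have hU' : ∀ v ∈ U.map f, v ^ Nat.card U = 1 := by
    rintro _ ⟨u, hu, rfl⟩
    rw [← map_pow, hU u hu, map_one]
  rw [ZJBridge.centerThompsonAOf_eq_Z hU', ZJBridge.centerThompsonAOf_eq_Z hU, ZJConstrained.Z_map_inj f hf]

theorem wOf_zjA {Ω : Type u} [Group Ω] [Finite Ω] (A : Subgroup Ω) :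
    wOf (fun Q _ => zjA Q) A = centerThompsonAOf A := by
  unfold wOf zjA
  rw [← centerThompsonAOf_map A.subtype A.subtype_injective, ← MonoidHom.range_eq_map, Subgroup.range_subtype]

theorem centerThompsonAOf_le {G : Type*} [Group G] (P : Subgroup G) : centerThompsonAOf P ≤ P :=
  inf_le_left.trans (Subgroup.map_subtype_le _)

theorem exists_maxA (P : Type*) [Group P] [Finite P] : ∃ A, A ∈ maxAbelianSubgroups P := by
  obtain ⟨A, hA, hmax⟩ := Set.exists_max_image {A : Subgroup P | IsMulCommutative A} (fun A => Nat.card A)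
    (Set.toFinite _) ⟨⊥, by simp only [Set.mem_ofPred_eq]; infer_instance⟩
  exact ⟨A, hA, hmax⟩

theorem thompsonSubgroupA_ne_bot (P : Type*) [Group P] [Finite P] [Nontrivial P] : thompsonSubgroupA P ≠ ⊥ := by
  obtain ⟨A, hA⟩ := exists_maxA P
  intro h
  have hA1 : A = ⊥ := le_bot_iff.1 (h ▸ le_sSup hA)
  obtain ⟨x, hx⟩ := exists_ne (1 : P)
  have h1 := hA.2 (Subgroup.zpowers x) inferInstance
  rw [hA1, Subgroup.card_bot] at h1
  have h2 : Subgroup.zpowers x = ⊥ := Subgroup.card_eq_one.1 (le_antisymm h1 Nat.card_pos)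
  exact hx (Subgroup.zpowers_eq_bot.1 h2)

theorem centerThompsonAOf_ne_bot {p : ℕ} [Fact p.Prime] {G : Type u} [Group G] [Finite G] {P : Subgroup G}
    (hP : IsPGroup p P) (hne : P ≠ ⊥) : centerThompsonAOf P ≠ ⊥ := by
  have := (P.nontrivial_iff_ne_bot).2 hne
  exact CfsgLib.Solvable.ThompsonComplement.centerOf_ne_bot (hP.to_le (Subgroup.map_subtype_le _)) fun h =>
    thompsonSubgroupA_ne_bot P ((Subgroup.map_eq_bot_iff_of_injective _ P.subtype_injective).1 h)

variable {p : ℕ} [Fact p.Prime]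

theorem zjA_ne_bot (Q : Type u) [Group Q] [Finite Q] (hQ : IsPGroup p Q) (hn : Nontrivial Q) : zjA Q ≠ ⊥ :=
  centerThompsonAOf_ne_bot (hQ.to_subgroup ⊤) (by
    rw [← Subgroup.nontrivial_iff_ne_bot]
    exact Subgroup.topEquiv.toEquiv.nontrivial)

theorem zjA_map (Q R : Type u) [Group Q] [Group R] [Finite Q] (_hQ : IsPGroup p Q) (φ : Q ≃* R) :
    (zjA Q).map φ.toMonoidHom = zjA R := by
  have : Finite R := Finite.of_equiv Q φ.toEquiv
  unfold zjA
  rw [← centerThompsonAOf_map φ.toMonoidHom φ.injective, Subgroup.map_top_of_surjective _ φ.surjective]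

/-- In a constrained group with a normal `p`-complement the Sylow subgroup is the whole group. -/
theorem top_of_npc {L : Type*} [Group L] [Finite L] (T : Sylow p L)
    (hc : Subgroup.centralizer ((pCore p L : Subgroup L) : Set L) ≤ pCore p L)
    (hnpc : HasNormalPComplement p L) : (T : Subgroup L) = ⊤ := by
  have hcop := Fusion.Basic.npc_iff_coprime.1 hnpc
  have := Fusion.Basic.pResidual_normal (G := L) (p := p)
  have hQp : IsPGroup p (pCore p L) := LocalEven.SylowIn.isPGroup_pCore L p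
  have := LocalEven.SylowIn.pCore_normal L p
  have hinf := Fusion.Basic.inf_eq_bot_of_coprime hQp hcop
  have hres : pResidual p L ≤ pCore p L := fun x hx => hc <| Subgroup.mem_centralizer_iff.2 fun y hy =>
    Subgroup.commute_of_normal_of_disjoint _ _ inferInstance inferInstance (disjoint_iff.2 hinf) y x hy hx
  have hbot : pResidual p L = ⊥ := by rw [← hinf, inf_eq_right.2 hres]
  have hLp : IsPGroup p L := by
    intro x
    obtain ⟨k, hk⟩ := Fusion.Basic.isPGroup_quotient_pResidual (G := L) (p := p) (QuotientGroup.mk x)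
    refine ⟨k, ?_⟩
    rw [← QuotientGroup.mk_pow, QuotientGroup.eq_one_iff, hbot, Subgroup.mem_bot] at hk
    exact hk
  exact (T.3 (hLp.to_subgroup ⊤) le_top).symm

/-- The Glauberman-Thompson theorem for constrained groups. -/
theorem zjA_detects (hp : p ≠ 2) (L : Type u) [Group L] [Finite L] (T : Sylow p L)
    (hc : Subgroup.centralizer ((pCore p L : Subgroup L) : Set L) ≤ pCore p L)
    (hN : Subgroup.normalizer (wOf (fun Q _ => zjA Q) (T : Subgroup L) : Set L) ≤ T) : (T : Subgroup L) = ⊤ := by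
  rw [wOf_zjA] at hN
  have hNp := T.isPGroup'.to_le hN
  refine top_of_npc T hc ?_
  by_cases hT : (T : Subgroup L) = ⊥
  · have hbot : centerThompsonAOf (T : Subgroup L) = ⊥ := le_bot_iff.1 ((centerThompsonAOf_le _).trans hT.le)
    rw [hbot, Subgroup.normalizer_eq_top] at hNp
    exact Fusion.Basic.npc_of_isPGroup (hNp.of_equiv Subgroup.topEquiv)
  · have hd : p ∣ Nat.card (T : Subgroup L) := by
      have := (Subgroup.nontrivial_iff_ne_bot _).2 hT
      obtain ⟨k, hk, hcard⟩ := T.isPGroup'.nontrivial_iff_card.1 ‹_›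
      exact hcard ▸ dvd_pow_self p hk.ne'
    refine GlaubermanThompson.npc_aux
      (GlaubermanThompson.zFunZ hp (Nat.card (T : Subgroup L)) (ZJBridge.odd_card_sylow hp T) hd) hp _ L rfl T ?_
    show HasNormalPComplement p _
    rw [ZJBridge.centerThompsonAOf_eq_Z (ZJBridge.sylow_pow_card T)] at hNp
    exact Fusion.Basic.npc_of_isPGroup hNp

variable {Ω : Type u} [Group Ω] {S : Subgroup Ω} {F : FusionSystem S} [Finite S]

/-- `Z(J(S))` inside the ambient group. -/
theorem wOf_zjA' (A : Subgroup Ω) [Finite A] : wOf (fun Q _ => zjA Q) A = centerThompsonAOf A := by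
  unfold wOf zjA centerThompsonAOf thompsonSubgroupAOf
  ext x
  simp only [Subgroup.mem_map, Subgroup.mem_inf, Subgroup.mem_centralizer_iff]
  let e : (⊤ : Subgroup A) ≃* A := Subgroup.topEquiv
  have h : thompsonSubgroupA A = (thompsonSubgroupA (⊤ : Subgroup A)).map (⊤ : Subgroup A).subtype := by
    have hmax : ∀ B, B ∈ maxAbelianSubgroups (⊤ : Subgroup A) ↔ B.map e.toMonoidHom ∈ maxAbelianSubgroups A := by
      intro B
      constructor
      · rintro ⟨hB, hmax⟩
        refine ⟨inferInstance, fun C hC => ?_⟩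
        have := hmax (C.map e.symm.toMonoidHom) inferInstance
        rw [Subgroup.card_map_of_injective e.symm.injective] at this
        rwa [Subgroup.card_map_of_injective e.injective]
      · rintro ⟨hB, hmax⟩
        have hB' : B = (B.map e.toMonoidHom).map e.symm.toMonoidHom := by
          rw [Subgroup.map_map]; ext y; simp [e]
        refine ⟨hB' ▸ inferInstance, fun C hC => ?_⟩
        have := hmax (C.map e.toMonoidHom) inferInstance
        rwa [Subgroup.card_map_of_injective e.injective, Subgroup.card_map_of_injective e.injective] at this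
    refine le_antisymm (sSup_le fun B hB => ?_) ?_
    · have hB' : B = (B.map e.symm.toMonoidHom).map e.toMonoidHom := by
        rw [Subgroup.map_map]; ext y; simp [e]
      rw [hB']
      exact Subgroup.map_mono (le_sSup ((hmax _).2 (hB' ▸ hB)))
    · rw [Subgroup.map_le_iff_le_comap]
      exact sSup_le fun B hB => Subgroup.map_le_iff_le_comap.1 (le_sSup ((hmax B).1 hB))
  constructor
  · rintro ⟨y, ⟨hy, hc⟩, rfl⟩
    refine ⟨⟨y, h ▸ hy, rfl⟩, ?_⟩
    rintro _ ⟨z, hz, rfl⟩
    exact congrArg Subtype.val (hc z (Subgroup.mem_map.1 (h ▸ hz)))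
  · rintro ⟨⟨y, hy, rfl⟩, hc⟩
    refine ⟨y, ⟨Subgroup.mem_map.1 (h ▸ hy), fun z hz => Subtype.ext ?_⟩, rfl⟩
    exact hc z ⟨z, h ▸ Subgroup.mem_map.2 hz, rfl⟩

theorem normalizerIn_wOf {W : ∀ (Q : Type u) [Group Q], Subgroup Q}
    (hW2 : ∀ (Q R : Type u) [Group Q] [Group R] [Finite Q], IsPGroup p Q → ∀ φ : Q ≃* R, (W Q).map φ.toMonoidHom = W R)
    (hS : IsPGroup p S) : normalizerIn S (wOf W S) = S := by
  refine inf_eq_left.2 fun s hs => ?_
  have := finite_of_le_base (wOf_le (W := W) S)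
  refine mem_normalizer_of_map_le fun x hx => ?_
  have hf := fn_conj (F := innerFusionSystem S) (le_refl S) hs
  have h := map_wOf hW2 hS hf
  rw [hf.img_eq_self fun x hx => hf.mem hx] at h
  exact h.le (mem_img_of_mem hx)

/-- An inner normalizer system gives the local hypothesis. -/
theorem locPAut_of_normalizer (hS : IsPGroup p S) {U : Subgroup Ω} (hU : U ≤ S) (hn : normalizerIn S U = S)
    (h : ∀ N : FusionSystem (normalizerIn S U), F.IsNormalizerSystem U N →
      ∀ P : Subgroup Ω, N.Hom P = (innerFusionSystem (normalizerIn S U)).Hom P) : LocPAut p F U := by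
  intro P hP hUP α hα hi
  obtain ⟨N, hN⟩ := exists_normalizerSystem F hU
  have hf : Fn N P (autFn α) := (fn_normalizerSystem hN).2 ⟨hP.trans hn.ge,
    fun x hx => hn.ge (hP (autFn_mem α hx)), autFn α,
    by rw [sup_eq_left.2 hUP]; exact (mem_autGroup_iff_fn hP).1 hα, fun x _ => rfl, hi⟩
  obtain ⟨φ, hφ, hφf⟩ := hf
  rw [h N hN P] at hφ
  obtain ⟨-, g, hg, hgx⟩ := hφ
  exact pPow_of_conj hS hg.1 fun x hx => (hφf ⟨x, hx⟩).symm.trans (hgx ⟨x, hx⟩)

/-- The normalizer systems of an inner system are inner. -/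
theorem normalizer_inner_of_inner (h : ∀ P : Subgroup Ω, F.Hom P = (innerFusionSystem S).Hom P) {U : Subgroup Ω}
    (N : FusionSystem (normalizerIn S U)) (hN : F.IsNormalizerSystem U N) (P : Subgroup Ω) :
    N.Hom P = (innerFusionSystem (normalizerIn S U)).Hom P := by
  refine Set.ext fun φ => ⟨fun hφ => ?_, fun hφ => ?_⟩
  · obtain ⟨hP, -, g, hg, hge, hgi⟩ := (fn_normalizerSystem hN).1 (fn_ofHom hφ)
    obtain ⟨ψ, hψ, hψg⟩ := id hg
    rw [h] at hψ
    obtain ⟨-, s, hs, hsx⟩ := hψ
    have hgs : ∀ x ∈ P ⊔ U, g x = s * x * s⁻¹ := fun x hx => (hψg ⟨x, hx⟩).symm.trans (hsx ⟨x, hx⟩)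
    refine ⟨hP, s, ⟨hs, ?_⟩, fun x => ?_⟩
    · have := finite_of_le_base ((le_sup_right : U ≤ P ⊔ U).trans hg.le)
      refine mem_normalizer_of_map_le fun x hx => ?_
      rw [← hgs x (Subgroup.mem_sup_right hx)]
      exact hgi.le (mem_img_of_mem hx)
    · rw [← hgs x (Subgroup.mem_sup_left x.2), hge x x.2, ofHom_coe]
  · obtain ⟨hP, g, hg, hgx⟩ := hφ
    exact mem_hom_of_fn (fn_conj (F := N) hP hg) hgx

/-- Glauberman-Thompson for saturated systems. -/
theorem pAut_of_zjA (hp : p ≠ 2) (hS : IsPGroup p S) (hF : F.IsSaturated p)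
    (h : LocPAut p F (centerThompsonAOf S)) : PAut p F :=
  pAut_of_wOf (W := fun Q _ => zjA Q) zjA_ne_bot zjA_map (zjA_detects hp) hS hF (wOf_zjA' S ▸ h)

theorem eq_inner_iff_zjA (hp : p ≠ 2) (hS : IsPGroup p S) (hF : F.IsSaturated p) :
    (∀ P : Subgroup Ω, F.Hom P = (innerFusionSystem S).Hom P) ↔
      ∀ N : FusionSystem (normalizerIn S (centerThompsonAOf S)), F.IsNormalizerSystem (centerThompsonAOf S) N →
        ∀ P : Subgroup Ω, N.Hom P = (innerFusionSystem (normalizerIn S (centerThompsonAOf S))).Hom P := by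
  refine ⟨fun h N hN => normalizer_inner_of_inner h N hN, fun h => hom_eq_inner_of_pAut hS hF ?_⟩
  refine pAut_of_zjA hp hS hF (locPAut_of_normalizer hS (centerThompsonAOf_le S) ?_ h)
  rw [← wOf_zjA' S]
  exact normalizerIn_wOf zjA_map hS

theorem not_pAut_of_ne (hS : IsPGroup p S) (hF : F.IsSaturated p)
    (h : ¬ ∀ P : Subgroup Ω, F.Hom P = (innerFusionSystem S).Hom P) : ¬ PAut p F :=
  fun hP => h (hom_eq_inner_of_pAut hS hF hP)

/-- A saturated system whose proper saturated subsystems on `S` are inner, itself not inner, is constrained. -/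
theorem constrained_of_minimal (hp : p ≠ 2) (hS : IsPGroup p S) (hF : F.IsSaturated p)
    (hprop : ∀ E : FusionSystem S, E ≤ F → ¬ F ≤ E → E.IsSaturated p → PAut p E) (hne : ¬ PAut p F) :
    F.IsConstrained p := by
  by_contra hcon
  have hcent : ¬ centralizerIn S F.core ≤ F.core := fun h =>
    hcon ⟨hF, F.core, core_normal, normal_centric core_normal h⟩
  refine hne ?_
  by_cases hc1 : F.core = ⊥
  · refine pAut_of_zjA hp hS hF ?_
    rw [← wOf_zjA' S]
    set U := wOf (fun Q _ => zjA Q) S with hU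
    have he : normalizerIn S U = S := normalizerIn_wOf zjA_map hS
    have hUn : F.IsFullyNormalized U := ⟨wOf_le _, fun R _ => he.symm ▸ Subgroup.card_le_of_le normalizerIn_le⟩
    have hS1 : S ≠ ⊥ := fun h => hcent (centralizerIn_le.trans (h.le.trans bot_le))
    have hU1 : U ≠ ⊥ := wOf_ne_bot zjA_ne_bot hS hS1
    intro P hP hUP α hα hi
    obtain ⟨s, hs, hse⟩ := conj_of_proper_normalizer hS hF hprop hUn he
      (fun hle => hU1 (le_bot_iff.1 (hc1 ▸ hle))) ((mem_autGroup_iff_fn hP).1 hα) hUP hi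
    exact pPow_of_conj hS hs hse
  · exact pAut_of_core (W := fun Q _ => zjA Q) zjA_ne_bot zjA_map hS hF hprop
      (fun S' _ _ hp' E hE hl => pAut_of_zjA hp hp' hE (wOf_zjA' S' ▸ hl)) hc1 hcent

end CfsgLib.Fsys
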