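import Cfsg.Agent.Lib.Solvable.ThompsonComplement
import Cfsg.Agent.Lib.FusionSystem.ThompsonFactor
import Cfsg.Agent.Lib.FusionSystem.LocalModels
import Cfsg.Agent.Lib.FusionSystem.SectionFree
import Cfsg.Agent.Lib.FusionSystem.OffenderSFour

/-!
Thompson's normal `p`-complement theorem for the abelian version of `J`: `p` odd or `S₄` not involved.
-/

set_option autoImplicit false
set_option linter.style.haveILetI false

open scoped Pointwise commutatorElement

namespace CfsgLib.Fsys.ThompsonA

open CfsgLib.Solvable CfsgLib.Solvable.Basic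
open CfsgLib.Solvable.ThompsonComplement (npc_of_le' npc_of_quotient_coprime centerOf_ne_bot normalizer_le_centerOf map_conj_le_of_normalizer)

universe u

variable {G : Type u} [Group G] {p : ℕ}

theorem thompsonA_le (U : Subgroup G) : Cfsg.thompsonSubgroupAOf U ≤ U := Subgroup.map_subtype_le _

theorem thompsonA_ne_bot [Finite G] {U : Subgroup G} (_hU : IsPGroup p U) (h : U ≠ ⊥) :
    Cfsg.thompsonSubgroupAOf U ≠ ⊥ := by
  haveI : Nontrivial U := (Subgroup.nontrivial_iff_ne_bot U).mpr h
  exact fun e => thompsonSubgroupA_ne_bot U ((Subgroup.map_eq_bot_iff_of_injective _ U.subtype_injective).mp e)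

/-- `J` commutes with maps injective on the subgroup. -/
theorem thompsonA_map {L : Type u} [Group L] [Finite L] (f : L →* G) (U : Subgroup L)
    (hf : Function.Injective (f.comp U.subtype)) :
    Cfsg.thompsonSubgroupAOf (U.map f) = (Cfsg.thompsonSubgroupAOf U).map f := by
  let e₀ : U →* U.map f := MonoidHom.codRestrict (f.comp U.subtype) _ fun x => ⟨x, x.2, rfl⟩
  let e : U ≃* U.map f := MulEquiv.ofBijective e₀
    ⟨fun a b h => hf (congrArg Subtype.val h :), fun ⟨_, x, hx, rfl⟩ => ⟨⟨x, hx⟩, rfl⟩⟩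
  simp only [Cfsg.thompsonSubgroupAOf]
  have he : (Cfsg.thompsonSubgroupA U).map e.toMonoidHom = Cfsg.thompsonSubgroupA (U.map f) :=
    le_antisymm (Subgroup.map_le_iff_le_comap.2 (sSup_le fun A hA => Subgroup.map_le_iff_le_comap.1
      (le_sSup (maxA_map e hA)))) (sSup_le fun B hB => by
        have hB' : B = (B.map e.symm.toMonoidHom).map e.toMonoidHom := by
          rw [Subgroup.map_map]; ext y; simp
        rw [hB']
        exact Subgroup.map_mono (le_sSup (maxA_map e.symm hB)))
  rw [← he, Subgroup.map_map, Subgroup.map_map]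
  rfl

theorem normalizer_le_thompsonA [Finite G] (U : Subgroup G) :
    Subgroup.normalizer (U : Set G) ≤ Subgroup.normalizer (Cfsg.thompsonSubgroupAOf U : Set G) := by
  intro g hg
  rw [Subgroup.mem_normalizer_iff_map_conj_eq] at hg ⊢
  exact (thompsonA_map (MulAut.conj g).toMonoidHom U
    ((MulAut.conj g).injective.comp U.subtype_injective)).symm.trans (congrArg Cfsg.thompsonSubgroupAOf hg)

theorem thompsonA_quotient [Finite G] {N : Subgroup G} [N.Normal] (hN : (Nat.card N).Coprime p) {R : Subgroup G}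
    (hR : IsPGroup p R) : Cfsg.thompsonSubgroupAOf (R.map (QuotientGroup.mk' N)) =
      (Cfsg.thompsonSubgroupAOf R).map (QuotientGroup.mk' N) :=
  thompsonA_map _ R (Fusion.Quotient.inj_of_pGroup hN hR)

/-- A coprime group fixing the elements of order `p` of an abelian `p`-group centralizes it. -/
theorem le_centralizer_of_fix_abelian [Finite G] [Fact p.Prime] {H A : Subgroup G} (hH : IsPGroup p H)
    (hHc : ∀ x ∈ H, ∀ y ∈ H, x * y = y * x) (hA : A ≤ Subgroup.normalizer (H : Set G))
    (hcop : (Nat.card A).Coprime p) (hfix : ∀ x ∈ H, x ^ p = 1 → A ≤ Subgroup.centralizer ({x} : Set G)) :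
    A ≤ Subgroup.centralizer (H : Set G) := by
  have key : ∀ k : ℕ, ∀ x ∈ H, x ^ p ^ k = 1 → ∀ a ∈ A, a * x = x * a := by
    intro k
    induction k with
    | zero => intro x _ hx a _; rw [pow_zero, pow_one] at hx; simp [hx]
    | succ k ih =>
      intro x hx hxk a ha
      have hxp := ih (x ^ p) (H.pow_mem hx p) (by rw [← pow_mul, ← pow_succ']; exact hxk) a ha
      have hax : a * x * a⁻¹ ∈ H := (Subgroup.mem_normalizer_iff.mp (hA ha) x).mp hx
      set c := a * x * a⁻¹ * x⁻¹ with hc
      have hcH : c ∈ H := H.mul_mem hax (H.inv_mem hx)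
      clear_value c
      have hcp : c ^ p = 1 := by
        rw [hc, (show Commute (a * x * a⁻¹) x⁻¹ from hHc _ hax _ (H.inv_mem hx)).mul_pow, conj_pow, inv_pow, hxp,
          mul_inv_cancel_right, mul_inv_cancel]
      have hca : a * c * a⁻¹ = c := mul_inv_eq_iff_eq_mul.mpr
        (Subgroup.mem_centralizer_singleton_iff.mp (hfix c hcH hcp ha))
      have it : ∀ i : ℕ, a ^ i * x * (a ^ i)⁻¹ = c ^ i * x := by
        intro i
        induction i with
        | zero => simp
        | succ i ih2 =>
          calc a ^ (i + 1) * x * (a ^ (i + 1))⁻¹ = a * (a ^ i * x * (a ^ i)⁻¹) * a⁻¹ := by rw [pow_succ']; group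
            _ = (a * c ^ i * a⁻¹) * (a * x * a⁻¹) := by rw [ih2]; group
            _ = c ^ i * (c * x) := by rw [← conj_pow, hca, show a * x * a⁻¹ = c * x by rw [hc]; group]
            _ = _ := by rw [pow_succ, mul_assoc]
      have h1 := it (Nat.card A)
      rw [show a ^ Nat.card A = 1 from orderOf_dvd_iff_pow_eq_one.mp (Subgroup.orderOf_dvd_natCard _ ha),
        one_mul, inv_one, mul_one, eq_comm, mul_eq_right] at h1
      have h2 : c = 1 := orderOf_eq_one_iff.mp (Nat.eq_one_of_dvd_coprimes hcop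
        (orderOf_dvd_of_pow_eq_one h1) (orderOf_dvd_of_pow_eq_one hcp))
      exact mul_inv_eq_iff_eq_mul.mp (mul_inv_eq_one.mp (hc ▸ h2))
  intro a ha
  rw [Subgroup.mem_centralizer_iff]
  intro x hx
  obtain ⟨k, hk⟩ := hH ⟨x, hx⟩
  exact (key k x hx (by simpa using congrArg Subtype.val hk) a ha).symm

/-- The hypothesis of Thompson's theorem. -/
def Hyp (p : ℕ) (P : Subgroup G) : Prop :=
  Cfsg.HasNormalPComplement p (Subgroup.normalizer (Cfsg.thompsonSubgroupAOf P : Set G)) ∧
    Cfsg.HasNormalPComplement p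
      (Subgroup.centralizer ((P ⊓ Subgroup.centralizer (P : Set G) : Subgroup G) : Set G))

/-- The hypothesis descends along injective homomorphisms. -/
theorem Hyp.of_map [Finite G] [Fact p.Prime] {L : Type u} [Group L] (f : L →* G)
    (hf : Function.Injective f) {S : Subgroup L} (h : Hyp p (S.map f)) : Hyp p S := by
  haveI : Finite L := Finite.of_injective f hf
  constructor
  · refine npc_of_le' f hf ?_ h.1
    rw [thompsonA_map f S (hf.comp S.subtype_injective)]
    exact Subgroup.le_normalizer_map f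
  · refine npc_of_le' f hf ?_ h.2
    rintro _ ⟨x, hx, rfl⟩
    rw [Subgroup.mem_centralizer_iff]
    rintro _ ⟨⟨s, hs, rfl⟩, hsc⟩
    rw [← map_mul, ← map_mul]
    congr 1
    refine Subgroup.mem_centralizer_iff.mp hx s ⟨hs, Subgroup.mem_centralizer_iff.mpr fun t ht => ?_⟩
    exact hf (by simpa using Subgroup.mem_centralizer_iff.mp hsc _ (Subgroup.mem_map_of_mem f ht))

theorem Hyp.smul [Finite G] [Fact p.Prime] {P : Subgroup G} (h : Hyp p P) (g : G) :
    Hyp p (MulAut.conj g • P) := by
  refine Hyp.of_map (MulAut.conj g⁻¹).toMonoidHom (MulAut.conj g⁻¹).injective ?_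
  rwa [← conj_smul_eq_map, conj_smul_conj_smul, inv_mul_cancel, map_one, one_smul]

theorem npc_aux [Fact p.Prime] : ∀ (n : ℕ) (G : Type u) [Group G] [Finite G],
    Nat.card G = n → (p ≠ 2 ∨ ¬ Cfsg.Involves (Equiv.Perm (Fin 4)) G) →
      ∀ P : Sylow p G, Hyp p (P : Subgroup G) → Cfsg.HasNormalPComplement p G := by
  intro n
  induction n using Nat.strong_induction_on with | _ n ih => ?_
  intro G _ _ hn hs P hyp
  subst hn
  have hpp : p.Prime := Fact.out
  by_contra hG
  have hsub : ∀ L : Subgroup G, p ≠ 2 ∨ ¬ Cfsg.Involves (Equiv.Perm (Fin 4)) L := fun L =>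
    hs.imp_right fun h h' => h (involves_of_injective L.subtype_injective h')
  have hquot : ∀ (K : Subgroup G) [K.Normal], p ≠ 2 ∨ ¬ Cfsg.Involves (Equiv.Perm (Fin 4)) (G ⧸ K) :=
    fun K _ => hs.imp_right fun h h' => h (involves_of_surjective (QuotientGroup.mk'_surjective K) h')
  have hypP : ∀ P' : Sylow p G, Hyp p (P' : Subgroup G) := fun P' => by
    obtain ⟨g, hg⟩ := MulAction.exists_smul_eq G P P'
    rw [← hg, Sylow.coe_subgroup_smul]
    exact hyp.smul g
  -- proper subgroups containing a Sylow subgroup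
  have hproper : ∀ L : Subgroup G, L ≠ ⊤ → ∀ P' : Sylow p G, (P' : Subgroup G) ≤ L →
      Cfsg.HasNormalPComplement p L := fun L hL P' hle => by
    refine ih _ (card_subgroup_lt L hL) L rfl (hsub L) (P'.subtype hle) ?_
    refine Hyp.of_map L.subtype L.subtype_injective ?_
    rw [Sylow.coe_subtype, Subgroup.map_subgroupOf_eq_of_le hle]
    exact hypP P'
  -- some nontrivial `p`-subgroup is normal
  obtain ⟨U₀, hU₀⟩ : ∃ U : Subgroup G, IsPGroup p U ∧ U ≠ ⊥ ∧
      ¬ Cfsg.HasNormalPComplement p (Subgroup.normalizer (U : Set G)) := by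
    by_contra hall
    push Not at hall
    exact hG (Fusion.Alperin.npc_iff_locals.mpr hall)
  obtain ⟨U, ⟨hUp, hU, hUn⟩, hmax⟩ := Set.exists_max_image
    {U : Subgroup G | IsPGroup p U ∧ U ≠ ⊥ ∧
      ¬ Cfsg.HasNormalPComplement p (Subgroup.normalizer (U : Set G))}
    (fun U => (Nat.card (Subgroup.normalizer (U : Set G))).factorization p) (Set.toFinite _)
    ⟨U₀, hU₀⟩
  set N := Subgroup.normalizer (U : Set G) with hN
  obtain ⟨S⟩ : Nonempty (Sylow p N) := inferInstance
  set S₀ := (S : Subgroup N).map N.subtype with hS₀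
  have hS₀p : IsPGroup p S₀ := S.isPGroup'.map _
  obtain ⟨P', hP'⟩ := hS₀p.exists_le_sylow
  have hUS : U ≤ S₀ := by
    haveI : (Subgroup.comap N.subtype U).Normal := Subgroup.normal_in_normalizer
    have h := (hUp.comap_subtype (K := N)).le_sylow_of_normal S
    have h2 : (U.subgroupOf N).map N.subtype ≤ (S : Subgroup N).map N.subtype :=
      Subgroup.map_mono (f := N.subtype) h
    rwa [Subgroup.map_subgroupOf_eq_of_le Subgroup.le_normalizer] at h2
  have hS₀bot : S₀ ≠ ⊥ := fun e => hU (le_bot_iff.mp (e ▸ hUS))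
  have hSeq : S₀ = P' := by
    by_contra hne
    have hlt := CfsgLib.Coprime.lt_normalizer_inf_of_lt P'.isPGroup' (lt_of_le_of_ne hP' hne)
    set T := (P' : Subgroup G) ⊓ Subgroup.normalizer (S₀ : Set G)
    have key : ∀ V : Subgroup G, IsPGroup p V → V ≠ ⊥ →
        Subgroup.normalizer (S₀ : Set G) ≤ Subgroup.normalizer (V : Set G) →
        Cfsg.HasNormalPComplement p (Subgroup.normalizer (V : Set G)) := by
      intro V hVp hV hle
      by_contra hVn
      have h := hmax V ⟨hVp, hV, hVn⟩
      obtain ⟨t, ht⟩ := IsPGroup.iff_card.mp (P'.isPGroup'.to_le (inf_le_left : T ≤ _))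
      have h1 : t ≤ (Nat.card (Subgroup.normalizer (V : Set G))).factorization p := by
        refine (hpp.pow_dvd_iff_le_factorization Nat.card_pos.ne').mp ?_
        rw [← ht]
        exact Subgroup.card_dvd_of_le (inf_le_right.trans hle)
      have h2 : Nat.card S₀ < Nat.card T := by
        by_contra hge
        exact hlt.ne (Subgroup.eq_of_le_of_card_ge hlt.le (not_lt.mp hge))
      rw [Subgroup.card_subtype, S.card_eq_multiplicity, ht,
        Nat.pow_lt_pow_iff_right hpp.one_lt] at h2
      omega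
    refine hUn ?_
    have hNtop : N ≠ ⊤ := by
      intro e
      refine hne (hS₀p |> fun _ => ?_)
      have hle : (P' : Subgroup G) ≤ N := e ▸ le_top
      have h := S.3 (P'.subtype hle).2 (by
        intro x hx
        exact Subgroup.mem_subgroupOf.mpr (hP' (Subgroup.mem_map_of_mem _ hx)))
      rw [hS₀, ← h, Sylow.coe_subtype, Subgroup.map_subgroupOf_eq_of_le hle]
    refine ih _ (card_subgroup_lt N hNtop) N rfl (hsub N) S (Hyp.of_map N.subtype N.subtype_injective
      ⟨key _ (hS₀p.to_le (thompsonA_le _))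
          (thompsonA_ne_bot hS₀p hS₀bot)
          (normalizer_le_thompsonA _), ?_⟩)
    exact Fusion.Basic.npc_of_le (Subgroup.centralizer_le_normalizer _)
      (key _ (hS₀p.to_le inf_le_left) (centerOf_ne_bot hS₀p hS₀bot) (normalizer_le_centerOf _))
  have hUnormal : U.Normal := by
    rw [← Subgroup.normalizer_eq_top_iff]
    by_contra hNtop
    exact hUn (hproper N hNtop P' (hSeq ▸ Subgroup.map_subtype_le _))
  haveI := hUnormal
  set Q := Cfsg.pCore p G with hQdef
  haveI hQn : Q.Normal := Subgroup.sSup_normal _ fun _ h => h.1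
  have hQbot : Q ≠ ⊥ := fun e => hU (le_bot_iff.mp (e ▸ Cores.le_pCore hUp))
  -- the `p'`-core is trivial
  have hO : Cfsg.pPrimeCore p G = ⊥ := by
    by_contra hK
    set K := Cfsg.pPrimeCore p G
    haveI : K.Normal := Subgroup.sSup_normal _ fun _ h => h.1
    have hKc := Cores.coprime_card_pPrimeCore (G := G) p
    refine hG (npc_of_quotient_coprime K hKc ?_)
    set q := QuotientGroup.mk' K with hq
    have hqs := QuotientGroup.mk'_surjective K
    refine ih _ (card_quotient_lt K hK) (G ⧸ K) rfl (hquot K) (P.mapSurjective hqs) ⟨?_, ?_⟩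
    · rw [Sylow.coe_mapSurjective, thompsonA_quotient hKc P.isPGroup',
        Fusion.Quotient.normalizer_map hKc
          (P.isPGroup'.to_le (thompsonA_le _))]
      exact Fusion.Basic.npc_of_surjective (q.subgroupMap _) (q.subgroupMap_surjective _) hyp.1
    · have hZ : ((P : Subgroup G).map q) ⊓
          Subgroup.centralizer (((P : Subgroup G).map q : Subgroup (G ⧸ K)) : Set (G ⧸ K)) =
          ((P : Subgroup G) ⊓ Subgroup.centralizer ((P : Subgroup G) : Set G)).map q := by
        refine le_antisymm ?_ ?_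
        · rintro _ ⟨⟨x, hx, rfl⟩, hc⟩
          refine ⟨x, ⟨hx, Subgroup.mem_centralizer_iff.mpr fun r hr => ?_⟩, rfl⟩
          exact congrArg Subtype.val (Fusion.Quotient.inj_of_pGroup hKc P.isPGroup'
            (a₁ := ⟨r, hr⟩ * ⟨x, hx⟩) (a₂ := ⟨x, hx⟩ * ⟨r, hr⟩)
            (by
              show q (r * x) = q (x * r)
              rw [map_mul, map_mul]
              exact Subgroup.mem_centralizer_iff.mp hc _ ⟨r, hr, rfl⟩))
        · rintro _ ⟨x, ⟨hx, hc⟩, rfl⟩
          refine ⟨⟨x, hx, rfl⟩, Subgroup.mem_centralizer_iff.mpr ?_⟩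
          rintro _ ⟨r, hr, rfl⟩
          rw [← map_mul, ← map_mul, Subgroup.mem_centralizer_iff.mp hc r hr]
      rw [Sylow.coe_mapSurjective, hZ,
        Components.centralizer_map_mk hKc (P.isPGroup'.to_le inf_le_left)]
      exact Fusion.Basic.npc_of_surjective (q.subgroupMap _) (q.subgroupMap_surjective _) hyp.2
  have hQP : Q ≤ (P : Subgroup G) := Cores.pCore_le_sylow P
  have hQp : IsPGroup p Q := Cores.isPGroup_pCore p
  have hPQ : ¬ (P : Subgroup G) ≤ Q := by
    intro h
    have e : Subgroup.normalizer (Cfsg.thompsonSubgroupAOf (P : Subgroup G) : Set G) = ⊤ := by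
      rw [eq_top_iff]
      refine le_trans ?_ (normalizer_le_thompsonA _)
      rw [le_antisymm h hQP, Subgroup.normalizer_eq_top]
    refine hG ((Fusion.Basic.npc_congr Subgroup.topEquiv).mp ?_)
    rw [← e]
    exact hyp.1
  -- the quotient by `O_p(G)` has a normal `p`-complement
  set q := QuotientGroup.mk' Q with hq
  have hqs := QuotientGroup.mk'_surjective Q
  set Pb := P.mapSurjective hqs with hPb
  have hPbne : (Pb : Subgroup (G ⧸ Q)) ≠ ⊥ := by
    rw [Sylow.coe_mapSurjective, Ne, Subgroup.map_eq_bot_iff, QuotientGroup.ker_mk']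
    exact hPQ
  have hnpcQ : Cfsg.HasNormalPComplement p (G ⧸ Q) := by
    have key : ∀ V : Subgroup (G ⧸ Q), V ≤ (Pb : Subgroup (G ⧸ Q)) → V ≠ ⊥ →
        (Pb : Subgroup (G ⧸ Q)) ≤ Subgroup.normalizer (V : Set (G ⧸ Q)) →
        Cfsg.HasNormalPComplement p (Subgroup.normalizer (V : Set (G ⧸ Q))) := by
      intro V hVP hV hPV
      have hne : (Subgroup.normalizer (V : Set (G ⧸ Q))).comap q ≠ ⊤ := by
        intro e
        have hVn : V.Normal := by
          rw [← Subgroup.normalizer_eq_top_iff,
            ← Subgroup.map_comap_eq_self_of_surjective hqs (Subgroup.normalizer (V : Set (G ⧸ Q))),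
            e, Subgroup.map_top_of_surjective _ hqs]
        haveI := hVn.comap q
        refine hV ?_
        have hle : V.comap q ≤ Q := Cores.le_pCore ((Pb.isPGroup'.to_le hVP).comap_of_ker_isPGroup q
          (by rw [QuotientGroup.ker_mk']; exact hQp))
        rw [← Subgroup.map_comap_eq_self_of_surjective hqs V, Subgroup.map_eq_bot_iff,
          QuotientGroup.ker_mk']
        exact hle
      have hPle : (P : Subgroup G) ≤ (Subgroup.normalizer (V : Set (G ⧸ Q))).comap q := by
        rw [← Subgroup.map_le_iff_le_comap]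
        exact hPV
      exact Fusion.Basic.npc_of_surjective
        (q.subgroupComap (Subgroup.normalizer (V : Set (G ⧸ Q))))
        (MonoidHom.subgroupComap_surjective_of_surjective _ _ hqs) (hproper _ hne P hPle)
    refine ih _ (card_quotient_lt Q hQbot) (G ⧸ Q) rfl (hquot Q) Pb ⟨?_, ?_⟩
    · exact key _ (thompsonA_le _)
        (thompsonA_ne_bot Pb.isPGroup' hPbne)
        (Subgroup.le_normalizer.trans (normalizer_le_thompsonA _))
    · exact Fusion.Basic.npc_of_le (Subgroup.centralizer_le_normalizer _)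
        (key _ inf_le_left (centerOf_ne_bot Pb.isPGroup' hPbne)
          (Subgroup.le_normalizer.trans (normalizer_le_centerOf _)))
  have hCQ : Subgroup.centralizer (Q : Set G) ≤ Q :=
    Fusion.PSolvable.centralizer_pCore_le
      (Fusion.PSolvable.psolvable_cons Q (Or.inl hQp) (Fusion.PSolvable.psolvable_of_npc hnpcQ)) hO
  -- the Sylow subgroup is maximal
  have hPtop : (P : Subgroup G) ≠ ⊤ := fun e =>
    hG (Fusion.Basic.npc_of_isPGroup ((e ▸ P.isPGroup' : IsPGroup p (⊤ : Subgroup G)).of_equiv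
      Subgroup.topEquiv))
  have hmaxP : ∀ L : Subgroup G, (P : Subgroup G) ≤ L → L ≠ ⊤ → L = P := by
    intro L hle hL
    have hnpc := hproper L hL P hle
    set O := (Cfsg.pResidual p L).map L.subtype with hOdef
    have hOc : (Nat.card O).Coprime p := by
      rw [hOdef, Subgroup.card_subtype]
      exact Fusion.Basic.npc_iff_coprime.mp hnpc
    have hOQ : Q ⊓ O = ⊥ := Fusion.Basic.inf_eq_bot_of_coprime hQp hOc
    have hObot : O = ⊥ := by
      rw [eq_bot_iff, ← hOQ]
      refine le_inf (le_trans (fun x hx => ?_) hCQ) le_rfl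
      rw [Subgroup.mem_centralizer_iff]
      intro y hy
      obtain ⟨x', hx', rfl⟩ := hx
      have hyL : y ∈ L := hle (hQP hy)
      have h1 : y * (x' : G) * y⁻¹ ∈ O :=
        ⟨⟨y, hyL⟩ * x' * ⟨y, hyL⟩⁻¹,
          (Fusion.Basic.pResidual_normal).conj_mem x' hx' ⟨y, hyL⟩, rfl⟩
      have h2 : y * (x' : G) * y⁻¹ * (x' : G)⁻¹ ∈ Q ⊓ O := by
        refine ⟨?_, O.mul_mem h1 (O.inv_mem (Subgroup.mem_map_of_mem _ hx'))⟩
        rw [show y * (x' : G) * y⁻¹ * (x' : G)⁻¹ = y * ((x' : G) * y⁻¹ * (x' : G)⁻¹) by group]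
        exact Q.mul_mem hy (hQn.conj_mem _ (Q.inv_mem hy) _)
      rw [hOQ, Subgroup.mem_bot, mul_inv_eq_one, mul_inv_eq_iff_eq_mul] at h2
      exact h2
    have hLp : IsPGroup p L := by
      have hb : Cfsg.pResidual p L = ⊥ :=
        (Subgroup.map_eq_bot_iff_of_injective _ L.subtype_injective).mp hObot
      intro x
      obtain ⟨k, hk⟩ := Fusion.Basic.isPGroup_quotient_pResidual (G := L) (p := p) (QuotientGroup.mk x)
      refine ⟨k, ?_⟩
      rw [← QuotientGroup.mk_pow, QuotientGroup.eq_one_iff, hb, Subgroup.mem_bot] at hk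
      exact hk
    exact P.3 hLp hle
  -- the structure of `G / Q`
  set Kb := Cfsg.pResidual p (G ⧸ Q)
  have hKbc : (Nat.card Kb).Coprime p := Fusion.Basic.npc_iff_coprime.mp hnpcQ
  have hKPtop : Kb ⊔ (Pb : Subgroup (G ⧸ Q)) = ⊤ := Fusion.Basic.pResidual_sup_sylow Pb
  have hPbmax : ∀ X : Subgroup (G ⧸ Q), (Pb : Subgroup (G ⧸ Q)) ≤ X → X ≠ ⊤ → X = Pb := by
    intro X hle hX
    have h := hmaxP (X.comap q) (Subgroup.map_le_iff_le_comap.mp hle) fun e => hX (by
      rw [← Subgroup.map_comap_eq_self_of_surjective hqs X, e,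
        Subgroup.map_top_of_surjective _ hqs])
    rw [← Subgroup.map_comap_eq_self_of_surjective hqs X, h]
    rfl
  obtain ⟨kP, hkP⟩ := IsPGroup.iff_card.mp Pb.isPGroup'
  have hsmall : ∀ E : Subgroup (G ⧸ Q), E ≤ Kb →
      (Pb : Subgroup (G ⧸ Q)) ≤ Subgroup.normalizer (E : Set (G ⧸ Q)) → E = ⊥ ∨ E = Kb := by
    intro E hE hnorm
    by_cases htop : E ⊔ (Pb : Subgroup (G ⧸ Q)) = ⊤
    · right
      refine Subgroup.eq_of_le_of_card_ge hE (Nat.le_of_dvd Nat.card_pos ?_)
      have h1 := Fusion.Thompson.card_sup_mul_card_inf hnorm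
      rw [htop, Subgroup.card_top] at h1
      refine (hKbc.pow_right kP).dvd_of_dvd_mul_right ?_
      rw [← hkP, ← h1]
      exact Dvd.dvd.mul_right Kb.card_subgroup_dvd_card _
    · left
      have h := hPbmax _ le_sup_right htop
      rw [eq_bot_iff]
      intro x hx
      have hxP : x ∈ (Pb : Subgroup (G ⧸ Q)) := h ▸ Subgroup.mem_sup_left hx
      rw [Subgroup.mem_bot, ← orderOf_eq_one_iff]
      exact Nat.eq_one_of_dvd_coprimes (hKbc.pow_right kP)
        (Subgroup.orderOf_dvd_natCard _ (hE hx)) (hkP ▸ Subgroup.orderOf_dvd_natCard _ hxP)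
  have hKbne : Kb ≠ ⊥ := by
    intro e
    rw [e, bot_sup_eq] at hKPtop
    refine hPtop (top_le_iff.mp fun x _ => ?_)
    have : q x ∈ (Pb : Subgroup (G ⧸ Q)) := hKPtop ▸ Subgroup.mem_top _
    obtain ⟨y, hy, hyx⟩ := this
    have := (QuotientGroup.eq.mp hyx)
    simpa using (P : Subgroup G).mul_mem hy (hQP this)
  obtain ⟨r, hr, hrK⟩ := Nat.exists_prime_and_dvd (Subgroup.card_eq_one.not.mpr hKbne)
  haveI := Fact.mk hr
  have hrp : r ≠ p := fun e => hpp.ne_one (Nat.eq_one_of_dvd_coprimes hKbc (e ▸ hrK) dvd_rfl)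
  haveI := Pb.isPGroup'.isNilpotent
  obtain ⟨R, hR⟩ := CfsgLib.Coprime.exists_invariant_sylow
    (A := (Pb : Subgroup (G ⧸ Q))) (K := Kb) (by rw [Subgroup.normalizer_eq_top]; exact le_top)
    (hkP ▸ (hKbc.pow_right kP).symm) (Or.inl inferInstance) r
  have hKr : IsPGroup r Kb := by
    rcases hsmall _ (Subgroup.map_subtype_le _) hR with e | e
    · exfalso
      rw [Subgroup.map_eq_bot_iff_of_injective _ Kb.subtype_injective] at e
      have := R.not_dvd_index
      rw [e, Subgroup.index_bot] at this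
      exact this hrK
    · exact e ▸ R.isPGroup'.map _
  have hKcomm : ∀ x ∈ Kb, ∀ y ∈ Kb, x * y = y * x := by
    haveI := hKr.isNilpotent
    haveI : Nontrivial Kb := (Subgroup.nontrivial_iff_ne_bot Kb).mpr hKbne
    rcases hsmall ((commutator Kb).map Kb.subtype) (Subgroup.map_subtype_le _)
      (by rw [Subgroup.normalizer_eq_top]; exact le_top) with e | e
    · intro x hx y hy
      rw [Subgroup.map_eq_bot_iff_of_injective _ Kb.subtype_injective] at e
      have h : ⁅(⟨x, hx⟩ : Kb), ⟨y, hy⟩⁆ ∈ commutator Kb :=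
        Subgroup.commutator_mem_commutator (Subgroup.mem_top _) (Subgroup.mem_top _)
      rw [e, Subgroup.mem_bot, commutatorElement_eq_one_iff_mul_comm] at h
      exact congrArg Subtype.val h
    · exfalso
      refine (Group.IsSolvable.commutator_lt_top_of_nontrivial Kb).ne ?_
      apply Subgroup.map_injective Kb.subtype_injective
      rw [e, ← MonoidHom.range_eq_map, Subgroup.range_subtype]
  have hnormal_small : ∀ X : Subgroup (G ⧸ Q), X.Normal → IsPGroup p X → X = ⊥ := by
    intro X hX hXp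
    haveI := hX.comap q
    have hle : X.comap q ≤ Q :=
      Cores.le_pCore (hXp.comap_of_ker_isPGroup q (by rw [QuotientGroup.ker_mk']; exact hQp))
    rw [← Subgroup.map_comap_eq_self_of_surjective hqs X, Subgroup.map_eq_bot_iff,
      QuotientGroup.ker_mk']
    exact hle
  have hCPK : (Pb : Subgroup (G ⧸ Q)) ⊓ Subgroup.centralizer (Kb : Set (G ⧸ Q)) = ⊥ := by
    refine hnormal_small _ ?_ (Pb.isPGroup'.to_le inf_le_left)
    rw [← Subgroup.normalizer_eq_top_iff, eq_top_iff, ← hKPtop]
    refine sup_le ?_ ?_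
    · refine le_trans ?_ (Subgroup.centralizer_le_normalizer _)
      exact Subgroup.le_centralizer_iff.mp inf_le_right
    · exact le_trans (le_inf Subgroup.le_normalizer (by rw [Subgroup.normalizer_eq_top]; exact le_top))
        (Subgroup.inf_normalizer_le_normalizer_inf (H := (Pb : Subgroup (G ⧸ Q)))
          (K := Subgroup.centralizer (Kb : Set (G ⧸ Q))))
  -- the module
  let W : Subgroup G :=
    { carrier := {x | x ∈ Q ⊓ Subgroup.centralizer (Q : Set G) ∧ x ^ p = 1}
      one_mem' := ⟨one_mem _, one_pow p⟩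
      mul_mem' := fun {a b} ha hb => ⟨mul_mem ha.1 hb.1, by
        rw [(show Commute a b from Subgroup.mem_centralizer_iff.mp hb.1.2 a ha.1.1).mul_pow, ha.2,
          hb.2, one_mul]⟩
      inv_mem' := fun {a} ha => ⟨inv_mem ha.1, by rw [inv_pow, ha.2, inv_one]⟩ }
  have hWn : W.Normal := ⟨fun x hx g => ⟨Subgroup.Normal.conj_mem inferInstance x hx.1 g, by
    rw [conj_pow, hx.2, mul_one, mul_inv_cancel]⟩⟩
  haveI := hWn
  have hWQ : W ≤ Q := fun x hx => hx.1.1
  have hWEA : Cfsg.IsElementaryAbelian p W :=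
    ⟨isMulCommutative_subgroup_iff.mpr fun a ha b hb =>
      Subgroup.mem_centralizer_iff.mp hb.1.2 a ha.1.1, fun a ha => ha.2⟩
  set CW := Subgroup.centralizer (W : Set G) with hCWdef
  have hQCW : Q ≤ CW := fun x hx => Subgroup.mem_centralizer_iff.mpr fun w hw =>
    (Subgroup.mem_centralizer_iff.mp hw.1.2 x hx).symm
  have hCW : CW ≤ Q := by
    haveI : (CW.map q).Normal := Subgroup.Normal.map inferInstance q hqs
    have hint : CW.map q ⊓ Kb = ⊥ := by
      refine (hsmall _ inf_le_right ?_).resolve_right fun e => ?_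
      · rw [Subgroup.normalizer_eq_top]; exact le_top
      have hKle : Kb ≤ CW.map q := inf_eq_right.mp e
      obtain ⟨T⟩ : Nonempty (Sylow r G) := inferInstance
      have hTCW : (T : Subgroup G) ≤ CW := by
        intro t ht
        have hidx : Kb.relIndex ⊤ = p ^ kP := by
          have h1 := Fusion.Thompson.card_sup_mul_card_inf
            (N := Kb) (K := (Pb : Subgroup (G ⧸ Q))) (by rw [Subgroup.normalizer_eq_top]; exact le_top)
          have h2 : Kb ⊓ (Pb : Subgroup (G ⧸ Q)) = ⊥ := by
            rw [inf_comm]; exact Fusion.Basic.inf_eq_bot_of_coprime Pb.isPGroup' hKbc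
          rw [h2, Subgroup.card_bot, mul_one, hKPtop, Subgroup.card_top, ← Kb.card_mul_index,
            hkP] at h1
          rw [Subgroup.relIndex_top_right]
          exact Nat.eq_of_mul_eq_mul_left Nat.card_pos h1
        have hTK : (T : Subgroup G).map q ≤ Kb := by
          refine Carter.le_of_coprime_relIndex (C := ⊤)
            (by rw [Subgroup.normalizer_eq_top]) le_top ?_
          rw [hidx]
          obtain ⟨k, hk⟩ := IsPGroup.iff_card.mp (T.isPGroup'.map q)
          rw [hk]
          exact ((Nat.coprime_primes hr hpp).mpr hrp).pow k kP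
        obtain ⟨c, hc, hct⟩ := hKle (hTK (Subgroup.mem_map_of_mem q ht))
        have h := QuotientGroup.eq.mp hct
        simpa using CW.mul_mem hc (hQCW h)
      have hTZ : (T : Subgroup G) ≤
          Subgroup.centralizer ((Q ⊓ Subgroup.centralizer (Q : Set G) : Subgroup G) : Set G) := by
        refine le_centralizer_of_fix_abelian (p := p) (hQp.to_le inf_le_left)
          (fun x hx y hy => Subgroup.mem_centralizer_iff.mp hy.2 x hx.1)
          (by rw [Subgroup.normalizer_eq_top]; exact le_top) ?_ fun x hx hxp => ?_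
        · obtain ⟨k, hk⟩ := IsPGroup.iff_card.mp T.isPGroup'
          rw [hk]
          exact ((Nat.coprime_primes hr hpp).mpr hrp).pow_left k
        · intro t ht
          rw [Subgroup.mem_centralizer_singleton_iff]
          exact (Subgroup.mem_centralizer_iff.mp (hTCW ht) x ⟨hx, hxp⟩).symm
      have hZP : (P : Subgroup G) ⊓ Subgroup.centralizer ((P : Subgroup G) : Set G) ≤
          Q ⊓ Subgroup.centralizer (Q : Set G) := by
        have h : (P : Subgroup G) ⊓ Subgroup.centralizer ((P : Subgroup G) : Set G) ≤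
            Subgroup.centralizer (Q : Set G) := inf_le_right.trans (Subgroup.centralizer_le hQP)
        exact le_inf (h.trans hCQ) h
      set CZ := Subgroup.centralizer
        (((P : Subgroup G) ⊓ Subgroup.centralizer ((P : Subgroup G) : Set G) : Subgroup G) : Set G)
      have hPCZ : (P : Subgroup G) ≤ CZ := Subgroup.le_centralizer_iff.mp inf_le_right
      have hTC : (T : Subgroup G) ≤ CZ := hTZ.trans (Subgroup.centralizer_le hZP)
      have htop : CZ = ⊤ := by
        by_contra hne
        have hTP : (T : Subgroup G) ≤ P := hmaxP CZ hPCZ hne ▸ hTC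
        have hdG : r ∣ Nat.card G :=
          (hrK.trans Kb.card_subgroup_dvd_card).trans (Q.index_eq_card ▸ Q.index_dvd_card)
        obtain ⟨k, hk⟩ := IsPGroup.iff_card.mp P.isPGroup'
        have h := T.not_dvd_index
        have hT1 : Nat.card (T : Subgroup G) = 1 := by
          obtain ⟨j, hj⟩ := IsPGroup.iff_card.mp T.isPGroup'
          refine Nat.eq_one_of_dvd_coprimes (((Nat.coprime_primes hr hpp).mpr hrp).pow j k)
            hj.dvd (hk ▸ Subgroup.card_dvd_of_le hTP)
        rw [Subgroup.card_eq_one] at hT1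
        rw [hT1, Subgroup.index_bot] at h
        exact h hdG
      refine hG ((Fusion.Basic.npc_congr Subgroup.topEquiv).mp ?_)
      rw [← htop]
      exact hyp.2
    have hp' : IsPGroup p (CW.map q) := by
      refine Pb.isPGroup'.to_le ?_ |>.of_equiv (MulEquiv.refl _)
      -- `CW` centralises `Kb`, hence meets `Kb P` inside `P`
      intro x hx
      have hxK : x ∈ Subgroup.centralizer (Kb : Set (G ⧸ Q)) := by
        haveI : Kb.Normal := Fusion.Basic.pResidual_normal
        exact Subgroup.mem_centralizer_iff.mpr fun y hy =>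
          (Subgroup.commute_of_normal_of_disjoint (CW.map q) Kb inferInstance inferInstance
            (disjoint_iff.mpr hint) x y hx hy).eq.symm
      have hx' : x ∈ (Kb : Set (G ⧸ Q)) * ((Pb : Subgroup (G ⧸ Q)) : Set (G ⧸ Q)) := by
        haveI : Kb.Normal := Fusion.Basic.pResidual_normal
        rw [← Subgroup.normal_mul, hKPtop]; trivial
      obtain ⟨k, hk, y, hy, rfl⟩ := hx'
      have hkc : k ∈ Subgroup.centralizer (Kb : Set (G ⧸ Q)) :=
        Subgroup.mem_centralizer_iff.mpr fun z hz => hKcomm z hz k hk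
      have hyc : y ∈ (Pb : Subgroup (G ⧸ Q)) ⊓ Subgroup.centralizer (Kb : Set (G ⧸ Q)) :=
        ⟨hy, by simpa using mul_mem (inv_mem hkc) hxK⟩
      rw [hCPK, Subgroup.mem_bot] at hyc
      subst hyc
      have : k ∈ CW.map q ⊓ Kb := ⟨by simpa using hx, hk⟩
      rw [hint, Subgroup.mem_bot] at this
      simp [this]
    have h := hnormal_small _ inferInstance hp'
    rwa [Subgroup.map_eq_bot_iff, QuotientGroup.ker_mk'] at h
  have hJn : ¬ (Cfsg.thompsonSubgroupAOf (P : Subgroup G)).Normal := by
    intro h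
    refine hG ((Fusion.Basic.npc_congr Subgroup.topEquiv).mp ?_)
    rw [← Subgroup.normalizer_eq_top_iff.mpr h]
    exact hyp.1
  have hCWeq : CW = Q := le_antisymm hCW hQCW
  have hKn : ∀ x ∈ Kb.comap q, x ^ Nat.card Kb ∈ Q := by
    intro x hx
    rw [← QuotientGroup.eq_one_iff, QuotientGroup.mk_pow, ← orderOf_dvd_iff_pow_eq_one]
    exact Subgroup.orderOf_dvd_natCard _ hx
  by_cases hp2 : p = 2
  · -- an abelian subgroup of largest order outside `Q` gives a section `S₄`
    subst hp2
    have hns : ¬ Cfsg.Involves (Equiv.Perm (Fin 4)) G := hs.resolve_left (fun h => h rfl)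
    obtain ⟨A₀, hA₀, hA₀Q⟩ : ∃ A₀ ∈ Cfsg.maxAbelianSubgroups (P : Subgroup G),
        ¬ A₀.map (P : Subgroup G).subtype ≤ Q := by
      by_contra hall
      push Not at hall
      have hall' : ∀ A ∈ Cfsg.maxAbelianSubgroups (P : Subgroup G), A.map (P : Subgroup G).subtype ≤ Q := hall
      have hPp : ∀ u ∈ (P : Subgroup G), u ^ Nat.card (P : Subgroup G) = 1 := Fusion.ZJBridge.sylow_pow_card P
      have hJQ : Cfsg.thompsonSubgroupAOf (P : Subgroup G) ≤ Q :=
        Subgroup.map_le_iff_le_comap.mpr (sSup_le fun A hA => Subgroup.map_le_iff_le_comap.mp (hall' A hA))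
      refine hJn (Subgroup.normalizer_eq_top_iff.mp (top_le_iff.mp ?_))
      rw [Fusion.ZJBridge.thompsonAOf_eq_J hPp] at hJQ ⊢
      rw [← Fusion.ZJGeneral.J_eq_of_le hQP hJQ]
      refine le_trans ?_ (le_of_eq_of_le rfl ((normalizer_le_thompsonA Q).trans (le_of_eq ?_)))
      · rw [Subgroup.normalizer_eq_top]
      · rw [Fusion.ZJBridge.thompsonAOf_eq_J fun u hu => hPp u (hQP hu)]
    set A := A₀.map (P : Subgroup G).subtype with hAdef
    have hAP : A ≤ (P : Subgroup G) := Subgroup.map_subtype_le _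
    haveI hAab : IsMulCommutative A := by haveI := hA₀.1; infer_instance
    have hAc := isMulCommutative_subgroup_iff.mp hAab
    haveI : Kb.Normal := Fusion.Basic.pResidual_normal
    refine hns (sfour_of_offender (K := Kb.comap q) hWEA (n := Nat.card Kb)
      (Nat.odd_iff.mpr (Nat.two_dvd_ne_zero.mp ((hpp.coprime_iff_not_dvd).mp hKbc.symm)))
      ?_ (fun x hx => hQCW (hKn x hx)) (P.isPGroup'.to_le hAP) hAc (fun h => hA₀Q (h.trans hCW)) ?_ ?_)
    · intro x hx y hy
      refine hQCW ((QuotientGroup.eq_one_iff _).mp ?_)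
      show q ⁅x, y⁆ = 1
      rw [map_commutatorElement, commutatorElement_eq_one_iff_mul_comm]
      exact hKcomm _ hx _ hy
    · intro a ha h
      have : q a ∈ (Pb : Subgroup (G ⧸ Q)) ⊓ Subgroup.centralizer (Kb : Set (G ⧸ Q)) := by
        refine ⟨Subgroup.mem_map_of_mem q (hAP ha), Subgroup.mem_centralizer_iff.mpr fun k hk => ?_⟩
        obtain ⟨g, rfl⟩ := hqs k
        have hg := (QuotientGroup.eq_one_iff _).mpr (hCW (h g hk))
        rw [← QuotientGroup.mk'_apply, map_commutatorElement, commutatorElement_eq_one_iff_mul_comm] at hg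
        exact hg.symm
      rw [hCPK, Subgroup.mem_bot] at this
      exact hQCW ((QuotientGroup.eq_one_iff a).mp this)
    · -- `(A ∩ Q) W` is abelian
      set B := A ⊓ CW with hB
      have hBW : ∀ b ∈ B, ∀ w ∈ W, b * w = w * b := fun b hb w hw =>
        (Subgroup.mem_centralizer_iff.mp hb.2 w hw).symm
      have hab : IsMulCommutative (W ⊔ B : Subgroup G) := by
        rw [← Subgroup.closure_eq B, ← Subgroup.closure_eq W, ← Subgroup.closure_union]
        refine Subgroup.isMulCommutative_closure ?_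
        rintro y (hy | hy) z (hz | hz)
        · exact isMulCommutative_subgroup_iff.mp hWEA.1 y hy z hz
        · exact (hBW z hz y hy).symm
        · exact hBW y hy z hz
        · exact hAc y hy.1 z hz.1
      have hle : W ⊔ B ≤ (P : Subgroup G) := sup_le (hWQ.trans hQP) (inf_le_left.trans hAP)
      have hmax := hA₀.2 ((W ⊔ B).subgroupOf P) (by haveI := hab; infer_instance)
      rw [Nat.card_congr (Subgroup.subgroupOfEquivOfLe hle).toEquiv,
        ← Subgroup.card_map_of_injective (f := (P : Subgroup G).subtype) (K := A₀) (Subgroup.subtype_injective _),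
        ← hAdef] at hmax
      have hc := Fusion.Thompson.card_sup_mul_card_inf (N := W) (K := B)
        (by rw [Subgroup.normalizer_eq_top]; exact le_top)
      have hWB : W ⊓ Subgroup.centralizer (B : Set G) = W :=
        inf_eq_left.mpr fun w hw => Subgroup.mem_centralizer_iff.mpr fun b hb => hBW b hb w hw
      have hWi : W ⊓ B ≤ W ⊓ Subgroup.centralizer (A : Set G) :=
        inf_le_inf_left _ (inf_le_left.trans A.le_centralizer)
      show Nat.card B * Nat.card (W ⊓ Subgroup.centralizer (B : Set G) : Subgroup G) ≤ _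
      rw [hWB, mul_comm (Nat.card B), ← hc]
      exact Nat.mul_le_mul hmax (Subgroup.card_le_of_le hWi)
  -- quadratic action, `p` odd
  have hp : p ≠ 2 := hp2
  obtain ⟨a, haP, haQ, hq2⟩ := exists_quadratic_of_jA P hJn
  letI : CommGroup W :=
    { (inferInstance : Group W) with
      mul_comm := fun x y => Subtype.ext
        (isMulCommutative_subgroup_iff.mp hWEA.1 x x.2 y y.2) }
  let ρ : G →* AddMonoid.End (Additive W) :=
    { toFun := fun g => MonoidHom.toAdditive (MulAut.conjNormal (H := W) g).toMonoidHom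
      map_one' := by
        refine AddMonoidHom.ext fun v => ?_
        apply Additive.toMul.injective
        refine Subtype.ext ?_
        show (1 : G) * ((Additive.toMul v : W) : G) * (1 : G)⁻¹ = ((Additive.toMul v : W) : G)
        simp
      map_mul' := fun g h => by
        refine AddMonoidHom.ext fun v => ?_
        apply Additive.toMul.injective
        refine Subtype.ext ?_
        show (g * h) * ((Additive.toMul v : W) : G) * (g * h)⁻¹ =
          g * (h * ((Additive.toMul v : W) : G) * h⁻¹) * g⁻¹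
        group }
  have hρker : ∀ g : G, ρ g = 1 ↔ g ∈ CW := by
    intro g
    rw [hCWdef, Subgroup.mem_centralizer_iff]
    constructor
    · intro h w hw
      have e := congrArg
        (fun f : AddMonoid.End (Additive W) => ((Additive.toMul (f (Additive.ofMul ⟨w, hw⟩)) : W) : G)) h
      change g * w * g⁻¹ = w at e
      exact (mul_inv_eq_iff_eq_mul.mp e).symm
    · intro h
      refine AddMonoidHom.ext fun v => ?_
      apply Additive.toMul.injective
      refine Subtype.ext ?_
      show g * ((Additive.toMul v : W) : G) * g⁻¹ = ((Additive.toMul v : W) : G)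
      rw [← h _ (Additive.toMul v : W).2, mul_inv_cancel_right]
  have hR0 : (p : AddMonoid.End (Additive W)) = 0 := by
    refine DFunLike.ext _ _ fun v => ?_
    rw [AddMonoid.End.natCast_apply]
    apply Additive.toMul.injective
    rw [toMul_nsmul]
    refine Subtype.ext ?_
    rw [Subgroup.coe_pow]
    exact hWEA.2 _ (Additive.toMul v : W).2
  have hquad : (ρ a - 1) * (ρ a - 1) = 0 := by
    refine AddMonoidHom.ext fun v => ?_
    apply Additive.toMul.injective
    refine Subtype.ext ?_
    set w : G := ((Additive.toMul v : W) : G) with hw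
    show a * (a * w * a⁻¹ / w) * a⁻¹ / (a * w * a⁻¹ / w) = 1
    simp only [div_eq_mul_inv]
    have hwW : w ∈ W := (Additive.toMul v : W).2
    have hwV : w ∈ (Subgroup.center ↥Q).map Q.subtype := ⟨⟨w, hWQ hwW⟩, Subgroup.mem_center_iff.mpr fun y =>
      Subtype.ext (Subgroup.mem_centralizer_iff.mp hwW.1.2 _ y.2), rfl⟩
    have h1 := Subgroup.commutator_mem_commutator (Subgroup.commutator_mem_commutator hwV
      (Subgroup.mem_zpowers a)) (Subgroup.mem_zpowers a)
    rw [hq2, Subgroup.mem_bot, commutatorElement_eq_one_iff_mul_comm] at h1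
    have e : a * w * a⁻¹ * w⁻¹ = ⁅w, a⁆⁻¹ := by simp only [commutatorElement_def]; group
    rw [e]
    have h2 : a * ⁅w, a⁆⁻¹ = ⁅w, a⁆⁻¹ * a := (Commute.inv_left (show Commute ⁅w, a⁆ a from h1)).eq.symm
    rw [h2]; group
  have hρQ : ∀ x : G, x ∈ Q → ρ x = 1 := fun x hx => (hρker x).mpr (hQCW hx)
  refine haQ ?_
  have hK1 : ∀ g ∈ Kb.comap q, g * a * g⁻¹ * a⁻¹ ∈ Q := by
    intro g hg
    refine hCW ((hρker _).mp (ThompsonReplacement.quadratic_commutator hp hR0 ρ hquad ?_ hg ?_ ?_))
    · haveI : Kb.Normal := Fusion.Basic.pResidual_normal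
      rw [Subgroup.normalizer_eq_top]; trivial
    · intro x hx y hy
      show ρ x * ρ y = ρ y * ρ x
      have e : q (x * y * (y * x)⁻¹) = 1 := by
        rw [map_mul, map_inv, map_mul, map_mul, hKcomm _ hx _ hy, mul_inv_cancel]
      have h := hρQ _ ((QuotientGroup.eq_one_iff _).mp e)
      calc ρ x * ρ y = ρ (x * y * (y * x)⁻¹) * (ρ y * ρ x) := by
            rw [← map_mul, ← map_mul, ← map_mul, inv_mul_cancel_right]
        _ = ρ y * ρ x := by rw [h, one_mul]
    · intro x hx
      refine ⟨Nat.card Kb, hKbc, ?_⟩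
      rw [← map_pow]
      exact hρQ _ (hKn x hx)
  have : q a ∈ (Pb : Subgroup (G ⧸ Q)) ⊓ Subgroup.centralizer (Kb : Set (G ⧸ Q)) := by
    refine ⟨Subgroup.mem_map_of_mem q haP, Subgroup.mem_centralizer_iff.mpr fun k hk => ?_⟩
    obtain ⟨g, rfl⟩ := hqs k
    rw [← commutatorElement_eq_one_iff_mul_comm, ← map_commutatorElement]
    exact (QuotientGroup.eq_one_iff _).mpr (hK1 g hk)
  rw [hCPK, Subgroup.mem_bot] at this
  exact (QuotientGroup.eq_one_iff a).mp this

/-- **Thompson's normal `p`-complement theorem**, abelian version of `J`. -/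
theorem npc_of_thompsonA [Finite G] [Fact p.Prime] (hs : p ≠ 2 ∨ ¬ Cfsg.Involves (Equiv.Perm (Fin 4)) G)
    (P : Sylow p G)
    (h1 : Cfsg.HasNormalPComplement p
      (Subgroup.normalizer (Cfsg.thompsonSubgroupAOf (P : Subgroup G) : Set G)))
    (h2 : Cfsg.HasNormalPComplement p (Subgroup.centralizer
      (((P : Subgroup G) ⊓ Subgroup.centralizer (P : Set G) : Subgroup G) : Set G))) :
    Cfsg.HasNormalPComplement p G :=
  npc_aux _ G rfl hs P ⟨h1, h2⟩

end CfsgLib.Fsys.ThompsonA
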