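import Cfsg.Agent.Lib.FusionSystem.ControlFrattini
/-
Control of fusion: if a functor `W` is normal in every `H`-free constrained group, then `W(S)` is normal in
every `H`-free saturated system (the argument of Kessar and Linckelmann).
-/
set_option autoImplicit false

namespace CfsgLib.Fsys

open Cfsg
open Cfsg.FusionSystem (centralizerIn normalizerIn imageAlong preimageAlong)

universe u

/-- `W(A)` inside the ambient group. -/
def wOf (W : ∀ (Q : Type u) [Group Q], Subgroup Q) {Ω : Type u} [Group Ω] (A : Subgroup Ω) : Subgroup Ω :=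
  (W ↥A).map A.subtype

variable {W : ∀ (Q : Type u) [Group Q], Subgroup Q}

theorem wOf_le {Ω : Type u} [Group Ω] (A : Subgroup Ω) : wOf W A ≤ A := Subgroup.map_subtype_le _

theorem wOf_ne_bot {p : ℕ} (hW1 : ∀ (Q : Type u) [Group Q] [Finite Q], IsPGroup p Q → Nontrivial Q → W Q ≠ ⊥)
    {Ω : Type u} [Group Ω] {A : Subgroup Ω} [Finite A] (hA : IsPGroup p A) (hne : A ≠ ⊥) : wOf W A ≠ ⊥ := by
  intro h
  exact hW1 ↥A hA (A.nontrivial_iff_ne_bot.2 hne)
    ((Subgroup.map_eq_bot_iff_of_injective _ A.subtype_injective).1 h)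

theorem map_wOf {p : ℕ}
    (hW2 : ∀ (Q R : Type u) [Group Q] [Group R] [Finite Q], IsPGroup p Q → ∀ φ : Q ≃* R, (W Q).map φ.toMonoidHom = W R)
    {Ω : Type u} [Group Ω] {S : Subgroup Ω} {F : FusionSystem S} [Finite S] (hS : IsPGroup p S)
    {A : Subgroup Ω} {f : Ω → Ω} (hf : Fn F A f) : img f (wOf W A) = wOf W (img f A) := by
  have := finite_of_le_base hf.le
  let e : A ≃* img f A := MulEquiv.ofBijective
    (MonoidHom.mk' (fun x : A => (⟨f x, mem_img_of_mem x.2⟩ : img f A))
      fun a b => Subtype.ext (hf.map_mul a.2 b.2))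
    ⟨fun a b h => Subtype.ext (hf.inj a.2 b.2 (congrArg Subtype.val h)), fun y => by
      obtain ⟨x, hx, hxy⟩ := hf.mem_img.1 y.2
      exact ⟨⟨x, hx⟩, Subtype.ext hxy⟩⟩
  have h := hW2 ↥A ↥(img f A) (hS.to_le hf.le) e
  unfold wOf
  rw [← h]
  refine le_antisymm (img_le ?_) ?_
  · rintro _ ⟨x, hx, rfl⟩
    exact ⟨e x, ⟨x, hx, rfl⟩, rfl⟩
  · rintro _ ⟨_, ⟨x, hx, rfl⟩, rfl⟩
    exact mem_img_of_mem (f := f) ⟨x, hx, rfl⟩

variable {p : ℕ} [Fact p.Prime] {H : Type*} [Group H]

/-- Control of fusion by `W(S)` in section-free systems. -/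
theorem wOf_normal (hW1 : ∀ (Q : Type u) [Group Q] [Finite Q], IsPGroup p Q → Nontrivial Q → W Q ≠ ⊥)
    (hW2 : ∀ (Q R : Type u) [Group Q] [Group R] [Finite Q], IsPGroup p Q → ∀ φ : Q ≃* R, (W Q).map φ.toMonoidHom = W R)
    (hW3 : ∀ (L : Type u) [Group L] [Finite L] (P : Sylow p L),
      Subgroup.centralizer ((pCore p L : Subgroup L) : Set L) =
        pCore p L ⊓ Subgroup.centralizer ((pCore p L : Subgroup L) : Set L) →
      ¬ Involves H L → (((W ↥(P : Subgroup L)).map (P : Subgroup L).subtype : Subgroup L)).Normal)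
    {Ω : Type u} [Group Ω] {S : Subgroup Ω} [Finite S] (hS : IsPGroup p S) (F : FusionSystem S)
    (hF : F.IsSaturated p) (hfree : F.IsSectionFree p H) : F.IsNormal (wOf W S) := by
  -- induction on the order of `S`, then on the number of maps
  suffices key : ∀ n : ℕ, ∀ {Ω : Type u} [Group Ω] (S : Subgroup Ω) [Finite S], Nat.card S = n → IsPGroup p S →
      ∀ m : ℕ, ∀ (F : FusionSystem S), (homSet F).ncard = m → F.IsSaturated p → F.IsSectionFree p H →
        F.IsNormal (wOf W S) from key _ S rfl hS _ F rfl hF hfree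
  intro n
  induction n using Nat.strong_induction_on with
  | _ n ihn =>
  intro Ω _ S _ hn hS m
  induction m using Nat.strong_induction_on with
  | _ m ihm =>
  intro F hm hF hfree
  have hWS : wOf W S ≤ S := wOf_le S
  have ihF : ∀ E : FusionSystem S, E ≤ F → ¬ F ≤ E → E.IsSaturated p → E.IsSectionFree p H → E.IsNormal (wOf W S) :=
    fun E hle hne hsat hfr => ihm _ (hm ▸ homSet_lt hle hne) E rfl hsat hfr
  by_cases hS1 : S = ⊥
  · rw [show wOf W S = ⊥ from le_bot_iff.1 (hWS.trans hS1.le)]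
    exact normal_bot
  -- normalizer systems over `S` itself
  have hnormS : ∀ U : Subgroup Ω, F.IsFullyNormalized U → normalizerIn S U = S →
      ∃ E : FusionSystem S, E ≤ F ∧ E.IsSaturated p ∧ E.IsSectionFree p H ∧ E.IsNormal U ∧
        (∀ {P : Subgroup Ω} {f : Ω → Ω}, Fn F P f → U ≤ P → img f U = U → Fn E P f) := by
    intro U hU he
    obtain ⟨N, hN⟩ := exists_normalizerSystem F hU.1
    obtain ⟨E, hE⟩ := exists_cast he N
    have hfn : ∀ {P : Subgroup Ω} {f : Ω → Ω}, Fn E P f ↔ Fn N P f := fun {P f} => by rw [Fn, Fn, hE]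
    refine ⟨E, fun P φ hφ => normalizerSystem_sub hN P (hE P ▸ hφ),
      system_cast (C := fun _ E => E.IsSaturated p) he hE (normalizerSystem_saturated hS hF hU hN),
      system_cast (C := fun _ E => E.IsSectionFree p H) he hE (normalizer_sectionFree hS hF hfree hU hN),
      system_cast (C := fun _ E => E.IsNormal U) he hE (normalizerSystem_normal hN hU.1), ?_⟩
    intro P f hf hle hi
    exact hfn.2 ((fn_normalizerSystem hN).2 ⟨hf.le.trans he.ge, fun x hx => he.ge (hf.mem hx), f,
      by rwa [sup_eq_left.2 hle], fun x _ => rfl, hi⟩)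
  set Q₀ := F.core with hQ₀def
  have hQ₀ : F.IsNormal Q₀ := core_normal
  have hsc₀ := normal_stronglyClosed hQ₀
  by_cases hcent : centralizerIn S Q₀ ≤ Q₀
  · -- constrained: use the model
    obtain ⟨G, _, ι, hG⟩ := exists_model hS ⟨hF, Q₀, hQ₀, normal_centric hQ₀ hcent⟩
    obtain ⟨hfin, hι, ⟨T, hT⟩, hce⟩ := id hG
    have hinv := not_involves_of_model hS hF hfree (normal_centric hQ₀ hcent) (fun _ => subset_rfl) hQ₀ hG
    have hn' := hW3 G T (le_antisymm (le_inf hce le_rfl) inf_le_right) hinv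
    let e : S ≃* (T : Subgroup G) := (MonoidHom.ofInjective hι.1).trans (MulEquiv.subgroupCongr hT.symm)
    have hWe := hW2 ↥S ↥(T : Subgroup G) hS e
    have hle : (W ↥(T : Subgroup G)).map (T : Subgroup G).subtype ≤ ι.range :=
      (Subgroup.map_subtype_le _).trans hT.le
    have h := normal_of_normal_realized hι hle
    convert h using 1
    rw [← hWe]
    refine le_antisymm ?_ ?_
    · rintro _ ⟨x, hx, rfl⟩
      exact ⟨x, ⟨e x, ⟨x, hx, rfl⟩, rfl⟩, rfl⟩
    · rintro _ ⟨x, ⟨_, ⟨y, hy, rfl⟩, hye⟩, rfl⟩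
      have : x = y := hι.1 hye.symm
      exact ⟨y, hy, by rw [this]⟩
  by_cases hQ₀1 : Q₀ ≠ ⊥
  · -- Frattini along the core
    set Q₁ := Q₀ ⊔ centralizerIn S Q₀ with hQ₁def
    have hsc₁ : F.StronglyClosed Q₁ := stronglyClosed_sup_centralizer hS hF hsc₀
    obtain ⟨N₁, hN₁F, hN₁s, hN₁f, hN₁n, hN₁m⟩ := hnormS Q₁
      (fullyNormalized_of_weaklyClosed (weaklyClosed_of_stronglyClosed hsc₁))
      (inf_eq_left.2 (sc_le_normalizer hsc₁))
    have h₁ : N₁.IsNormal (wOf W S) := ihF N₁ hN₁F (fun hle => hcent (by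
      have hn : F.IsNormal Q₁ := by rwa [system_ext (E := F) (E' := N₁) fun P => (hle P).antisymm (hN₁F P)]
      exact le_sup_right.trans (le_core hn))) hN₁s hN₁f
    obtain ⟨F₂, hF₂s, hF₂F, hF₂n, hF₂m, hF₂i⟩ := exists_innerOn hS hF hQ₀
    have hdec : ∀ {P : Subgroup Ω} {f : Ω → Ω}, Fn F P f → Q₁ ≤ P → Fn N₁ P f := fun hf hle =>
      hN₁m hf hle (sc_img hsc₁ hle hf)
    by_cases hall : F ≤ F₂
    · -- pass to the factor system
      have hinner : ∀ {P : Subgroup Ω} {f : Ω → Ω}, Fn F P f →
          ∃ g, Fn F (P ⊔ Q₀) g ∧ (∀ x ∈ P, g x = f x) ∧ ∃ s ∈ S, ∀ x ∈ Q₀, g x = s * x * s⁻¹ := fun hf =>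
        hF₂i (fn_of_le hall hf)
      have hQn : (Q₀.subgroupOf S).Normal :=
        ⟨fun x hx s => sc_conj hsc₀ s.2 hx⟩
      let θ : S →* S ⧸ Q₀.subgroupOf S := QuotientGroup.mk' _
      obtain ⟨E, hE⟩ := exists_factorSystem (F := F) hsc₀ θ (fun s => QuotientGroup.eq_one_iff s) rfl
      have hEs : E.IsSaturated p := surjectiveMorphism_saturated hS hF (factor_surjectiveMorphism hS hF hsc₀ hE)
      have hEf : E.IsSectionFree p H := factor_sectionFree hS hF hQ₀ hfree hE
      have hfinR : Finite θ.range := inferInstance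
      have hcard : Nat.card θ.range < n := by
        rw [← hn, MonoidHom.range_eq_top.2 (QuotientGroup.mk'_surjective _), Subgroup.card_top]
        have h1 := (Q₀.subgroupOf S).card_eq_card_quotient_mul_card_subgroup
        have h2 : 1 < Nat.card (Q₀.subgroupOf S) := by
          rw [Nat.card_congr (Subgroup.subgroupOfEquivOfLe hQ₀.1).toEquiv]
          have := finite_of_le_base hQ₀.1
          exact Subgroup.one_lt_card_iff_ne_bot _ |>.2 hQ₀1
        rw [h1]
        exact lt_mul_of_one_lt_right Nat.card_pos h2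
      have hpr : IsPGroup p θ.range := hS.of_surjective θ.rangeRestrict θ.rangeRestrict_surjective
      have hnE := ihn _ hcard θ.range rfl hpr _ E rfl hEs hEf
      have hY := normal_preimage hS hF hQ₀ hinner hE hnE
      have hle : preimageAlong θ (wOf W θ.range) ≤ Q₀ := le_core hY
      have hbot : wOf W θ.range = ⊥ := by
        rw [← imageAlong_preimageAlong (α := θ) (P' := wOf W θ.range) (wOf_le _)]
        refine (Subgroup.eq_bot_iff_forall _).2 fun y hy => ?_
        obtain ⟨x, hx, hxS, rfl⟩ := mem_imageAlong.1 hy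
        exact (factor_ker hE hxS).2 (hle hx)
      refine absurd hbot (wOf_ne_bot hW1 hpr fun hr => hcent fun x hx => ?_)
      have hxS := (mem_centralizerIn.1 hx).1
      have h1 : θ ⟨x, hxS⟩ ∈ θ.range := ⟨_, rfl⟩
      rw [hr, Subgroup.mem_bot] at h1
      exact (QuotientGroup.eq_one_iff (⟨x, hxS⟩ : S)).1 h1
    · have h₂ : F₂.IsNormal (wOf W S) := by
        refine ihF F₂ hF₂F hall hF₂s ?_
        refine sectionFree_of_radical hS hF₂s fun R hR hRc hRr M hM L _ ι hL => ?_
        have hQR : Q₀ ≤ R := normal_le_centricRadical hS hF₂n hRc hRr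
        have hRF : F.IsCentric R := by
          refine ⟨hRc.1, fun R' hR' => ?_⟩
          obtain ⟨χ, hχ, rfl⟩ := isConj_iff.1 hR'
          obtain ⟨a', ha', ha'χ, ha'i⟩ := (hχ.mono hQR).exists_inv
          rw [sc_img hsc₀ hQR hχ] at ha' ha'i
          obtain ⟨D, b, hb, hQD, hD, hbe⟩ := receptive_extend (fullyNormalized_receptive hS hF
            (fullyNormalized_of_weaklyClosed (weaklyClosed_of_stronglyClosed hsc₀))) ha' ha'i
          have hQ₁D : Q₁ ≤ D := sup_le hQD fun c hc => (hD c).2 (inExt_of_commute hc)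
          have hχD : img χ R ≤ D := img_le fun x hx => by
            refine (hD _).2 ⟨hχ.mem hx, sc_le_normalizer hsc₀ (hχ.mem hx), x, hχ.le hx, fun y hy => ?_⟩
            obtain ⟨q, hq, rfl⟩ := (hχ.mono hQR).mem_img.1 ((sc_img hsc₀ hQR hχ).ge hy)
            have hxq : x * q * x⁻¹ ∈ Q₀ := sc_conj hsc₀ (hχ.le hx) hq
            rw [← hχ.map_conj hx (hQR hq), ha'χ _ hxq, ha'χ q hq]
          have hmD : ∀ x ∈ R, χ x ∈ D := fun x hx => hχD (mem_img_of_mem hx)
          have hc₂ : Fn F₂ R (b ∘ χ) := hF₂m (hχ.comp hb hmD) hQR ⟨1, S.one_mem, fun x hx => by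
            show b (χ x) = _
            rw [hbe _ ((sc_img hsc₀ hQR hχ).le (mem_img_of_mem hx)), ha'χ x hx]
            simp⟩
          intro c hc
          have hc' := mem_centralizerIn.1 hc
          have hcQ : c ∈ centralizerIn S Q₀ := mem_centralizerIn.2 ⟨hc'.1, fun y hy =>
            hc'.2 y (img_mono hQR ((sc_img hsc₀ hQR hχ).ge hy))⟩
          have hcD : c ∈ D := hQ₁D (Subgroup.mem_sup_right hcQ)
          have h1 : b c ∈ img (b ∘ χ) R := hRc.2 _ (isConj_of_fn hc₂) (mem_centralizerIn.2 ⟨hb.mem hcD, fun y hy => by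
            obtain ⟨x, hx, rfl⟩ := hc₂.mem_img.1 hy
            show b (χ x) * b c = b c * b (χ x)
            rw [← hb.map_mul (hmD x hx) hcD, ← hb.map_mul hcD (hmD x hx), hc'.2 _ (mem_img_of_mem hx)]⟩)
          obtain ⟨x, hx, hxe⟩ := hc₂.mem_img.1 h1
          exact hb.inj (hmD x hx) hcD hxe ▸ mem_img_of_mem hx
        exact not_involves_of_model hS hF hfree hRF
          (fun P φ hφ => hF₂F P (normalizerSystem_sub hM P hφ)) (normalizerSystem_normal hM hRc.1) hL
      exact normal_of_frattini hS hF hQ₀ hdec hN₁F hF₂F hF₂m h₁ h₂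
  -- trivial core
  push_neg at hQ₀1
  have hSn : S ≤ Subgroup.normalizer (wOf W S : Set Ω) := by
    intro s hs
    have hf := fn_conj (F := F) (le_refl S) hs
    have h := map_wOf hW2 hS hf
    rw [hf.img_eq_self fun x hx => hf.mem hx] at h
    have := finite_of_le_base hWS
    exact mem_normalizer_of_map_le fun x hx => h.le (mem_img_of_mem hx)
  obtain ⟨E, hE⟩ := exists_cast (kN_top.trans (inf_eq_left.2 hSn) : kN S (wOf W S) ⊤ = S)
    (kSystem F (wOf W S) hWS ⊤)
  have hEfn : ∀ {P : Subgroup Ω} {f : Ω → Ω}, Fn E P f ↔ KMap F (wOf W S) ⊤ P f := fun {P f} => by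
    rw [← fn_kSystem (hQ := hWS), Fn, Fn, hE]
  have hES : ∀ {D : Subgroup Ω} {f : Ω → Ω}, Fn F D f → wOf W S ≤ D → img f (wOf W S) = wOf W S → Fn E D f := by
    intro D f hf hle hi
    have hkS : kN S (wOf W S) ⊤ = S := kN_top.trans (inf_eq_left.2 hSn)
    exact hEfn.2 ⟨hkS.symm ▸ hf.le, fun x hx => hkS.symm ▸ hf.mem hx, f, by rwa [sup_eq_left.2 hle],
      fun x _ => rfl, (ind_top_iff hf hle).2 hi⟩
  have htop : F.autGroup S ≤ E.autGroup S := fun α hα => by
    have hf := (mem_autGroup_iff_fn le_rfl).1 hα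
    refine (mem_autGroup_iff_fn le_rfl).2 (hES hf hWS ?_)
    have h := map_wOf hW2 hS hf
    rwa [img_autFn] at h
  -- climbing
  have hA : ∀ U : Subgroup Ω, U ≠ ⊥ → F.IsFullyNormalized U →
      ∀ (D : Subgroup Ω) (f : Ω → Ω), U ≤ D → D ≤ normalizerIn S U → Fn F D f → img f U = U → Fn E D f := by
    suffices hk : ∀ k : ℕ,
        (∀ U : Subgroup Ω, U ≠ ⊥ → F.IsFullyNormalized U → Nat.card S - Nat.card (normalizerIn S U) < k →
          ∀ (D : Subgroup Ω) (f : Ω → Ω), U ≤ D → D ≤ normalizerIn S U → Fn F D f → img f U = U → Fn E D f) ∧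
        (∀ (P : Subgroup Ω) (f : Ω → Ω), Nat.card S - Nat.card P < k + 1 → Fn F P f → Fn E P f) from
      fun U h1 h2 => (hk (Nat.card S - Nat.card (normalizerIn S U) + 1)).1 U h1 h2 (Nat.lt_succ_self _)
    intro k
    induction k with
    | zero =>
      refine ⟨fun U _ _ h => absurd h (Nat.not_lt_zero _), fun P f h hf => ?_⟩
      have hP : P = S := eq_of_le_of_card le_rfl hf.le (by omega)
      subst hP
      obtain ⟨α, hα, hαf⟩ := exists_aut_of_fn hf (hf.img_eq_self fun x hx => hf.mem hx)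
      exact ((mem_autGroup_iff_fn le_rfl).1 (htop hα)).congr fun x hx =>
        (autFn_coe α ⟨x, hx⟩).trans (hαf ⟨x, hx⟩)
    | succ k ih =>
      have hA' : ∀ U : Subgroup Ω, U ≠ ⊥ → F.IsFullyNormalized U → Nat.card S - Nat.card (normalizerIn S U) < k + 1 →
          ∀ (D : Subgroup Ω) (f : Ω → Ω), U ≤ D → D ≤ normalizerIn S U → Fn F D f → img f U = U → Fn E D f := by
        intro U hU1 hUn hUk D f hUD hDR hf hfU
        set R := normalizerIn S U with hRdef
        have hRS : R ≤ S := normalizerIn_le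
        have hfinR := finite_of_le_base hRS
        obtain ⟨M, hM⟩ := exists_normalizerSystem F hUn.1
        have hMs := normalizerSystem_saturated hS hF hUn hM
        have hMf := normalizer_sectionFree hS hF hfree hUn hM
        have hMn : M.IsNormal (wOf W R) := by
          rcases eq_or_lt_of_le hRS with he | hlt
          · have hWeq : wOf W R = wOf W S := by rw [he]
            obtain ⟨E', hE'F, hE's, hE'f, hE'n, hE'm⟩ := hnormS U hUn he
            have h' : E'.IsNormal (wOf W S) := ihF E' hE'F (fun hle => hU1 (by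
              have hn' : F.IsNormal U := by rwa [system_ext (E := F) (E' := E') fun P => (hle P).antisymm (hE'F P)]
              exact le_bot_iff.1 (hQ₀1 ▸ le_core hn'))) hE's hE'f
            rw [hWeq]
            refine normal_iff_fn.2 ⟨hWS.trans he.ge, fun P g hg => ?_⟩
            obtain ⟨hP, -, g', hg', hg'e, hg'i⟩ := (fn_normalizerSystem hM).1 hg
            obtain ⟨q, hq, hqe, hqi⟩ := (normal_iff_fn.1 h').2 _ g' (hE'm hg' le_sup_right hg'i)
            refine ⟨q, (fn_normalizerSystem hM).2 ⟨sup_le hP (hWS.trans he.ge), fun x hx => he.ge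
              (hq.mem ((sup_le_sup le_sup_left le_rfl : P ⊔ wOf W S ≤ P ⊔ U ⊔ wOf W S) hx)), q,
              (fn_of_le hE'F hq).mono (sup_le (sup_le_sup le_sup_left le_rfl) (le_sup_right.trans le_sup_left)),
              fun x _ => rfl, ?_⟩, fun x hx => (hqe x (Subgroup.mem_sup_left hx)).trans (hg'e x hx), hqi⟩
            exact (img_congr fun x hx => hqe x (Subgroup.mem_sup_right hx)).trans hg'i
          · exact ihn _ (hn ▸ card_lt_of_lt' hlt) R rfl (hS.to_le hRS) _ M rfl hMs hMf
        have hfM : Fn M D f := (fn_normalizerSystem hM).2 ⟨hDR,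
          fun x hx => hf.map_normalizer hUD hfU hx (hDR hx).2, f, by rwa [sup_eq_left.2 hUD], fun x _ => rfl, hfU⟩
        obtain ⟨g, hg, hge, hgW⟩ := (normal_iff_fn.1 hMn).2 D f hfM
        have hgF : Fn F (D ⊔ wOf W R) g := hg.of_subsystem (normalizerSystem_sub hM)
        suffices hgE : Fn E (D ⊔ wOf W R) g from (hgE.mono le_sup_left).congr hge
        rcases eq_or_lt_of_le hRS with he | hlt
        · have hWeq : wOf W R = wOf W S := by rw [he]
          rw [hWeq] at hgF hgW ⊢
          exact hES hgF le_sup_right hgW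
        · -- climb to the normalizer of `W(R)`
          set W₁ := wOf W R with hW₁
          have hW₁R : W₁ ≤ R := wOf_le R
          have hR1 : R ≠ ⊥ := fun h => hU1 (le_bot_iff.1 ((le_normalizerIn hUn.1).trans h.le))
          have hW₁1 : W₁ ≠ ⊥ := wOf_ne_bot hW1 (hS.to_le hRS) hR1
          have hW₁S : W₁ ≤ S := hW₁R.trans hRS
          have hbig : R < normalizerIn S W₁ := by
            obtain ⟨s, hs, hsN, hsR⟩ := exists_mem_normalizer_not_mem hS le_rfl hlt
            have hR_le : ∀ r ∈ normalizerIn S R, r ∈ normalizerIn S W₁ := fun r hr => by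
              have hfr := fn_conj (F := F) hRS hr.1
              have h := map_wOf hW2 hS hfr
              rw [hfr.img_eq_self fun x hx => (mem_normalizer_iff'.1 hr.2).1 x hx] at h
              have := finite_of_le_base hW₁S
              exact ⟨hr.1, mem_normalizer_of_map_le fun x hx => h.le (mem_img_of_mem hx)⟩
            exact lt_of_le_of_ne (fun r hr => hR_le r ⟨hRS hr, Subgroup.le_normalizer hr⟩)
              fun e => hsR (e.ge (hR_le s hsN))
          obtain ⟨W₂, hW₁₂, hW₂n⟩ := exists_fullyNormalized (F := F) hW₁S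
          obtain ⟨hauto, hcen⟩ := fullyNormalized_good hS hF hW₂n
          obtain ⟨c, hc, hcn, hci⟩ := exists_normalizer_map hS hauto (fullyCentralized_receptive hS hF hcen) hW₁₂
          have hN1S : normalizerIn S W₁ ≤ S := normalizerIn_le
          have hcard1 : Nat.card R < Nat.card (normalizerIn S W₁) := by
            have := finite_of_le_base hN1S
            exact card_lt_of_lt' hbig
          have hc2 : Nat.card (normalizerIn S W₁) ≤ Nat.card (normalizerIn S W₂) :=
            card_le_of_map_le normalizerIn_le hc hcn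
          have hle2 : Nat.card (normalizerIn S W₁) ≤ Nat.card S := Subgroup.card_le_of_le hN1S
          have hcE : Fn E (normalizerIn S W₁) c := ih.2 _ c (by omega) hc
          have hDW : D ⊔ W₁ ≤ normalizerIn S W₁ := sup_le (hDR.trans hbig.le) (le_normalizerIn hW₁S)
          have hgN : ∀ x ∈ D ⊔ W₁, g x ∈ normalizerIn S W₁ := fun x hx =>
            hgF.map_normalizer le_sup_right hgW hx (hDW hx).2
          obtain ⟨d, hd, hdc, hdi⟩ := (hcE.mono hDW).exists_inv
          have hdF : Fn F (img c (D ⊔ W₁)) d := fn_of_le (fun P φ hφ => (hEfn.1 (fn_ofHom hφ)).fn |> mem_hom_iff.2) hd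
          have hdm : ∀ y ∈ img c (D ⊔ W₁), d y ∈ D ⊔ W₁ := fun y hy => by
            obtain ⟨x, hx, rfl⟩ := (hc.mono hDW).mem_img.1 hy
            rw [hdc x hx]
            exact hx
          have hcomp : Fn F (img c (D ⊔ W₁)) (c ∘ g ∘ d) :=
            (hdF.comp hgF hdm).comp hc fun y hy => hgN _ (hdm y hy)
          have hW₂le : W₂ ≤ img c (D ⊔ W₁) := hci.ge.trans (img_mono le_sup_right)
          have himg : img (c ∘ g ∘ d) W₂ = W₂ := by
            refine (hcomp.mono hW₂le).img_eq_self fun y hy => ?_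
            obtain ⟨x, hx, rfl⟩ := (hc.mono (le_normalizerIn hW₁S)).mem_img.1 (hci.ge hy)
            show c (g (d (c x))) ∈ W₂
            rw [hdc x (Subgroup.mem_sup_right hx)]
            exact hci.le (mem_img_of_mem (hgW.le (mem_img_of_mem hx)))
          have hW₂1 : W₂ ≠ ⊥ := fun h => hW₁1 (by
            have h1 := isConj_card hW₁₂
            rw [h, Subgroup.card_bot] at h1
            have := finite_of_le_base hW₁S
            exact Subgroup.card_eq_one.1 h1.symm)
          have hle3 : Nat.card (normalizerIn S W₂) ≤ Nat.card S := Subgroup.card_le_of_le normalizerIn_le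
          have hmid : Fn E (img c (D ⊔ W₁)) (c ∘ g ∘ d) :=
            ih.1 W₂ hW₂1 hW₂n (by omega) _ _ hW₂le (img_le fun x hx => hcn x (hDW hx)) hcomp himg
          obtain ⟨d', hd', hd'c, -⟩ := hcE.exists_inv
          refine (((hcE.mono hDW).comp hmid fun x hx => mem_img_of_mem hx).comp hd' ?_).congr fun x hx => ?_
          · intro x hx
            show c (g (d (c x))) ∈ _
            rw [hdc x hx]
            exact mem_img_of_mem (hgN x hx)
          · show d' (c (g (d (c x)))) = g x
            rw [hdc x hx, hd'c _ (hgN x hx)]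
      refine ⟨hA', fun P f hk hf => ?_⟩
      refine induction_down (S := S) (C := fun P => Nat.card S - Nat.card P < k + 2 → ∀ f, Fn F P f → Fn E P f)
        P hf.le ?_ hk f hf
      intro P hP ihP hk f hf
      by_cases hPk : Nat.card S - Nat.card P < k + 1
      · exact ih.2 P f hPk hf
      rcases eq_or_lt_of_le hP with rfl | hPS
      · exact absurd (by omega) hPk
      have hP1 : ∀ P' : Subgroup Ω, F.IsConj P P' → P' = ⊥ → P = ⊥ := fun P' h h' => by
        have h1 := isConj_card h
        rw [h', Subgroup.card_bot] at h1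
        have := finite_of_le_base hP
        exact Subgroup.card_eq_one.1 h1.symm
      by_cases hPbot : P = ⊥
      · subst hPbot
        exact ((fn_id (F := E) bot_le).congr fun x hx => by
          rw [Subgroup.mem_bot] at hx
          rw [hx, id, hf.map_one])
      obtain ⟨P', hPP', hP'n⟩ := exists_fullyNormalized (F := F) hP
      obtain ⟨hauto, hcen⟩ := fullyNormalized_good hS hF hP'n
      have hr := fullyCentralized_receptive hS hF hcen
      obtain ⟨c, hc, hcn, hci⟩ := exists_normalizer_map hS hauto hr hPP'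
      obtain ⟨c', hc', hc'n, hc'i⟩ :=
        exists_normalizer_map hS hauto hr (isConj_trans (isConj_symm (isConj_of_fn hf)) hPP')
      have hgrow : ∀ X : Subgroup Ω, X ≤ S → Nat.card X = Nat.card P → Nat.card P < Nat.card (normalizerIn S X) := by
        intro X hX hXc
        have hlt : X < S := lt_of_le_of_ne hX fun e => hPS.ne (eq_of_le_of_card le_rfl hP (e ▸ hXc.le))
        have := finite_of_le_base (normalizerIn_le : normalizerIn S X ≤ S)
        exact hXc ▸ card_lt_of_lt' (lt_normalizerIn hS hlt)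
      have hlt1 := hgrow P hP rfl
      have hlt2 := hgrow (img f P) hf.img_le_base hf.card_img
      have hlt3 := hgrow P' hP'n.1 (isConj_card hPP')
      have hb1 : Nat.card (normalizerIn S P) ≤ Nat.card S := Subgroup.card_le_of_le normalizerIn_le
      have hb2 : Nat.card (normalizerIn S (img f P)) ≤ Nat.card S := Subgroup.card_le_of_le normalizerIn_le
      have hb3 : Nat.card (normalizerIn S P') ≤ Nat.card S := Subgroup.card_le_of_le normalizerIn_le
      have hcE : Fn E P c := ((ih.2 _ c (by omega) hc)).mono (le_normalizerIn hP)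
      have hc'E : Fn E (img f P) c' := ((ih.2 _ c' (by omega) hc')).mono (le_normalizerIn hf.img_le_base)
      obtain ⟨d, hd, hdc, hdi⟩ := (hc.mono (le_normalizerIn hP)).exists_inv
      rw [hci] at hd hdi
      obtain ⟨d', hd', hd'c, -⟩ := hc'E.exists_inv
      rw [hc'i] at hd'
      have hmid : Fn F P' (c' ∘ f ∘ d) :=
        (hd.comp hf fun x hx => hdi.le (mem_img_of_mem hx)).comp (hc'.mono (le_normalizerIn hf.img_le_base))
          fun x hx => mem_img_of_mem (hdi.le (mem_img_of_mem hx))
      have hmi : img (c' ∘ f ∘ d) P' = P' := hmid.img_eq_self fun x hx =>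
        hc'i.le (mem_img_of_mem (mem_img_of_mem (hdi.le (mem_img_of_mem hx))))
      have hmidE : Fn E P' (c' ∘ f ∘ d) := hA' P' (fun h => hPbot (hP1 P' hPP' h)) hP'n (by omega) P' _ le_rfl
        (le_normalizerIn hP'n.1) hmid hmi
      have hcm : ∀ x ∈ P, c x ∈ P' := fun x hx => hci.le (mem_img_of_mem hx)
      refine ((hcE.comp hmidE hcm).comp hd' fun x hx => ?_).congr fun x hx => ?_
      · exact hc'i.le (mem_img_of_mem (mem_img_of_mem (hdi.le (mem_img_of_mem (hcm x hx)))))
      · show d' (c' (f (d (c x)))) = f x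
        rw [hdc x hx, hd'c _ (mem_img_of_mem hx)]
  have hle : F ≤ E := le_of_automizers hS hF E htop fun P hPS hP _ α hα => by
    by_cases hP1 : P = ⊥
    · subst hP1
      refine (mem_autGroup_iff_fn bot_le).2 ((fn_id (F := E) bot_le).congr fun x hx => ?_)
      rw [Subgroup.mem_bot] at hx
      rw [hx, id, ((mem_autGroup_iff_fn (F := F) bot_le).1 hα).map_one]
    exact (mem_autGroup_iff_fn hP.1).2
      (hA P hP1 hP P _ le_rfl (le_normalizerIn hP.1) ((mem_autGroup_iff_fn hP.1).1 hα) (img_autFn α))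
  refine normal_iff_fn.2 ⟨hWS, fun P f hf => ?_⟩
  obtain ⟨-, -, g, hg, hge, hgi⟩ := hEfn.1 (fn_of_le hle hf)
  exact ⟨g, hg, hge, hgi.img_eq⟩

end CfsgLib.Fsys
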