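import Cfsg.Agent.Lib.FusionSystem.Saturated
/-
The fusion system `N_F^K(Q)`: maps that extend to `P Q` inducing an element of `K ≤ Aut(Q)` on `Q`.
`K = ⊤` gives the normalizer system and `K = ⊥` the centralizer system.
-/
set_option autoImplicit false

namespace CfsgLib.Fsys

open Cfsg
open Cfsg.FusionSystem (centralizerIn normalizerIn extender)

variable {Ω : Type*} [Group Ω] {S : Subgroup Ω} {F : FusionSystem S} {P Q R : Subgroup Ω}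

/-- `g` induces an element of `K` on `Q`. -/
def Ind (K : Subgroup (MulAut Q)) (g : Ω → Ω) : Prop := ∃ κ ∈ K, ∀ x : Q, g x = (κ x : Q)

variable {K : Subgroup (MulAut Q)} {f g : Ω → Ω}

theorem Ind.congr (h : Ind K g) (he : ∀ x ∈ Q, g x = f x) : Ind K f := by
  obtain ⟨κ, hκ, hx⟩ := h
  exact ⟨κ, hκ, fun x => (he x x.2).symm.trans (hx x)⟩

theorem Ind.mem (h : Ind K g) {x : Ω} (hx : x ∈ Q) : g x ∈ Q := by
  obtain ⟨κ, -, he⟩ := h
  exact he ⟨x, hx⟩ ▸ (κ ⟨x, hx⟩).2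

theorem Ind.img_eq (h : Ind K g) : img g Q = Q := by
  obtain ⟨κ, -, he⟩ := h
  exact (img_congr fun x hx => (he ⟨x, hx⟩).trans (autFn_coe κ ⟨x, hx⟩).symm).trans (img_autFn κ)

theorem Ind.comp (hf : Ind K f) (hg : Ind K g) : Ind K (g ∘ f) := by
  obtain ⟨κ, hκ, he⟩ := hf
  obtain ⟨μ, hμ, hm⟩ := hg
  exact ⟨μ * κ, K.mul_mem hμ hκ, fun x => (congrArg g (he x)).trans (hm (κ x))⟩

theorem Ind.inv (hf : Ind K f) (h : ∀ x ∈ Q, g (f x) = x) : Ind K g := by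
  obtain ⟨κ, hκ, he⟩ := hf
  refine ⟨κ⁻¹, K.inv_mem hκ, fun x => ?_⟩
  have h1 := h _ (κ⁻¹ x).2
  rwa [he, MulAut.apply_inv_self] at h1

theorem ind_id : Ind K (id : Ω → Ω) := ⟨1, K.one_mem, fun x => rfl⟩

theorem ind_top_iff (hg : Fn F P g) (hQ : Q ≤ P) :
    Ind (⊤ : Subgroup (MulAut Q)) g ↔ img g Q = Q := by
  refine ⟨Ind.img_eq, fun hi => ?_⟩
  obtain ⟨α, -, hα⟩ := exists_aut_of_fn (hg.mono hQ) hi
  exact ⟨α, trivial, fun x => (hα x).symm⟩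

theorem ind_bot_iff : Ind (⊥ : Subgroup (MulAut Q)) g ↔ ∀ x ∈ Q, g x = x := by
  constructor
  · rintro ⟨κ, hκ, he⟩ x hx
    rw [Subgroup.mem_bot] at hκ
    subst hκ
    exact he ⟨x, hx⟩
  · exact fun h => ⟨1, Subgroup.one_mem _, fun x => h x x.2⟩

/-- `N_S^K(Q)`. -/
def kN (S Q : Subgroup Ω) (K : Subgroup (MulAut Q)) : Subgroup Ω where
  carrier := {s | s ∈ S ∧ Ind K (fun x => s * x * s⁻¹)}
  one_mem' := ⟨S.one_mem, ind_id.congr fun x _ => by simp⟩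
  mul_mem' := fun {a b} ha hb => ⟨S.mul_mem ha.1 hb.1, (hb.2.comp ha.2).congr fun x _ => by
    simp [mul_assoc]⟩
  inv_mem' := fun {a} ha => ⟨S.inv_mem ha.1, ha.2.inv fun x _ => by group⟩

theorem mem_kN {s : Ω} : s ∈ kN S Q K ↔ s ∈ S ∧ Ind K (fun x => s * x * s⁻¹) := Iff.rfl

theorem kN_le : kN S Q K ≤ S := fun _ h => h.1

theorem kN_le_normalizerIn : kN S Q K ≤ normalizerIn S Q := by
  rintro s ⟨hs, κ, -, he⟩
  exact ⟨hs, mem_normalizer_of_autEq fun x => (he x).symm⟩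

theorem kN_top : kN S Q (⊤ : Subgroup (MulAut Q)) = normalizerIn S Q := by
  refine le_antisymm kN_le_normalizerIn fun s hs => ?_
  exact ⟨hs.1, conjAut Q hs.2, trivial, fun x => (conjAut_coe hs.2 x).symm⟩

theorem kN_bot : kN S Q (⊥ : Subgroup (MulAut Q)) = centralizerIn S Q := by
  ext s
  rw [mem_kN, ind_bot_iff, mem_centralizerIn]
  refine and_congr_right fun _ => forall₂_congr fun x _ => ?_
  rw [mul_inv_eq_iff_eq_mul, eq_comm]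

theorem Fn.img_sup {A B : Subgroup Ω} (h : Fn F (A ⊔ B) f) : img f (A ⊔ B) = img f A ⊔ img f B := by
  refine le_antisymm ?_ (sup_le (img_mono le_sup_left) (img_mono le_sup_right))
  obtain ⟨φ, hφ, hf⟩ := id h
  rw [← Fn.range_eq_img hf, MonoidHom.range_eq_map]
  have e : (⊤ : Subgroup ↥(A ⊔ B)) = A.subgroupOf (A ⊔ B) ⊔ B.subgroupOf (A ⊔ B) := by
    rw [← Subgroup.subgroupOf_sup le_sup_left le_sup_right, Subgroup.subgroupOf_self]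
  rw [e, Subgroup.map_sup]
  refine sup_le_sup ?_ ?_ <;>
  · rintro _ ⟨x, hx, rfl⟩
    rw [hf]
    exact mem_img_of_mem hx

/-- The maps of `N_F^K(Q)` in function form. -/
def KMap (F : FusionSystem S) (Q : Subgroup Ω) (K : Subgroup (MulAut Q)) (P : Subgroup Ω)
    (f : Ω → Ω) : Prop :=
  P ≤ kN S Q K ∧ (∀ x ∈ P, f x ∈ kN S Q K) ∧
    ∃ g, Fn F (P ⊔ Q) g ∧ (∀ x ∈ P, g x = f x) ∧ Ind K g

theorem KMap.fn (h : KMap F Q K P f) : Fn F P f := by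
  obtain ⟨-, -, g, hg, hge, -⟩ := h
  exact (hg.mono le_sup_left).congr hge

variable (F) in
/-- The fusion system `N_F^K(Q)`. -/
def kSystem (Q : Subgroup Ω) (hQ : Q ≤ S) (K : Subgroup (MulAut Q)) :
    FusionSystem (kN S Q K) where
  Hom P := {φ | KMap F Q K P (ofHom φ)}
  le_of_mem := fun {P φ} h => ⟨h.1, fun x => ofHom_coe φ x ▸ h.2.1 x x.2⟩
  injective_of_mem := fun {P φ} h => F.injective_of_mem (mem_hom_iff.2 h.fn)
  conj_mem := fun {P g} hP hg => by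
    refine ⟨hP, fun x hx => ?_, fun x => g * x * g⁻¹,
      fn_conj (sup_le (hP.trans kN_le) hQ) hg.1, fun x hx => (ofHom_apply (conjHom P g) hx).symm, hg.2⟩
    rw [ofHom_apply _ hx]
    exact (kN S Q K).mul_mem ((kN S Q K).mul_mem hg (hP hx)) ((kN S Q K).inv_mem hg)
  comp_mem := fun {P R φ ψ} hφ hψ h => by
    obtain ⟨g, hg, hge, hgQ⟩ := hφ.2.2
    obtain ⟨k, hk, hke, hkQ⟩ := hψ.2.2
    have h1 : img g P ≤ R := img_le fun y hy => by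
      rw [hge y hy, ofHom_apply φ hy]
      exact h ⟨y, hy⟩
    have h2 : img g (P ⊔ Q) ≤ R ⊔ Q := by
      rw [hg.img_sup, hgQ.img_eq]
      exact sup_le (h1.trans le_sup_left) le_sup_right
    have hm : ∀ x ∈ P ⊔ Q, g x ∈ R ⊔ Q := fun x hx => h2 (mem_img_of_mem hx)
    refine ⟨hφ.1, fun x hx => ?_, k ∘ g, hg.comp hk hm, fun x hx => ?_, hgQ.comp hkQ⟩
    · rw [ofHom_apply _ hx]
      exact ofHom_coe ψ _ ▸ hψ.2.1 _ (h ⟨x, hx⟩)
    · rw [ofHom_apply _ hx]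
      show k (g x) = ψ ⟨φ ⟨x, hx⟩, h _⟩
      rw [hge x hx, ofHom_apply φ hx, hke _ (h _), ofHom_apply ψ (h _)]
  inv_mem := fun {P φ} hφ => by
    obtain ⟨g, hg, hge, hgQ⟩ := hφ.2.2
    obtain ⟨ψ, hψ, hψφ⟩ := F.inv_mem (mem_hom_iff.2 hφ.fn)
    obtain ⟨g', hg', hg'g, -⟩ := hg.exists_inv
    have hr : φ.range = img g P := Fn.range_eq_img fun x => ((hge x x.2).trans (ofHom_coe φ x)).symm
    have hi : img g (P ⊔ Q) = φ.range ⊔ Q := by rw [hg.img_sup, hgQ.img_eq, hr]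
    refine ⟨ψ, ⟨?_, ?_, g', hi ▸ hg', ?_, hgQ.inv fun x hx => hg'g x (Subgroup.mem_sup_right hx)⟩, hψφ⟩
    · rintro _ ⟨x, rfl⟩
      exact ofHom_coe φ x ▸ hφ.2.1 x x.2
    · rintro _ ⟨x, rfl⟩
      rw [ofHom_apply ψ ⟨x, rfl⟩, hψφ]
      exact hφ.1 x.2
    · rintro _ ⟨x, rfl⟩
      rw [ofHom_apply ψ ⟨x, rfl⟩, hψφ, ← ofHom_coe φ, ← hge x x.2]
      exact hg'g x (Subgroup.mem_sup_left x.2)

theorem fn_kSystem {hQ : Q ≤ S} : Fn (kSystem F Q hQ K) P f ↔ KMap F Q K P f := by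
  have key : ∀ f' : Ω → Ω, (∀ x ∈ P, f x = f' x) → KMap F Q K P f → KMap F Q K P f' := by
    rintro f' he ⟨h1, h2, g, hg, hge, hgQ⟩
    exact ⟨h1, fun x hx => he x hx ▸ h2 x hx, g, hg, fun x hx => (hge x hx).trans (he x hx), hgQ⟩
  constructor
  · rintro ⟨φ, ⟨h1, h2, g, hg, hge, hgQ⟩, hf⟩
    exact ⟨h1, fun x hx => hf ⟨x, hx⟩ ▸ ofHom_apply φ hx ▸ h2 x hx, g, hg,
      fun x hx => (hge x hx).trans ((ofHom_apply φ hx).trans (hf ⟨x, hx⟩)), hgQ⟩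
  · intro h
    obtain ⟨φ, hφ, hf⟩ := h.fn
    exact ⟨φ, key _ (fun x hx => ((ofHom_apply φ hx).trans (hf ⟨x, hx⟩)).symm) h, hf⟩

theorem extends_iff {φ : P →* Ω} {ψ : ↥(P ⊔ Q) →* Ω} {g : Ω → Ω} (hg : ∀ x, ψ x = g x) :
    (∀ x : P, ψ (Subgroup.inclusion le_sup_left x) = φ x) ↔ ∀ x ∈ P, g x = ofHom φ x := by
  constructor
  · intro h x hx
    rw [ofHom_apply φ hx]
    exact (hg _).symm.trans (h ⟨x, hx⟩)
  · intro h x
    exact (hg _).trans ((h x x.2).trans (ofHom_coe φ x))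

theorem map_subgroupOf_eq_img {ψ : R →* Ω} {g : Ω → Ω} (hg : ∀ x, ψ x = g x) (hQ : Q ≤ R) :
    (Q.subgroupOf R).map ψ = img g Q := by
  refine le_antisymm ?_ (img_le fun x hx => ⟨⟨x, hQ hx⟩, hx, hg _⟩)
  rintro _ ⟨x, hx, rfl⟩
  exact (hg x).symm ▸ mem_img_of_mem hx

theorem normalizerHom_iff {φ : P →* Ω} :
    φ ∈ F.normalizerHom Q P ↔ KMap F Q ⊤ P (ofHom φ) := by
  have hv : (∀ x : P, φ x ∈ normalizerIn S Q) ↔ ∀ x ∈ P, ofHom φ x ∈ normalizerIn S Q :=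
    ⟨fun h x hx => (ofHom_apply φ hx).symm ▸ h ⟨x, hx⟩, fun h x => ofHom_coe φ x ▸ h x x.2⟩
  rw [KMap, kN_top]
  constructor
  · rintro ⟨-, hP, hφ, ψ, hψ, he, hi⟩
    have hg : ∀ x, ψ x = ofHom ψ x := fun x => (ofHom_coe ψ x).symm
    refine ⟨hP, hv.1 hφ, _, fn_ofHom hψ, (extends_iff hg).1 he, ?_⟩
    exact (ind_top_iff (fn_ofHom hψ) le_sup_right).2 ((map_subgroupOf_eq_img hg le_sup_right).symm.trans hi)
  · rintro ⟨hP, hφ, g, hgF, hge, hgQ⟩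
    obtain ⟨ψ, hψ, hg⟩ := id hgF
    refine ⟨mem_hom_iff.2 ((hgF.mono le_sup_left).congr hge), hP, hv.2 hφ, ψ, hψ, (extends_iff hg).2 hge, ?_⟩
    exact (map_subgroupOf_eq_img hg le_sup_right).trans hgQ.img_eq

theorem centralizerHom_iff {φ : P →* Ω} :
    φ ∈ F.centralizerHom Q P ↔ KMap F Q ⊥ P (ofHom φ) := by
  have hv : (∀ x : P, φ x ∈ centralizerIn S Q) ↔ ∀ x ∈ P, ofHom φ x ∈ centralizerIn S Q :=
    ⟨fun h x hx => (ofHom_apply φ hx).symm ▸ h ⟨x, hx⟩, fun h x => ofHom_coe φ x ▸ h x x.2⟩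
  rw [KMap, kN_bot]
  constructor
  · rintro ⟨-, hP, hφ, ψ, hψ, he, hi⟩
    have hg : ∀ x, ψ x = ofHom ψ x := fun x => (ofHom_coe ψ x).symm
    exact ⟨hP, hv.1 hφ, _, fn_ofHom hψ, (extends_iff hg).1 he,
      ind_bot_iff.2 fun x hx => (hg ⟨x, Subgroup.mem_sup_right hx⟩).symm.trans (hi ⟨x, hx⟩)⟩
  · rintro ⟨hP, hφ, g, hgF, hge, hgQ⟩
    obtain ⟨ψ, hψ, hg⟩ := id hgF
    exact ⟨mem_hom_iff.2 ((hgF.mono le_sup_left).congr hge), hP, hv.2 hφ, ψ, hψ, (extends_iff hg).2 hge,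
      fun x => (hg _).trans (ind_bot_iff.1 hgQ x x.2)⟩

theorem exists_cast {T T' : Subgroup Ω} (h : T = T') (E : FusionSystem T) :
    ∃ E' : FusionSystem T', ∀ P, E'.Hom P = E.Hom P := by
  subst h
  exact ⟨E, fun _ => rfl⟩

variable (F) in
theorem exists_normalizerSystem (hQ : Q ≤ S) :
    ∃ E : FusionSystem (normalizerIn S Q), F.IsNormalizerSystem Q E := by
  obtain ⟨E, hE⟩ := exists_cast (kN_top (S := S) (Q := Q)) (kSystem F Q hQ ⊤)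
  exact ⟨E, fun P => (hE P).trans (Set.ext fun φ => normalizerHom_iff.symm)⟩

variable (F) in
theorem exists_centralizerSystem (hQ : Q ≤ S) :
    ∃ E : FusionSystem (centralizerIn S Q), F.IsCentralizerSystem Q E := by
  obtain ⟨E, hE⟩ := exists_cast (kN_bot (S := S) (Q := Q)) (kSystem F Q hQ ⊥)
  exact ⟨E, fun P => (hE P).trans (Set.ext fun φ => centralizerHom_iff.symm)⟩

end CfsgLib.Fsys
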