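import Cfsg.Agent.Lib.FusionSystem.WeakNormalCore
import Cfsg.Agent.Lib.FusionSystem.Subsystems

/-! Maps of a centralizer system commute with compatible automorphisms of the centralized subgroup. -/

set_option autoImplicit false

namespace CfsgLib.Fsys.WNR

open Cfsg Cfsg.FusionSystem
open Cfsg.FusionSystem (centralizerIn normalizerIn)
open scoped Pointwise

variable {Ω : Type*} [Group Ω] {S T Y : Subgroup Ω} {F : FusionSystem S} {E : FusionSystem T}

theorem fn_centralizer {D : FusionSystem (centralizerIn S Y)} (hD : F.IsCentralizerSystem Y D)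
    {R : Subgroup Ω} {f : Ω → Ω} :
    Fn D R f ↔ R ≤ centralizerIn S Y ∧ (∀ x ∈ R, f x ∈ centralizerIn S Y) ∧
      ∃ g, Fn F (R ⊔ Y) g ∧ (∀ x ∈ R, g x = f x) ∧ ∀ y ∈ Y, g y = y := by
  constructor
  · rintro ⟨φ, hφ, hf⟩
    rw [hD R, centralizerHom_iff, KMap, kN_bot] at hφ
    obtain ⟨h1, h2, g, hg, hge, hgY⟩ := hφ
    have he : ∀ x ∈ R, ofHom φ x = f x := fun x hx => (ofHom_apply φ hx).trans (hf ⟨x, hx⟩)
    exact ⟨h1, fun x hx => he x hx ▸ h2 x hx, g, hg, fun x hx => (hge x hx).trans (he x hx), ind_bot_iff.1 hgY⟩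
  · rintro ⟨h1, h2, g, hg, hge, hgY⟩
    obtain ⟨φ, hφ, hφf⟩ := (hg.mono le_sup_left).congr hge
    refine ⟨φ, ?_, hφf⟩
    have he : ∀ x ∈ R, ofHom φ x = f x := fun x hx => (ofHom_apply φ hx).trans (hφf ⟨x, hx⟩)
    rw [hD R, centralizerHom_iff, KMap, kN_bot]
    exact ⟨h1, fun x hx => (he x hx).symm ▸ h2 x hx, g, hg, fun x hx => (hge x hx).trans (he x hx).symm,
      ind_bot_iff.2 hgY⟩

/-- A map fixing `Y` is a map of the centralizer system. -/
theorem fn_centralizer_of_fix {D : FusionSystem (centralizerIn S Y)} (hD : F.IsCentralizerSystem Y D)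
    {R : Subgroup Ω} {g : Ω → Ω} (hR : R ≤ centralizerIn S Y) (hg : Fn F (R ⊔ Y) g) (hY : ∀ y ∈ Y, g y = y) :
    Fn D R g :=
  (fn_centralizer hD).2 ⟨hR, fun x hx => hg.map_centralizer le_sup_right
    ((img_congr (g := id) hY).trans (img_id Y)) (Subgroup.mem_sup_left hx) (hR hx), g, hg, fun _ _ => rfl, hY⟩

variable [Finite S] {p : ℕ} [Fact p.Prime]

/-- Full centralization passes from the centralizer system to the join with `Y`. -/
theorem fullyCentralized_sup (hS : IsPGroup p S) (hF : F.IsSaturated p) (hY : F.IsFullyNormalized Y)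
    {D : FusionSystem (centralizerIn S Y)} (hD : F.IsCentralizerSystem Y D) {R : Subgroup Ω}
    (hR : D.IsFullyCentralized R) : F.IsFullyCentralized (R ⊔ Y) := by
  have hRC := hR.1
  refine ⟨sup_le (hRC.trans centralizerIn_le) hY.1, fun Q hQ => ?_⟩
  obtain ⟨φ, hφ, rfl⟩ := isConj_iff.1 hQ
  obtain ⟨hA, -⟩ := fullyNormalized_good hS hF hY
  have hr := fullyNormalized_receptive hS hF hY
  have hφY := hφ.mono (le_sup_right : Y ≤ R ⊔ Y)
  set Y' := img φ Y with hY'
  obtain ⟨g, hg, -, hgi⟩ := exists_normalizer_map hS hA hr (isConj_symm (isConj_of_fn hφY))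
  have hY'S : Y' ≤ S := hφY.img_le_base
  have hgφ : Fn F Y (g ∘ φ) := hφY.comp (hg.mono (le_normalizerIn hY'S)) fun y hy => mem_img_of_mem hy
  obtain ⟨κ, hκ, hκe⟩ := exists_aut_of_fn hgφ (by rw [hφY.img_comp]; exact hgi)
  obtain ⟨N, k, hk, hYN, hN, hke⟩ :=
    receptive_extend hr ((mem_autGroup_iff_fn hY.1).1 (inv_mem hκ)) (img_autFn κ⁻¹)
  have hCN : centralizerIn S Y ≤ N := fun u hu => (hN u).2 (inExt_of_commute hu)
  have hki : img k Y = Y := (img_congr hke).trans (img_autFn κ⁻¹)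
  set W' := Y' ⊔ centralizerIn S Y' with hW'
  have hW'N : W' ≤ normalizerIn S Y' := sup_le (le_normalizerIn hY'S) centralizerIn_le_normalizerIn
  have hgC : ∀ u ∈ centralizerIn S Y', g u ∈ centralizerIn S Y := fun u hu =>
    hg.map_centralizer (le_normalizerIn hY'S) hgi (centralizerIn_le_normalizerIn hu) hu
  have hgW : ∀ x ∈ W', g x ∈ N := fun x hx => by
    have : img g W' ≤ N := by
      rw [hW', (hg.mono hW'N).img_sup]
      exact sup_le (hgi.le.trans hYN) (img_le fun u hu => hCN (hgC u hu))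
    exact this (mem_img_of_mem hx)
  have hψ₂ : Fn F W' (k ∘ g) := (hg.mono hW'N).comp hk hgW
  have hφW : ∀ x ∈ R ⊔ Y, φ x ∈ W' := fun x hx => by
    have : img φ (R ⊔ Y) ≤ W' := by
      rw [hφ.img_sup]
      exact sup_le (le_trans (img_le fun r hr' => hφ.map_centralizer le_sup_right rfl
        (Subgroup.mem_sup_left hr') (hRC hr')) le_sup_right) le_sup_left
    exact this (mem_img_of_mem hx)
  have hψ : Fn F (R ⊔ Y) ((k ∘ g) ∘ φ) := hφ.comp hψ₂ hφW
  have hfix : ∀ y ∈ Y, ((k ∘ g) ∘ φ) y = y := fun y hy => by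
    show k (g (φ y)) = y
    have e : g (φ y) = autFn κ y := by
      rw [autFn_coe κ ⟨y, hy⟩, hκe]
      rfl
    rw [e, hke _ (autFn_mem κ hy), autFn_inv_apply κ hy]
  have hψD := fn_centralizer_of_fix hD hRC hψ hfix
  have hle := hR.2 _ (isConj_of_fn hψD)
  have hC' : centralizerIn S (img φ (R ⊔ Y)) ≤ centralizerIn S Y' := fun u hu =>
    mem_centralizerIn.2 ⟨(mem_centralizerIn.1 hu).1,
      fun y hy => (mem_centralizerIn.1 hu).2 y (img_mono le_sup_right hy)⟩
  have hmaps : ∀ u ∈ centralizerIn S (img φ (R ⊔ Y)), (k ∘ g) u ∈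
      centralizerIn (centralizerIn S Y) (img ((k ∘ g) ∘ φ) R) := fun u hu => by
    refine mem_centralizerIn.2 ⟨hk.map_centralizer hYN hki (hCN (hgC u (hC' hu))) (hgC u (hC' hu)), fun z hz => ?_⟩
    obtain ⟨r, hr', rfl⟩ := (hψ.mono le_sup_left).mem_img.1 hz
    have h1 := hψ₂.map_centralizer (P := img φ (R ⊔ Y)) (img_le hφW) rfl (Subgroup.mem_sup_right (hC' hu)) hu
    exact (mem_centralizerIn.1 h1).2 _ (mem_img_of_mem (mem_img_of_mem (Subgroup.mem_sup_left hr')))
  haveI := finite_of_le_base (centralizerIn_le : centralizerIn S Y ≤ S)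
  refine (card_le_of_map_le (centralizerIn_le.trans centralizerIn_le)
    (hψ₂.mono (hC'.trans le_sup_right)) hmaps).trans (hle.trans ?_)
  haveI := finite_of_le_base (centralizerIn_le : centralizerIn S (R ⊔ Y) ≤ S)
  refine Subgroup.card_le_of_le fun u hu => ?_
  obtain ⟨huC, huR⟩ := mem_centralizerIn.1 hu
  refine mem_centralizerIn.2 ⟨(mem_centralizerIn.1 huC).1, fun x hx => ?_⟩
  have hle : R ⊔ Y ≤ Subgroup.centralizer ({u} : Set Ω) := sup_le
    (fun r hr' => Subgroup.mem_centralizer_singleton_iff.2 (huR r hr'))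
    fun y hy => Subgroup.mem_centralizer_singleton_iff.2 ((mem_centralizerIn.1 huC).2 y hy)
  exact Subgroup.mem_centralizer_singleton_iff.1 (hle hx)

/-- The hypotheses on `θ`: it stabilizes `Y` and moves `C_S(Y)` within cosets of `Y`. -/
structure IsCompatible (F : FusionSystem S) (Y : Subgroup Ω) (θ : Ω → Ω) : Prop where
  fn : Fn F (Y ⊔ centralizerIn S Y) θ
  stable : ∀ y ∈ Y, θ y ∈ Y
  move : ∀ u ∈ centralizerIn S Y, u⁻¹ * θ u ∈ Y

namespace IsCompatible

variable {θ : Ω → Ω}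

theorem move_central (hθ : IsCompatible F Y θ) {u : Ω} (hu : u ∈ centralizerIn S Y) :
    u⁻¹ * θ u ∈ Y ⊓ centralizerIn S Y := by
  refine ⟨hθ.move u hu, ?_⟩
  have hYS : Y ≤ S := le_sup_left.trans hθ.fn.le
  exact (centralizerIn S Y).mul_mem ((centralizerIn S Y).inv_mem hu)
    (hθ.fn.map_centralizer le_sup_left ((hθ.fn.mono le_sup_left).img_eq_self hθ.stable) (Subgroup.mem_sup_right hu) hu)

omit [Finite S] in
theorem commute {u z : Ω} (hu : u ∈ centralizerIn S Y) (hz : z ∈ Y ⊓ centralizerIn S Y) : z * u = u * z :=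
  (mem_centralizerIn.1 hu).2 z hz.1

theorem disp_mul (hθ : IsCompatible F Y θ) {u v : Ω} (hu : u ∈ centralizerIn S Y) (hv : v ∈ centralizerIn S Y) :
    (u * v)⁻¹ * θ (u * v) = (u⁻¹ * θ u) * (v⁻¹ * θ v) := by
  rw [hθ.fn.map_mul (Subgroup.mem_sup_right hu) (Subgroup.mem_sup_right hv),
    show (u * v)⁻¹ * (θ u * θ v) = v⁻¹ * (u⁻¹ * θ u) * θ v by group,
    ← commute (Subgroup.inv_mem _ hv) (hθ.move_central hu), mul_assoc]

theorem disp_conj (hθ : IsCompatible F Y θ) {u v : Ω} (hu : u ∈ centralizerIn S Y) (hv : v ∈ centralizerIn S Y) :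
    (u * v * u⁻¹)⁻¹ * θ (u * v * u⁻¹) = v⁻¹ * θ v := by
  have hiu := Subgroup.inv_mem _ hu
  have h1 : u⁻¹⁻¹ * θ u⁻¹ = (u⁻¹ * θ u)⁻¹ := by
    have h := hθ.disp_mul hu hiu
    rw [mul_inv_cancel, hθ.fn.map_one, inv_one, one_mul] at h
    exact eq_inv_of_mul_eq_one_right h.symm
  rw [hθ.disp_mul (Subgroup.mul_mem _ hu hv) hiu, hθ.disp_mul hu hv, h1, mul_assoc,
    show (v⁻¹ * θ v) * (u⁻¹ * θ u)⁻¹ = (u⁻¹ * θ u)⁻¹ * (v⁻¹ * θ v) from
      (commute ((hθ.move_central hu) |> fun h => (centralizerIn S Y).inv_mem h.2) (hθ.move_central hv)),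
    mul_inv_cancel_left]

end IsCompatible

/-- The condition checked on each member: the commutator being inner forces commutation. -/
def Finishes (F : FusionSystem S) (Y : Subgroup Ω) (θ : Ω → Ω) : Prop :=
  ∀ (D : FusionSystem (centralizerIn S Y)), F.IsCentralizerSystem Y D →
    ∀ (R : Subgroup Ω), R ≤ centralizerIn S Y → Y ⊓ centralizerIn S Y ≤ R → D.IsFullyCentralized R →
    ∀ α ∈ D.autGroup R, ∀ u ∈ centralizerIn S Y, (∀ x ∈ R, θ (autFn α x) = u * autFn α (θ x) * u⁻¹) →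
      ∀ x ∈ R, θ (autFn α x) = autFn α (θ x)

set_option maxHeartbeats 800000 in
/-- Maps of the centralizer system preserve displacements. -/
theorem displacement_preserved (hS : IsPGroup p S) (hF : F.IsSaturated p) (hY : F.IsFullyNormalized Y)
    {θ : Ω → Ω} (hθ : IsCompatible F Y θ) (hfin : Finishes F Y θ)
    {D : FusionSystem (centralizerIn S Y)} (hD : F.IsCentralizerSystem Y D) {R : Subgroup Ω} {f : Ω → Ω}
    (hf : Fn D R f) : ∀ x ∈ R, (f x)⁻¹ * θ (f x) = x⁻¹ * θ x := by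
  classical
  have hCS : (centralizerIn S Y) ≤ S := centralizerIn_le
  haveI := finite_of_le_base hCS
  have hCp := hS.to_le hCS
  have hDs := centralizerSystem_saturated hS hF (fullyNormalized_good hS hF hY).2 hD
  have core : ∀ P : Subgroup Ω, P ≤ (centralizerIn S Y) → Y ⊓ (centralizerIn S Y) ≤ P → D.IsFullyNormalized P → ∀ α ∈ D.autGroup P,
      ∀ x ∈ P, (autFn α x)⁻¹ * θ (autFn α x) = x⁻¹ * θ x := by
    intro P hPC hZP hP α hα
    obtain ⟨hA, hfc⟩ := fullyNormalized_good hCp hDs hP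
    have hθP : ∀ x ∈ P, θ x ∈ P := fun x hx => by
      have := P.mul_mem hx (hZP (hθ.move_central (hPC hx)))
      rwa [mul_inv_cancel_left] at this
    have hθf : Fn F P θ := hθ.fn.mono (hPC.trans le_sup_right)
    haveI := finite_of_le_base (hPC.trans hCS)
    obtain ⟨η, -, hηe⟩ := exists_aut_of_fn hθf (hθf.img_eq_self hθP)
    have hηf : ∀ x ∈ P, autFn η x = θ x := fun x hx => by rw [autFn_coe η ⟨x, hx⟩, hηe]
    have hfix : ∀ {b : MulAut P}, b ∈ D.autGroup P → ∀ z ∈ Y ⊓ (centralizerIn S Y), autFn b z = z := fun {b} hb z hz => by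
      obtain ⟨-, -, g, -, hge, hgY⟩ := (fn_centralizer hD).1 ((mem_autGroup_iff_fn hPC).1 hb)
      rw [← hge z (hZP hz), hgY z hz.1]
    have hmul : ∀ (b : MulAut P) {u v : Ω}, u ∈ P → v ∈ P → autFn b (u * v) = autFn b u * autFn b v :=
      fun b {u v} hu hv => by
      lift u to P using hu
      lift v to P using hv
      rw [← Subgroup.coe_mul, autFn_coe, autFn_coe, autFn_coe, map_mul, Subgroup.coe_mul]
    -- the commutator
    have hconj : η * α * η⁻¹ ∈ D.autGroup P := by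
      obtain ⟨-, -, g, hg, hge, hgY⟩ := (fn_centralizer hD).1 ((mem_autGroup_iff_fn hPC).1 hα)
      have hQW : P ⊔ Y ≤ Y ⊔ (centralizerIn S Y) := sup_le (hPC.trans le_sup_right) le_sup_left
      have hgQ : ∀ x ∈ P ⊔ Y, g x ∈ P ⊔ Y := fun x hx => by
        have h := mem_img_of_mem (f := g) hx
        rw [hg.img_sup] at h
        exact sup_le_sup (img_le fun y hy => (hge y hy).symm ▸ autFn_mem α hy)
          (img_le fun y hy => (hgY y hy).symm ▸ hy) h
      have hθQ : img θ (P ⊔ Y) = P ⊔ Y := (hθ.fn.mono hQW).img_eq_self fun x hx => by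
        have h := mem_img_of_mem (f := θ) hx
        rw [(hθ.fn.mono hQW).img_sup] at h
        exact sup_le_sup (img_le hθP) (img_le hθ.stable) h
      obtain ⟨k, hk, hkθ, hki⟩ := (hθ.fn.mono hQW).exists_inv
      rw [hθQ] at hk hki
      have hcomp : Fn F (P ⊔ Y) (θ ∘ (g ∘ k)) :=
        (hk.comp hg fun x hx => hki.le (mem_img_of_mem hx)).comp hθ.fn
          fun x hx => hQW (hgQ _ (hki.le (mem_img_of_mem hx)))
      have hY1 : ∀ y ∈ Y, (θ ∘ (g ∘ k)) y = y := fun y hy => by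
        have hi : img θ Y = Y := (hθ.fn.mono le_sup_left).img_eq_self hθ.stable
        obtain ⟨y', hy', rfl⟩ := (hθ.fn.mono le_sup_left).mem_img.1 (hi.ge hy)
        show θ (g (k (θ y'))) = θ y'
        rw [hkθ y' (Subgroup.mem_sup_right hy'), hgY y' hy']
      refine (mem_autGroup_iff_fn hPC).2 ((fn_centralizer_of_fix hD hPC hcomp hY1).congr fun x hx => ?_)
      have hx' := autFn_mem η⁻¹ hx
      show θ (g (k x)) = _
      rw [autFn_mul _ _ hx, autFn_mul _ _ hx', hηf _ (autFn_mem α hx'), ← hge _ hx']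
      congr 2
      have h := hkθ _ (Subgroup.mem_sup_left hx')
      rw [← hηf _ hx', autFn_apply_inv η hx] at h
      exact h
    let A₂ : Subgroup (MulAut P) :=
      { carrier := {b | b ∈ D.autGroup P ∧ ∀ x ∈ P, x⁻¹ * autFn b x ∈ Y ⊓ (centralizerIn S Y)}
        one_mem' := ⟨one_mem _, fun x hx => by rw [autFn_id hx, inv_mul_cancel]; exact one_mem _⟩
        mul_mem' := fun {a b} ha hb => ⟨mul_mem ha.1 hb.1, fun x hx => by
          have hz := hb.2 x hx
          rw [autFn_mul _ _ hx, show autFn b x = x * (x⁻¹ * autFn b x) from (mul_inv_cancel_left _ _).symm,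
            hmul a hx (hZP hz), hfix ha.1 _ hz, ← mul_assoc]
          exact mul_mem (ha.2 x hx) hz⟩
        inv_mem' := fun {a} ha => ⟨inv_mem ha.1, fun x hx => by
          have h := inv_mem (ha.2 _ (autFn_mem a⁻¹ hx))
          rw [autFn_apply_inv a hx] at h
          simpa using h⟩ }
    haveI := finite_of_le_base (inf_le_right.trans hCS : Y ⊓ (centralizerIn S Y) ≤ S)
    obtain ⟨K, hK⟩ := IsPGroup.iff_card.1 (hS.to_le (inf_le_right.trans hCS : Y ⊓ (centralizerIn S Y) ≤ S))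
    have hA₂p : IsPGroup p A₂ := fun ⟨b, hb⟩ => ⟨K, Subtype.ext (by
      show b ^ p ^ K = 1
      rw [← hK]
      exact pow_card_eq_one_of_fix hZP (hfix hb.1) hb.2)⟩
    have hA₂n : ∀ b ∈ D.autGroup P, ∀ a ∈ A₂, b * a * b⁻¹ ∈ A₂ := fun b hb a ha => by
      refine ⟨mul_mem (mul_mem hb ha.1) (inv_mem hb), fun x hx => ?_⟩
      have hv := autFn_mem b⁻¹ hx
      have hz := ha.2 _ hv
      rw [autFn_mul _ _ hx, autFn_mul _ _ hv,
        show autFn a (autFn b⁻¹ x) = autFn b⁻¹ x * ((autFn b⁻¹ x)⁻¹ * autFn a (autFn b⁻¹ x)) from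
          (mul_inv_cancel_left _ _).symm,
        hmul b hv (hZP hz), autFn_apply_inv b hx, hfix hb _ hz, inv_mul_cancel_left]
      exact hz
    have hmem : η * α * η⁻¹ * α⁻¹ ∈ A₂ := by
      refine ⟨mul_mem hconj (inv_mem hα), fun x hx => ?_⟩
      have h1 := autFn_mem α⁻¹ hx
      have h2 := autFn_mem η⁻¹ h1
      -- `v ↦ v δ(v)`
      have hd : ∀ v ∈ P, autFn η v = v * (v⁻¹ * θ v) := fun v hv => by rw [hηf v hv, mul_inv_cancel_left]
      set w := autFn η⁻¹ (autFn α⁻¹ x) with hw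
      have hx' : x = autFn α w * (w⁻¹ * θ w) := by
        have e1 : autFn α⁻¹ x = w * (w⁻¹ * θ w) := by rw [← hd w h2, hw, autFn_apply_inv η h1]
        conv_lhs => rw [← autFn_apply_inv α hx, e1]
        rw [hmul α h2 (hZP (hθ.move_central (hPC h2))), hfix hα _ (hθ.move_central (hPC h2))]
      rw [autFn_mul _ _ hx, autFn_mul _ _ h1, autFn_mul _ _ h2, hd _ (autFn_mem α h2)]
      set a := autFn α w
      set z := w⁻¹ * θ w
      set z' := a⁻¹ * θ a
      rw [hx', show (a * z)⁻¹ * (a * z') = z⁻¹ * z' by group]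
      exact mul_mem (inv_mem (hθ.move_central (hPC h2))) (hθ.move_central (hPC (autFn_mem α h2)))
    obtain ⟨γ, hγ, hγA⟩ := exists_conj_into hCp hA (T := A₂) (fun b hb => hb.1) hA₂p
    have hinA : η * α * η⁻¹ * α⁻¹ ∈ autInducedBy (centralizerIn S Y) P := by
      have h := hγA _ (hA₂n γ⁻¹ (inv_mem hγ) _ hmem)
      simpa [mul_assoc] using h
    obtain ⟨u, hu, hue⟩ := mem_autInducedBy.1 hinA
    have hcomm := hfin D hD P hPC hZP hfc α hα u hu fun x hx => by
      have h := hue (α (η ⟨x, hx⟩))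
      rw [show (η * α * η⁻¹ * α⁻¹) (α (η ⟨x, hx⟩)) = η (α ⟨x, hx⟩) by simp] at h
      rw [← hηf x hx, ← hηf _ (autFn_mem α hx), autFn_coe α ⟨x, hx⟩, autFn_coe η, autFn_coe η ⟨x, hx⟩, autFn_coe α]
      exact h
    intro x hx
    have hz := hθ.move_central (hPC hx)
    rw [hcomm x hx, show θ x = x * (x⁻¹ * θ x) from (mul_inv_cancel_left _ _).symm,
      hmul α hx (hZP hz), hfix hα _ hz, inv_mul_cancel_left]
    simp
  let Pr : FusionSystem (centralizerIn S Y) := predSystem D (fun X f => ∀ x ∈ X, (f x)⁻¹ * θ (f x) = x⁻¹ * θ x)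
    (fun X f g he _ h x hx => by rw [← he x hx]; exact h x hx)
    (fun X hX s hs x hx => hθ.disp_conj hs (hX hx))
    (fun X X' f g _ _ hm h h' x hx => (h' _ (hm x hx)).trans (h x hx))
    (fun X f g hf' _ hgf h y hy => by
      obtain ⟨x, hx, rfl⟩ := hf'.mem_img.1 hy
      rw [hgf x hx, h x hx])
  have hle : D ≤ Pr := by
    refine le_of_automizers hCp hDs Pr (fun α hα => ?_) fun P hPC hP hbig α hα => ?_
    · exact (mem_autGroup_iff_fn le_rfl).2 (fn_predSystem.2 ⟨(mem_autGroup_iff_fn le_rfl).1 hα,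
        core (centralizerIn S Y) le_rfl inf_le_right (fullyNormalized_of_weaklyClosed (weaklyClosed_of_stronglyClosed sc_top)) α hα⟩)
    · have hαf := (mem_autGroup_iff_fn hPC.le).1 hα
      refine (mem_autGroup_iff_fn hPC.le).2 (fn_predSystem.2 ⟨hαf, ?_⟩)
      by_cases hZP : Y ⊓ (centralizerIn S Y) ≤ P
      · exact core P hPC.le hZP hP α hα
      obtain ⟨-, -, g, hg, hge, hgY⟩ := (fn_centralizer hD).1 hαf
      have hRC : P ⊔ (Y ⊓ (centralizerIn S Y)) ≤ (centralizerIn S Y) := sup_le hPC.le inf_le_right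
      have hlt : P < P ⊔ (Y ⊓ (centralizerIn S Y)) := lt_of_le_of_ne le_sup_left fun e => hZP (e.ge.trans' le_sup_right)
      have hgR : Fn D (P ⊔ (Y ⊓ (centralizerIn S Y))) g := fn_centralizer_of_fix hD hRC
        (hg.mono (sup_le (sup_le le_sup_left (inf_le_left.trans le_sup_right)) le_sup_right)) hgY
      haveI := finite_of_le_base (hRC.trans hCS)
      have hb := (fn_predSystem.1 (hbig _ g (Set.Finite.card_lt_card (Set.toFinite ((P ⊔ (Y ⊓ (centralizerIn S Y)) : Subgroup Ω) : Set Ω))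
        hlt) hgR)).2
      intro x hx
      rw [← hge x hx]
      exact hb x (Subgroup.mem_sup_left hx)
  exact (fn_predSystem.1 (fn_of_le hle hf)).2

/-- Finishing for automorphisms of order prime to `p`. -/
theorem finishes_coprime (hS : IsPGroup p S) {h : MulAut ↥(Y ⊔ centralizerIn S Y)}
    (hθ : IsCompatible F Y (autFn h)) (hc : Nat.Coprime (orderOf h) p) : Finishes F Y (autFn h) := by
  intro D hD R hRC hZR _ α hα u hu hcomm x hx
  have hRW : R ≤ Y ⊔ centralizerIn S Y := hRC.trans le_sup_right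
  have hθR : ∀ v ∈ R, autFn h v ∈ R := fun v hv => by
    have := R.mul_mem hv (hZR (hθ.move_central (hRC hv)))
    rwa [mul_inv_cancel_left] at this
  have hpowR : ∀ j : ℕ, ∀ v ∈ R, autFn (h ^ j) v ∈ R := fun j => by
    induction j with
    | zero => intro v hv; rw [pow_zero, autFn_id (hRW hv)]; exact hv
    | succ j ih => intro v hv; rw [pow_succ, autFn_mul _ _ (hRW hv)]; exact ih _ (hθR v hv)
  have huW : u ∈ Y ⊔ centralizerIn S Y := Subgroup.mem_sup_right hu
  have hconj : ∀ w ∈ R, autFn h (u * w * u⁻¹) = u * autFn h w * u⁻¹ := fun w hw => by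
    rw [hθ.fn.map_conj huW (hRW hw), show autFn h u = u * (u⁻¹ * autFn h u) from (mul_inv_cancel_left _ _).symm]
    have hz := hθ.move_central hu
    rw [mul_inv_rev, show u * (u⁻¹ * autFn h u) * autFn h w * ((u⁻¹ * autFn h u)⁻¹ * u⁻¹)
      = u * ((u⁻¹ * autFn h u) * autFn h w * (u⁻¹ * autFn h u)⁻¹) * u⁻¹ by group,
      IsCompatible.commute (hRC (hθR w hw)) hz, mul_inv_cancel_right]
  -- `u` normalizes `R`
  have hiter : ∀ j : ℕ, ∀ v ∈ R, autFn (h ^ j) (autFn α v) = u ^ j * autFn α (autFn (h ^ j) v) * (u ^ j)⁻¹ :=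
    fun j => by
    induction j with
    | zero =>
      intro v hv
      rw [pow_zero, pow_zero, autFn_id (hRW (autFn_mem α hv)), autFn_id (hRW hv)]
      simp
    | succ j ih =>
      intro v hv
      have hv1 := hθR v hv
      have hw := hpowR j v hv
      rw [pow_succ', autFn_mul _ _ (hRW (autFn_mem α hv)), ih v hv]
      have hα1 := hRW (autFn_mem α hw)
      have huj : u ^ j ∈ centralizerIn S Y := Subgroup.pow_mem _ hu j
      have hz := hθ.move_central huj
      have hm : autFn α (autFn (h ^ j) v) ∈ R := autFn_mem α hw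
      rw [hθ.fn.map_conj (Subgroup.mem_sup_right huj) hα1, hcomm _ hw,
        show autFn h (u ^ j) = u ^ j * ((u ^ j)⁻¹ * autFn h (u ^ j)) from (mul_inv_cancel_left _ _).symm,
        autFn_mul _ _ (hRW hv)]
      set z := (u ^ j)⁻¹ * autFn h (u ^ j)
      set m := autFn α (autFn h (autFn (h ^ j) v))
      have hm' : u * m * u⁻¹ ∈ centralizerIn S Y :=
        Subgroup.mul_mem _ (Subgroup.mul_mem _ hu (hRC (autFn_mem α (hθR _ hw)))) (Subgroup.inv_mem _ hu)
      rw [mul_inv_rev, show u ^ j * z * (u * m * u⁻¹) * (z⁻¹ * (u ^ j)⁻¹)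
          = u ^ j * (z * (u * m * u⁻¹) * z⁻¹) * (u ^ j)⁻¹ by group,
        IsCompatible.commute hm' hz, mul_inv_cancel_right, pow_succ]
      group
  have hj := hiter (orderOf h) x hx
  rw [pow_orderOf_eq_one, autFn_id (hRW (autFn_mem α hx)), autFn_id (hRW hx)] at hj
  -- `u ^ orderOf h` fixes the image, hence so does `u`
  have hmem : u ∈ Subgroup.zpowers (u ^ orderOf h) := by
    obtain ⟨k, hk⟩ := hS ⟨u, (mem_centralizerIn.1 hu).1⟩
    obtain ⟨i, -, hi⟩ := (Nat.dvd_prime_pow Fact.out).1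
      (orderOf_dvd_of_pow_eq_one (congrArg Subtype.val hk : u ^ p ^ k = 1))
    obtain ⟨m, hm⟩ := exists_pow_eq_self_of_coprime (x := u) (n := orderOf h) (by rw [hi]; exact hc.pow_right i)
    exact ⟨m, show (u ^ orderOf h) ^ (m : ℤ) = u by rw [zpow_natCast, hm]⟩
  have hfixg : ∀ v ∈ R, ∀ w ∈ Subgroup.zpowers (u ^ orderOf h), w * v * w⁻¹ = v := by
    intro v hv w hw
    have h1 : u ^ orderOf h ∈ Subgroup.centralizer ({v} : Set Ω) := by
      refine Subgroup.mem_centralizer_singleton_iff.2 ?_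
      obtain ⟨v', hv', rfl⟩ : ∃ v' ∈ R, autFn α v' = v := ⟨autFn α⁻¹ v, autFn_mem _ hv, autFn_apply_inv α hv⟩
      have hj' := hiter (orderOf h) v' hv'
      rw [pow_orderOf_eq_one, autFn_id (hRW (autFn_mem α hv')), autFn_id (hRW hv')] at hj'
      exact (eq_mul_inv_iff_mul_eq.1 hj').symm
    have h2 := Subgroup.mem_centralizer_singleton_iff.1 (Subgroup.zpowers_le.2 h1 hw)
    rw [h2, mul_inv_cancel_right]
  rw [hcomm x hx]
  exact hfixg _ (autFn_mem α (hθR x hx)) u hmem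

/-- Finishing for conjugation by an element of `N_T(Y)`. -/
theorem finishes_conj (hS : IsPGroup p S) (hF : F.IsSaturated p) (hE : E.IsInvariantIn F)
    (hY : F.IsFullyNormalized Y) (hYc : E.IsCentric Y) {n : Ω} (hn : n ∈ normalizerIn T Y) :
    Finishes F Y (fun x => n * x * n⁻¹) := by
  intro D hD R hRC hZR hfc α hα u hu hcomm x hx
  have hT := hE.2.1
  obtain ⟨-, -, g, hg, hge, hgY⟩ := (fn_centralizer hD).1 ((mem_autGroup_iff_fn hRC).1 hα)
  have hQi : img g (R ⊔ Y) = R ⊔ Y := by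
    rw [hg.img_sup, img_congr (g := autFn α) fun v hv => hge v hv, img_autFn,
      (img_congr (g := id) hgY).trans (img_id Y)]
  obtain ⟨N, k, hk, hQN, hN, hke⟩ := receptive_extend
    (fullyCentralized_receptive hS hF (fullyCentralized_sup hS hF hY hD hfc)) hg hQi
  have hnS : n ∈ S := hT.1 hn.1
  have hnC : ∀ v ∈ centralizerIn S Y, v⁻¹ * (n * v * n⁻¹) ∈ Y ⊓ centralizerIn S Y := fun v hv => by
    obtain ⟨hvS, hvc⟩ := mem_centralizerIn.1 hv
    have hnv : n * v * n⁻¹ ∈ centralizerIn S Y := by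
      refine mem_centralizerIn.2 ⟨S.mul_mem (S.mul_mem hnS hvS) (S.inv_mem hnS), fun y hy => ?_⟩
      have hy' := (mem_normalizer_iff'.1 hn.2).2 y hy
      calc y * (n * v * n⁻¹) = n * ((n⁻¹ * y * n) * v) * n⁻¹ := by group
        _ = n * (v * (n⁻¹ * y * n)) * n⁻¹ := by rw [hvc _ hy']
        _ = n * v * n⁻¹ * y := by group
    have hm := Subgroup.mul_mem _ (Subgroup.inv_mem _ hv) hnv
    refine ⟨mem_of_commute hYc ?_ (mem_centralizerIn.1 hm).2, hm⟩
    have := T.mul_mem (sc_conj hT (S.inv_mem hvS) hn.1) (T.inv_mem hn.1)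
    simpa [mul_assoc] using this
  have hnR : ∀ v ∈ R, n * v * n⁻¹ ∈ R := fun v hv => by
    have := R.mul_mem hv (hZR (hnC v (hRC hv)))
    rwa [mul_inv_cancel_left] at this
  have hRY : ∀ a ∈ R, ∀ b ∈ Y, a * b = b * a := fun a ha b hb => ((mem_centralizerIn.1 (hRC ha)).2 b hb).symm
  haveI := finite_of_le_base hg.le
  have hnQ : n ∈ Subgroup.normalizer ((R ⊔ Y : Subgroup Ω) : Set Ω) := mem_normalizer_of_map_le fun v hv => by
    have h := mem_img_of_mem (f := fun z => n * z * n⁻¹) hv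
    rw [(fn_conj (F := F) hg.le hnS).img_sup] at h
    exact sup_le_sup (img_le hnR) (img_le fun y hy => (mem_normalizer_iff'.1 hn.2).1 y hy) h
  have hnN : n ∈ N := by
    refine (hN n).2 ⟨hnS, hnQ, u⁻¹ * n, S.mul_mem (S.inv_mem (mem_centralizerIn.1 hu).1) hnS, fun v hv => ?_⟩
    have hle : n * v * n⁻¹ ∈ R ⊔ Y := (Subgroup.mem_normalizer_iff.1 hnQ v).1 hv
    obtain ⟨r, hr, y, hy, rfl⟩ : ∃ r ∈ R, ∃ y ∈ Y, v = r * y := by
      have hn' : R ≤ Subgroup.normalizer (Y : Set Ω) := fun a ha =>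
        mem_normalizer_iff'.2 ⟨fun b hb => by rwa [hRY a ha b hb, mul_inv_cancel_right],
          fun b hb => by rwa [mul_assoc, ← hRY a ha b hb, inv_mul_cancel_left]⟩
      have h : v ∈ ((R : Set Ω) * (Y : Set Ω)) := by
        rw [← Subgroup.coe_mul_of_left_le_normalizer_right R Y hn']
        exact hv
      obtain ⟨a, ha, b, hb, rfl⟩ := h
      exact ⟨a, ha, b, hb, rfl⟩
    have hy' := (mem_normalizer_iff'.1 hn.2).1 y hy
    have hr' := hnR r hr
    have h1 : g (n * r * n⁻¹) = u⁻¹ * n * g r * (u⁻¹ * n)⁻¹ := by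
      have h := hcomm r hr
      simp only at h
      rw [hge _ hr', hge r hr, show u⁻¹ * n * autFn α r * (u⁻¹ * n)⁻¹ = u⁻¹ * (n * autFn α r * n⁻¹) * u by group, h]
      group
    have h2 : n * y * n⁻¹ = u⁻¹ * n * y * (u⁻¹ * n)⁻¹ := by
      rw [show u⁻¹ * n * y * (u⁻¹ * n)⁻¹ = u⁻¹ * ((n * y * n⁻¹) * u) by group,
        (mem_centralizerIn.1 hu).2 _ hy', inv_mul_cancel_left]
    rw [show n * (r * y) * n⁻¹ = n * r * n⁻¹ * (n * y * n⁻¹) by group,
      hg.map_mul (Subgroup.mem_sup_left hr') (Subgroup.mem_sup_right hy'), h1, hgY _ hy', h2,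
      hg.map_mul (Subgroup.mem_sup_left hr) (Subgroup.mem_sup_right hy), hgY y hy]
    group
  have hkY : ∀ y ∈ Y, k y = y := fun y hy => by rw [hke y (Subgroup.mem_sup_right hy), hgY y hy]
  have hm : n⁻¹ * k n ∈ Y := by
    refine mem_of_commute hYc (T.mul_mem (T.inv_mem hn.1) (sc_apply hT hk hnN hn.1)) fun y hy => ?_
    have hy' := (mem_normalizer_iff'.1 hn.2).1 y hy
    have heq := hk.map_conj hnN (hQN (Subgroup.mem_sup_right hy))
    rw [hkY _ hy', hkY y hy] at heq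
    calc y * (n⁻¹ * k n) = n⁻¹ * (n * y * n⁻¹) * k n := by group
      _ = n⁻¹ * (k n * y * (k n)⁻¹) * k n := by rw [heq]
      _ = n⁻¹ * k n * y := by group
  have h := hk.map_conj hnN (hQN (Subgroup.mem_sup_left hx))
  rw [hke _ (Subgroup.mem_sup_left (hnR x hx)), hge _ (hnR x hx), hke _ (Subgroup.mem_sup_left hx), hge x hx,
    show k n = n * (n⁻¹ * k n) from (mul_inv_cancel_left _ _).symm] at h
  show n * autFn α x * n⁻¹ = autFn α (n * x * n⁻¹)
  rw [h, show n * (n⁻¹ * k n) * autFn α x * (n * (n⁻¹ * k n))⁻¹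
      = n * ((n⁻¹ * k n) * autFn α x * (n⁻¹ * k n)⁻¹) * n⁻¹ by group,
    (mem_centralizerIn.1 (hRC (autFn_mem α hx))).2 _ hm, mul_inv_cancel_right]

end CfsgLib.Fsys.WNR
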