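import Cfsg.Agent.Lib.FusionSystem.CharacterSystem

/-! The system cut out by a kernel is normal. -/

set_option autoImplicit false

namespace CfsgLib.Fsys.WNR

open Cfsg Cfsg.FusionSystem
open Cfsg.FusionSystem (centralizerIn normalizerIn)

variable {Ω : Type*} [Group Ω] {S T : Subgroup Ω} {F : FusionSystem S} {E : FusionSystem T}
variable {p : ℕ} [Fact p.Prime] [Finite S]

/-- A system is weakly normal in itself. -/
theorem weaklyNormal_self (hF : F.IsSaturated p) : F.IsWeaklyNormalIn F p := by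
  refine ⟨hF, hF, fun _ _ h => h, sc_top, fun P hP φ hφ α hα => ?_, fun P hP φ hφ => ?_⟩
  · obtain ⟨k, hk, hkα, hki⟩ := ((fn_autS hα).mono hP).exists_inv
    have hm : ∀ y ∈ img (autFn α) P, k y ∈ P := fun y hy => hki.le (mem_img_of_mem hy)
    have e : (P.subgroupOf S).map (S.subtype.comp α.toMonoidHom) = img (autFn α) P := by
      refine le_antisymm ?_ (img_le fun x hx => ⟨⟨x, hP hx⟩, hx, (autFn_coe α ⟨x, hP hx⟩).symm⟩)
      rintro _ ⟨x, hx, rfl⟩
      show ((α x : S) : Ω) ∈ _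
      rw [← autFn_coe]
      exact mem_img_of_mem hx
    have h := (hk.comp (fn_ofHom hφ) hm).comp (fn_autS hα) fun y hy => (fn_ofHom hφ).mem (hm y hy)
    rw [← e] at h
    obtain ⟨ψ, hψ, hψe⟩ := h
    refine ⟨ψ, hψ, fun x hφx hαx => ?_⟩
    rw [hψe]
    show autFn α (ofHom φ (k ((α ⟨x, hP x.2⟩ : S) : Ω))) = _
    rw [← autFn_coe α ⟨x, hP x.2⟩, hkα x x.2, ofHom_coe]
    exact autFn_coe α ⟨φ x, hφx⟩
  · exact ⟨1, one_mem _, φ, hφ, fun x hx => rfl⟩

variable {hTS : T ≤ S} {K : Subgroup (MulAut T)} (hS : IsPGroup p S) (hE : E.IsWeaklyNormalIn F p)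
  (hK : IsCharKernel F E p K)
include hS hE hK

local notation "F₀" => characterSystem p F E hTS K

theorem characterSystem_invariant : (F₀).IsInvariantIn F := by
  refine ⟨fun P φ hφ => hφ.1, sc_top, fun P hP φ hφ α hα => ?_, fun P hP φ hφ => ?_⟩
  · obtain ⟨χ, hχ, hχe⟩ := characterSystem_transform hS hE hK hα (fn_ofHom hφ)
    have e : (P.subgroupOf S).map (S.subtype.comp α.toMonoidHom) = img (autFn α) P := by
      refine le_antisymm ?_ (img_le fun x hx => ⟨⟨x, hP hx⟩, hx, (autFn_coe α ⟨x, hP hx⟩).symm⟩)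
      rintro _ ⟨x, hx, rfl⟩
      show ((α x : S) : Ω) ∈ _
      rw [← autFn_coe]
      exact mem_img_of_mem hx
    rw [← e] at hχ
    obtain ⟨ψ, hψ, hψe⟩ := hχ
    refine ⟨ψ, hψ, fun x hφx hαx => ?_⟩
    rw [hψe]
    have := hχe x x.2
    rw [ofHom_coe, autFn_coe α ⟨φ x, hφx⟩] at this
    rw [← this]
    show χ ((α ⟨(x : Ω), hP x.2⟩ : S) : Ω) = _
    rw [← autFn_coe]
  · obtain ⟨α, hα, g, hg, hge⟩ := characterSystem_decomp hS hE hK (fn_ofHom hφ)
    obtain ⟨φ₀, hφ₀, hφ₀g⟩ := hg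
    refine ⟨α, hα, φ₀, hφ₀, fun x hx => ?_⟩
    rw [← ofHom_coe φ x, hge x x.2, ← hφ₀g x]
    exact autFn_coe α ⟨φ₀ x, hx⟩

set_option maxHeartbeats 800000 in
theorem characterSystem_saturated : (F₀).IsSaturated p := by
  classical
  have hF := hE.2.1
  have hEi := hE.2.2
  have hT := hEi.2.1
  have hof : ∀ {P : Subgroup Ω} {g : Ω → Ω}, Fn F₀ P g → Fn F P g := fun h => characterSystem_le h
  refine Criterion.saturated_of_generating hS {P | InClass F E P} (fun P hP => hP.1.1)
    (fun P hP Q hQ => ?_) (fun P hP => ?_) (fun D hD => ?_) fun P hPc hPn => ?_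
  · obtain ⟨f, hf, rfl⟩ := isConj_iff.1 hQ
    exact inClass_img hEi hP (hof hf)
  · have hPS : P ≤ S := hP.1.1
    obtain ⟨Q', hPQ', hQ'n⟩ := exists_fullyNormalized (F := F) hPS
    obtain ⟨f, hf, hfi⟩ := isConj_iff.1 hPQ'
    obtain ⟨α, hα, g, hgE, hge⟩ := characterSystem_decomp hS hE hK hf
    have hg := hof hgE
    set Q := img g P
    have hαQ : img (autFn α) Q = Q' := by
      rw [← hg.img_comp, ← hfi]
      exact img_congr fun x hx => (hge x hx).symm
    have hαF := fn_autS (F := F) hα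
    have hQS : Q ≤ S := hg.img_le_base
    have hQn : F.IsFullyNormalized Q := by
      refine ⟨hQS, fun R hR => ?_⟩
      refine (hQ'n.2 R (isConj_trans (isConj_symm (isConj_iff.2 ⟨_, hαF.mono hQS, hαQ⟩)) hR)).trans ?_
      have hfi' := fn_autS (F := F) (inv_mem hα)
      refine card_le_of_map_le normalizerIn_le (hfi'.mono normalizerIn_le) fun n hn => ⟨autFn_mem _ hn.1, ?_⟩
      haveI := finite_of_le_base hQS
      refine mem_normalizer_of_map_le fun x hx => ?_
      have hy : autFn α x ∈ Q' := hαQ ▸ mem_img_of_mem hx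
      rw [← autFn_inv_apply α (hQS hx), ← hfi'.map_conj hn.1 (hQ'n.1 hy)]
      obtain ⟨z, hz, hzy⟩ := (hαF.mono hQS).mem_img.1 (hαQ.ge ((Subgroup.mem_normalizer_iff.1 hn.2 _).1 hy))
      rw [← hzy, autFn_inv_apply α (hQS hz)]
      exact hz
    refine ⟨Q, isConj_of_fn hgE, ⟨hQS, ?_⟩, ?_⟩
    · haveI := finite_of_le_base hQS
      obtain ⟨hA, -⟩ := fullyNormalized_good hS hF hQn
      obtain ⟨-, Syl, hSyl⟩ := hA
      have hle : autInducedBy S Q ≤ (F₀).autGroup Q := autInducedBy_le_autGroup hQS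
      have hEA : (F₀).autGroup Q ≤ F.autGroup Q := autGroup_mono' (characterSystem_invariant hS hE hK).1 Q
      have hnd : ¬ p ∣ (autInducedBy S Q).relIndex ((F₀).autGroup Q) := fun h => by
        apply Syl.not_dvd_index
        rw [hSyl]
        exact h.trans (Dvd.intro _ (Subgroup.relIndex_mul_relIndex _ _ _ hle hEA))
      exact ⟨CfsgLib.Fusion.Basic.sylowSubgroupOf hle (isPGroup_autInducedBy hS) hnd,
        CfsgLib.Fusion.Basic.coe_sylowSubgroupOf _ _ _⟩
    · refine receptive_of_extend hQS fun P₁ f₁ hf₁ hi₁ => ?_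
      obtain ⟨N, h, hh, hPN, hN, hhe⟩ := receptive_extend (fullyNormalized_receptive hS hF hQn) (hof hf₁) hi₁
      obtain ⟨β, hβ, e, heE, hhe'⟩ := characterSystem_decomp hS hE hK hh
      obtain ⟨e', he', he'e, he'i⟩ := (heE.mono hPN).exists_inv
      have hc1 : InClass F E P₁ := by
        obtain ⟨k, hk, -, hki⟩ := hf₁.exists_inv
        rw [hi₁] at hk hki
        exact hki ▸ inClass_img hEi (inClass_img hEi hP hg) (hof hk)
      have hcQ := inClass_img hEi hc1 ((hof heE).mono hPN)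
      have hβA : β ∈ liftKernel hTS F K := mem_lift_of_restrict hS hE hK hβ hcQ
        ((he'.comp hf₁ fun y hy => he'i.le (mem_img_of_mem hy)).congr fun y hy => by
          obtain ⟨x, hx, rfl⟩ := (heE.mono hPN).mem_img.1 hy
          show f₁ (e' (e x)) = _
          rw [he'e x hx, ← hhe x hx, hhe' x (hPN hx)])
      have hhF₀ : Fn F₀ N h := (heE.comp ((mem_autGroup_iff_fn le_rfl).1 (characterSystem_base.2 hβA))
        fun x hx => heE.mem hx).congr fun x hx => (hhe' x hx).symm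
      exact ⟨h, fun N' hN' => hhF₀.mono fun x hx => (hN x).2 (hN' x hx), hhe⟩
  · have hbase : KernelBase p F E hTS K D := by
      refine ⟨fun P hP τ hτ => Subgroup.subset_closure (hD P hP ?_), fun α hα => ?_⟩
      · exact (mem_autGroup hP.1.1).1 (characterSystem_base.1 P hP hτ)
      · exact Subgroup.subset_closure (hD S (inClass_top hT) ((mem_autGroup le_rfl).1 (characterSystem_base.2 hα)))
    intro P φ hφ
    exact mem_hom_iff.2 (characterSystem_min hbase (fn_ofHom hφ))
  · have hFc : F.IsCentric P := by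
      refine ⟨hPc.1, fun R hR => ?_⟩
      obtain ⟨f, hf, rfl⟩ := isConj_iff.1 hR
      obtain ⟨α, hα, g, hg, hge⟩ := characterSystem_decomp hS hE hK hf
      have h1 := hPc.2 _ (isConj_of_fn hg)
      intro c hc
      obtain ⟨hcS, hcc⟩ := mem_centralizerIn.1 hc
      have hfi := fn_autS (F := F) (inv_mem hα)
      have hmem : autFn α⁻¹ c ∈ img g P := h1 (mem_centralizerIn.2 ⟨autFn_mem _ hcS, fun y hy => by
        obtain ⟨x, hx, rfl⟩ := hg.mem_img.1 hy
        have := congrArg (autFn α⁻¹) (hcc (f x) (mem_img_of_mem hx))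
        rwa [hfi.map_mul (hf.mem hx) hcS, hfi.map_mul hcS (hf.mem hx), hge x hx,
          autFn_inv_apply α (hg.mem hx)] at this⟩)
      obtain ⟨x, hx, hxe⟩ := hg.mem_img.1 hmem
      have := mem_img_of_mem (f := f) hx
      rwa [hge x hx, hxe, autFn_apply_inv α hcS] at this
    obtain ⟨φ, hφ, x, hx, hxP, a, ha, hax⟩ :=
      (not_radical_of_inter_not_centric hS hF hEi.1 hT hFc fun h => hPn ⟨hFc, h⟩).1
    obtain ⟨α, hα, g, hgE, hge⟩ := characterSystem_decomp hS hE hK (fn_ofHom hφ)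
    have hg := hof hgE
    set Q := img g P
    have hQS : Q ≤ S := hg.img_le_base
    haveI := finite_of_le_base hQS
    have hai := fn_autS (F := F) (inv_mem hα)
    have hr : φ.range = img (ofHom φ) P := Fn.range_eq_img fun y => (ofHom_coe φ y).symm
    have hαQ : img (autFn α) Q = φ.range := by
      rw [hr, ← hg.img_comp]
      exact img_congr fun y hy => (hge y hy).symm
    obtain ⟨e, he, hmap⟩ := exists_transport hQS ((fn_autS hα).mono hQS) hαQ
    haveI : Finite φ.range := Finite.of_equiv _ e.toEquiv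
    haveI : Finite (MulAut Q) := Finite.of_injective (fun f : MulAut Q => (f : Q → Q)) DFunLike.coe_injective
    have hval : ∀ y : Q, autFn α⁻¹ ((e y : φ.range) : Ω) = y := fun y => by
      rw [he, autFn_inv_apply α (hQS y.2)]
    have hc : ∀ y : Q, ((MulAut.congr e.symm a) y : Ω) = autFn α⁻¹ x * y * (autFn α⁻¹ x)⁻¹ := fun y => by
      have hey : ((e y : φ.range) : Ω) ∈ S := by rw [he]; exact autFn_mem α (hQS y.2)
      show ((e.symm (a (e y)) : Q) : Ω) = _
      rw [← hval (e.symm (a (e y))), MulEquiv.apply_symm_apply, hax, hai.map_conj hx.1 hey, hval y]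
    refine ⟨Q, isConj_of_fn hgE, fun hle => hxP ?_⟩
    obtain ⟨q, hq⟩ := hle (show MulAut.congr e.symm a ∈ _ from ⟨mem_autInducedBy.2 ⟨_, autFn_mem _ hx.1, hc⟩, by
      let Φ : F.autGroup φ.range →* F.autGroup Q :=
        ((MulAut.congr e.symm).toMonoidHom.comp (F.autGroup φ.range).subtype).codRestrict _ fun b => by
          obtain ⟨b', hb', hb'e⟩ := hmap.ge b.2
          show MulAut.congr e.symm (b : MulAut φ.range) ∈ _
          rw [← hb'e]
          have : MulAut.congr e.symm ((MulAut.congr e).toMonoidHom b') = b' :=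
            MulEquiv.ext fun z => by simp [MulAut.congr]
          rwa [this]
      have hΦ : Function.Surjective Φ := fun b => by
        refine ⟨⟨MulAut.congr e (b : MulAut Q), hmap ▸ ⟨_, b.2, rfl⟩⟩, Subtype.ext ?_⟩
        show MulAut.congr e.symm (MulAut.congr e (b : MulAut Q)) = b
        exact MulEquiv.ext fun z => by simp [MulAut.congr]
      haveI := CfsgLib.Solvable.Cores.pCore_normal (G := F.autGroup φ.range) p
      have hFQ : pCore p (F.autGroup φ.range) ≤ (pCore p (F.autGroup Q)).comap Φ :=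
        Subgroup.map_le_iff_le_comap.1 (le_sSup (s := {N : Subgroup (F.autGroup Q) | N.Normal ∧ IsPGroup p N})
          ⟨Subgroup.Normal.map inferInstance Φ hΦ, (CfsgLib.Solvable.Cores.isPGroup_pCore p).map Φ⟩)
      obtain ⟨b, hb, rfl⟩ := ha
      have hF₀a : MulAut.congr e.symm (b : MulAut φ.range) ∈ (F₀).autGroup Q :=
        autInducedBy_le_autGroup hQS (mem_autInducedBy.2 ⟨_, autFn_mem _ hx.1, hc⟩)
      let ι : (F₀).autGroup Q →* F.autGroup Q := Subgroup.inclusion (autGroup_mono' (characterSystem_invariant hS hE hK).1 Q)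
      haveI := CfsgLib.Solvable.Cores.pCore_normal (G := F.autGroup Q) p
      have hK' : (pCore p (F.autGroup Q)).comap ι ≤ pCore p ((F₀).autGroup Q) :=
        le_sSup (s := {N : Subgroup ((F₀).autGroup Q) | N.Normal ∧ IsPGroup p N}) ⟨inferInstance,
          (CfsgLib.Solvable.Cores.isPGroup_pCore p).comap_of_injective ι (Subgroup.inclusion_injective _)⟩
      exact ⟨⟨_, hF₀a⟩, hK' (show ι ⟨_, hF₀a⟩ ∈ pCore p (F.autGroup Q) from hFQ hb), rfl⟩⟩)
    have hq' : ∀ y : Q, (q : Ω) * y * (q : Ω)⁻¹ = autFn α⁻¹ x * y * (autFn α⁻¹ x)⁻¹ := fun y =>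
      (congrArg (fun b : MulAut Q => ((b y : Q) : Ω)) hq).trans (hc y)
    have hm : (q : Ω)⁻¹ * autFn α⁻¹ x ∈ centralizerIn S Q := by
      refine mem_centralizerIn.2 ⟨S.mul_mem (S.inv_mem (hQS q.2)) (autFn_mem _ hx.1), fun y hy => ?_⟩
      calc y * ((q : Ω)⁻¹ * autFn α⁻¹ x) = (q : Ω)⁻¹ * ((q : Ω) * y * (q : Ω)⁻¹) * autFn α⁻¹ x := by group
        _ = (q : Ω)⁻¹ * (autFn α⁻¹ x * y * (autFn α⁻¹ x)⁻¹) * autFn α⁻¹ x := by rw [hq' ⟨y, hy⟩]
        _ = (q : Ω)⁻¹ * autFn α⁻¹ x * y := by group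
    have hxQ : autFn α⁻¹ x ∈ Q := by
      have := Q.mul_mem q.2 (hFc.2 Q (isConj_of_fn hg) hm)
      rwa [mul_inv_cancel_left] at this
    have := mem_img_of_mem (f := autFn α) hxQ
    rwa [autFn_apply_inv α hx.1, hαQ] at this

theorem characterSystem_normal : (F₀).IsNormalIn F p := by
  refine ⟨⟨characterSystem_saturated hS hE hK, hE.2.1, characterSystem_invariant hS hE hK⟩, fun α hα => ?_⟩
  have hle : centralizerIn S S ≤ S := centralizerIn_le
  have hsup : S ⊔ centralizerIn S S = S := sup_eq_left.2 hle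
  have hf : Fn F (S ⊔ centralizerIn S S) (autFn α) := by
    rw [hsup]
    exact characterSystem_le ((mem_autGroup_iff_fn le_rfl).1 hα)
  obtain ⟨β, hβ, hβe⟩ := exists_aut_of_fn hf (hf.img_eq_self fun x hx => by
    rw [hsup] at hx ⊢
    exact autFn_mem α hx)
  refine ⟨β, hβ, fun x => by rw [hβe]; exact autFn_coe α x, fun c hc => ?_⟩
  rw [hβe c]
  have hcS : (c : Ω) ∈ S := hle hc
  refine ⟨S.mul_mem (S.inv_mem hcS) (autFn_mem α hcS), ?_⟩
  intro y hy
  have hcc := (mem_centralizerIn.1 hc).2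
  have hαf := characterSystem_le ((mem_autGroup_iff_fn le_rfl).1 hα)
  have hαc := (mem_centralizerIn.1 (hαf.map_centralizer le_rfl (img_autFn α) hcS hc)).2
  have h2 : y * (c : Ω)⁻¹ = (c : Ω)⁻¹ * y := (Commute.inv_right (show Commute y (c : Ω) from hcc y hy)).eq
  rw [← mul_assoc, h2, mul_assoc, hαc y hy, ← mul_assoc]

/-- The system contains `E`. -/
theorem le_characterSystem : E.IsSubsystemOf F₀ := by
  have hT := hE.2.2.2.1
  haveI := finite_of_le_base hT.1
  have hkey : ∀ {P : Subgroup Ω} {g : Ω → Ω}, E.IsCentric P → Fn E P g → Fn F₀ P g := by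
    intro P g hP hg
    obtain ⟨α, hα, g₀, hg₀, hge⟩ := characterSystem_decomp hS hE hK (Fn.of_subsystem hE.2.2.1 hg)
    obtain ⟨β, hβ, hβe⟩ := exists_restr hT hα
    obtain ⟨γ, hγ, u, hu, hgu⟩ := Invariant.frattini hE.2.2 hP.1 (characterSystem_le hg₀)
    have hγK := (fn_predSystem.1 (characterSystem_min (kernelSystem_base hS hE hK) hg₀)).2 P le_rfl hP γ hγ u hu hgu
    have h := decomp_unique hS hE hK hP (mul_mem hβ hγ) (one_mem _) hu hg fun x hx => by
      rw [autFn_mul _ _ (hu.mem hx), ← hgu x hx, autFn_id (hg.mem hx),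
        hβe _ (hgu x hx ▸ autFn_mem γ (hu.mem hx)), ← hge x hx]
    rw [inv_one, one_mul] at h
    have hαL : α ∈ liftKernel hTS F K := ⟨hα, β, by simpa using mul_mem h (inv_mem hγK), hβe⟩
    exact (hg₀.comp ((mem_autGroup_iff_fn le_rfl).1 (characterSystem_base.2 hαL)) fun x hx => hg₀.mem hx).congr
      fun x hx => (hge x hx).symm
  let D : FusionSystem T := predSystem E (fun P f => Fn F₀ P f) (fun _ _ _ he _ h => h.congr he)
    (fun _ hP _ hs => fn_conj (hP.trans hT.1) (hT.1 hs)) (fun _ _ _ _ _ _ hm h h' => h.comp h' hm)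
    (fun P f g hf _ hgf h => by
      obtain ⟨k, hk, hkf, -⟩ := h.exists_inv
      exact hk.congr fun y hy => by
        obtain ⟨x, hx, rfl⟩ := hf.mem_img.1 hy
        rw [hkf x hx, hgf x hx])
  have hD : ∀ {P : Subgroup Ω}, E.IsCentric P → E.autGroup P ≤ D.autGroup P := fun hP α hα =>
    (mem_autGroup_iff_fn hP.1).2 (fn_predSystem.2 ⟨(mem_autGroup_iff_fn hP.1).1 hα,
      hkey hP ((mem_autGroup_iff_fn hP.1).1 hα)⟩)
  have hle : E ≤ D := alperin (hS.to_le hT.1) hE.1 D (hD (centric_top E)) fun P _ hP => hD hP.1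
  exact fun P φ hφ => mem_hom_iff.2 (hle P hφ).2

/-- The system has index prime to `p`. -/
theorem characterSystem_primeToP : (F₀).HasPrimeToPIndexIn F p :=
  ⟨fun P φ h => h.1, fun _ hP =>
    opAut_le_of_weaklyNormal hS (weaklyNormal_self hE.2.1) (characterSystem_invariant hS hE hK) hP⟩

/-- The restriction to `T` does not lie in the kernel for all automorphisms of `S`. -/
theorem exists_not_mem_lift {γ : MulAut T} (hγ : γ ∈ F.autGroup T) (hγK : γ ∉ K) :
    ∃ α ∈ F.autGroup S, α ∉ liftKernel hTS F K := by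
  classical
  have hT := hE.2.2.2.1
  haveI := finite_of_le_base hT.1
  have hTn := fullyNormalized_of_weaklyClosed (weaklyClosed_of_stronglyClosed hT)
  obtain ⟨hA, -⟩ := fullyNormalized_good hS hE.2.1 hTn
  obtain ⟨-, Syl, hSyl⟩ := hA
  let N := K.subgroupOf (F.autGroup T)
  haveI : N.Normal := ⟨fun n hn a => hK.conj_mem a a.2 n hn⟩
  have hTN : (Syl : Subgroup (F.autGroup T)) ≤ N := by
    rw [hSyl]
    exact fun a ha => mem_of_pElement hS hT hK ha
  have hsup : (Subgroup.normalizer ((Syl : Subgroup (F.autGroup T)) : Set (F.autGroup T))) ⊔ N = ⊤ :=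
    Sylow.normalizer_sup_eq_top' Syl hTN
  have hmem : (⟨γ, hγ⟩ : F.autGroup T) ∈
      ((Subgroup.normalizer ((Syl : Subgroup (F.autGroup T)) : Set (F.autGroup T)) ⊔ N : Subgroup _) :
        Set (F.autGroup T)) := by
    rw [hsup]
    exact Subgroup.mem_top _
  rw [Subgroup.mul_normal] at hmem
  obtain ⟨a, ha, o, ho, e⟩ := hmem
  have haK : (a : MulAut T) ∉ K := fun h => hγK (by
    rw [← show (a : MulAut T) * (o : MulAut T) = γ from congrArg Subtype.val e]
    exact mul_mem h ho)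
  have hTN' : T ≤ Subgroup.normalizer (T : Set Ω) := Subgroup.le_normalizer
  have hSN : S ≤ normalizerIn S T := le_inf le_rfl (sc_le_normalizer hT)
  obtain ⟨g, hg, hge⟩ := Criterion.extend_one (fullyNormalized_receptive hS hE.2.1 hTn) a.2 (fn_id hT.1)
    (img_id T) hSN fun m hm τ hτ => by
      have heq : τ = conjAut T (sc_le_normalizer hT hm) := mulAut_ext fun x hx => by
        rw [autFn_coe (conjAut T _) ⟨x, hx⟩, conjAut_coe]
        exact hτ x hx
      have hcn : (⟨conjAut T (sc_le_normalizer hT hm), autInducedBy_le_autGroup hT.1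
          (conjAut_mem_autInducedBy _ hm)⟩ : F.autGroup T) ∈ (Syl : Subgroup (F.autGroup T)) := by
        rw [hSyl]
        exact conjAut_mem_autInducedBy _ hm
      have h1 := (Subgroup.mem_normalizer_iff.1 ha _).1 hcn
      rw [hSyl] at h1
      exact heq ▸ h1
  have hgS : Fn F S g := hg.mono le_sup_right
  obtain ⟨α, hα, hαe⟩ := exists_aut_of_fn hgS (hgS.img_eq_self fun x hx => hgS.mem hx)
  refine ⟨α, hα, fun h => haK ?_⟩
  obtain ⟨-, β, hβ, hβe⟩ := h
  have : β = (a : MulAut T) := mulAut_ext fun t ht => by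
    rw [hβe t ht, autFn_coe α ⟨t, hTS ht⟩, hαe]
    exact hge t ht
  exact this ▸ hβ

end CfsgLib.Fsys.WNR
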