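import Cfsg.Agent.Lib.FusionSystem.SectionFreeFactor
/-
A Frattini decomposition of a saturated system along a normal subgroup `Q`: through `N_F(Q C_S(Q))` and the
subsystem of maps acting on `Q` as elements of `S`. Normal subgroups lifted along `F → F/Q`. A measure on systems.
-/
set_option autoImplicit false

namespace CfsgLib.Fsys

open Cfsg
open Cfsg.FusionSystem (centralizerIn normalizerIn imageAlong preimageAlong)
open scoped commutatorElement

universe u v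

variable {Ω : Type u} [Group Ω] {S : Subgroup Ω} {F : FusionSystem S} {P Q Q₀ : Subgroup Ω}

/-- The maps of a system over a finite group, recorded on subgroups of `S`. -/
def homSet (F : FusionSystem S) : Set (Σ P : Subgroup S, (P → S)) :=
  {x | ∃ f : Ω → Ω, Fn F (x.1.map S.subtype) f ∧ ∀ y : x.1, f ((y : S) : Ω) = x.2 y}

theorem homSet_lt [Finite S] {E : FusionSystem S} (hle : E ≤ F) (hne : ¬ F ≤ E) :
    (homSet E).ncard < (homSet F).ncard := by
  refine Set.ncard_lt_ncard ((Set.ssubset_iff_of_subset ?_).2 ?_) (Set.toFinite _)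
  · rintro x ⟨f, hf, h⟩
    exact ⟨f, fn_of_le hle hf, h⟩
  · obtain ⟨P, hP⟩ := not_forall.1 (show ¬ ∀ P, F.Hom P ⊆ E.Hom P from hne)
    obtain ⟨φ, hφ, hφE⟩ := Set.not_subset.1 hP
    have hPS := (F.le_of_mem hφ).1
    refine ⟨⟨P.subgroupOf S, fun y => ⟨φ ⟨((y : S) : Ω), y.2⟩, (F.le_of_mem hφ).2 _⟩⟩, ⟨ofHom φ, ?_, fun y => ?_⟩, ?_⟩
    · rw [Subgroup.map_subgroupOf_eq_of_le hPS]
      exact fn_ofHom hφ
    · exact ofHom_apply φ y.2
    · rintro ⟨f, hf, h⟩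
      rw [Subgroup.map_subgroupOf_eq_of_le hPS] at hf
      exact hφE (mem_hom_of_fn hf fun x => (h ⟨⟨x, hPS x.2⟩, x.2⟩).symm)

variable {p : ℕ} [Fact p.Prime] [Finite S]

/-- The subsystem of maps acting on a normal subgroup as elements of `S` is saturated. -/
theorem exists_innerOn (hS : IsPGroup p S) (hF : F.IsSaturated p) (hQ : F.IsNormal Q₀) :
    ∃ F₂ : FusionSystem S, F₂.IsSaturated p ∧ F₂ ≤ F ∧ F₂.IsNormal Q₀ ∧
      (∀ {P : Subgroup Ω} {f : Ω → Ω}, Fn F P f → Q₀ ≤ P → (∃ s ∈ S, ∀ x ∈ Q₀, f x = s * x * s⁻¹) → Fn F₂ P f) ∧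
      (∀ {P : Subgroup Ω} {f : Ω → Ω}, Fn F₂ P f →
        ∃ g, Fn F (P ⊔ Q₀) g ∧ (∀ x ∈ P, g x = f x) ∧ ∃ s ∈ S, ∀ x ∈ Q₀, g x = s * x * s⁻¹) := by
  have hsc := normal_stronglyClosed hQ
  have hr := fullyNormalized_receptive hS hF
    (fullyNormalized_of_weaklyClosed (weaklyClosed_of_stronglyClosed hsc))
  let K : Subgroup (MulAut Q₀) := autInducedBy S Q₀
  have hgood : KGood F Q₀ K := by
    intro u hu
    have hui : img u Q₀ = Q₀ := sc_img hsc le_rfl hu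
    obtain ⟨u', hu', hu'u, hu'i⟩ := hu.exists_inv
    rw [hui] at hu' hu'i
    obtain ⟨M, h, hh, hQM, hM, hhe⟩ := receptive_extend hr hu' hu'i
    refine ⟨M, h, hh, hui.le.trans hQM, ?_, 1, K.one_mem, fun x => ?_⟩
    · rintro s hs ⟨κ, hκ, hκe⟩
      obtain ⟨t, ht, hte⟩ := mem_autInducedBy.1 hκ
      refine (hM s).2 ⟨hs, sc_le_normalizer hsc hs, t, ht, fun y hy => ?_⟩
      obtain ⟨x, hx, rfl⟩ := hu.mem_img.1 (hui.ge hy)
      rw [hu'u x hx, hκe ⟨x, hx⟩, hu'u _ (κ ⟨x, hx⟩).2]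
      exact hte ⟨x, hx⟩
    · show h (u x) = _
      rw [hhe _ (hui.le (mem_img_of_mem x.2)), hu'u x x.2]
      rfl
  have hN : kN S Q₀ K = S := le_antisymm kN_le fun s hs =>
    ⟨hs, conjAut Q₀ (sc_le_normalizer hsc hs), conjAut_mem_autInducedBy _ hs, fun x => rfl⟩
  obtain ⟨F₂, hF₂⟩ := exists_cast hN (kSystem F Q₀ hQ.1 K)
  have hsat : F₂.IsSaturated p :=
    system_cast (C := fun _ E => E.IsSaturated p) hN hF₂ (kSystem_isSaturated hS hF hQ.1 hgood)
  have hfn : ∀ {P : Subgroup Ω} {f : Ω → Ω}, Fn F₂ P f ↔ KMap F Q₀ K P f := fun {P f} => by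
    rw [← fn_kSystem (hQ := hQ.1), Fn, Fn, hF₂]
  have hfn' : ∀ {P : Subgroup Ω} {f : Ω → Ω}, Fn F₂ P f →
      ∃ g, Fn F (P ⊔ Q₀) g ∧ (∀ x ∈ P, g x = f x) ∧ ∃ s ∈ S, ∀ x ∈ Q₀, g x = s * x * s⁻¹ := by
    intro P f hf
    obtain ⟨-, -, g, hg, hge, κ, hκ, hgκ⟩ := hfn.1 hf
    obtain ⟨s, hs, hse⟩ := mem_autInducedBy.1 hκ
    exact ⟨g, hg, hge, s, hs, fun x hx => (hgκ ⟨x, hx⟩).trans (hse ⟨x, hx⟩)⟩
  have hfn'' : ∀ {P : Subgroup Ω} {f : Ω → Ω}, Fn F P f → Q₀ ≤ P →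
      (∃ s ∈ S, ∀ x ∈ Q₀, f x = s * x * s⁻¹) → Fn F₂ P f := by
    rintro P f hf hle ⟨s, hs, hse⟩
    exact hfn.2 ⟨hN.symm ▸ hf.le, fun x hx => hN.symm ▸ hf.mem hx, f, by rwa [sup_eq_left.2 hle],
      fun x _ => rfl, conjAut Q₀ (sc_le_normalizer hsc hs), conjAut_mem_autInducedBy _ hs, fun x => hse x x.2⟩
  refine ⟨F₂, hsat, fun P φ hφ => ?_, normal_iff_fn.2 ⟨hQ.1, fun P f hf => ?_⟩, hfn'', hfn'⟩
  · obtain ⟨g, hg, hge, -⟩ := hfn' (fn_ofHom hφ)
    exact mem_hom_of_fn ((hg.mono le_sup_left).congr hge) fun x => (ofHom_coe φ x).symm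
  · obtain ⟨g, hg, hge, hs⟩ := hfn' hf
    exact ⟨g, hfn'' hg le_sup_right hs, hge, sc_img hsc le_sup_right hg⟩

/-- Frattini decomposition along a normal subgroup: a subgroup normal both in `N_F(Q₀ C_S(Q₀))` and in the
subsystem of maps inner on `Q₀` is normal in `F`. -/
theorem normal_of_frattini (hS : IsPGroup p S) (hF : F.IsSaturated p) (hQ : F.IsNormal Q₀)
    {N₁ F₂ : FusionSystem S}
    (hN₁ : ∀ {P : Subgroup Ω} {f : Ω → Ω}, Fn F P f → Q₀ ⊔ centralizerIn S Q₀ ≤ P → Fn N₁ P f)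
    (hN₁F : N₁ ≤ F) (hF₂F : F₂ ≤ F)
    (hF₂ : ∀ {P : Subgroup Ω} {f : Ω → Ω}, Fn F P f → Q₀ ≤ P →
      (∃ s ∈ S, ∀ x ∈ Q₀, f x = s * x * s⁻¹) → Fn F₂ P f)
    {W : Subgroup Ω} (h₁ : N₁.IsNormal W) (h₂ : F₂.IsNormal W) : F.IsNormal W := by
  have hsc := normal_stronglyClosed hQ
  have hr := fullyNormalized_receptive hS hF
    (fullyNormalized_of_weaklyClosed (weaklyClosed_of_stronglyClosed hsc))
  refine normal_iff_fn.2 ⟨h₁.1, fun P f hf => ?_⟩
  obtain ⟨χ, hχ, hχe, hχi⟩ := (normal_iff_fn.1 hQ).2 P f hf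
  obtain ⟨a', ha', ha'χ, ha'i⟩ := (hχ.mono le_sup_right).exists_inv
  rw [hχi] at ha' ha'i
  obtain ⟨M, b, hb, hQM, hM, hbe⟩ := receptive_extend hr ha' ha'i
  have hQ₁ : Q₀ ⊔ centralizerIn S Q₀ ≤ M :=
    sup_le hQM fun c hc => (hM c).2 (inExt_of_commute hc)
  have hχM : img χ (P ⊔ Q₀) ≤ M := img_le fun x hx => by
    refine (hM _).2 ⟨hχ.mem hx, sc_le_normalizer hsc (hχ.mem hx), x, hχ.le hx, fun y hy => ?_⟩
    obtain ⟨q, hq, rfl⟩ := (hχ.mono le_sup_right).mem_img.1 (hχi.ge hy)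
    have hxq : x * q * x⁻¹ ∈ Q₀ := sc_conj hsc (hχ.le hx) hq
    rw [← hχ.map_conj hx (Subgroup.mem_sup_right hq), ha'χ _ hxq, ha'χ q hq]
  have hb₁ : Fn N₁ M b := hN₁ hb hQ₁
  have hc : Fn F₂ (P ⊔ Q₀) (b ∘ χ) := by
    refine hF₂ (hχ.comp hb fun x hx => hχM (mem_img_of_mem hx)) le_sup_right ⟨1, S.one_mem, fun x hx => ?_⟩
    show b (χ x) = _
    rw [hbe _ (hχi.le (mem_img_of_mem hx)), ha'χ x hx]
    simp
  obtain ⟨g, hg, hge, hgW⟩ := (normal_iff_fn.1 h₂).2 _ _ hc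
  obtain ⟨bi, hbi, hbib, -⟩ := hb₁.exists_inv
  obtain ⟨k, hk, hke, hkW⟩ := (normal_iff_fn.1 h₁).2 _ _ hbi
  have hm : ∀ x ∈ P, g x ∈ img b M := fun x hx => by
    rw [hge x (Subgroup.mem_sup_left hx)]
    exact mem_img_of_mem (hχM (mem_img_of_mem (Subgroup.mem_sup_left hx)))
  have hgF : Fn F (P ⊔ W) g := (fn_of_le hF₂F hg).mono (sup_le (le_sup_left.trans le_sup_left) le_sup_right)
  have hmap : ∀ x ∈ P ⊔ W, g x ∈ img b M ⊔ W := by
    have : img g (P ⊔ W) ≤ img b M ⊔ W := by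
      rw [hgF.img_sup, hgW]
      exact sup_le_sup (img_le hm) le_rfl
    exact fun x hx => this (mem_img_of_mem hx)
  refine ⟨k ∘ g, hgF.comp (fn_of_le hN₁F hk) hmap, fun x hx => ?_, ?_⟩
  · show k (g x) = f x
    rw [hke _ (hm x hx), hge x (Subgroup.mem_sup_left hx)]
    show bi (b (χ x)) = f x
    rw [hbib _ (hχM (mem_img_of_mem (Subgroup.mem_sup_left hx))), hχe x hx]
  · rw [(hgF.mono le_sup_right).img_comp, hgW, hkW]

/-- If every map acts on the normal subgroup `Q₀` as an element of `S`, preimages of normal subgroups of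
the factor system are normal. -/
theorem normal_preimage {Ω' : Type v} [Group Ω'] {S' : Subgroup Ω'} {θ : S →* Ω'}
    (hS : IsPGroup p S) (hF : F.IsSaturated p) (hQ : F.IsNormal Q₀)
    (hinner : ∀ {P : Subgroup Ω} {f : Ω → Ω}, Fn F P f →
      ∃ g, Fn F (P ⊔ Q₀) g ∧ (∀ x ∈ P, g x = f x) ∧ ∃ s ∈ S, ∀ x ∈ Q₀, g x = s * x * s⁻¹)
    {E : FusionSystem S'} (hE : F.IsFactorSystem Q₀ θ E) {X : Subgroup Ω'} (hX : E.IsNormal X) :
    F.IsNormal (preimageAlong θ X) := by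
  classical
  have hsc := normal_stronglyClosed hQ
  have hker : ∀ x ∈ S, th θ x = 1 ↔ x ∈ Q₀ := fun x hx => factor_ker hE hx
  have hrange := factor_range hE
  have hsmall : ∀ R : Subgroup Ω, R ≤ Q₀ → S ≤ Subgroup.normalizer (R : Set Ω) → F.StronglyClosed R := by
    intro R hR hRn
    refine stronglyClosed_iff_fn.2 ⟨hR.trans hQ.1, fun P f hf x hx hxR => ?_⟩
    obtain ⟨g, -, hge, s, hs, hgs⟩ := hinner hf
    rw [← hge x hx, hgs x (hR hxR)]
    exact (mem_normalizer_iff'.1 (hRn hs)).1 x hxR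
  have hscpre : ∀ A : Subgroup Ω', E.StronglyClosed A → F.StronglyClosed (preimageAlong θ A) := by
    intro A hA
    refine stronglyClosed_iff_fn.2 ⟨preimageAlong_le, fun P f hf x hx hxA => ?_⟩
    obtain ⟨hxS, hxA⟩ := mem_preimageAlong.1 hxA
    obtain ⟨g, hg, hge⟩ := exists_extend_mod hS hF hsc hf
    obtain ⟨φ', hφ'⟩ := exists_inducedHom hg fun y hy h => sc_th_one hsc hker hg hy h
    have hfn : Fn E (imageAlong θ (P ⊔ Q₀)) (ofHom φ') := by
      have hle : P ⊔ Q₀ ≤ S := hg.le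
      refine (factor_fn hsc hE).2 ⟨?_, g, ?_, ?_⟩
      · intro y hy
        obtain ⟨z, -, hzS, rfl⟩ := mem_imageAlong.1 hy
        exact hrange.le (th_mem_range hzS)
      all_goals
        have e : preimageAlong θ (imageAlong θ (P ⊔ Q₀)) = P ⊔ Q₀ := by
          refine le_antisymm (fun y hy => ?_) (le_preimageAlong hle)
          obtain ⟨hyS, hyi⟩ := mem_preimageAlong.1 hy
          obtain ⟨z, hz, hzS, he⟩ := mem_imageAlong.1 hyi
          have : z⁻¹ * y ∈ Q₀ := (hker _ (S.mul_mem (S.inv_mem hzS) hyS)).1 (by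
            rw [th_mul (S.inv_mem hzS) hyS, th_inv hzS, he, inv_mul_cancel])
          simpa using (P ⊔ Q₀).mul_mem hz (Subgroup.mem_sup_right this)
        rw [e]
      · exact hg
      · exact fun y hy => hφ' y hy
    have h1 := (stronglyClosed_iff_fn.1 hA).2 _ _ hfn (th θ x) (th_mem_imageAlong (Subgroup.mem_sup_left hx) hxS) hxA
    rw [hφ' x (Subgroup.mem_sup_left hx)] at h1
    have h2 : g x ∈ preimageAlong θ A := mem_preimageAlong.2 ⟨hg.mem (Subgroup.mem_sup_left hx), h1⟩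
    have h3 : Q₀ ≤ preimageAlong θ A := fun q hq =>
      mem_preimageAlong.2 ⟨hQ.1 hq, ((hker q (hQ.1 hq)).2 hq).symm ▸ A.one_mem⟩
    simpa using (preimageAlong θ A).mul_mem h2 ((preimageAlong θ A).inv_mem (h3 (hge x hx)))
  have : Finite S' := hrange ▸ Finite.of_surjective θ.rangeRestrict θ.rangeRestrict_surjective
  have hS' : IsPGroup p S' := hrange ▸ hS.of_surjective θ.rangeRestrict θ.rangeRestrict_surjective
  obtain ⟨C', m, hC0, hCm, -, hCsc, hCc⟩ := normal_series hS' hX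
  have := finite_of_le_base hQ.1
  obtain ⟨l, hl⟩ := (Subgroup.isNilpotent_iff_lowerCentralSeries S).1 hS.isNilpotent
  let C : ℕ → Subgroup Ω := fun i => if i ≤ l then Q₀ ⊓ S.lowerCentralSeries (l - i) else preimageAlong θ (C' (i - l))
  have hQX : Q₀ ≤ preimageAlong θ X := fun q hq =>
    mem_preimageAlong.2 ⟨hQ.1 hq, ((hker q (hQ.1 hq)).2 hq).symm ▸ X.one_mem⟩
  refine normal_of_series hS hF (hscpre X (normal_stronglyClosed hX)) C (l + m) ?_ ?_ ?_ ?_
  · simp only [C, Nat.zero_le, if_true, Nat.sub_zero, hl, inf_bot_eq]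
  · rcases Nat.eq_zero_or_pos m with rfl | hm
    · simp only [C, Nat.add_zero, le_rfl, if_true, Nat.sub_self, Subgroup.lowerCentralSeries_zero]
      rw [inf_eq_left.2 hQ.1]
      refine le_antisymm hQX fun x hx => ?_
      obtain ⟨hxS, hxX⟩ := mem_preimageAlong.1 hx
      rw [← hCm, hC0, Subgroup.mem_bot] at hxX
      exact (hker x hxS).1 hxX
    · simp only [C, show ¬ l + m ≤ l by omega, if_false, Nat.add_sub_cancel_left, hCm]
  · intro i hi
    simp only [C]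
    split_ifs with h
    · refine hsmall _ inf_le_left fun s hs => mem_normalizer_iff'.2 ?_
      have hc : ∀ t ∈ S, ∀ x ∈ Q₀ ⊓ S.lowerCentralSeries (l - i), t * x * t⁻¹ ∈ Q₀ ⊓ S.lowerCentralSeries (l - i) :=
        fun t ht x hx => ⟨sc_conj hsc ht hx.1, by
          obtain ⟨hx0, hxl⟩ := hx
          have : ⁅t, x⁆ ∈ S.lowerCentralSeries (l - i) := by
            refine S.lowerCentralSeries_antitone (Nat.le_succ _) ?_
            rw [Subgroup.lowerCentralSeries_succ, Subgroup.commutator_comm]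
            exact Subgroup.commutator_mem_commutator ht hxl
          simpa [commutatorElement_def, mul_assoc] using Subgroup.mul_mem _ this hxl⟩
      exact ⟨hc s hs, fun x hx => by simpa using hc s⁻¹ (S.inv_mem hs) x hx⟩
    · exact hscpre _ (hCsc _ (by omega))
  · intro i hi
    simp only [C]
    rw [Subgroup.commutator_le]
    intro y hy x hx
    have hyS : y ∈ S := preimageAlong_le hy
    by_cases h : i + 1 ≤ l
    · rw [if_pos h] at hx
      rw [if_pos (by omega)]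
      refine ⟨?_, ?_⟩
      · rw [commutatorElement_def]
        exact Q₀.mul_mem (sc_conj hsc hyS hx.1) (Q₀.inv_mem hx.1)
      · rw [show l - i = l - (i + 1) + 1 by omega, Subgroup.lowerCentralSeries_succ, Subgroup.commutator_comm]
        exact Subgroup.commutator_mem_commutator hyS hx.2
    · rw [if_neg h] at hx
      obtain ⟨hxS, hxC⟩ := mem_preimageAlong.1 hx
      have hcS : ⁅y, x⁆ ∈ S := by
        rw [commutatorElement_def]
        exact S.mul_mem (S.mul_mem (S.mul_mem hyS hxS) (S.inv_mem hyS)) (S.inv_mem hxS)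
      have h1 : th θ ⁅y, x⁆ ∈ C' (i - l) := by
        have hy' : th θ ⁅y, x⁆ = ⁅th θ y, th θ x⁆ := by
          rw [commutatorElement_def, commutatorElement_def, th_mul (S.mul_mem (S.mul_mem hyS hxS) (S.inv_mem hyS))
            (S.inv_mem hxS), th_conj hyS hxS, th_inv hxS]
        rw [hy']
        refine hCc (i - l) (by omega) (Subgroup.commutator_mem_commutator (mem_preimageAlong.1 hy).2 ?_)
        rwa [show i - l + 1 = i + 1 - l by omega]
      split_ifs with hil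
      · obtain rfl : i = l := by omega
        rw [Nat.sub_self, hC0, Subgroup.mem_bot] at h1
        exact ⟨(hker _ hcS).1 h1, by rw [Nat.sub_self, Subgroup.lowerCentralSeries_zero]; exact hcS⟩
      · exact mem_preimageAlong.2 ⟨hcS, h1⟩

end CfsgLib.Fsys
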