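import Cfsg.Prelude.Def_LocalEven
import Cfsg.Prelude.Def_Amalgam
import Cfsg.Agent.Lib.FusionSystem.Group
import Cfsg.Agent.Lib.FusionSystem.LocalModels
import Cfsg.Agent.Lib.LocalEven.SylowIn

/-! `p`-stability of groups and of fusion systems. -/

set_option autoImplicit false

open Cfsg Cfsg.FusionSystem

namespace CfsgLib.Fsys

open CfsgLib.LocalEven.SylowIn
open scoped commutatorElement

variable {Ω : Type*} [Group Ω] {S P Q : Subgroup Ω} {F : FusionSystem S} {p : ℕ}

/-- Quadratic action of an automorphism. -/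
def QuadAut (χ : MulAut Q) : Prop := ∀ a : Q, (χ a⁻¹) * a * (χ a⁻¹) * (χ (χ a)) = 1

theorem quadAut_iff {χ : MulAut Q} : QuadAut χ ↔ ∀ a : Q, χ (a⁻¹ * χ a) = a⁻¹ * χ a := by
  refine forall_congr' fun a => ?_
  rw [map_mul, map_inv]
  constructor
  · intro h
    have h' : a * (χ a)⁻¹ * χ (χ a) = χ a := mul_eq_one_iff_inv_eq.1 (by simpa [mul_assoc] using h) |>.symm.trans (inv_inv _)
    calc (χ a)⁻¹ * χ (χ a) = a⁻¹ * (a * (χ a)⁻¹ * χ (χ a)) := by group
      _ = a⁻¹ * χ a := by rw [h']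
  · intro h
    calc (χ a)⁻¹ * a * (χ a)⁻¹ * χ (χ a) = (χ a)⁻¹ * a * ((χ a)⁻¹ * χ (χ a)) := by group
      _ = 1 := by rw [h]; group

theorem quadAut_pow {χ : MulAut Q} (h : QuadAut χ) (a : Q) (k : ℕ) :
    (χ ^ k) a = a * (a⁻¹ * χ a) ^ k := by
  induction k with
  | zero => simp
  | succ k ih =>
    rw [pow_succ' χ, MulAut.mul_apply, ih, map_mul, map_pow, quadAut_iff.1 h a, pow_succ']
    rw [← mul_assoc, ← mul_assoc, mul_inv_cancel, one_mul]

theorem quadAut_pgroup [Fact p.Prime] [Finite Q] (hQ : IsPGroup p Q) {χ : MulAut Q} (h : QuadAut χ) :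
    IsPGroup p (Subgroup.zpowers χ) := by
  obtain ⟨n, hn⟩ := IsPGroup.iff_card.1 hQ
  have h1 : χ ^ p ^ n = 1 := by
    ext a
    rw [quadAut_pow h, ← hn, pow_card_eq_one', mul_one]
    rfl
  obtain ⟨m, -, hm⟩ := (Nat.dvd_prime_pow Fact.out).1 (orderOf_dvd_of_pow_eq_one h1)
  exact IsPGroup.of_card ((Nat.card_zpowers χ).trans hm)

/-- `p`-stability at one subgroup. -/
def QStable (p : ℕ) (F : FusionSystem S) (Q : Subgroup Ω) : Prop :=
  ∀ χ : MulAut Q, χ ∈ F.autGroup Q → QuadAut χ → χ ∈ pCoreOf p (F.autGroup Q)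

theorem map_pCore_equiv {A B : Type*} [Group A] [Group B] [Fact p.Prime] [Finite A] (e : A ≃* B) :
    (pCore p A).map e.toMonoidHom = pCore p B := by
  have : Finite B := Finite.of_equiv A e.toEquiv
  refine le_antisymm ?_ ?_
  · have := (pCore_normal A p).map e.toMonoidHom e.surjective
    exact le_pCore ((isPGroup_pCore A p).map _)
  · intro b hb
    have := (pCore_normal B p).map e.symm.toMonoidHom e.symm.surjective
    refine ⟨e.symm b, le_pCore ((isPGroup_pCore B p).map e.symm.toMonoidHom) (Subgroup.mem_map_of_mem e.symm.toMonoidHom hb), e.apply_symm_apply b⟩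

theorem map_pCoreOf {A B : Type*} [Group A] [Group B] [Fact p.Prime] [Finite A] (e : A ≃* B) (K : Subgroup A) :
    (pCoreOf p K).map e.toMonoidHom = pCoreOf p (K.map e.toMonoidHom) := by
  show (pCoreOf p K).map (e : A →* B) = pCoreOf p (K.map (e : A →* B))
  rw [pCoreOf, pCoreOf, ← map_pCore_equiv (p := p) (e.subgroupMap K), Subgroup.map_map, Subgroup.map_map]
  rfl

theorem inf_pCoreOf_le {A : Type*} [Group A] [Fact p.Prime] [Finite A] {K' K : Subgroup A} (h : K' ≤ K) :
    pCoreOf p K ⊓ K' ≤ pCoreOf p K' := by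
  refine le_pCoreOf inf_le_right (fun g hg => ?_) ((isPGroup_pCoreOf K).to_le inf_le_left)
  rw [Subgroup.mem_normalizer_iff]
  intro x
  have hx := Subgroup.mem_normalizer_iff.1 (normalizer_pCoreOf (p := p) K (h hg)) x
  simp only [SetLike.mem_coe, Subgroup.mem_inf, ← hx]
  refine and_congr_right fun _ => ⟨fun hx' => K'.mul_mem (K'.mul_mem hg hx') (K'.inv_mem hg), fun hx' => ?_⟩
  simpa [mul_assoc] using K'.mul_mem (K'.mul_mem (K'.inv_mem hg) hx') hg

theorem quadAut_congr {e : Q ≃* P} {χ : MulAut Q} (h : QuadAut χ) : QuadAut (MulAut.congr e χ) := by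
  refine quadAut_iff.2 fun a => ?_
  have := congrArg e (quadAut_iff.1 h (e.symm a))
  simpa [MulAut.congr] using this

variable [Fact p.Prime]

theorem qStable_of_isConj [Finite S] (h : F.IsConj Q P) (hP : QStable p F P) : QStable p F Q := by
  obtain ⟨f, hf, hi⟩ := isConj_iff.1 h
  have hQS := isConj_le_left h
  have := finite_of_le_base hQS
  obtain ⟨e, -, he⟩ := exists_transport hQS hf hi
  intro χ hχ hq
  obtain ⟨χ', hχ', hχe⟩ : MulAut.congr e χ ∈ (pCoreOf p (F.autGroup Q)).map (MulAut.congr e).toMonoidHom := by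
    rw [map_pCoreOf, he]
    exact hP _ (he ▸ ⟨χ, hχ, rfl⟩) (quadAut_congr hq)
  rwa [← (MulAut.congr e).injective hχe]

theorem qStable_sub [Finite S] {T : Subgroup Ω} {E : FusionSystem T} (h : E.autGroup Q ≤ F.autGroup Q)
    [Finite Q] (hP : QStable p F Q) : QStable p E Q := fun χ hχ hq =>
  inf_pCoreOf_le h ⟨hP χ (h hχ) hq, hχ⟩

/-- For a cyclic subgroup a quadratic automorphism lies in the `p`-core. -/
theorem qStable_of_cyclic [Finite Q] (hQ : IsPGroup p Q) (hc : IsCyclic Q) : QStable p F Q := by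
  intro χ hχ hq
  have hab : ∀ α β : MulAut Q, α * β = β * α := by
    intro α β
    obtain ⟨g, hg⟩ := hc.exists_generator
    obtain ⟨i, hi⟩ := Subgroup.mem_zpowers_iff.1 (hg (α g))
    obtain ⟨j, hj⟩ := Subgroup.mem_zpowers_iff.1 (hg (β g))
    have key : α (β g) = β (α g) := by
      rw [← hi, ← hj, map_zpow, map_zpow, ← hi, ← hj, ← zpow_mul, ← zpow_mul, mul_comm]
    ext x
    obtain ⟨n, rfl⟩ := Subgroup.mem_zpowers_iff.1 (hg x)
    rw [MulAut.mul_apply, MulAut.mul_apply, map_zpow, map_zpow, map_zpow, map_zpow, key]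
  refine le_pCoreOf (N := Subgroup.zpowers χ) ((Subgroup.zpowers_le).2 hχ) (fun g _ => ?_)
    (quadAut_pgroup hQ hq) (Subgroup.mem_zpowers χ)
  rw [Subgroup.mem_normalizer_iff]
  intro x
  rw [hab g x, mul_inv_cancel_right]

section Group

variable {G : Type*} [Group G] [Finite G]

/-- `p`-stability of `G` at one subgroup. -/
theorem group_qStable_iff (U : Subgroup G) (P : Subgroup G) (hP : P ≤ U) :
    QStable p (groupFusionSystem U) P ↔ ∀ (g : G) (hg : g ∈ Subgroup.normalizer (P : Set G)),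
    ⁅⁅P, Subgroup.zpowers g⁆, Subgroup.zpowers g⁆ = ⊥ →
      (QuotientGroup.mk (s := (Subgroup.centralizer (P : Set G)).subgroupOf (Subgroup.normalizer (P : Set G)))
          (⟨g, hg⟩ : ↥(Subgroup.normalizer (P : Set G)))) ∈
        pCore p (↥(Subgroup.normalizer (P : Set G)) ⧸
          (Subgroup.centralizer (P : Set G)).subgroupOf (Subgroup.normalizer (P : Set G))) := by
  set ν := P.normalizerMonoidHom with hν
  let C := (Subgroup.centralizer (P : Set G)).subgroupOf (Subgroup.normalizer (P : Set G))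
  have hk : C = ν.ker := (P.normalizerMonoidHom_ker).symm
  have hA : (groupFusionSystem U).autGroup P = ν.range := by rw [group_autGroup hP, autInducedBy_top]
  let e : (↥(Subgroup.normalizer (P : Set G)) ⧸ C) ≃* ν.range :=
    (QuotientGroup.quotientMulEquivOfEq hk).trans (QuotientGroup.quotientKerEquivRange ν)
  have hcore : ∀ n : ↥(Subgroup.normalizer (P : Set G)),
      (QuotientGroup.mk (s := C) n ∈ pCore p _ ↔ ν n ∈ pCoreOf p ν.range) := by
    intro n
    rw [pCoreOf, ← map_pCore_equiv (p := p) e, Subgroup.map_map]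
    constructor
    · exact fun h => ⟨_, h, rfl⟩
    · rintro ⟨m, hm, hme⟩
      have : m = QuotientGroup.mk n := e.injective (Subtype.ext hme)
      exact this ▸ hm
  have hquad : ∀ n : ↥(Subgroup.normalizer (P : Set G)),
      (⁅⁅P, Subgroup.zpowers (n : G)⁆, Subgroup.zpowers (n : G)⁆ = ⊥ ↔ QuadAut (ν n)) := by
    intro n
    rw [quadAut_iff, Subgroup.commutator_eq_bot_iff_le_centralizer]
    have hval : ∀ a : P, (((ν n) a : P) : G) = (n : G) * a * (n : G)⁻¹ := fun a => rfl
    constructor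
    · intro h a
      have hmem : (a : G)⁻¹ * ((n : G) * a * (n : G)⁻¹) ∈ ⁅P, Subgroup.zpowers (n : G)⁆ := by
        have := Subgroup.commutator_mem_commutator (P.inv_mem a.2) (Subgroup.mem_zpowers (n : G))
        simpa [commutatorElement_def, mul_assoc] using this
      have hc := h hmem _ (Subgroup.mem_zpowers (n : G))
      apply Subtype.ext
      rw [hval]
      show (n : G) * ((a : G)⁻¹ * ((n : G) * a * (n : G)⁻¹)) * (n : G)⁻¹ = (a : G)⁻¹ * ((n : G) * a * (n : G)⁻¹)
      rw [hc, mul_inv_cancel_right]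
    · intro h
      rw [Subgroup.commutator_le]
      intro a ha k hk y hy
      obtain ⟨i, rfl⟩ := Subgroup.mem_zpowers_iff.1 hy
      refine (Commute.zpow_left ?_ i).eq
      obtain ⟨j, rfl⟩ := Subgroup.mem_zpowers_iff.1 hk
      obtain ⟨m, hm⟩ : ∃ m : ℕ, (n : G) ^ j = (n : G) ^ m :=
        (mem_powers_iff_mem_zpowers.2 ⟨j, rfl⟩).imp fun m hm => hm.symm
      rw [hm]
      have hq := quadAut_pow (quadAut_iff.2 h) (⟨a, ha⟩⁻¹ : P) m
      set c : P := (⟨a, ha⟩⁻¹ : P)⁻¹ * (ν n) (⟨a, ha⟩⁻¹ : P) with hc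
      have hfix : Commute (n : G) (c : G) := by
        have := congrArg (Subtype.val) (h (⟨a, ha⟩⁻¹ : P))
        rw [← hc, hval] at this
        exact mul_inv_eq_iff_eq_mul.1 this
      have heq : ⁅a, (n : G) ^ m⁆ = ((c : G)) ^ m := by
        rw [← map_pow] at hq
        have := congrArg (Subtype.val) hq
        rw [Subgroup.coe_mul, Subgroup.coe_pow] at this
        change ((n ^ m : ↥(Subgroup.normalizer (P : Set G))) : G) * a⁻¹ *
          ((n ^ m : ↥(Subgroup.normalizer (P : Set G))) : G)⁻¹ = a⁻¹ * (c : G) ^ m at this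
        rw [Subgroup.coe_pow] at this
        rw [commutatorElement_def, show a * (n : G) ^ m * a⁻¹ * ((n : G) ^ m)⁻¹ =
          a * ((n : G) ^ m * a⁻¹ * ((n : G) ^ m)⁻¹) by group, this]
        group
      rw [heq]
      exact hfix.pow_right m
  constructor
  · intro h g hg hq
    exact (hcore ⟨g, hg⟩).2 (hA ▸ h _ (hA ▸ ⟨_, rfl⟩) ((hquad ⟨g, hg⟩).1 hq))
  · intro h χ hχ hq
    rw [hA] at hχ ⊢
    obtain ⟨n, rfl⟩ := hχ
    exact (hcore n).1 (h n n.2 ((hquad n).2 hq))

theorem normalizerPStable_iff (T : Sylow p G) :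
    IsNormalizerPStable p G ↔ ∀ Q, (groupFusionSystem (T : Subgroup G)).IsFullyNormalized Q →
      QStable p (groupFusionSystem (T : Subgroup G)) Q := by
  have key : ∀ Q : Subgroup G, Q ≤ T → (QStable p (groupFusionSystem (T : Subgroup G)) Q ↔
      QStable p (groupFusionSystem (⊤ : Subgroup G)) Q) := fun Q hQ => by
    rw [group_qStable_iff _ Q hQ, group_qStable_iff _ Q le_top]
  constructor
  · intro h Q hQ
    exact (group_qStable_iff _ Q hQ.1).2 fun g hg => h Q (T.2.to_le hQ.1) g hg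
  · intro h Q hQ
    refine (group_qStable_iff (⊤ : Subgroup G) Q le_top).1 ?_
    obtain ⟨T', hQT'⟩ := hQ.exists_le_sylow
    obtain ⟨g, hg⟩ := MulAction.exists_smul_eq G T' T
    have hQ' : Q.map (MulAut.conj g).toMonoidHom ≤ T := hg ▸ (Subgroup.map_mono hQT')
    obtain ⟨R, hR, hRn⟩ := exists_fullyNormalized (F := groupFusionSystem (T : Subgroup G)) hQ'
    obtain ⟨-, hRT, g', hg'⟩ := group_isConj_iff.1 hR
    refine qStable_of_isConj (P := R) ?_ ((key R hRT).1 (h R hRn))
    exact isConj_trans (group_isConj_iff.2 ⟨le_top, le_top, g, rfl⟩) (group_isConj_iff.2 ⟨le_top, le_top, g', hg'⟩)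

end Group

variable [Finite S]

theorem fusion_pStable_iff_normalizers (hS : IsPGroup p S) :
    (∀ Q, F.IsFullyNormalized Q → QStable p F Q) ↔ ∀ R : Subgroup Ω, F.IsFullyNormalized R → ¬ IsCyclic R →
      ∀ N : FusionSystem (normalizerIn S R), F.IsNormalizerSystem R N →
        ∀ Q, N.IsFullyNormalized Q → QStable p N Q := by
  constructor
  · intro h R hR _ N hN Q hQ
    have hQS : Q ≤ S := hQ.1.trans normalizerIn_le
    have := finite_of_le_base hQS
    obtain ⟨Q', hQQ', hQ'⟩ := exists_fullyNormalized (F := F) hQS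
    refine qStable_sub (F := F) (fun α hα => ?_) (qStable_of_isConj hQQ' (h Q' hQ'))
    exact (mem_autGroup hQS).2 (normalizerSystem_sub hN Q ((mem_autGroup hQ.1).1 hα))
  · intro h Q hQ
    have := finite_of_le_base hQ.1
    by_cases hc : IsCyclic Q
    · exact qStable_of_cyclic (hS.to_le hQ.1) hc
    obtain ⟨N, hN⟩ := exists_normalizerSystem F hQ.1
    have hQN : Q ≤ normalizerIn S Q := le_normalizerIn hQ.1
    have hA : N.autGroup Q = F.autGroup Q := by
      ext α
      rw [mem_autGroup_iff_fn hQN, mem_autGroup_iff_fn hQ.1, fn_normalizerSystem hN, sup_idem]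
      refine ⟨fun ⟨_, _, g, hg, he, _⟩ => hg.congr he, fun hf => ?_⟩
      exact ⟨hQN, fun x hx => hQN (autFn_mem α hx), _, hf, fun x _ => rfl, img_autFn α⟩
    have hn : N.IsFullyNormalized Q := by
      refine ⟨hQN, fun R hR => ?_⟩
      obtain ⟨f, hf, rfl⟩ := isConj_iff.1 hR
      obtain ⟨-, -, g, -, he, hi⟩ := (fn_normalizerSystem hN).1 hf
      rw [← (img_congr he), hi]
    intro χ hχ hq
    have := h Q hQ hc N hN Q hn χ (hA ▸ hχ) hq
    rwa [hA] at this

end CfsgLib.Fsys
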