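import Cfsg.Prelude.Def_FusionComponents
import Cfsg.Agent.Lib.FusionSystem.Hyperfocal
import Cfsg.Agent.Lib.FusionSystem.PStable
import Cfsg.Agent.Lib.FusionSystem.ControlFrattini
import Cfsg.Agent.Lib.FusionSystem.NilpotencyCriterion
import Cfsg.Agent.Lib.FusionSystem.SmallElements
import Cfsg.Agent.Lib.FusionSystem.Inner

/-! Normal subsystems: miscellaneous facts. -/

set_option autoImplicit false

open Cfsg Cfsg.FusionSystem

namespace CfsgLib.Fsys

open CfsgLib.LocalEven.SylowIn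
open scoped Pointwise

variable {Ω : Type*} [Group Ω] {S T U P : Subgroup Ω} {F : FusionSystem S} {p : ℕ} [Fact p.Prime] [Finite S]

/-- Saturated subsystems lie in subsystems of `p`-power index over larger subgroups. -/
theorem le_of_pPowerIndex (hS : IsPGroup p S) {E : FusionSystem T} (hE : E.IsSaturated p)
    (hEF : E.IsSubsystemOf F) {F₀ : FusionSystem U} (hTU : T ≤ U) (hidx : F₀.HasPPowerIndexIn F p) :
    E.IsSubsystemOf F₀ := by
  classical
  have hTS : T ≤ S := subsystem_le hEF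
  have := finite_of_le_base hTS
  let D : FusionSystem T := predSystem E (fun P f => Fn F₀ P f)
    (fun P f g he _ hf => hf.congr he)
    (fun P hP s hs => fn_conj (hP.trans hTU) (hTU hs))
    (fun P R f g _ _ hm hf hg => hf.comp hg hm)
    (fun P f g hfE hgE hgf hf => by
      obtain ⟨h, hh, hhf, -⟩ := hf.exists_inv
      refine hh.congr fun y hy => ?_
      obtain ⟨x, hx, rfl⟩ := hfE.mem_img.1 hy
      rw [hhf x hx, hgf x hx])
  have hle : E ≤ D := by
    refine le_of_automizers (hS.to_le hTS) hE D ?_ fun P hPT hP _ => ?_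
    all_goals
      intro α hα
      rw [mem_autGroup_iff_fn (by first | exact le_rfl | exact hPT.le)] at hα ⊢
      refine fn_predSystem.2 ⟨hα, ?_⟩
    · have hA := fullyAutomized_top hE
      obtain ⟨β, hβ, γ, hγ, rfl⟩ := exists_residual_decomp (hS.to_le hTS) hE hA
        ((mem_autGroup_iff_fn le_rfl).2 hα)
      refine (mem_autGroup_iff_fn hTU).1 (mul_mem (hidx.2.2 T hTU
        (CfsgLib.Fusion.Basic.pResidual_map_subtype_mono (autGroup_mono' hEF T) ⟨β, hβ, rfl⟩)) ?_)
      obtain ⟨g, hg, hgγ⟩ := mem_autInducedBy.1 hγ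
      exact (mem_autGroup_iff_fn hTU).2 ((fn_conj hTU (hTU hg)).congr fun x hx =>
        ((autFn_coe γ ⟨x, hx⟩).trans (hgγ ⟨x, hx⟩)).symm)
    · have hA := (fullyNormalized_good (hS.to_le hTS) hE hP).1
      obtain ⟨β, hβ, γ, hγ, rfl⟩ := exists_residual_decomp (hS.to_le hTS) hE hA
        ((mem_autGroup_iff_fn hPT.le).2 hα)
      refine (mem_autGroup_iff_fn (hPT.le.trans hTU)).1 (mul_mem (hidx.2.2 P (hPT.le.trans hTU)
        (CfsgLib.Fusion.Basic.pResidual_map_subtype_mono (autGroup_mono' hEF P) ⟨β, hβ, rfl⟩)) ?_)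
      obtain ⟨g, hg, hgγ⟩ := mem_autInducedBy.1 hγ
      exact (mem_autGroup_iff_fn (hPT.le.trans hTU)).2 ((fn_conj (hPT.le.trans hTU) (hTU hg)).congr fun x hx =>
        ((autFn_coe γ ⟨x, hx⟩).trans (hgγ ⟨x, hx⟩)).symm)
  intro P φ hφ
  exact mem_hom_iff.2 (fn_predSystem.1 (fn_ofHom (hle P hφ))).2

/-- Conjugates of radical subgroups are radical. -/
theorem radical_of_isConj {Q : Subgroup Ω} (h : F.IsConj P Q) (hr : F.IsRadical p P) : F.IsRadical p Q := by
  have hPS := isConj_le_left h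
  have hQS := isConj_le_right h
  have := finite_of_le_base hPS
  have := finite_of_le_base hQS
  obtain ⟨f, hf, hi⟩ := isConj_iff.1 h
  obtain ⟨e, -, hA⟩ := exists_transport hPS hf hi
  have hm : (pCoreOf p (F.autGroup P)).map (MulAut.congr e).toMonoidHom = pCoreOf p (F.autGroup Q) := by
    rw [map_pCoreOf, hA]
  have hi : (Inn P).map (MulAut.congr e).toMonoidHom = Inn Q := by
    ext β
    constructor
    · rintro ⟨_, ⟨x, rfl⟩, rfl⟩
      exact ⟨e x, MulEquiv.ext fun y => by simp [MulAut.congr]⟩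
    · rintro ⟨y, rfl⟩
      exact ⟨_, ⟨e.symm y, rfl⟩, MulEquiv.ext fun z => by simp [MulAut.congr]⟩
  refine ⟨hQS, ?_⟩
  show pCoreOf p (F.autGroup Q) = Inn Q
  rw [← hm, ← hi]
  exact congrArg _ hr.2

/-- A centric `P` with `P ∩ T` not centric in `E` has a conjugate on which some outer `p`-element of
`O_p(Aut_F)` acts. -/
theorem not_radical_of_inter_not_centric (hS : IsPGroup p S) (hF : F.IsSaturated p) {E : FusionSystem T}
    (hEF : E.IsSubsystemOf F) (hT : F.StronglyClosed T) (hP : F.IsCentric P) (hPT : ¬ E.IsCentric (P ⊓ T)) :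
    (∃ φ ∈ F.Hom P, ∃ x ∈ S ⊓ Subgroup.normalizer (φ.range : Set Ω), x ∉ φ.range ∧
      ∃ α ∈ ((pCore p ↥(F.autGroup φ.range)).map (F.autGroup φ.range).subtype : Subgroup (MulAut ↥φ.range)),
        ∀ y : ↥φ.range, ((α y : ↥φ.range) : Ω) = x * (y : Ω) * x⁻¹) ∧ ¬ F.IsRadical p P := by
  classical
  have hPS := hP.1
  have hRS : P ⊓ T ≤ S := inf_le_left.trans hPS
  obtain ⟨R', hRR', hR'⟩ : ∃ R', E.IsConj (P ⊓ T) R' ∧ ¬ centralizerIn T R' ≤ R' := by
    by_contra hall
    push_neg at hall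
    exact hPT ⟨inf_le_right, hall⟩
  have hRR'F : F.IsConj (P ⊓ T) R' := by
    obtain ⟨φ, hφ, hr⟩ := hRR'
    exact ⟨φ, hEF _ hφ, hr⟩
  have hR'T : R' ≤ T := isConj_le_right hRR'
  obtain ⟨R, hR'R, hRn⟩ := exists_fullyNormalized (F := F) (hR'T.trans hT.1)
  obtain ⟨hA, hfc⟩ := fullyNormalized_good hS hF hRn
  have hrec := fullyNormalized_receptive hS hF hRn
  obtain ⟨g, hg, -, hgi⟩ := exists_normalizer_map hS hA hrec (isConj_trans hRR'F hR'R)
  obtain ⟨g', hg', -, hg'i⟩ := exists_normalizer_map hS hA hrec hR'R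
  have hR'N : R' ≤ normalizerIn S R' := le_normalizerIn (hR'T.trans hT.1)
  obtain ⟨c, hc, hcR'⟩ := SetLike.not_le_iff_exists.1 hR'
  have hcS : c ∈ centralizerIn S R' := ⟨hT.1 hc.1, hc.2⟩
  have hcN : c ∈ normalizerIn S R' := centralizerIn_le_normalizerIn hcS
  have := finite_of_le_base hRS
  have hPN : P ≤ normalizerIn S (P ⊓ T) := fun y hy => ⟨hPS hy,
    mem_normalizer_of_map_le (P := P ⊓ T) fun x hx =>
      ⟨P.mul_mem (P.mul_mem hy hx.1) (P.inv_mem hy), sc_conj hT (hPS hy) hx.2⟩⟩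
  have hgP := hg.mono hPN
  set P₁ := img g P with hP₁
  have hP₁S : P₁ ≤ S := hgP.img_le_base
  have hinter : P₁ ⊓ T = R := by
    refine le_antisymm (fun y hy => ?_) fun y hy => ?_
    · obtain ⟨h, hh, hhg, -⟩ := hgP.exists_inv
      obtain ⟨x, hx, rfl⟩ := hgP.mem_img.1 hy.1
      have hxT : x ∈ T := by
        have := (stronglyClosed_iff_fn.1 hT).2 _ _ hh (g x) (mem_img_of_mem hx) hy.2
        rwa [hhg x hx] at this
      exact hgi.le (mem_img_of_mem ⟨hx, hxT⟩)
    · obtain ⟨x, hx, rfl⟩ := (hg.mono (le_normalizerIn hRS)).mem_img.1 (hgi.ge hy)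
      exact ⟨mem_img_of_mem hx.1, sc_apply hT hg (le_normalizerIn hRS hx) hx.2⟩
  have hP₁c : F.IsCentric P₁ := ⟨hP₁S, fun X hX => hP.2 X (isConj_trans (isConj_of_fn hgP) hX)⟩
  set C := centralizerIn T R with hC
  have hc₁ : g' c ∈ C := ⟨sc_apply hT hg' hcN hc.1, (hg'.map_centralizer hR'N hg'i hcN hcS).2⟩
  have hc₁P : g' c ∉ P₁ := fun h => hcR' ((hg'.map_mem_iff hR'N hcN).1 (hg'i.ge (hinter.le ⟨h, hc₁.1⟩)))
  have hCS : C ≤ S := (inf_le_left : C ≤ T).trans hT.1
  have hnC : P₁ ≤ Subgroup.normalizer (C : Set Ω) := fun y hy => by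
    have := finite_of_le_base hCS
    refine mem_normalizer_of_map_le fun z hz => ⟨sc_conj hT (hP₁S hy) hz.1, fun r hr => ?_⟩
    have hr' : y⁻¹ * r * y ∈ R := by
      have hr₂ : r ∈ P₁ ⊓ T := hinter.ge hr
      refine hinter.le ⟨P₁.mul_mem (P₁.mul_mem (P₁.inv_mem hy) hr₂.1) hy, ?_⟩
      simpa using sc_conj hT (S.inv_mem (hP₁S hy)) hr₂.2
    calc r * (y * z * y⁻¹) = y * ((y⁻¹ * r * y) * z) * y⁻¹ := by group
      _ = y * (z * (y⁻¹ * r * y)) * y⁻¹ := by rw [hz.2 _ hr']
      _ = y * z * y⁻¹ * r := by group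
  obtain ⟨n, hn, hnN, hnP⟩ := exists_mem_normalizer_not_mem hS (sup_le hP₁S hCS)
    (lt_of_le_of_ne (le_sup_left : P₁ ≤ P₁ ⊔ C) fun e => hc₁P (e.ge (Subgroup.mem_sup_right hc₁)))
  have hn' : n ∈ (P₁ : Set Ω) * (C : Set Ω) := by
    rw [← Subgroup.coe_mul_of_left_le_normalizer_right P₁ C hnC]
    exact hn
  obtain ⟨y, hy, t, ht, rfl⟩ := hn'
  have htn : t ∈ normalizerIn S P₁ := by
    have := (normalizerIn S P₁).mul_mem ((normalizerIn S P₁).inv_mem (le_normalizerIn hP₁S hy)) hnN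
    simpa using this
  have htP : t ∉ P₁ := fun h => hnP (P₁.mul_mem hy h)
  have := finite_of_le_base hP₁S
  have hinv : ∀ (a : MulAut P₁), a ∈ F.autGroup P₁ → ∀ r ∈ R, autFn a r ∈ R := fun a ha r hr => by
    have hr' : r ∈ P₁ ⊓ T := hinter.ge hr
    exact hinter.le ⟨autFn_mem a hr'.1, sc_apply hT ((mem_autGroup_iff_fn hP₁S).1 ha) hr'.1 hr'.2⟩
  have hRP : R ≤ P₁ := hinter ▸ inf_le_left
  let A : Subgroup (MulAut P₁) :=
    { carrier := {a | a ∈ F.autGroup P₁ ∧ (∀ r ∈ R, autFn a r = r) ∧ ∀ x ∈ P₁, x⁻¹ * autFn a x ∈ R}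
      one_mem' := ⟨Subgroup.one_mem _, fun r hr => autFn_id (hRP hr), fun x hx => by
        rw [autFn_id hx, inv_mul_cancel]; exact R.one_mem⟩
      mul_mem' := fun {a b} ha hb => by
        refine ⟨mul_mem ha.1 hb.1, fun r hr => ?_, fun x hx => ?_⟩
        · rw [autFn_mul _ _ (hRP hr), hb.2.1 r hr, ha.2.1 r hr]
        · rw [autFn_mul _ _ hx]
          have := R.mul_mem (hb.2.2 x hx) (ha.2.2 _ (autFn_mem b hx))
          rwa [mul_assoc, mul_inv_cancel_left] at this
      inv_mem' := fun {a} ha => by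
        refine ⟨inv_mem ha.1, fun r hr => ?_, fun x hx => ?_⟩
        · have h1 := ha.2.1 _ (hinv _ (inv_mem ha.1) r hr)
          rw [autFn_apply_inv a (hRP hr)] at h1
          exact h1.symm
        · have h1 := ha.2.2 _ (autFn_mem a⁻¹ hx)
          rw [autFn_apply_inv a hx] at h1
          simpa using R.inv_mem h1 }
  have hAle : A ≤ pCoreOf p (F.autGroup P₁) := by
    refine le_pCoreOf (fun a ha => ha.1) (fun b hb => ?_) ?_
    · refine mem_normalizer_of_map_le fun a ha => ⟨mul_mem (mul_mem hb ha.1) (inv_mem hb), fun r hr => ?_,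
        fun x hx => ?_⟩
      · have hr' := hinv b⁻¹ (inv_mem hb) r hr
        rw [autFn_mul _ _ (hRP hr), autFn_mul _ _ (hRP hr'), ha.2.1 _ hr', autFn_apply_inv b (hRP hr)]
      · have hy' := autFn_mem b⁻¹ hx
        have h1 := hinv b hb _ (ha.2.2 _ hy')
        have hbf := (mem_autGroup_iff_fn hP₁S).1 hb
        rw [hbf.map_mul (P₁.inv_mem hy') (autFn_mem a hy'), hbf.map_inv hy', autFn_apply_inv b hx] at h1
        rwa [autFn_mul _ _ hx, autFn_mul _ _ hy']
    · intro a
      have hquad : QuadAut (a : MulAut P₁) := quadAut_iff.2 fun x => by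
        have hmem := a.2.2.2 x x.2
        rw [autFn_coe] at hmem
        exact Subtype.ext ((autFn_coe (a : MulAut P₁) _).symm.trans (a.2.2.1 _ hmem))
      obtain ⟨k, hk⟩ := quadAut_pgroup (hS.to_le hP₁S) hquad ⟨_, Subgroup.mem_zpowers _⟩
      exact ⟨k, Subtype.ext (by simpa [Subtype.ext_iff] using hk)⟩
  have htA : conjAut P₁ htn.2 ∈ A := by
    refine ⟨autInducedBy_le_autGroup hP₁S (conjAut_mem_autInducedBy htn.2 htn.1), fun r hr => ?_, fun x hx => ?_⟩
    · rw [autFn_coe _ ⟨r, hRP hr⟩]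
      show t * r * t⁻¹ = r
      rw [← ht.2 r hr, mul_inv_cancel_right]
    · rw [autFn_coe _ ⟨x, hx⟩]
      refine hinter.le ⟨P₁.mul_mem (P₁.inv_mem hx) (conjAut P₁ htn.2 ⟨x, hx⟩).2, ?_⟩
      show x⁻¹ * (t * x * t⁻¹) ∈ T
      have := T.mul_mem (sc_conj hT (S.inv_mem (hP₁S hx)) ht.1) (T.inv_mem ht.1)
      simpa [mul_assoc] using this
  refine ⟨?_, fun hrad => htP ?_⟩
  · obtain ⟨φ, hφ, hφg⟩ := id hgP
    have hr : φ.range = P₁ := Fn.range_eq_img hφg
    refine ⟨φ, hφ, ?_⟩
    rw [hr]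
    exact ⟨t, htn, htP, conjAut P₁ htn.2, hAle htA, fun y => rfl⟩
  · refine (conjAut_mem_inn_iff (centralizer_le_of_centric hP₁c) htn hP₁S).1 ?_
    exact (radical_of_isConj (isConj_of_fn hgP) hrad).2.le (hAle htA)

/-- A perfect system has centerless central quotient. -/
theorem center_factor_eq_bot (hS : IsPGroup p S) (hF : F.IsSaturated p) (hperf : F.hyperfocalSubgroup p = S)
    {Ω' : Type*} [Group Ω'] {S' : Subgroup Ω'} {θ : S →* Ω'} {E : FusionSystem S'}
    (hE : F.IsFactorSystem F.center θ E) : E.center = ⊥ := by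
  classical
  have hZc := center_central (F := F)
  have hZn := central_normal hZc
  have hinner : ∀ {P : Subgroup Ω} {f : Ω → Ω}, Fn F P f →
      ∃ g, Fn F (P ⊔ F.center) g ∧ (∀ x ∈ P, g x = f x) ∧ ∃ s ∈ S, ∀ x ∈ F.center, g x = s * x * s⁻¹ := by
    intro P f hf
    obtain ⟨g, hg, he, hi⟩ := (central_iff_fn.1 hZc).2 P f hf
    exact ⟨g, hg, he, 1, S.one_mem, fun x hx => by rw [hi x hx]; group⟩
  set W := preimageAlong θ E.center with hW
  have hsur := factor_surjectiveMorphism hS hF (normal_stronglyClosed hZn) hE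
  have := finite_target hsur
  have hWn : F.IsNormal W := normal_preimage hS hF hZn hinner hE (central_normal (center_central (F := E)))
  have hWS := hWn.1
  have := finite_of_le_base hWS
  have hker : ∀ x ∈ S, th θ x = 1 ↔ x ∈ F.center := fun x hx => factor_ker hE hx
  -- maps move elements of `W` only inside the centre
  have hstep : ∀ (X : Subgroup Ω) (f : Ω → Ω), Fn F X f → ∀ w ∈ X, w ∈ W → w⁻¹ * f w ∈ F.center := by
    intro X f hf w hw hwW
    obtain ⟨hwS, hwc⟩ := mem_preimageAlong.1 hwW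
    obtain ⟨f', hf', hfe⟩ := morphism_fn hsur.1 hf
    obtain ⟨g', hg', hge, hgfix⟩ := (central_iff_fn.1 (center_central (F := E))).2 _ f' hf'
    have h1 : f' (th θ w) = th θ w := by
      rw [← hge _ (th_mem_imageAlong hw hwS), hgfix _ hwc]
    rw [hfe w hw] at h1
    refine (hker _ (S.mul_mem (S.inv_mem hwS) (hf.mem hw))).1 ?_
    rw [th_mul (S.inv_mem hwS) (hf.mem hw), th_inv hwS, h1, inv_mul_cancel]
  have hquad : ∀ a ∈ F.autGroup W, QuadAut (a : MulAut W) := fun a ha => quadAut_iff.2 fun x => by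
    have hmem := hstep W _ ((mem_autGroup_iff_fn hWS).1 ha) x x.2 x.2
    rw [autFn_coe] at hmem
    obtain ⟨g, -, he, hfix⟩ := (central_iff_fn.1 hZc).2 _ _ ((mem_autGroup_iff_fn hWS).1 ha)
    exact Subtype.ext ((autFn_coe a _).symm.trans ((he _ (x⁻¹ * a x).2).symm.trans (hfix _ hmem)))
  -- hyperfocal elements centralise `W`
  have hcent : ∀ (Q : Subgroup Ω) (α : F.autGroup Q), Q ≤ S → α ∈ pResidual p (F.autGroup Q) →
      ∀ y : Q, ∀ w ∈ W, w * ((y : Ω)⁻¹ * ((α : MulAut Q) y : Q)) = (y : Ω)⁻¹ * ((α : MulAut Q) y : Q) * w := by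
    intro Q α hQ hα
    have := finite_of_le_base hQ
    induction hα using Subgroup.closure_induction with
    | mem a ha =>
      intro y w hw
      have hf := (mem_autGroup_iff_fn hQ).1 a.2
      obtain ⟨g, hg, he, hi⟩ := (normal_iff_fn.1 hWn).2 _ _ hf
      obtain ⟨b, hb, hbg⟩ := exists_aut_of_fn (hg.mono le_sup_right) hi
      obtain ⟨k, hk⟩ := quadAut_pgroup (hS.to_le hWS) (hquad b hb) ⟨b, Subgroup.mem_zpowers b⟩
      have hk' : b ^ p ^ k = 1 := by simpa [Subtype.ext_iff] using hk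
      have himg : img g (Q ⊔ W) = Q ⊔ W := by
        refine hg.img_eq_self fun x hx => ?_
        have hle : img g (Q ⊔ W) ≤ Q ⊔ W := by
          rw [hg.img_sup]
          exact sup_le ((img_le fun x hx => (he x hx).symm ▸ autFn_mem _ hx).trans le_sup_left)
            (hi.le.trans le_sup_right)
        exact hle (mem_img_of_mem hx)
      obtain ⟨G, hG, hGg⟩ := exists_aut_of_fn hg himg
      have hGQ : ∀ (n : ℕ) (x : Ω), x ∈ Q → autFn (G ^ n) x = autFn (((a ^ n : F.autGroup Q)) : MulAut Q) x := by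
        intro n
        induction n with
        | zero =>
          intro x hx
          rw [pow_zero, pow_zero, autFn_id (Subgroup.mem_sup_left hx), Subgroup.coe_one, autFn_id hx]
        | succ n ih =>
          intro x hx
          rw [pow_succ', pow_succ', autFn_mul _ _ (Subgroup.mem_sup_left hx), Subgroup.coe_mul,
            autFn_mul _ _ hx, ih x hx,
            autFn_coe G ⟨_, Subgroup.mem_sup_left (autFn_mem _ hx)⟩, hGg]
          exact he _ (autFn_mem _ hx)
      have hGW : ∀ (n : ℕ) (x : Ω), x ∈ W → autFn (G ^ n) x = autFn (b ^ n) x := by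
        intro n
        induction n with
        | zero =>
          intro x hx
          rw [pow_zero, pow_zero, autFn_id (Subgroup.mem_sup_right hx), autFn_id hx]
        | succ n ih =>
          intro x hx
          rw [pow_succ', pow_succ', autFn_mul _ _ (Subgroup.mem_sup_right hx), autFn_mul _ _ hx, ih x hx,
            autFn_coe G ⟨_, Subgroup.mem_sup_right (autFn_mem _ hx)⟩, hGg]
          exact ((autFn_coe b ⟨_, autFn_mem _ hx⟩).trans (hbg _)).symm
      -- an exponent fixing `a` and killing `b`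
      obtain ⟨m, -, hm⟩ : ∃ m, True ∧ a ^ (p ^ k * m) = a := by
        rcases (Nat.one_le_iff_ne_zero.2 (orderOf_pos a).ne').eq_or_lt with h1 | h1
        · exact ⟨0, trivial, by rw [mul_zero, pow_zero]; exact (orderOf_eq_one_iff.1 h1.symm).symm⟩
        · obtain ⟨m, -, hm⟩ := Nat.exists_mul_mod_eq_one_of_coprime
            ((Nat.Coprime.pow_right k (ha : Nat.Coprime (orderOf a) p)).symm) h1
          exact ⟨m, trivial, by rw [← pow_mod_orderOf, hm, pow_one]⟩
      have hG' := (mem_autGroup_iff_fn hg.le).1 (pow_mem hG (p ^ k * m))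
      have hWfix : ∀ x ∈ W, autFn (G ^ (p ^ k * m)) x = x := fun x hx => by
        rw [hGW _ x hx, pow_mul, hk', one_pow, autFn_id hx]
      have hy' : (((a : MulAut Q) y : Q) : Ω) = autFn (G ^ (p ^ k * m)) y := by
        rw [hGQ _ y y.2, hm, autFn_coe]
      have hyS := hQ y.2
      set a' := (((a : MulAut Q) y : Q) : Ω) with ha'
      have hconj : ∀ x ∈ W, a' * x * a'⁻¹ = (y : Ω) * x * (y : Ω)⁻¹ := fun x hx => by
        have h1 := hG'.map_conj (Subgroup.mem_sup_left y.2) (Subgroup.mem_sup_right hx)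
        rw [hWfix _ (sc_conj (normal_stronglyClosed hWn) hyS hx), hWfix x hx, ← hy'] at h1
        exact h1.symm
      have h2 := eq_mul_inv_iff_mul_eq.1 (hconj w hw).symm
      calc w * ((y : Ω)⁻¹ * a') = (y : Ω)⁻¹ * ((y : Ω) * w * (y : Ω)⁻¹ * a') := by group
        _ = (y : Ω)⁻¹ * (a' * w) := by rw [h2]
        _ = (y : Ω)⁻¹ * a' * w := (mul_assoc _ _ _).symm
    | one =>
      intro y w hw
      simp
    | mul u v _ _ hu hv =>
      intro y w hw
      have e : (y : Ω)⁻¹ * (((u * v : F.autGroup Q) : MulAut Q) y : Q) =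
          ((y : Ω)⁻¹ * ((v : MulAut Q) y : Q)) *
            ((((v : MulAut Q) y : Q) : Ω)⁻¹ * ((u : MulAut Q) ((v : MulAut Q) y) : Q)) := by
        simp [mul_assoc]
      rw [e, ← mul_assoc w, hv y w hw, mul_assoc, hu _ w hw, ← mul_assoc]
    | inv u _ hu =>
      intro y w hw
      have h1 := hu ((u : MulAut Q)⁻¹ y) w hw
      rw [MulAut.apply_inv_self] at h1
      have h2 : Commute w ((((u : MulAut Q)⁻¹ y : Q) : Ω)⁻¹ * (y : Ω)) := h1
      have h3 := h2.inv_right
      simp only [mul_inv_rev, inv_inv] at h3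
      exact h3
  have hWZ : ∀ w ∈ W, ∀ s ∈ S, w * s = s * w := by
    intro w hw s hs
    rw [← hperf] at hs
    induction hs using Subgroup.closure_induction with
    | mem x hx =>
      obtain ⟨Q, α, y, hQ, hα, rfl⟩ := hx
      exact hcent Q α hQ hα y w hw
    | one => simp
    | mul a b _ _ ha hb => rw [← mul_assoc, ha, mul_assoc, hb, mul_assoc]
    | inv a _ ha => exact (show Commute w a from ha).inv_right.eq
  -- the automizer of `W` is trivial
  have hAW : ∀ a ∈ F.autGroup W, (a : MulAut W) = 1 := by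
    intro a ha
    obtain ⟨hAf, -⟩ := fullyNormalized_good hS hF
      (fullyNormalized_of_weaklyClosed (weaklyClosed_of_stronglyClosed (normal_stronglyClosed hWn)))
    obtain ⟨γ, hγ, hconj⟩ := exists_conj_into hS hAf (Subgroup.zpowers_le.2 ha)
      (quadAut_pgroup (hS.to_le hWS) (hquad a ha))
    obtain ⟨g, hg, hgγ⟩ := mem_autInducedBy.1 (hconj a (Subgroup.mem_zpowers a))
    have h1 : γ * a * γ⁻¹ = 1 := MulEquiv.ext fun x => Subtype.ext (by
      rw [hgγ x, ← hWZ _ x.2 g hg, mul_inv_cancel_right]; rfl)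
    exact conj_eq_one_iff.1 h1
  have hWc : W ≤ F.center := by
    refine le_center (central_iff_fn.2 ⟨hWS, fun Q f hf => ?_⟩)
    obtain ⟨g, hg, he, hi⟩ := (normal_iff_fn.1 hWn).2 Q f hf
    obtain ⟨b, hb, hbg⟩ := exists_aut_of_fn (hg.mono le_sup_right) hi
    refine ⟨g, hg, he, fun x hx => ?_⟩
    rw [← hbg ⟨x, hx⟩, hAW b hb]
    rfl
  refine le_bot_iff.1 fun z hz => ?_
  obtain ⟨s, hs⟩ := (factor_range hE).ge ((center_central (F := E)).1 hz)
  have hth : th θ (s : Ω) = z := (th_coe s).trans hs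
  have := hWc (mem_preimageAlong.2 ⟨s.2, hth.symm ▸ hz⟩)
  rw [Subgroup.mem_bot, ← hth]
  exact (hker _ s.2).2 this

/-- Solvability passes to and from a normal subsystem and its factor system. -/
theorem solvable_iff_normal_factor (hS : IsPGroup p S) (hF : F.IsSaturated p) {E : FusionSystem T}
    (hE : E.IsSaturated p) (hinv : E.IsInvariantIn F) {Ω' : Type*} [Group Ω'] {S' : Subgroup Ω'} {θ : S →* Ω'}
    {D : FusionSystem S'} (hD : F.IsFactorSystem T θ D) :
    F.IsSolvableSystem ↔ (E.IsSolvableSystem ∧ D.IsSolvableSystem) := by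
  classical
  have hT : F.StronglyClosed T := hinv.2.1
  have hsub := hinv.1
  have := finite_of_le_base hT.1
  have hsur := factor_surjectiveMorphism hS hF hT hD
  have := finite_target hsur
  have hrange := factor_range hD
  have hS' : IsPGroup p S' :=
    hrange ▸ hS.of_surjective θ.rangeRestrict θ.rangeRestrict_surjective
  rw [solvable_iff_chain hS hF, solvable_iff_chain (hS.to_le hT.1) hE,
    solvable_iff_chain hS' (surjectiveMorphism_saturated hS hF hsur)]
  constructor
  · rintro ⟨n, C, h0, hn, hmono, hsc, hcomm⟩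
    refine ⟨⟨n, fun i => C i ⊓ T, by simp [h0], by simp only [hn]; exact inf_eq_right.2 hT.1,
      fun i j hij => inf_le_inf_right _ (hmono hij), fun i => ?_, fun i => ?_⟩,
      ⟨n, fun i => imageAlong θ (C i), ?_, ?_, fun i j hij => Subgroup.map_mono (Subgroup.comap_mono (hmono hij)),
        fun i => ?_, fun i => ?_⟩⟩
    · exact stronglyClosed_iff_fn.2 ⟨inf_le_right, fun P f hf x hx hxC =>
        ⟨(stronglyClosed_iff_fn.1 (hsc i)).2 P f (Fn.of_subsystem hsub hf) x hx hxC.1, hf.mem hx⟩⟩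
    · exact le_inf ((Subgroup.commutator_mono inf_le_left inf_le_left).trans (hcomm i))
        ((Subgroup.commutator_mono inf_le_right inf_le_right).trans T.commutator_le_self)
    · simp only [h0]
      rw [imageAlong, Subgroup.bot_subgroupOf, Subgroup.map_bot]
    · simp only [hn]
      rw [imageAlong, Subgroup.subgroupOf_self, ← MonoidHom.range_eq_map, hrange]
    · refine stronglyClosed_iff_fn.2 ⟨fun y hy => ?_, fun P' f' hf' y hy hyC => ?_⟩
      · obtain ⟨x, -, hxS, rfl⟩ := mem_imageAlong.1 hy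
        exact hrange.le (th_mem_range hxS)
      · obtain ⟨f, hf, hfe⟩ := surjective_fn hsur hf'
        obtain ⟨x, hx, hxS, rfl⟩ := mem_imageAlong.1 hyC
        have hxP : x ∈ preimageAlong θ P' := mem_preimageAlong.2 ⟨hxS, hy⟩
        rw [hfe x hxP]
        exact th_mem_imageAlong ((stronglyClosed_iff_fn.1 (hsc i)).2 _ f hf x hxP hx) (hf.mem hxP)
    · refine Subgroup.commutator_le.2 fun a ha b hb => ?_
      obtain ⟨x, hx, hxS, rfl⟩ := mem_imageAlong.1 ha
      obtain ⟨y, hy, hyS, rfl⟩ := mem_imageAlong.1 hb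
      have hxy := hcomm i (Subgroup.commutator_mem_commutator hx hy)
      have hmem := th_mem_imageAlong (α := θ) hxy ((hsc _).1 hxy)
      open scoped commutatorElement in
      rw [commutatorElement_def, th_mul (S.mul_mem (S.mul_mem hxS hyS) (S.inv_mem hxS)) (S.inv_mem hyS),
        th_mul (S.mul_mem hxS hyS) (S.inv_mem hxS), th_mul hxS hyS, th_inv hxS, th_inv hyS] at hmem
      exact hmem
  · rintro ⟨⟨m, A, hA0, hAn, hAmono, hAsc, hAcomm⟩, ⟨k, B, hB0, hBn, hBmono, hBsc, hBcomm⟩⟩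
    -- the intersections over `Aut_F(T)`
    let A' : Fin (m + 1) → Subgroup Ω := fun i =>
      T ⊓ ⨅ α : F.autGroup T, ((A i).subgroupOf T |>.comap (α : MulAut T).toMonoidHom).map T.subtype
    have hA' : ∀ i x, x ∈ A' i ↔ x ∈ T ∧ ∀ α ∈ F.autGroup T, autFn α x ∈ A i := by
      intro i x
      simp only [A', Subgroup.mem_inf, Subgroup.mem_iInf]
      refine and_congr_right fun hx => ⟨fun h α hα => ?_, fun h α => ⟨⟨x, hx⟩, ?_, rfl⟩⟩
      · obtain ⟨y, hy, hyx⟩ := h ⟨α, hα⟩
        rw [← hyx]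
        exact (autFn_coe α y).symm ▸ hy
      · show ((((α : MulAut T)) ⟨x, hx⟩ : T) : Ω) ∈ A i
        exact (autFn_coe (α : MulAut T) ⟨x, hx⟩) ▸ h α α.2
    have hA'sc : ∀ i, F.StronglyClosed (A' i) := by
      intro i
      refine stronglyClosed_iff_fn.2 ⟨inf_le_left.trans hT.1, fun P f hf x hx hxA => ?_⟩
      obtain ⟨hxT, hxA'⟩ := (hA' i x).1 hxA
      obtain ⟨β, hβ, g, hg, hge⟩ := Invariant.frattini hinv (inf_le_right : P ⊓ T ≤ T) (hf.mono inf_le_left)
      rw [hge x ⟨hx, hxT⟩]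
      have hgT : g x ∈ T := hg.mem ⟨hx, hxT⟩
      refine (hA' i _).2 ⟨autFn_mem β hgT, fun α hα => ?_⟩
      rw [← autFn_mul _ _ hgT]
      obtain ⟨χ, hχ, hχe⟩ := Invariant.aut hinv (inf_le_right : P ⊓ T ≤ T) hg (mul_mem hα hβ)
      rw [← hχe x ⟨hx, hxT⟩]
      exact (stronglyClosed_iff_fn.1 (hAsc i)).2 _ χ hχ _ (mem_img_of_mem ⟨hx, hxT⟩)
        (hxA' _ (mul_mem hα hβ))
    let C : Fin (m + k + 1) → Subgroup Ω := fun i =>
      if h : (i : ℕ) ≤ m then A' ⟨i, Nat.lt_succ_of_le h⟩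
      else preimageAlong θ (B ⟨(i : ℕ) - m, by omega⟩)
    have hA'top : A' (Fin.last m) = T := by
      refine le_antisymm inf_le_left fun x hx => (hA' _ x).2 ⟨hx, fun α _ => ?_⟩
      rw [hAn]
      exact autFn_mem α hx
    have hA'bot : A' 0 = ⊥ := by
      refine le_bot_iff.1 fun x hx => ?_
      obtain ⟨hxT, hx'⟩ := (hA' 0 x).1 hx
      have h1 := hx' 1 (Subgroup.one_mem _)
      rw [autFn_id hxT, hA0] at h1
      exact h1
    have hA'comm : ∀ i : Fin m, ⁅A' i.succ, A' i.succ⁆ ≤ A' i.castSucc := by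
      intro i
      refine Subgroup.commutator_le.2 fun a ha b hb => ?_
      obtain ⟨haT, ha'⟩ := (hA' _ a).1 ha
      obtain ⟨hbT, hb'⟩ := (hA' _ b).1 hb
      open scoped commutatorElement in
      refine (hA' _ _).2 ⟨by rw [commutatorElement_def]
                             exact T.mul_mem (T.mul_mem (T.mul_mem haT hbT) (T.inv_mem haT)) (T.inv_mem hbT),
        fun α hα => ?_⟩
      have hf := (mem_autGroup_iff_fn hT.1).1 hα
      have := hAcomm i (Subgroup.commutator_mem_commutator (ha' α hα) (hb' α hα))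
      open scoped commutatorElement in
      rw [commutatorElement_def] at this ⊢
      rw [hf.map_mul (T.mul_mem (T.mul_mem haT hbT) (T.inv_mem haT)) (T.inv_mem hbT),
        hf.map_mul (T.mul_mem haT hbT) (T.inv_mem haT), hf.map_mul haT hbT, hf.map_inv haT, hf.map_inv hbT]
      exact this
    have hpre0 : preimageAlong θ (B 0) = T := by
      rw [hB0]
      refine le_antisymm (fun x hx => ?_) fun x hx => ?_
      · obtain ⟨hxS, hx1⟩ := mem_preimageAlong.1 hx
        exact (factor_ker hD hxS).1 hx1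
      · exact mem_preimageAlong.2 ⟨hT.1 hx, (factor_ker hD (hT.1 hx)).2 hx⟩
    have hCge : ∀ (j : Fin (k + 1)) (i : Fin (m + k + 1)), (i : ℕ) = m + j → C i = preimageAlong θ (B j) := by
      intro j i hij
      by_cases h : (i : ℕ) ≤ m
      · have hj : j = 0 := Fin.ext (show (j : ℕ) = 0 by omega)
        simp only [C, dif_pos h, hj, hpre0]
        rw [show (⟨(i : ℕ), Nat.lt_succ_of_le h⟩ : Fin (m + 1)) = Fin.last m from Fin.ext (by simp; omega), hA'top]
      · simp only [C, dif_neg h]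
        exact congrArg (fun j => preimageAlong θ (B j)) (Fin.ext (show (i : ℕ) - m = j by omega))
    have hCle : ∀ (j : Fin (m + 1)) (i : Fin (m + k + 1)), (i : ℕ) = j → C i = A' j := by
      intro j i hij
      have h : (i : ℕ) ≤ m := by omega
      simp only [C, dif_pos h]
      exact congrArg A' (Fin.ext hij)
    have hA'mono : ∀ a b : Fin (m + 1), a ≤ b → A' a ≤ A' b := fun a b hab x hx => by
      obtain ⟨hxT, hx'⟩ := (hA' a x).1 hx
      exact (hA' b x).2 ⟨hxT, fun α hα => hAmono hab (hx' α hα)⟩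
    refine ⟨m + k, C, ?_, ?_, fun a b hab => ?_, fun i => ?_, fun i => ?_⟩
    · rw [hCle 0 0 (by simp), hA'bot]
    · rw [hCge (Fin.last k) (Fin.last (m + k)) (by simp), hBn]
      refine le_antisymm preimageAlong_le fun x hx => mem_preimageAlong.2 ⟨hx, hrange.le (th_mem_range hx)⟩
    · have hab' : (a : ℕ) ≤ b := hab
      by_cases hb : (b : ℕ) ≤ m
      · rw [hCle ⟨b, by omega⟩ b rfl, hCle ⟨a, by omega⟩ a rfl]
        exact hA'mono _ _ hab'
      · rw [hCge ⟨(b : ℕ) - m, by omega⟩ b (show (b : ℕ) = m + ((b : ℕ) - m) by omega)]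
        by_cases ha : (a : ℕ) ≤ m
        · rw [hCle ⟨a, by omega⟩ a rfl]
          refine (inf_le_left : A' _ ≤ T).trans ?_
          rw [← hpre0]
          exact Subgroup.map_mono (Subgroup.comap_mono (hBmono (Fin.zero_le _)))
        · rw [hCge ⟨(a : ℕ) - m, by omega⟩ a (show (a : ℕ) = m + ((a : ℕ) - m) by omega)]
          exact Subgroup.map_mono (Subgroup.comap_mono (hBmono (show (a : ℕ) - m ≤ (b : ℕ) - m by omega)))
    · by_cases h : (i : ℕ) ≤ m
      · rw [hCle ⟨i, by omega⟩ i rfl]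
        exact hA'sc _
      · rw [hCge ⟨(i : ℕ) - m, by omega⟩ i (show (i : ℕ) = m + ((i : ℕ) - m) by omega)]
        exact sc_preimage hsur.1 (hBsc _)
    · by_cases h : (i : ℕ) < m
      · rw [hCle (⟨i, h⟩ : Fin m).succ i.succ (by simp), hCle (⟨i, h⟩ : Fin m).castSucc i.castSucc (by simp)]
        exact hA'comm _
      · have hik : (i : ℕ) - m < k := by omega
        rw [hCge (⟨_, hik⟩ : Fin k).succ i.succ (show (i : ℕ) + 1 = m + ((i : ℕ) - m + 1) by omega),
          hCge (⟨_, hik⟩ : Fin k).castSucc i.castSucc (show (i : ℕ) = m + ((i : ℕ) - m) by omega)]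
        refine Subgroup.commutator_le.2 fun a ha b hb => ?_
        obtain ⟨haS, ha'⟩ := mem_preimageAlong.1 ha
        obtain ⟨hbS, hb'⟩ := mem_preimageAlong.1 hb
        open scoped commutatorElement in
        refine mem_preimageAlong.2 ⟨by rw [commutatorElement_def]
                                       exact S.mul_mem (S.mul_mem (S.mul_mem haS hbS) (S.inv_mem haS)) (S.inv_mem hbS), ?_⟩
        have := hBcomm ⟨_, hik⟩ (Subgroup.commutator_mem_commutator ha' hb')
        open scoped commutatorElement in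
        rw [commutatorElement_def] at this ⊢
        rw [th_mul (S.mul_mem (S.mul_mem haS hbS) (S.inv_mem haS)) (S.inv_mem hbS),
          th_mul (S.mul_mem haS hbS) (S.inv_mem haS), th_mul haS hbS, th_inv haS, th_inv hbS]
        exact this

end CfsgLib.Fsys
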