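import Cfsg.Agent.Lib.FusionSystem.NormalCentralizer
import Cfsg.Agent.Lib.FusionSystem.NormalMisc

/-! The centralizer of a normal subsystem is strongly closed and contains the focal subgroup of `C_F(T)`. -/

set_option autoImplicit false

namespace CfsgLib.Fsys.WNR

open Cfsg Cfsg.FusionSystem
open Cfsg.FusionSystem (centralizerIn normalizerIn)
open scoped Pointwise

variable {Ω : Type*} [Group Ω] {S T : Subgroup Ω} {F : FusionSystem S} {E : FusionSystem T}
variable [Finite S] {p : ℕ} [Fact p.Prime]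

omit [Fact p.Prime] in
/-- Conjugation by an element of `N_T(Y)` is compatible. -/
theorem isCompatible_conj (hE : E.IsInvariantIn F) {Y : Subgroup Ω} (hY : E.IsCentric Y) {n : Ω}
    (hn : n ∈ normalizerIn T Y) : IsCompatible F Y (fun x => n * x * n⁻¹) := by
  have hT := hE.2.1
  have hnS : n ∈ S := hT.1 hn.1
  refine ⟨fn_conj (sup_le (hY.1.trans hT.1) centralizerIn_le) hnS,
    fun y hy => (mem_normalizer_iff'.1 hn.2).1 y hy, fun v hv => ?_⟩
  obtain ⟨hvS, hvc⟩ := mem_centralizerIn.1 hv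
  refine mem_of_commute hY ?_ fun y hy => ?_
  · have := T.mul_mem (sc_conj hT (S.inv_mem hvS) hn.1) (T.inv_mem hn.1)
    simpa [mul_assoc] using this
  · have hy' := (mem_normalizer_iff'.1 hn.2).2 y hy
    calc y * (v⁻¹ * (n * v * n⁻¹)) = (y * v⁻¹) * (n * v * n⁻¹) := by group
      _ = v⁻¹ * (y * (n * v * n⁻¹)) := by
          rw [(Commute.inv_right (show Commute y v from hvc y hy)).eq]; group
      _ = v⁻¹ * (n * ((n⁻¹ * y * n) * v) * n⁻¹) := by group
      _ = v⁻¹ * (n * (v * (n⁻¹ * y * n)) * n⁻¹) := by rw [hvc _ hy']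
      _ = v⁻¹ * (n * v * n⁻¹) * y := by group

/-- The fixed subgroup is preserved by maps defined on `T`. -/
theorem fixed_transport (hS : IsPGroup p S) (hE : E.IsNormalIn F p) {x : Ω} (hx : x ∈ fixedSubgroup p F E)
    {f : Ω → Ω} (hf : Fn F (T ⊔ Subgroup.zpowers x) f) : f x ∈ fixedSubgroup p F E := by
  obtain ⟨hEs, hF, hEi⟩ := hE.1
  have hT := hEi.2.1
  haveI := finite_of_le_base hT.1
  have hxT : x ∈ centralizerIn S T := fixedSubgroup_le p hx
  have hfT := hf.mono (le_sup_left : T ≤ T ⊔ Subgroup.zpowers x)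
  have hTi : img f T = T := hfT.img_eq_self fun y hy => sc_apply hT hfT hy hy
  have hxm : x ∈ T ⊔ Subgroup.zpowers x := Subgroup.mem_sup_right (Subgroup.mem_zpowers x)
  have hfx : f x ∈ centralizerIn S T := hf.map_centralizer le_sup_left hTi hxm hxT
  obtain ⟨α, hα, hαe⟩ := exists_aut_of_fn hfT hTi
  have hαf : ∀ t ∈ T, autFn α t = f t := fun t ht => by rw [autFn_coe α ⟨t, ht⟩, hαe]
  refine le_fixedSubgroup hS hF hEi (X := Subgroup.zpowers (f x)) (Subgroup.zpowers_le.2 hfx) ?_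
    (Subgroup.mem_zpowers _)
  refine (centralized_iff hEi.1 (Subgroup.zpowers_le.2 hfx)).2 fun P e he => ?_
  have hPT := he.le
  obtain ⟨e', he', he'e⟩ := Invariant.aut hEi hPT he (inv_mem hα)
  obtain ⟨ψ, hψ, hψe, hψK⟩ := (centralized_iff hEi.1 (fixedSubgroup_le p)).1
    (centralized_fixedSubgroup hS hE) _ _ he'
  set P₀ := img (autFn α⁻¹) P with hP₀
  have hP₀T : P₀ ≤ T := img_le fun y hy => autFn_mem _ (hPT hy)
  set V := P₀ ⊔ Subgroup.zpowers x with hV
  have hVle : V ≤ T ⊔ Subgroup.zpowers x := sup_le_sup_right hP₀T _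
  have hxV : x ∈ V := Subgroup.mem_sup_right (Subgroup.mem_zpowers x)
  have hψV : Fn F V ψ := hψ.mono (sup_le_sup_left (Subgroup.zpowers_le.2 hx) _)
  have hψm : ∀ v ∈ V, ψ v ∈ T ⊔ Subgroup.zpowers x := fun v hv => by
    have h1 := mem_img_of_mem (f := ψ) hv
    rw [hV, hψV.img_sup, img_zpowers hψV hxV, hψK x hx] at h1
    exact sup_le_sup_right (img_le fun y hy => (hψe y hy).symm ▸ he'.mem hy) _ h1
  obtain ⟨f', hf', hf'f, -⟩ := (hf.mono hVle).exists_inv
  have hi : img f V = P ⊔ Subgroup.zpowers (f x) := by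
    rw [hV, (hf.mono hVle).img_sup, img_zpowers (hf.mono hVle) hxV]
    congr 1
    refine le_antisymm (img_le fun y hy => ?_) fun y hy => ?_
    · obtain ⟨z, hz, rfl⟩ := (((mem_autGroup_iff_fn hT.1).1 (inv_mem hα)).mono hPT).mem_img.1 hy
      rw [← hαf _ (autFn_mem _ (hPT hz)), autFn_apply_inv α (hPT hz)]
      exact hz
    · rw [← autFn_apply_inv α (hPT hy), hαf _ (autFn_mem _ (hPT hy))]
      exact mem_img_of_mem (mem_img_of_mem hy)
  have hf'm : ∀ z ∈ img f V, f' z ∈ V := fun z hz => by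
    obtain ⟨v, hv, rfl⟩ := (hf.mono hVle).mem_img.1 hz
    rwa [hf'f v hv]
  refine ⟨f ∘ (ψ ∘ f'), hi ▸ (hf'.comp hψV hf'm).comp hf fun z hz => hψm _ (hf'm z hz),
    fun y hy => ?_, fun z hz => ?_⟩
  · have hy' : autFn α⁻¹ y ∈ P₀ := mem_img_of_mem hy
    show f (ψ (f' y)) = e y
    conv_lhs => rw [← autFn_apply_inv α (hPT hy), hαf _ (autFn_mem _ (hPT hy)), hf'f _ (Subgroup.mem_sup_left hy'),
      hψe _ hy', he'e y hy]
    rw [← hαf _ (autFn_mem _ (he.mem hy)), autFn_apply_inv α (he.mem hy)]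
  · have hx' : ∀ v ∈ Subgroup.zpowers x, ψ v = v := fun v hv => hψK v (Subgroup.zpowers_le.2 hx hv)
    rw [← img_zpowers (hf.mono hVle) hxV] at hz
    obtain ⟨v, hv, rfl⟩ := ((hf.mono hVle).mono (le_sup_right : Subgroup.zpowers x ≤ V)).mem_img.1 hz
    show f (ψ (f' (f v))) = f v
    rw [hf'f v (Subgroup.mem_sup_right hv), hx' v hv]

set_option maxHeartbeats 800000 in
/-- Maps defined on a centric subgroup preserve the fixed subgroup. -/
theorem fixed_map (hS : IsPGroup p S) (hE : E.IsNormalIn F p) {U : Subgroup Ω} (hU : E.IsCentric U)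
    {x : Ω} (hx : x ∈ fixedSubgroup p F E) {f : Ω → Ω} (hf : Fn F (U ⊔ Subgroup.zpowers x) f) :
    f x ∈ fixedSubgroup p F E := by
  classical
  obtain ⟨hEs, hF, hEi⟩ := hE.1
  have hT := hEi.2.1
  haveI := finite_of_le_base hT.1
  have hTp := hS.to_le hT.1
  set K := fixedSubgroup p F E with hKdef
  refine induction_down (S := T) (C := fun U => E.IsCentric U → ∀ x ∈ K, ∀ f : Ω → Ω,
    Fn F (U ⊔ Subgroup.zpowers x) f → f x ∈ K) U hU.1 ?_ hU x hx f hf
  intro U hUT ih hU x hx f hf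
  rcases eq_or_lt_of_le hUT with rfl | hlt
  · exact fixed_transport hS hE hx hf
  -- pull back along a map on a larger centric subgroup
  have claimA : ∀ (V : Subgroup Ω) (y : Ω) (k : Ω → Ω), V ≤ T → E.IsCentric V → Nat.card U < Nat.card V →
      Fn F (V ⊔ Subgroup.zpowers y) k → k y ∈ K → y ∈ K := by
    intro V y k hVT hV hcard hk hky
    obtain ⟨k', hk', hk'k, -⟩ := hk.exists_inv
    have hym : y ∈ V ⊔ Subgroup.zpowers y := Subgroup.mem_sup_right (Subgroup.mem_zpowers y)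
    rw [hk.img_sup, img_zpowers hk hym] at hk'
    have hc := centric_img hEi hV (hk.mono le_sup_left)
    have h := ih (img k V) hc.1 (by rwa [(hk.mono le_sup_left).card_img]) hc (k y) hky k' hk'
    rwa [hk'k y hym] at h
  have hUS : U ≤ S := hUT.trans hT.1
  -- the case of a fully normalized image
  have inner : ∀ f : Ω → Ω, Fn F (U ⊔ Subgroup.zpowers x) f → F.IsFullyNormalized (img f U) → f x ∈ K := by
    intro f hf hY
    have hfU := hf.mono (le_sup_left : U ≤ U ⊔ Subgroup.zpowers x)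
    set Y := img f U with hYdef
    have hYc : E.IsCentric Y := centric_img hEi hU hfU
    obtain ⟨α, hα, e, he, hfe⟩ := Invariant.frattini hEi hUT hfU
    obtain ⟨ψ, hψ, hψe, hψK⟩ := (centralized_iff hEi.1 (fixedSubgroup_le p)).1
      (centralized_fixedSubgroup hS hE) U e he
    obtain ⟨N, a, ha, hTN, hN, hae⟩ := receptive_extend (fullyNormalized_receptive hS hF
      (fullyNormalized_of_weaklyClosed (weaklyClosed_of_stronglyClosed hT)))
      ((mem_autGroup_iff_fn hT.1).1 hα) (img_autFn α)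
    have hxC : x ∈ centralizerIn S T := fixedSubgroup_le p hx
    have hxN : x ∈ N := (hN x).2 (inExt_of_commute hxC)
    have hz₁K : a x ∈ K := fixed_transport hS hE hx (ha.mono (sup_le hTN (Subgroup.zpowers_le.2 hxN)))
    set A := U ⊔ Subgroup.zpowers x with hA
    have hxA : x ∈ A := Subgroup.mem_sup_right (Subgroup.mem_zpowers x)
    have hψA : Fn F A ψ := hψ.mono (sup_le_sup_left (Subgroup.zpowers_le.2 hx) _)
    have hψm : ∀ v ∈ A, ψ v ∈ N := fun v hv => by
      have h1 := mem_img_of_mem (f := ψ) hv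
      rw [hA, hψA.img_sup, img_zpowers hψA hxA, hψK x hx] at h1
      exact sup_le ((img_le fun y hy => (hψe y hy).symm ▸ he.mem hy).trans hTN) (Subgroup.zpowers_le.2 hxN) h1
    have hρ : Fn F A (a ∘ ψ) := hψA.comp ha hψm
    have hρU : ∀ u ∈ U, (a ∘ ψ) u = f u := fun u hu => by
      show a (ψ u) = f u
      rw [hψe u hu, hae _ (he.mem hu), hfe u hu]
    have hρx : (a ∘ ψ) x = a x := by show a (ψ x) = a x; rw [hψK x hx]
    obtain ⟨ρ', hρ', hρ'ρ, hρ'i⟩ := hρ.exists_inv
    set B := Y ⊔ Subgroup.zpowers (a x) with hB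
    have hρi : img (a ∘ ψ) A = B := by rw [hA, hρ.img_sup, img_congr hρU, img_zpowers hρ hxA, hρx]
    rw [hρi] at hρ' hρ'i
    have hω : Fn F B (f ∘ ρ') := hρ'.comp hf fun v hv => hρ'i.le (mem_img_of_mem hv)
    have hω1 : ∀ y ∈ Y, (f ∘ ρ') y = y := fun y hy => by
      obtain ⟨u, hu, rfl⟩ := hfU.mem_img.1 hy
      show f (ρ' (f u)) = f u
      conv_lhs => rw [← hρU u hu, hρ'ρ u (Subgroup.mem_sup_left hu)]
    have hω2 : (f ∘ ρ') (a x) = f x := by
      show f (ρ' (a x)) = f x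
      rw [← hρx, hρ'ρ x hxA]
    obtain ⟨D, hD⟩ := exists_centralizerSystem F hY.1 (Q := Y)
    have hz₁C : a x ∈ centralizerIn S T := fixedSubgroup_le p hz₁K
    have hz₁Y : a x ∈ centralizerIn S Y := mem_centralizerIn.2
      ⟨(mem_centralizerIn.1 hz₁C).1, fun y hy => (mem_centralizerIn.1 hz₁C).2 y (hYc.1 hy)⟩
    set M := normalizerIn T Y with hMdef
    have hMy : ∀ n ∈ M, n * f x = f x * n := fun n hn => by
      have h := displacement_preserved hS hF hY (isCompatible_conj hEi hYc hn)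
        (finishes_conj hS hF hEi hY hYc hn) hD
        (fn_centralizer_of_fix hD (Subgroup.zpowers_le.2 hz₁Y) (g := f ∘ ρ')
          (hω.mono (le_of_eq (sup_comm _ _))) hω1) (a x) (Subgroup.mem_zpowers _)
      rw [hω2, (mem_centralizerIn.1 hz₁C).2 n hn.1] at h
      simp only [mul_inv_cancel_right, inv_mul_cancel] at h
      exact mul_inv_eq_iff_eq_mul.1 (inv_mul_eq_one.1 h).symm
    set Q := Y ⊔ Subgroup.zpowers (f x) with hQ
    have hQS : Q ≤ S := sup_le hY.1 (Subgroup.zpowers_le.2 (hf.mem hxA))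
    obtain ⟨Q', hQQ', hQ'⟩ := exists_fullyNormalized (F := F) hQS
    obtain ⟨g, hg, -, hgi⟩ := exists_normalizer_map hS (fullyNormalized_good hS hF hQ').1
      (fullyNormalized_receptive hS hF hQ') hQQ'
    haveI := finite_of_le_base hQS
    have hMn : ∀ n ∈ M, n ∈ normalizerIn S Q := fun n hn => by
      refine ⟨hT.1 hn.1, mem_normalizer_of_map_le fun v hv => ?_⟩
      have h1 := mem_img_of_mem (f := fun z => n * z * n⁻¹) hv
      have hc := fn_conj (F := F) hQS (hT.1 hn.1)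
      rw [hQ, hc.img_sup, img_zpowers hc (Subgroup.mem_sup_right (Subgroup.mem_zpowers _))] at h1
      simp only [hMy n hn, mul_inv_cancel_right] at h1
      exact sup_le_sup_right (img_le fun y hy => (mem_normalizer_iff'.1 hn.2).1 y hy) _ h1
    have hωi : img (f ∘ ρ') B = Q := by
      rw [hB, hω.img_sup, (img_congr (g := id) hω1).trans (img_id Y),
        img_zpowers hω (Subgroup.mem_sup_right (Subgroup.mem_zpowers _)), hω2]
    have hωm : ∀ v ∈ B, (f ∘ ρ') v ∈ normalizerIn S Q := fun v hv =>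
      le_normalizerIn hQS (hωi.le (mem_img_of_mem hv))
    have hgω : Fn F B (g ∘ (f ∘ ρ')) := hω.comp hg hωm
    have hgωi : img (g ∘ (f ∘ ρ')) B = Q' := by rw [hω.img_comp, hωi, hgi]
    obtain ⟨N₂, k₂, hk₂, hBN, hN₂, hk₂e⟩ :=
      receptive_extend (fullyNormalized_receptive hS hF hQ') hgω hgωi
    have hBS : B ≤ S := hω.le
    haveI := finite_of_le_base hBS
    have hMN₂ : M ≤ N₂ := fun n hn => by
      have hnB : n ∈ Subgroup.normalizer (B : Set Ω) := mem_normalizer_of_map_le fun v hv => by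
        obtain ⟨u, hu, z, hz, rfl⟩ := mem_sup_of_commute (fun y hy z hz => by
          obtain ⟨j, rfl⟩ := Subgroup.mem_zpowers_iff.1 hz
          exact (Commute.zpow_right (show Commute y (a x) from (mem_centralizerIn.1 hz₁Y).2 y hy) j).eq) hv
        rw [show n * (u * z) * n⁻¹ = (n * u * n⁻¹) * (n * z * n⁻¹) by group]
        refine Subgroup.mul_mem _ (Subgroup.mem_sup_left ((mem_normalizer_iff'.1 hn.2).1 u hu)) ?_
        obtain ⟨j, rfl⟩ := Subgroup.mem_zpowers_iff.1 hz
        rw [(Commute.zpow_right (show Commute n (a x) from (mem_centralizerIn.1 hz₁C).2 n hn.1) j).eq,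
          mul_inv_cancel_right]
        exact Subgroup.mem_sup_right hz
      have hgn : g n ∈ S := hg.mem (hMn n hn)
      refine (hN₂ n).2 ⟨hT.1 hn.1, hnB, g n, hgn, fun v hv => ?_⟩
      have hcm : ∀ y ∈ Y, ∀ z ∈ Subgroup.zpowers (a x), y * z = z * y := fun y hy z hz => by
        obtain ⟨j, rfl⟩ := Subgroup.mem_zpowers_iff.1 hz
        exact (Commute.zpow_right (show Commute y (a x) from (mem_centralizerIn.1 hz₁Y).2 y hy) j).eq
      obtain ⟨u, hu, z, hz, rfl⟩ := mem_sup_of_commute hcm hv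
      have hu' := (mem_normalizer_iff'.1 hn.2).1 u hu
      have hzv : n * z * n⁻¹ = z := by
        obtain ⟨j, rfl⟩ := Subgroup.mem_zpowers_iff.1 hz
        rw [(Commute.zpow_right (show Commute n (a x) from (mem_centralizerIn.1 hz₁C).2 n hn.1) j).eq,
          mul_inv_cancel_right]
      have hωz : n * (f ∘ ρ') z * n⁻¹ = (f ∘ ρ') z := by
        have h1 := mem_img_of_mem (f := f ∘ ρ') hz
        rw [img_zpowers hω (Subgroup.mem_sup_right (Subgroup.mem_zpowers _)), hω2] at h1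
        obtain ⟨j, hj⟩ := Subgroup.mem_zpowers_iff.1 h1
        rw [← hj, (Commute.zpow_right (show Commute n (f x) from hMy n hn) j).eq, mul_inv_cancel_right]
      have hcomp : (f ∘ ρ') (n * (u * z) * n⁻¹) = n * (f ∘ ρ') (u * z) * n⁻¹ := by
        rw [show n * (u * z) * n⁻¹ = (n * u * n⁻¹) * (n * z * n⁻¹) by group, hzv,
          hω.map_mul (Subgroup.mem_sup_left hu') (Subgroup.mem_sup_right hz), hω1 _ hu',
          hω.map_mul (Subgroup.mem_sup_left hu) (Subgroup.mem_sup_right hz), hω1 u hu]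
        conv_lhs => rw [← hωz]
        group
      show g ((f ∘ ρ') (n * (u * z) * n⁻¹)) = g n * g ((f ∘ ρ') (u * z)) * (g n)⁻¹
      rw [hcomp, hg.map_conj (hMn n hn) (hωm _ hv)]
    have hM : E.IsCentric M := isCentric_mono hYc (le_normalizerIn hYc.1) inf_le_left
    have hcardM : Nat.card U < Nat.card M := by
      have hYT : Y < T := lt_of_le_of_ne hYc.1 fun e => hlt.ne
        (eq_of_le_of_card hT.1 hUT (by rw [← hfU.card_img, ← e]))
      haveI : Finite M := finite_of_le_base ((inf_le_left : M ≤ T).trans hT.1)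
      rw [← hfU.card_img]
      exact Set.Finite.card_lt_card (Set.toFinite (M : Set Ω)) (lt_normalizerIn hTp hYT)
    have h1 : g (f x) ∈ K := by
      have h := ih M inf_le_left hcardM hM (a x) hz₁K k₂ (hk₂.mono (sup_le hMN₂
        (Subgroup.zpowers_le.2 (hBN (Subgroup.mem_sup_right (Subgroup.mem_zpowers _))))))
      rw [hk₂e _ (Subgroup.mem_sup_right (Subgroup.mem_zpowers _))] at h
      show g (f x) ∈ K
      rw [← hω2]
      exact h
    exact claimA M (f x) g inf_le_left hM hcardM (hg.mono (sup_le hMn (Subgroup.zpowers_le.2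
      (le_normalizerIn hQS (Subgroup.mem_sup_right (Subgroup.mem_zpowers _)))))) h1
  -- the general case
  have hfU := hf.mono (le_sup_left : U ≤ U ⊔ Subgroup.zpowers x)
  set Y := img f U with hYdef
  have hYc : E.IsCentric Y := centric_img hEi hU hfU
  have hYS : Y ≤ S := hfU.img_le_base
  obtain ⟨Y', hYY', hY'⟩ := exists_fullyNormalized (F := F) hYS
  obtain ⟨g, hg, -, hgi⟩ := exists_normalizer_map hS (fullyNormalized_good hS hF hY').1
    (fullyNormalized_receptive hS hF hY') hYY'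
  have hxA : x ∈ U ⊔ Subgroup.zpowers x := Subgroup.mem_sup_right (Subgroup.mem_zpowers x)
  have hxC : x ∈ centralizerIn S T := fixedSubgroup_le p hx
  have hfxC : f x ∈ centralizerIn S Y := hf.map_centralizer le_sup_left rfl hxA
    (mem_centralizerIn.2 ⟨(mem_centralizerIn.1 hxC).1, fun y hy => (mem_centralizerIn.1 hxC).2 y (hUT hy)⟩)
  have hfxN : f x ∈ normalizerIn S Y := centralizerIn_le_normalizerIn hfxC
  have hm : ∀ v ∈ U ⊔ Subgroup.zpowers x, f v ∈ normalizerIn S Y := fun v hv => by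
    have h1 := mem_img_of_mem (f := f) hv
    rw [hf.img_sup, img_zpowers hf hxA] at h1
    exact sup_le (le_normalizerIn hYS) (Subgroup.zpowers_le.2 hfxN) h1
  have h1 : g (f x) ∈ K := inner (g ∘ f) (hf.comp hg hm) (by
    rw [hfU.img_comp]
    exact hgi.symm ▸ hY')
  set M := normalizerIn T Y with hMdef
  have hMS : M ≤ normalizerIn S Y := inf_le_inf hT.1 le_rfl
  have hcardM : Nat.card U < Nat.card M := by
    have hYT : Y < T := lt_of_le_of_ne hYc.1 fun e => hlt.ne
      (eq_of_le_of_card hT.1 hUT (by rw [← hfU.card_img, ← e]))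
    haveI : Finite M := finite_of_le_base ((inf_le_left : M ≤ T).trans hT.1)
    rw [← hfU.card_img]
    exact Set.Finite.card_lt_card (Set.toFinite (M : Set Ω)) (lt_normalizerIn hTp hYT)
  exact claimA M (f x) g inf_le_left (isCentric_mono hYc (le_normalizerIn hYc.1) inf_le_left) hcardM
    (hg.mono (sup_le hMS (Subgroup.zpowers_le.2 hfxN))) h1

/-- The fixed subgroup is strongly closed. -/
theorem stronglyClosed_fixedSubgroup (hS : IsPGroup p S) (hE : E.IsNormalIn F p) :
    F.StronglyClosed (fixedSubgroup p F E) := by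
  classical
  have hF := hE.1.2.1
  have hT := hE.1.2.2.2.1
  haveI := finite_of_le_base hT.1
  set K := fixedSubgroup p F E with hK
  have hKS : K ≤ S := (fixedSubgroup_le p).trans centralizerIn_le
  let D : FusionSystem S := predSystem F (fun P f => ∀ x ∈ P, (x ∈ K ↔ f x ∈ K))
    (fun P f g he _ h x hx => he x hx ▸ h x hx)
    (fun P hP s hs x hx => by
      have key : ∀ s ∈ S, ∀ x ∈ K, s * x * s⁻¹ ∈ K := fun s hs x hx => fixed_transport hS hE hx
        (fn_conj (sup_le hT.1 (Subgroup.zpowers_le.2 (hKS hx))) hs)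
      refine ⟨key s hs x, fun h => ?_⟩
      simpa [mul_assoc] using key s⁻¹ (S.inv_mem hs) _ h)
    (fun P R f g _ _ hm h h' x hx => (h x hx).trans (h' _ (hm x hx)))
    (fun P f g hf _ hgf h y hy => by
      obtain ⟨x, hx, rfl⟩ := hf.mem_img.1 hy
      rw [hgf x hx]
      exact (h x hx).symm)
  have key : ∀ (P : Subgroup Ω), E.IsCentric (P ⊓ T) → P ≤ S → ∀ α ∈ F.autGroup P, α ∈ D.autGroup P := by
    intro P hP hPS α hα
    have hd : ∀ b ∈ F.autGroup P, ∀ x ∈ P, x ∈ K → autFn b x ∈ K := fun b hb x hx hxK =>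
      fixed_map hS hE hP hxK (((mem_autGroup_iff_fn hPS).1 hb).mono (sup_le inf_le_left (Subgroup.zpowers_le.2 hx)))
    refine (mem_autGroup_iff_fn hPS).2 (fn_predSystem.2 ⟨(mem_autGroup_iff_fn hPS).1 hα, fun x hx =>
      ⟨hd α hα x hx, fun h => ?_⟩⟩)
    have := hd α⁻¹ (inv_mem hα) _ (autFn_mem α hx) h
    rwa [autFn_inv_apply α hx] at this
  have hle : F ≤ D := alperin hS hF D (fun α hα => key S ((inf_eq_right.2 hT.1).symm ▸ centric_top E) le_rfl α hα)
    fun P hP hess => by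
      refine key P ?_ hP.le
      by_contra hn
      exact (not_radical_of_inter_not_centric hS hF hE.1.2.2.1 hT hess.1 hn).2 (essential_radical hS hess)
  refine stronglyClosed_iff_fn.2 ⟨hKS, fun P f hf x hx hxK => ?_⟩
  exact ((fn_predSystem.1 (fn_of_le hle hf)).2 x hx).1 hxK

/-- The focal subgroup of `C_F(T)` is fixed. -/
theorem focal_le_fixedSubgroup (hS : IsPGroup p S) (hE : E.IsNormalIn F p)
    {D : FusionSystem (centralizerIn S T)} (hD : F.IsCentralizerSystem T D) :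
    D.focalSubgroup ≤ fixedSubgroup p F E := by
  have hF := hE.1.2.1
  have hT := hE.1.2.2.2.1
  refine (Subgroup.closure_le _).2 ?_
  rintro _ ⟨R, φ, ⟨x, hxR⟩, hφ, rfl⟩
  obtain ⟨hRC, hφC, ψ, hψ, hψφ, hψT⟩ := (fn_centralizer hD).1 (fn_ofHom hφ)
  have hyC : φ ⟨x, hxR⟩ ∈ centralizerIn S T := (D.le_of_mem hφ).2 ⟨x, hxR⟩
  refine ⟨Subgroup.mul_mem _ (Subgroup.inv_mem _ (hRC hxR)) hyC, fun Y h hh P g hP hPS hg hgi => ?_⟩
  obtain ⟨hxN, hgx⟩ := map_centralizer_normalizer hPS hP.1 hg hgi (hRC hxR)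
  obtain ⟨hyN, hgy⟩ := map_centralizer_normalizer hPS hP.1 hg hgi hyC
  set V := P ⊔ Subgroup.zpowers x with hV
  have hxV : x ∈ V := Subgroup.mem_sup_right (Subgroup.mem_zpowers x)
  have hVN : V ≤ normalizerIn S P := sup_le (le_normalizerIn hPS) (Subgroup.zpowers_le.2 hxN)
  have hgV := hg.mono hVN
  have hψV : Fn F V ψ := hψ.mono (sup_le (hP.1.trans le_sup_right) ((Subgroup.zpowers_le.2 hxR).trans le_sup_left))
  have hψx : ψ x = φ ⟨x, hxR⟩ := by rw [hψφ x hxR, ofHom_apply φ hxR]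
  have hψm : ∀ v ∈ V, ψ v ∈ normalizerIn S P := fun v hv => by
    have h1 := mem_img_of_mem (f := ψ) hv
    rw [hV, hψV.img_sup, img_zpowers hψV hxV, hψx] at h1
    exact sup_le ((img_le fun y hy => (hψT y (hP.1 hy)).symm ▸ hy).trans (le_normalizerIn hPS))
      (Subgroup.zpowers_le.2 hyN) h1
  obtain ⟨g', hg', hg'g, hg'i⟩ := hgV.exists_inv
  have hQ : img g V = Y ⊔ Subgroup.zpowers (g x) := by rw [hV, hgV.img_sup, hgi, img_zpowers hgV hxV]
  rw [hQ] at hg' hg'i
  have hω : Fn F (Y ⊔ Subgroup.zpowers (g x)) (g ∘ (ψ ∘ g')) :=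
    (hg'.comp hψV fun v hv => hg'i.le (mem_img_of_mem hv)).comp hg fun v hv => hψm _ (hg'i.le (mem_img_of_mem hv))
  have hfix : ∀ y ∈ Y, (g ∘ (ψ ∘ g')) y = y := fun y hy => by
    obtain ⟨v, hv, rfl⟩ := (hg.mono (le_normalizerIn hPS)).mem_img.1 (hgi.ge hy)
    show g (ψ (g' (g v))) = g v
    rw [hg'g v (Subgroup.mem_sup_left hv), hψT v (hP.1 hv)]
  obtain ⟨DY, hDY⟩ := exists_centralizerSystem F hh.fullyNormalized.1 (Q := Y)
  have hpres := displacement_preserved hS hF hh.fullyNormalized hh.compatible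
    (finishes_coprime hS hh.compatible hh.coprime) hDY
    (fn_centralizer_of_fix hDY (Subgroup.zpowers_le.2 hgx) (g := g ∘ (ψ ∘ g'))
      (hω.mono (le_of_eq (sup_comm _ _))) hfix) (g x) (Subgroup.mem_zpowers _)
  have himg : (g ∘ (ψ ∘ g')) (g x) = g (φ ⟨x, hxR⟩) := by
    show g (ψ (g' (g x))) = _
    rw [hg'g x hxV, hψx]
  rw [himg] at hpres
  set z := (g x)⁻¹ * autFn h (g x) with hz
  have hgxi : g x⁻¹ = (g x)⁻¹ := hg.map_inv hxN
  show autFn h (g (x⁻¹ * φ ⟨x, hxR⟩)) = g (x⁻¹ * φ ⟨x, hxR⟩)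
  rw [hg.map_mul (Subgroup.inv_mem _ hxN) hyN, hgxi,
    hh.compatible.fn.map_mul (Subgroup.inv_mem _ (Subgroup.mem_sup_right hgx)) (Subgroup.mem_sup_right hgy),
    hh.compatible.fn.map_inv (Subgroup.mem_sup_right hgx),
    show autFn h (g x) = g x * z from (mul_inv_cancel_left _ _).symm,
    show autFn h (g (φ ⟨x, hxR⟩)) = g (φ ⟨x, hxR⟩) * z from by rw [← hpres, mul_inv_cancel_left],
    mul_inv_rev, mul_assoc]
  have hzc := hh.compatible.move_central hgx
  rw [← mul_assoc (g x)⁻¹, ← IsCompatible.commute (Subgroup.mul_mem _ (Subgroup.inv_mem _ hgx) hgy) hzc,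
    inv_mul_cancel_left]

end CfsgLib.Fsys.WNR
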