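import Cfsg.Agent.Lib.FusionSystem.ReductionInvariant
import Cfsg.Agent.Lib.FusionSystem.NormalCentralizerClosed
import Cfsg.Agent.Lib.FusionSystem.CharacterNormal
import Cfsg.Agent.Lib.FusionSystem.Subsystems

/-! The centralizer of a normal subsystem as a normal subsystem. -/

set_option autoImplicit false

namespace CfsgLib.Fsys.Red

open Cfsg Cfsg.FusionSystem CfsgLib.Fsys.WNR
open Cfsg.FusionSystem (centralizerIn normalizerIn)

universe u

variable {Ω : Type u} [Group Ω] {S T : Subgroup Ω} [Finite S] {F : FusionSystem S} {E : FusionSystem T}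
  {p : ℕ} [Fact p.Prime]

/-- A map between subgroups centralising a strongly closed subgroup extends to it. -/
theorem exists_ext_centralizing (hS : IsPGroup p S) (hF : F.IsSaturated p) (hT : F.StronglyClosed T)
    {P : Subgroup Ω} (hP : P ≤ centralizerIn S T) {f : Ω → Ω} (hf : Fn F P f)
    (hfP : img f P ≤ centralizerIn S T) :
    ∃ g : Ω → Ω, Fn F (P ⊔ T) g ∧ (∀ x ∈ P, g x = f x) ∧ ∀ t ∈ T, g t ∈ T := by
  haveI := finite_of_le_base hT.1
  obtain ⟨Q, hQ, hQc⟩ := exists_fullyCentralized (F := F) hf.img_le_base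
  obtain ⟨h, hh, hhi⟩ := isConj_iff.1 hQ
  have hr := fullyCentralized_receptive hS hF hQc
  have key : ∀ {R : Subgroup Ω} {u : Ω → Ω}, R ≤ centralizerIn S T → Fn F R u → img u R = Q →
      ∃ g : Ω → Ω, Fn F (R ⊔ T) g ∧ (∀ x ∈ R, g x = u x) ∧ img g T = T := by
    intro R u hR hu hi
    obtain ⟨N, g, hg, hRN, hN, hge⟩ := receptive_extend hr hu hi
    have hTN : T ≤ N := fun t ht => (hN t).2 (inExt_of_commute (mem_centralizerIn.2
      ⟨hT.1 ht, fun y hy => ((mem_centralizerIn.1 (hR hy)).2 t ht).symm⟩))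
    exact ⟨g, hg.mono (sup_le hRN hTN), hge,
      (hg.mono hTN).img_eq_self fun t ht => sc_apply hT hg (hTN ht) ht⟩
  obtain ⟨g₁, hg₁, hg₁e, hg₁T⟩ := key hfP hh hhi
  obtain ⟨g₂, hg₂, hg₂e, hg₂T⟩ := key hP (hf.comp hh fun x hx => mem_img_of_mem hx)
    (by rw [hf.img_comp, hhi])
  have hi₁ : img g₁ (img f P ⊔ T) = Q ⊔ T := by rw [hg₁.img_sup, img_congr hg₁e, hhi, hg₁T]
  have hi₂ : img g₂ (P ⊔ T) = Q ⊔ T := by rw [hg₂.img_sup, img_congr hg₂e, hf.img_comp, hhi, hg₂T]
  obtain ⟨k, hk, hkg, -⟩ := hg₁.exists_inv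
  rw [hi₁] at hk
  have hcomp : Fn F (P ⊔ T) (k ∘ g₂) := hg₂.comp hk fun x hx => hi₂.le (mem_img_of_mem hx)
  refine ⟨k ∘ g₂, hcomp, fun x hx => ?_, fun t ht => sc_apply hT hcomp (Subgroup.mem_sup_right ht) ht⟩
  show k (g₂ x) = f x
  rw [hg₂e x hx]
  show k (h (f x)) = f x
  rw [← hg₁e _ (mem_img_of_mem hx), hkg _ (Subgroup.mem_sup_left (mem_img_of_mem hx))]

/-- The `p'`-residual of the system of `p`-power index in `C_F(T)` over `C_S(E)` is normal in `F`. -/
theorem exists_centralizer_normal (hS : IsPGroup p S) (hE : E.IsNormalIn F p) :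
    ∃ D : FusionSystem (fixedSubgroup p F E),
      D.IsNormalIn F p ∧ ∀ P : Subgroup Ω, D.Hom P ⊆ F.centralizerHom T P := by
  classical
  have hF := hE.1.2.1
  have hT := hE.1.2.2.2.1
  set K := fixedSubgroup p F E with hKdef
  have hK := stronglyClosed_fixedSubgroup hS hE
  have hKC : K ≤ centralizerIn S T := fixedSubgroup_le p
  have hCS : centralizerIn S T ≤ S := centralizerIn_le
  haveI := finite_of_le_base hCS
  haveI := finite_of_le_base hT.1
  haveI := finite_of_le_base hK.1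
  obtain ⟨D, hD⟩ := exists_centralizerSystem F hT.1
  have hTc := (fullyNormalized_good hS hF (fullyNormalized_of_weaklyClosed (weaklyClosed_of_stronglyClosed hT))).2
  have hDs := centralizerSystem_saturated hS hF hTc hD
  have hDp := hS.to_le hCS
  have hhyp : D.hyperfocalSubgroup p ≤ K := by
    refine (Subgroup.closure_le _).2 ?_
    rintro _ ⟨P, α, x, hP, -, rfl⟩
    refine focal_le_fixedSubgroup hS hE hD (Subgroup.subset_closure
      ⟨P, P.subtype.comp (α : MulAut P).toMonoidHom, x, (mem_autGroup hP).1 α.2, rfl⟩)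
  obtain ⟨C', hC's, hC'i⟩ := exists_pPowerIndex hDp hDs hKC hhyp
  have hnormK : ∀ s ∈ S, ∀ x ∈ K, s * x * s⁻¹ ∈ K := fun s hs x hx => sc_conj hK hs hx
  have hC'n := pPowerIndex_normal hDp hDs (fun s hs => hnormK s (hCS hs)) hC's hC'i
  have hDF : D.IsSubsystemOf F := fun P φ h => by
    rw [hD P] at h
    exact h.1
  have hC'F : C'.IsSubsystemOf F := fun P φ h => hDF P (hC'i.1 P h)
  have hTK : ∀ {P : Subgroup Ω}, P ≤ K → ∀ {f : Ω → Ω}, Fn F P f →
      ∃ g : Ω → Ω, Fn F (P ⊔ T) g ∧ (∀ x ∈ P, g x = f x) ∧ img g T = T := by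
    intro P hP f hf
    obtain ⟨g, hg, hge, hgT⟩ := exists_ext_centralizing hS hF hT (hP.trans hKC) hf
      ((img_le fun x hx => sc_apply hK hf hx (hP hx)).trans hKC)
    exact ⟨g, hg, hge, (hg.mono le_sup_right).img_eq_self hgT⟩
  have hweak : C'.IsWeaklyNormalIn F p := by
    refine ⟨hC's, hF, hC'F, hK, fun P hP φ hφ α hα => ?_, fun P hP φ hφ => ?_⟩
    · obtain ⟨χ, hχ, hχe⟩ := pPower_transport_of hS hCS hC's hC'i hα (fun Q g hQ hg hm => by
        obtain ⟨a, ha, hae, haT⟩ := hTK (le_refl K) ((mem_autGroup_iff_fn hK.1).1 hα)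
        obtain ⟨-, -, u, hu, hue, huT⟩ := (fn_centralizer hD).1 hg
        obtain ⟨b, hb, hba, hbi⟩ := (ha.mono (sup_le_sup hQ le_rfl)).exists_inv
        rw [ha.mono (sup_le_sup hQ le_rfl) |>.img_sup, img_congr fun x hx => hae x (hQ hx), haT] at hb hbi
        have hui : ∀ y ∈ Q ⊔ T, u y ∈ Q ⊔ T := fun y hy => by
          have h := mem_img_of_mem (f := u) hy
          rw [hu.img_sup] at h
          exact sup_le_sup (img_le fun x hx => hue x hx ▸ hm x hx) (img_le fun t ht => (huT t ht).symm ▸ ht) h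
        have hbm : ∀ y ∈ img (autFn α) Q ⊔ T, b y ∈ Q ⊔ T := fun y hy => hbi.le (mem_img_of_mem hy)
        have hc : Fn F (img (autFn α) Q ⊔ T) (a ∘ (u ∘ b)) :=
          (hb.comp hu hbm).comp (ha.mono (sup_le_sup hQ le_rfl)) fun y hy => hui _ (hbm y hy)
        have hcT : ∀ t ∈ T, (a ∘ (u ∘ b)) t = t := fun t ht => by
          obtain ⟨t', ht', rfl⟩ := (ha.mono le_sup_right).mem_img.1 (haT.ge ht)
          show a (u (b (a t'))) = a t'
          rw [hba t' (Subgroup.mem_sup_right ht'), huT t' ht']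
        refine ⟨a ∘ (u ∘ b), fn_centralizer_of_fix hD ((img_le fun x hx => hKC (autFn_mem α (hQ hx)))) hc hcT,
          fun x hx => ?_⟩
        show a (u (b (autFn α x))) = _
        rw [← hae x (hQ hx), hba x (Subgroup.mem_sup_left hx), hue x hx, hae _ (hQ (hm x hx))]) (fn_ofHom hφ)
      have e : (P.subgroupOf K).map (K.subtype.comp α.toMonoidHom) = img (autFn α) P := by
        refine le_antisymm ?_ (img_le fun x hx => ⟨⟨x, hP hx⟩, hx, (autFn_coe α ⟨x, hP hx⟩).symm⟩)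
        rintro _ ⟨x, hx, rfl⟩
        show ((α x : K) : Ω) ∈ _
        rw [← autFn_coe]
        exact mem_img_of_mem hx
      rw [← e] at hχ
      obtain ⟨ψ, hψ, hψe⟩ := hχ
      refine ⟨ψ, hψ, fun x hφx hαx => ?_⟩
      rw [hψe]
      have := hχe x x.2
      rw [ofHom_coe, autFn_coe α ⟨φ x, hφx⟩] at this
      rw [← this]
      show χ ((α ⟨(x : Ω), hP x.2⟩ : K) : Ω) = _
      rw [← autFn_coe]
    · have hf := fn_ofHom hφ
      obtain ⟨g, hg, hge, hgT⟩ := hTK hP hf
      -- extend the action on `T` to `T C_S(T)`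
      obtain ⟨N, a, ha, hTN, hN, hae⟩ := receptive_extend
        (fullyCentralized_receptive hS hF hTc) (hg.mono le_sup_right) hgT
      have hKN : K ≤ N := fun k hk => (hN k).2 (inExt_of_commute (hKC hk))
      have haK : ∀ x ∈ K, a x ∈ K := fun x hx => sc_apply hK ha (hKN hx) hx
      obtain ⟨α, hα, hαe⟩ := exists_aut_of_fn (ha.mono hKN) ((ha.mono hKN).img_eq_self haK)
      have hαe' : ∀ x ∈ K, autFn α x = a x := fun x hx => (autFn_coe α ⟨x, hx⟩).trans (hαe ⟨x, hx⟩)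
      have haKT := ha.mono (sup_le hKN hTN)
      have haT : img a T = T := (img_congr hae).trans hgT
      obtain ⟨b, hb, hba, hbi⟩ := haKT.exists_inv
      have hKi : img a K = K := (ha.mono hKN).img_eq_self haK
      rw [haKT.img_sup, hKi, haT] at hb hbi
      have hfK : ∀ x ∈ P, g x ∈ K := fun x hx => (hge x hx).symm ▸ sc_apply hK hf hx (hP hx)
      have hgKT : ∀ y ∈ P ⊔ T, g y ∈ K ⊔ T := fun y hy => by
        have h := mem_img_of_mem (f := g) hy
        rw [hg.img_sup, hgT] at h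
        exact sup_le_sup (img_le hfK) le_rfl h
      have hc : Fn F (P ⊔ T) (b ∘ g) := hg.comp hb hgKT
      have hcT : ∀ t ∈ T, (b ∘ g) t = t := fun t ht => by
        show b (g t) = t
        rw [← hae t ht, hba t (Subgroup.mem_sup_right ht)]
      have hD' : Fn D P (b ∘ g) := fn_centralizer_of_fix hD (hP.trans hKC) hc hcT
      obtain ⟨γ, hγ, e, he, hce⟩ := Invariant.frattini hC'n.1.2.2 hP hD'
      obtain ⟨φ₀, hφ₀, hφ₀e⟩ := id he
      refine ⟨α * γ, mul_mem hα (autGroup_mono' hDF K hγ), φ₀, hφ₀, fun x hx => ?_⟩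
      have hbK : b (g x) ∈ K := by
        obtain ⟨k, hk, hke⟩ := (ha.mono hKN).mem_img.1 (hKi.ge (hfK x x.2))
        rw [← hke, hba k (Subgroup.mem_sup_left hk)]
        exact hk
      rw [← autFn_coe (α * γ) ⟨φ₀ x, hx⟩, autFn_mul _ _ hx, hφ₀e x, ← hce x x.2]
      show φ x = autFn α (b (g x))
      rw [hαe' _ hbK]
      obtain ⟨k, hk, hke⟩ := (ha.mono hKN).mem_img.1 (hKi.ge (hfK x x.2))
      rw [← ofHom_coe φ x, ← hge x x.2, ← hke, hba k (Subgroup.mem_sup_left hk)]
  obtain ⟨R, hR⟩ := exists_pPrimeResidual (hS.to_le hK.1) hC's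
  refine ⟨R, residual_normal hS hweak hR, fun P φ h => ?_⟩
  have h' := hC'i.1 P (hR.2.1.1 P h)
  rwa [hD P] at h'

end CfsgLib.Fsys.Red
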