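import Cfsg.Agent.S5265

/-! With `O_p(F) = 1` and centre of index `p²`, `p` odd, the centre is generated by a commutator. -/

set_option autoImplicit false
set_option linter.unusedSectionVars false
set_option linter.style.haveILetI false

open Cfsg Cfsg.FusionSystem CfsgLib.Fsys CfsgLib.Fsys.CentralIndex Cfsg.Agent.S5265
open scoped commutatorElement

namespace CfsgLib.Fsys.CentralIndex

theorem centre_le_zpowers {Ω : Type*} [Group Ω] {S : Subgroup Ω} [Finite S] {F : FusionSystem S} {p : ℕ}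
    [Fact p.Prime] {c : Ω} (h : Setup p F c) (hp2 : p ≠ 2) (hcore : F.core = ⊥) :
    ∀ z ∈ Zc S, z ∈ Subgroup.zpowers c := by
  classical
  have hS := h.hS
  have hF := h.hF
  have hnormal : ∀ Q : Subgroup Ω, F.IsNormal Q → Q = ⊥ := fun Q hQ => le_bot_iff.1 (hcore ▸ le_core hQ)
  have hS1 : S ≠ ⊥ := fun e => by
    obtain ⟨x, hx, y, hy, ec⟩ := h.isComm
    rw [e, Subgroup.mem_bot] at hx
    exact h.c_ne (by rw [ec, hx]; exact commutatorElement_one_left y)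
  obtain ⟨P₀, hP₀⟩ : ∃ P, F.IsEssential p P := by
    by_contra hno
    push Not at hno
    exact hS1 (hnormal S (normal_top_of_no_essential hS hF hno))
  have hcS : c ∈ S := (mem_Zc.1 h.c_mem).1
  choose W d fr hinv hagree hmod htau using fun P (hP : F.IsEssential p P) => structure_of_essential h hP
  -- central elements whose images lie in every `W` are trivial
  let W₀ : Subgroup Ω :=
    { carrier := {z | z ∈ Zc S ∧ ∀ (g : Ω → Ω), Fn F S g → ∀ P hP, g z ∈ W P hP}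
      mul_mem' := fun {a b} ha hb => ⟨(Zc S).mul_mem ha.1 hb.1, fun g hg P hP => by
        rw [hg.map_mul (mem_Zc.1 ha.1).1 (mem_Zc.1 hb.1).1]
        exact (W P hP).mul_mem (ha.2 g hg P hP) (hb.2 g hg P hP)⟩
      one_mem' := ⟨(Zc S).one_mem, fun g hg P hP => by rw [hg.map_one]; exact (W P hP).one_mem⟩
      inv_mem' := fun {a} ha => ⟨(Zc S).inv_mem ha.1, fun g hg P hP => by
        rw [hg.map_inv (mem_Zc.1 ha.1).1]
        exact (W P hP).inv_mem (ha.2 g hg P hP)⟩ }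
  have hW₀ : W₀ = ⊥ := by
    refine hnormal _ (normal_of_generators hS hF (fun z hz => (mem_Zc.1 hz.1).1) (fun s hs => ?_) ?_)
    · refine Subgroup.centralizer_le_normalizer _ (Subgroup.mem_centralizer_iff.2 fun z hz => ?_)
      exact ((mem_Zc.1 hz.1).2 s hs).symm
    · intro P hP
      have key : ∀ (g : Ω → Ω), Fn F S g → ∀ z ∈ W₀, g z ∈ W₀ := fun g hg z hz =>
        ⟨map_Zc h hg hz.1, fun g' hg' P' hP' => hz.2 (g' ∘ g) (hg.comp hg' fun x hx => hg.mem hx) P' hP'⟩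
      rcases hP with rfl | hP
      · exact ⟨fun z hz => (mem_Zc.1 hz.1).1, fun α hα z hz =>
          key _ ((mem_autGroup_iff_fn le_rfl).1 hα) z hz⟩
      · refine ⟨fun z hz => Z_le h hP hz.1, fun β hβ z hz => ?_⟩
        obtain ⟨g, hg, hgw⟩ := hagree P hP β hβ
        have hzW : z ∈ W P hP := by simpa using hz.2 id (fn_id le_rfl) P hP
        rw [hgw z hzW]
        exact key g hg z hz
  have htriv : ∀ z ∈ Zc S, (∀ (g : Ω → Ω), Fn F S g → ∀ P hP, g z ∈ W P hP) → z = 1 := fun z hz hall =>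
    Subgroup.mem_bot.1 (hW₀ ▸ (show z ∈ W₀ from ⟨hz, hall⟩))
  have hdec : ∀ P hP, ∀ z ∈ Zc S, ∃ i : ℤ, ∃ w ∈ W P hP, z = c ^ i * w := by
    intro P hP z hz
    obtain ⟨i, j, w, hw, e⟩ := (fr P hP).dec z (Z_le h hP hz)
    refine ⟨i, w, hw, ?_⟩
    have hj : d P hP ^ j ∈ Zc S := by
      have : d P hP ^ j = (c ^ i)⁻¹ * z * w⁻¹ := by rw [e]; group
      rw [this]
      exact (Zc S).mul_mem ((Zc S).mul_mem ((Zc S).inv_mem ((Zc S).zpow_mem h.c_mem i)) hz)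
        ((Zc S).inv_mem ((fr P hP).W_le hw))
    have hd1 : d P hP ^ j = 1 := by
      by_contra hne
      obtain ⟨k, hk⟩ := exists_zpow_eq (fr P hP).d_pow (Subgroup.mem_zpowers_iff.2 ⟨j, rfl⟩) hne
        (Subgroup.mem_zpowers (d P hP))
      exact (fr P hP).d_notMem (hk ▸ (Zc S).zpow_mem hj k)
    rw [e, hd1, mul_one]
  have hWtau : ∀ P hP, ∀ (g : Ω → Ω), Fn F S g → g c = c⁻¹ → (∀ w ∈ W P hP, g w = w) →
      ∀ z ∈ Zc S, z⁻¹ * g z ∈ Subgroup.zpowers c ∧ (g z = z → z ∈ W P hP) := by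
    intro P hP g hg hgc hgw z hz
    obtain ⟨i, w, hw, rfl⟩ := hdec P hP z hz
    have hwS : w ∈ S := (mem_Zc.1 ((fr P hP).W_le hw)).1
    obtain ⟨φ, -, hφ⟩ := id hg
    have hci : g (c ^ i) = (c ^ i)⁻¹ := by
      have e := map_zpow φ ⟨c, hcS⟩ i
      rw [hφ, hφ] at e
      show g (c ^ i) = _
      rw [← inv_zpow, ← hgc]
      simpa using e
    have he : (c ^ i * w)⁻¹ * g (c ^ i * w) = (c ^ i)⁻¹ * (c ^ i)⁻¹ := by
      have hcw : Commute w (c ^ i) := Commute.zpow_right (h := (mem_Zc.1 h.c_mem).2 w hwS) (m := i)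
      rw [hg.map_mul (S.zpow_mem hcS i) hwS, hci, hgw w hw, mul_inv_rev,
        show w⁻¹ * (c ^ i)⁻¹ * ((c ^ i)⁻¹ * w) = w⁻¹ * ((c ^ i)⁻¹ * (c ^ i)⁻¹) * w by group,
        ((hcw.inv_right.mul_right hcw.inv_right).inv_left).eq, inv_mul_cancel_right]
    refine ⟨?_, fun hgz => ?_⟩
    · rw [he]
      exact Subgroup.mul_mem _ (Subgroup.inv_mem _ (Subgroup.mem_zpowers_iff.2 ⟨i, rfl⟩))
        (Subgroup.inv_mem _ (Subgroup.mem_zpowers_iff.2 ⟨i, rfl⟩))
    · rw [hgz, inv_mul_cancel] at he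
      have h2 : (c ^ i) ^ 2 = 1 := by
        rw [← mul_inv_rev, eq_comm, inv_eq_one] at he
        rwa [pow_two]
      have hpp : (c ^ i) ^ p = 1 := by
        rw [← zpow_natCast, ← zpow_mul, mul_comm, zpow_mul, zpow_natCast, h.c_pow, one_zpow]
      have h3 := (pow_gcd_eq_one (a := c ^ i)).2 ⟨h2, hpp⟩
      rw [Nat.Coprime.gcd_eq_one ((Nat.coprime_primes Nat.prime_two (Fact.out : p.Prime)).2 (Ne.symm hp2)),
        pow_one] at h3
      rwa [h3, one_mul]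
  obtain ⟨τ, hτ, hτc, hτw⟩ := htau P₀ hP₀ hp2
  have hW0' : ∀ w ∈ W P₀ hP₀, w = 1 := by
    intro w hw
    have hwZ := (fr P₀ hP₀).W_le hw
    refine htriv w hwZ fun g hg P hP => ?_
    obtain ⟨σ, hσ, hσc, hσw⟩ := htau P hP hp2
    refine (hWtau P hP σ hσ hσc hσw (g w) (map_Zc h hg hwZ)).2 ?_
    obtain ⟨g', hg', hg'g, hg'i⟩ := hg.exists_inv
    have hiS : img g S = S := hg.img_eq_self fun x hx => hg.mem hx
    rw [hiS] at hg'
    have hconjc : Fn F S (g ∘ τ ∘ g') :=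
      (hg'.comp hτ fun x hx => hg'.mem hx).comp hg fun x hx => hτ.mem (hg'.mem hx)
    have hgg' : ∀ x ∈ S, g (g' x) = x := by
      intro x hx
      rw [← hiS] at hx
      obtain ⟨q, hq, rfl⟩ := hg.mem_img.1 hx
      rw [hg'g q hq]
    have hg'Z : ∀ z ∈ Zc S, g' z ∈ Zc S := fun z hz => map_Zc h hg' hz
    have e1 : (g ∘ τ ∘ g') c = c⁻¹ := by
      obtain ⟨k, hk⟩ := Subgroup.mem_zpowers_iff.1 (h.map_c hg' (Subgroup.mem_zpowers c))
      show g (τ (g' c)) = c⁻¹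
      have hck : τ (g' c) = (g' c)⁻¹ := by
        obtain ⟨φ, -, hφ⟩ := id hτ
        have e := map_zpow φ ⟨c, hcS⟩ k
        rw [hφ, hφ] at e
        rw [← hk, ← inv_zpow, ← hτc]
        simpa using e
      rw [hck, hg.map_inv (hg'.mem hcS), hgg' c hcS]
    have e2 : ∀ z ∈ Zc S, z⁻¹ * (g ∘ τ ∘ g') z ∈ Subgroup.zpowers c := by
      intro z hz
      have hzS := (mem_Zc.1 hz).1
      have h1 := h.map_c hg (hWtau P₀ hP₀ τ hτ hτc hτw (g' z) (hg'Z z hz)).1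
      rwa [hg.map_mul (S.inv_mem (hg'.mem hzS)) (hτ.mem (hg'.mem hzS)), hg.map_inv (hg'.mem hzS),
        hgg' z hzS] at h1
    have := agree_on_Zc h hσ hconjc hσc e1 (fun z hz => (hWtau P hP σ hσ hσc hσw z hz).1) e2
      (map_Zc h hg hwZ)
    rw [this]
    show g (τ (g' (g w))) = g w
    rw [hg'g w (mem_Zc.1 hwZ).1, hτw w hw]
  intro z hz
  obtain ⟨i, w, hw, rfl⟩ := hdec P₀ hP₀ z hz
  rw [hW0' w hw, mul_one]
  exact Subgroup.mem_zpowers_iff.2 ⟨i, rfl⟩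

end CfsgLib.Fsys.CentralIndex
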