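import Cfsg.Agent.Lib.FusionSystem.Park
import Cfsg.Agent.Lib.FusionSystem.Generation
import Mathlib.GroupTheory.SchurZassenhaus
import Mathlib.Algebra.Group.Subgroup.Pointwise

/-! Characteristic bisets of saturated fusion systems. -/

set_option autoImplicit false

open Cfsg Cfsg.FusionSystem

namespace CfsgLib.Fsys.CharBiset

open CfsgLib.Fsys.Park

universe u

section General

variable {H : Type*} [Group H]

/-- The number of fixed points of a subgroup. -/
noncomputable def marks (X : Type*) [MulAction H X] (K : Subgroup H) : ℕ :=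
  Nat.card {x : X // ∀ k ∈ K, k • x = x}

theorem marks_map_conj {X : Type*} [MulAction H X] (K : Subgroup H) (a : H) :
    marks X (K.map (MulAut.conj a).toMonoidHom) = marks X K := by
  refine Nat.card_congr
    { toFun := fun x => ⟨a⁻¹ • x.1, fun k hk => ?_⟩
      invFun := fun x => ⟨a • x.1, ?_⟩
      left_inv := fun x => Subtype.ext (smul_inv_smul a x.1)
      right_inv := fun x => Subtype.ext (inv_smul_smul a x.1) }
  · have := x.2 _ ⟨k, hk, rfl⟩
    rw [eq_inv_smul_iff, ← mul_smul, ← mul_smul]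
    rw [MulEquiv.coe_toMonoidHom, MulAut.conj_apply] at this
    exact this
  · rintro _ ⟨k, hk, rfl⟩
    show (a * k * a⁻¹) • a • x.1 = a • x.1
    rw [← mul_smul, inv_mul_cancel_right, mul_smul, x.2 k hk]

theorem marks_le {X : Type*} [MulAction H X] [Finite X] (K : Subgroup H) : marks X K ≤ Nat.card X :=
  Nat.card_le_card_of_injective Subtype.val Subtype.val_injective

open scoped Classical in
theorem card_mul_add_sum {W : Type*} [Fintype H] [MulAction H W] [Finite W] (L : Subgroup H)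
    (hW : ∀ l ∈ L, ∀ y : W, l • y = y) :
    Nat.card L * Nat.card W + ∑ w ∈ Finset.univ.filter (fun w : H => w ∉ L), Nat.card (MulAction.fixedBy W w)
      = Nat.card (Quotient (MulAction.orbitRel H W)) * Nat.card H := by
  have := Fintype.ofFinite W
  have hb := MulAction.sum_card_fixedBy_eq_card_orbits_mul_card_group H W
  simp only [← Nat.card_eq_fintype_card] at hb
  rw [← hb, ← Finset.sum_filter_add_sum_filter_not Finset.univ (fun w : H => w ∈ L)]
  congr 1
  rw [Finset.sum_congr rfl (g := fun _ => Nat.card W) fun w hw => ?_, Finset.sum_const, smul_eq_mul]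
  · congr 1
    rw [Nat.card_eq_fintype_card, Fintype.card_subtype]
  · exact Nat.card_congr (Equiv.subtypeUnivEquiv fun y => hW w (Finset.mem_filter.1 hw).2 y)

/-- Two sets with the same fixed points outside a common kernel. -/
theorem card_mul_modEq {Y Z : Type*} [Finite H] [MulAction H Y] [MulAction H Z] [Finite Y] [Finite Z]
    (L : Subgroup H) (hY : ∀ l ∈ L, ∀ y : Y, l • y = y) (hZ : ∀ l ∈ L, ∀ z : Z, l • z = z)
    (h : ∀ w, w ∉ L → Nat.card (MulAction.fixedBy Y w) = Nat.card (MulAction.fixedBy Z w)) :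
    Nat.card L * Nat.card Y ≡ Nat.card L * Nat.card Z [MOD Nat.card H] := by
  classical
  have := Fintype.ofFinite H
  have hsum : ∑ w ∈ Finset.univ.filter (fun w : H => w ∉ L), Nat.card (MulAction.fixedBy Y w) =
      ∑ w ∈ Finset.univ.filter (fun w : H => w ∉ L), Nat.card (MulAction.fixedBy Z w) :=
    Finset.sum_congr rfl fun w hw => h w (Finset.mem_filter.1 hw).2
  set tot := ∑ w ∈ Finset.univ.filter (fun w : H => w ∉ L), Nat.card (MulAction.fixedBy Z w)
  refine Nat.ModEq.add_right_cancel' tot ?_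
  have h1 : Nat.card L * Nat.card Y + tot ≡ 0 [MOD Nat.card H] := by
    rw [← hsum, card_mul_add_sum L hY]
    exact Nat.modEq_zero_iff_dvd.2 (dvd_mul_left _ _)
  have h2 : Nat.card L * Nat.card Z + tot ≡ 0 [MOD Nat.card H] := by
    rw [card_mul_add_sum L hZ]
    exact Nat.modEq_zero_iff_dvd.2 (dvd_mul_left _ _)
  exact h1.trans h2.symm

end General

variable {Ω : Type u} [Group Ω] {S : Subgroup Ω} {F : FusionSystem S} {P Q R : Subgroup Ω}

/-- The domain of a twisted diagonal. -/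
def dom (K : Subgroup (S × S)) : Subgroup Ω := (K.map (MonoidHom.snd S S)).map S.subtype

/-- The diagonal of a subgroup. -/
def diag (P : Subgroup Ω) : Subgroup (S × S) :=
  (P.subgroupOf S).map ((MonoidHom.id S).prod (MonoidHom.id S))

theorem mem_diag {a : S × S} : a ∈ (diag P : Subgroup (S × S)) ↔ (a.2 : Ω) ∈ P ∧ a.1 = a.2 := by
  constructor
  · rintro ⟨s, hs, rfl⟩
    exact ⟨hs, rfl⟩
  · rintro ⟨h, e⟩
    exact ⟨a.2, h, Prod.ext e.symm rfl⟩

theorem dom_diag (hP : P ≤ S) : dom (diag P : Subgroup (S × S)) = P := by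
  refine le_antisymm ?_ fun x hx => ⟨⟨x, hP hx⟩, ⟨(⟨x, hP hx⟩, ⟨x, hP hx⟩), mem_diag.2 ⟨hx, rfl⟩, rfl⟩, rfl⟩
  rintro _ ⟨_, ⟨a, ha, rfl⟩, rfl⟩
  exact (mem_diag.1 ha).1

theorem tw_diag (hP : P ≤ S) : Tw F (diag P : Subgroup (S × S)) :=
  ⟨P, id, fn_id hP, fun a => mem_diag.trans <| and_congr_right fun _ =>
    ⟨fun h => congrArg Subtype.val h, fun h => Subtype.ext h⟩⟩

theorem dom_le (K : Subgroup (S × S)) : dom K ≤ S := Subgroup.map_subtype_le _

theorem dom_eq {K : Subgroup (S × S)} {f : Ω → Ω} (hf : Fn F Q f)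
    (he : ∀ a : S × S, a ∈ K ↔ (a.2 : Ω) ∈ Q ∧ (a.1 : Ω) = f a.2) : dom K = Q := by
  refine le_antisymm ?_ fun x hx => ?_
  · rintro _ ⟨_, ⟨a, ha, rfl⟩, rfl⟩
    exact ((he a).1 ha).1
  · exact ⟨⟨x, hf.le hx⟩, ⟨(⟨f x, hf.mem hx⟩, ⟨x, hf.le hx⟩), (he _).2 ⟨hx, rfl⟩, rfl⟩, rfl⟩

theorem tw_witness {K : Subgroup (S × S)} (h : Tw F K) :
    ∃ f : Ω → Ω, Fn F (dom K) f ∧ ∀ a : S × S, a ∈ K ↔ (a.2 : Ω) ∈ dom K ∧ (a.1 : Ω) = f a.2 := by
  obtain ⟨Q, f, hf, he⟩ := h
  rw [dom_eq hf he]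
  exact ⟨f, hf, he⟩

theorem card_dom {K : Subgroup (S × S)} (h : Tw F K) : Nat.card (dom K) = Nat.card K := by
  obtain ⟨f, hf, he⟩ := tw_witness h
  refine (Nat.card_eq_of_bijective (fun a : K => (⟨(a.1.2 : Ω), ((he a.1).1 a.2).1⟩ : dom K)) ⟨?_, ?_⟩).symm
  · intro a b e
    have e2 : (a.1.2 : Ω) = b.1.2 := congrArg (Subtype.val : dom K → Ω) e
    refine Subtype.ext (Prod.ext (Subtype.ext ?_) (Subtype.ext e2))
    rw [((he a.1).1 a.2).2, ((he b.1).1 b.2).2, e2]
  · rintro ⟨x, hx⟩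
    exact ⟨⟨(⟨f x, hf.mem hx⟩, ⟨x, hf.le hx⟩), (he _).2 ⟨hx, rfl⟩⟩, rfl⟩

theorem isConj_dom_conj (K : Subgroup (S × S)) (c : S × S) :
    F.IsConj (dom K) (dom (K.map (MulAut.conj c).toMonoidHom)) := by
  refine isConj_iff.2 ⟨_, fn_conj (dom_le K) c.2.2, le_antisymm (img_le ?_) ?_⟩
  · rintro _ ⟨_, ⟨a, ha, rfl⟩, rfl⟩
    exact ⟨_, ⟨_, ⟨a, ha, rfl⟩, rfl⟩, rfl⟩
  · rintro _ ⟨_, ⟨_, ⟨a, ha, rfl⟩, rfl⟩, rfl⟩
    exact mem_img_of_mem (f := fun x => (c.2 : Ω) * x * (c.2 : Ω)⁻¹) ⟨_, ⟨a, ha, rfl⟩, rfl⟩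

/-- Transport of a twisted diagonal along maps of `F` on both factors. -/
theorem tw_map {A B : Subgroup Ω} {k h : Ω → Ω} (hk : Fn F A k) (hh : Fn F B h) {K K' : Subgroup (S × S)}
    (hK : ∀ a ∈ K, (a.1 : Ω) ∈ A ∧ (a.2 : Ω) ∈ B)
    (hfwd : ∀ a ∈ K, ∃ b ∈ K', (b.1 : Ω) = k a.1 ∧ (b.2 : Ω) = h a.2)
    (hbwd : ∀ b ∈ K', ∃ a ∈ K, (b.1 : Ω) = k a.1 ∧ (b.2 : Ω) = h a.2)
    (ht : Tw F K) : Tw F K' ∧ F.IsConj (dom K) (dom K') := by
  obtain ⟨f, hf, he⟩ := tw_witness ht
  have hdB : dom K ≤ B := by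
    rintro _ ⟨_, ⟨a, ha, rfl⟩, rfl⟩
    exact (hK a ha).2
  have hi : img h (dom K) = dom K' := by
    refine le_antisymm (img_le ?_) ?_
    · rintro _ ⟨_, ⟨a, ha, rfl⟩, rfl⟩
      obtain ⟨b, hb, -, hb2⟩ := hfwd a ha
      exact ⟨_, ⟨b, hb, rfl⟩, hb2⟩
    · rintro _ ⟨_, ⟨b, hb, rfl⟩, rfl⟩
      obtain ⟨a, ha, -, hb2⟩ := hbwd b hb
      show (b.2 : Ω) ∈ _
      rw [hb2]
      exact mem_img_of_mem ⟨_, ⟨a, ha, rfl⟩, rfl⟩
  obtain ⟨h', hh', hh'h, hh'i⟩ := (hh.mono hdB).exists_inv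
  have hfA : ∀ x ∈ dom K, f x ∈ A := by
    rintro _ ⟨_, ⟨a, ha, rfl⟩, rfl⟩
    exact ((he a).1 ha).2 ▸ (hK a ha).1
  have hm : ∀ y ∈ img h (dom K), h' y ∈ dom K := fun y hy => hh'i ▸ mem_img_of_mem hy
  have hfn : Fn F (dom K') (k ∘ (f ∘ h')) :=
    hi ▸ (hh'.comp hf hm).comp hk fun y hy => hfA _ (hm y hy)
  refine ⟨⟨dom K', _, hfn, fun b => ⟨fun hb => ?_, fun ⟨hb2, hb1⟩ => ?_⟩⟩, isConj_iff.2 ⟨h, hh.mono hdB, hi⟩⟩
  · obtain ⟨a, ha, hb1, hb2⟩ := hbwd b hb
    refine ⟨⟨_, ⟨b, hb, rfl⟩, rfl⟩, ?_⟩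
    show _ = k (f (h' (b.2 : Ω)))
    rw [hb1, hb2, hh'h _ ((he a).1 ha).1, ← ((he a).1 ha).2]
  · obtain ⟨y, hy, hy'⟩ := (hh.mono hdB).mem_img.1 (hi.ge hb2)
    have ha : ((⟨f y, hf.mem hy⟩, ⟨y, hf.le hy⟩) : S × S) ∈ K := (he _).2 ⟨hy, rfl⟩
    obtain ⟨b', hb', e1, e2⟩ := hfwd _ ha
    have : b' = b := Prod.ext (Subtype.ext (by
      rw [e1, hb1]
      show k (f y) = k (f (h' (b.2 : Ω)))
      rw [← hy', hh'h y hy])) (Subtype.ext (e2.trans hy'))
    exact this ▸ hb'

/-- A biset whose numbers of fixed points are constant on classes of order at least `n`. -/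
structure BisetN (F : FusionSystem S) (p n : ℕ) where
  /-- The points. -/
  X : Type u
  /-- The action of `S × S`. -/
  act : MulAction (S × S) X
  fin : Finite X
  tw : ∀ x : X, Tw F (@MulAction.stabilizer (S × S) X _ act x)
  count : ∃ m, ¬ p ∣ m ∧ Nat.card X = Nat.card S * m
  const : ∀ K K' : Subgroup (S × S), Tw F K → Tw F K' → F.IsConj (dom K) (dom K') → n ≤ Nat.card K →
    @marks (S × S) _ X act K = @marks (S × S) _ X act K'

variable [Finite S] {p : ℕ} [Fact p.Prime]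

theorem marks_modEq (hS : IsPGroup p S) (hF : F.IsSaturated p) {X : Type u} [MulAction (S × S) X] [Finite X]
    (htw : ∀ x : X, Tw F (MulAction.stabilizer (S × S) x))
    {L : Subgroup (S × S)} (hL : Tw F L)
    (hconst : ∀ K K' : Subgroup (S × S), Tw F K → Tw F K' → F.IsConj (dom K) (dom K') →
      Nat.card L < Nat.card K → marks (H := S × S) X K = marks (H := S × S) X K')
    (hP : F.IsFullyNormalized P) (hLP : F.IsConj (dom L) P) :
    marks (H := S × S) X L ≡ marks (H := S × S) X (diag P) [MOD L.relIndex (Subgroup.normalizer (L : Set (S × S)))] := by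
  classical
  obtain ⟨f, hf, he⟩ := tw_witness hL
  set R := img f (dom L) with hR
  obtain ⟨f', hf', hf'f, hf'i⟩ := hf.exists_inv
  obtain ⟨h₀, hh₀, hi₀⟩ := isConj_iff.1 (isConj_trans (isConj_symm (isConj_of_fn hf)) hLP)
  have hA := (fullyNormalized_good hS hF hP).1
  have hrec := fullyNormalized_receptive hS hF hP
  obtain ⟨γ, h, hγ, hh, hhN, hhi, -⟩ := exists_normalizer_map_of_fn hS hA hrec hh₀ hi₀
  haveI : Finite R := finite_of_le_base hf.img_le_base
  haveI : Finite (dom L) := finite_of_le_base (dom_le L)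
  have hRN : R ≤ normalizerIn S R := le_normalizerIn hf.img_le_base
  have hcomp : Fn F (dom L) (h ∘ f) := hf.comp hh fun x hx => hRN (mem_img_of_mem hx)
  have hci : img (h ∘ f) (dom L) = P := hf.img_comp.trans hhi
  obtain ⟨N', k, hk, hLN', hN', hke⟩ := receptive_extend hrec hcomp hci
  set N := Subgroup.normalizer (L : Set (S × S)) with hN
  have hmemL : ∀ y (hy : y ∈ dom L), ((⟨f y, hf.mem hy⟩, ⟨y, hf.le hy⟩) : S × S) ∈ L :=
    fun y hy => (he _).2 ⟨hy, rfl⟩
  -- the normalizer of the twisted diagonal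
  have hNprop : ∀ c ∈ N, (c.1 : Ω) ∈ normalizerIn S R ∧ (c.2 : Ω) ∈ normalizerIn S (dom L) ∧
      ∀ y ∈ dom L, f ((c.2 : Ω) * y * (c.2 : Ω)⁻¹) = (c.1 : Ω) * f y * (c.1 : Ω)⁻¹ := by
    intro c hc
    have hconjL : ∀ y (hy : y ∈ dom L), (c.2 : Ω) * y * (c.2 : Ω)⁻¹ ∈ dom L ∧
        (c.1 : Ω) * f y * (c.1 : Ω)⁻¹ = f ((c.2 : Ω) * y * (c.2 : Ω)⁻¹) := fun y hy =>
      (he _).1 ((Subgroup.mem_normalizer_iff.1 hc _).1 (hmemL y hy))
    refine ⟨⟨c.1.2, mem_normalizer_of_map_le (fun z hz => ?_)⟩,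
      ⟨c.2.2, mem_normalizer_of_map_le (fun z hz => (hconjL z hz).1)⟩, fun y hy => (hconjL y hy).2.symm⟩
    obtain ⟨y, hy, rfl⟩ := hf.mem_img.1 hz
    rw [(hconjL y hy).2]
    exact mem_img_of_mem (hconjL y hy).1
  have hN2 : ∀ c ∈ N, (c.2 : Ω) ∈ N' := by
    intro c hc
    obtain ⟨h1, h2, h3⟩ := hNprop c hc
    refine (hN' _).2 ⟨h2.1, h2.2, h (c.1 : Ω), hh.mem h1, fun y hy => ?_⟩
    show h (f ((c.2 : Ω) * y * (c.2 : Ω)⁻¹)) = _
    rw [h3 y hy, hh.map_conj h1 (hRN (mem_img_of_mem hy))]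
    rfl
  have hLle : L ≤ N := Subgroup.le_normalizer
  let Ψ : N →* S × S := MonoidHom.mk'
    (fun c => (⟨h (c.1.1 : Ω), hh.mem (hNprop c.1 c.2).1⟩, ⟨k (c.1.2 : Ω), hk.mem (hN2 c.1 c.2)⟩))
    fun a b => Prod.ext (Subtype.ext (hh.map_mul (hNprop a.1 a.2).1 (hNprop b.1 b.2).1))
      (Subtype.ext (hk.map_mul (hN2 a.1 a.2) (hN2 b.1 b.2)))
  have hΨinj : Function.Injective Ψ := fun a b e => by
    refine Subtype.ext (Prod.ext (Subtype.ext ?_) (Subtype.ext ?_))
    · exact hh.inj (hNprop a.1 a.2).1 (hNprop b.1 b.2).1 (congrArg (fun z : S × S => (z.1 : Ω)) e)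
    · exact hk.inj (hN2 a.1 a.2) (hN2 b.1 b.2) (congrArg (fun z : S × S => (z.2 : Ω)) e)
  -- the two fixed point sets
  let Y := {x : X // ∀ l ∈ L, l • x = x}
  let Z := {x : X // ∀ l ∈ (diag P : Subgroup (S × S)), l • x = x}
  let actY : MulAction N Y :=
    { smul := fun c x => ⟨(c : S × S) • x.1, fun l hl => by
        have h1 := x.2 _ ((Subgroup.mem_normalizer_iff''.1 c.2 l).1 hl)
        rw [mul_smul, mul_smul, inv_smul_eq_iff] at h1
        exact h1⟩
      one_smul := fun x => Subtype.ext (one_smul _ x.1)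
      mul_smul := fun a b x => Subtype.ext (mul_smul _ _ x.1) }
  have hΨn : ∀ c : N, ∀ l ∈ (diag P : Subgroup (S × S)), (Ψ c)⁻¹ * l * Ψ c ∈ (diag P : Subgroup (S × S)) := by
    intro c l hl
    obtain ⟨hl2, hl1⟩ := mem_diag.1 hl
    obtain ⟨y, hy, hyl⟩ := hcomp.mem_img.1 (hci.ge hl2)
    have hl' := hmemL y hy
    set l' : S × S := (⟨f y, hf.mem hy⟩, ⟨y, hf.le hy⟩) with hl'def
    have e : l = Ψ ⟨l', hLle hl'⟩ := by
      refine Prod.ext (Subtype.ext ?_) (Subtype.ext ?_)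
      · show (l.1 : Ω) = h (f y)
        rw [hl1, ← hyl]
        rfl
      · show (l.2 : Ω) = k y
        rw [hke y hy, ← hyl]
    have hm := (Subgroup.mem_normalizer_iff''.1 c.2 l').1 hl'
    have e' : (Ψ c)⁻¹ * l * Ψ c = Ψ ⟨_, hLle hm⟩ := by
      rw [e, ← map_inv, ← map_mul, ← map_mul]
      rfl
    rw [e']
    obtain ⟨hm2, hm1⟩ := (he _).1 hm
    refine mem_diag.2 ⟨?_, Subtype.ext ?_⟩
    · show k _ ∈ P
      rw [hke _ hm2]
      exact hci.le (mem_img_of_mem hm2)
    · show h _ = k _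
      rw [hke _ hm2]
      exact congrArg h hm1
  let actZ : MulAction N Z :=
    { smul := fun c x => ⟨Ψ c • x.1, fun l hl => by
        have h1 := x.2 _ (hΨn c l hl)
        rw [mul_smul, mul_smul, inv_smul_eq_iff] at h1
        exact h1⟩
      one_smul := fun x => Subtype.ext (by show Ψ 1 • x.1 = x.1; rw [map_one, one_smul])
      mul_smul := fun a b x => Subtype.ext (by show Ψ (a * b) • x.1 = _; rw [map_mul, mul_smul]; rfl) }
  have key := card_mul_modEq (H := N) (Y := Y) (Z := Z) (L.subgroupOf N)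
    (fun l hl y => Subtype.ext (y.2 _ hl)) (fun l hl z => Subtype.ext <| z.2 _ <| by
      obtain ⟨h2, h1⟩ := (he (l : S × S)).1 hl
      refine mem_diag.2 ⟨?_, Subtype.ext ?_⟩
      · show k _ ∈ P
        rw [hke _ h2]
        exact hci.le (mem_img_of_mem h2)
      · show h _ = k _
        rw [hke _ h2]
        exact congrArg h h1) fun w hw => ?_
  · have hcard : Nat.card (L.subgroupOf N) = Nat.card L :=
      Nat.card_congr (Subgroup.subgroupOfEquivOfLe hLle).toEquiv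
    have hNcard : Nat.card N = Nat.card L * L.relIndex N := by
      rw [Subgroup.relIndex, ← hcard, Subgroup.card_mul_index]
    rw [hcard, hNcard] at key
    exact Nat.ModEq.mul_left_cancel' (Nat.card_pos.ne') key
  -- outside `L` the fixed points agree
  set K : Subgroup N := L.subgroupOf N ⊔ Subgroup.zpowers w with hK
  set K₁ : Subgroup (S × S) := K.map N.subtype with hK₁
  set K₂ : Subgroup (S × S) := K.map Ψ with hK₂
  have hLK₁ : L ≤ K₁ := fun l hl => ⟨⟨l, hLle hl⟩, le_sup_left (a := L.subgroupOf N) hl, rfl⟩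
  have hPK₂ : (diag P : Subgroup (S × S)) ≤ K₂ := by
    intro l hl
    obtain ⟨hl2, hl1⟩ := mem_diag.1 hl
    obtain ⟨y, hy, hyl⟩ := hcomp.mem_img.1 (hci.ge hl2)
    refine ⟨⟨_, hLle (hmemL y hy)⟩, le_sup_left (a := L.subgroupOf N) (hmemL y hy), ?_⟩
    refine Prod.ext (Subtype.ext ?_) (Subtype.ext ?_)
    · show h (f y) = (l.1 : Ω)
      rw [hl1, ← hyl]
      rfl
    · show k y = (l.2 : Ω)
      rw [hke y hy, ← hyl]
  have eY : Nat.card (MulAction.fixedBy Y w) = marks X K₁ := by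
    refine Nat.card_congr
      { toFun := fun y => ⟨y.1.1, ?_⟩
        invFun := fun x => ⟨⟨x.1, fun l hl => x.2 l (hLK₁ hl)⟩,
          Subtype.ext (x.2 _ ⟨w, le_sup_right (a := L.subgroupOf N) (Subgroup.mem_zpowers w), rfl⟩)⟩
        left_inv := fun y => rfl
        right_inv := fun x => rfl }
    have hle : K ≤ (MulAction.stabilizer (S × S) y.1.1).comap N.subtype :=
      sup_le (fun l hl => y.1.2 _ hl) (Subgroup.zpowers_le.2 (congrArg Subtype.val y.2 :))
    rintro _ ⟨c, hc, rfl⟩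
    exact hle hc
  have eZ : Nat.card (MulAction.fixedBy Z w) = marks X K₂ := by
    refine Nat.card_congr
      { toFun := fun y => ⟨y.1.1, ?_⟩
        invFun := fun x => ⟨⟨x.1, fun l hl => x.2 l (hPK₂ hl)⟩,
          Subtype.ext (x.2 _ ⟨w, le_sup_right (a := L.subgroupOf N) (Subgroup.mem_zpowers w), rfl⟩)⟩
        left_inv := fun y => rfl
        right_inv := fun x => rfl }
    have hle : K ≤ (MulAction.stabilizer (S × S) y.1.1).comap Ψ := by
      refine sup_le (fun l hl => ?_) (Subgroup.zpowers_le.2 (congrArg Subtype.val y.2 :))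
      obtain ⟨h2, h1⟩ := (he (l : S × S)).1 hl
      refine y.1.2 _ (mem_diag.2 ⟨?_, Subtype.ext ?_⟩)
      · show k _ ∈ P
        rw [hke _ h2]
        exact hci.le (mem_img_of_mem h2)
      · show h _ = k _
        rw [hke _ h2]
        exact congrArg h h1
    rintro _ ⟨c, hc, rfl⟩
    exact hle hc
  rw [eY, eZ]
  have hK1m : ∀ a ∈ K₁, (a.1 : Ω) ∈ normalizerIn S R ∧ (a.2 : Ω) ∈ N' := by
    rintro _ ⟨c, -, rfl⟩
    exact ⟨(hNprop c.1 c.2).1, hN2 c.1 c.2⟩
  have hfwd : ∀ a ∈ K₁, ∃ b ∈ K₂, (b.1 : Ω) = h a.1 ∧ (b.2 : Ω) = k a.2 := by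
    rintro _ ⟨c, hc, rfl⟩
    exact ⟨Ψ c, ⟨c, hc, rfl⟩, rfl, rfl⟩
  have hbwd : ∀ b ∈ K₂, ∃ a ∈ K₁, (b.1 : Ω) = h a.1 ∧ (b.2 : Ω) = k a.2 := by
    rintro _ ⟨c, hc, rfl⟩
    exact ⟨c, ⟨c, hc, rfl⟩, rfl, rfl⟩
  by_cases h1 : Tw F K₁
  · obtain ⟨h2, hconj⟩ := tw_map hh hk hK1m hfwd hbwd h1
    refine hconst K₁ K₂ h1 h2 hconj ?_
    refine lt_of_not_ge fun hle => hw ?_
    have : L = K₁ := Subgroup.eq_of_le_of_card_ge hLK₁ hle
    exact this.ge ⟨w, le_sup_right (a := L.subgroupOf N) (Subgroup.mem_zpowers w), rfl⟩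
  · have hzero : ∀ M : Subgroup (S × S), ¬ Tw F M → marks X M = 0 := fun M hM =>
      Nat.card_eq_zero.2 (Or.inl ⟨fun x => hM ((htw x.1).mono fun m hm => x.2 m hm)⟩)
    rw [hzero K₁ h1, hzero K₂ fun h2 => h1 ?_]
    obtain ⟨h', hh', hh'h, -⟩ := hh.exists_inv
    obtain ⟨k', hk', hk'k, -⟩ := hk.exists_inv
    refine (tw_map hh' hk' (fun b hb => ?_) (fun b hb => ?_) (fun a ha => ?_) h2).1
    · obtain ⟨a, ha, e1, e2⟩ := hbwd b hb
      rw [e1, e2]
      exact ⟨mem_img_of_mem (hK1m a ha).1, mem_img_of_mem (hK1m a ha).2⟩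
    · obtain ⟨a, ha, e1, e2⟩ := hbwd b hb
      refine ⟨a, ha, ?_, ?_⟩
      · rw [e1, hh'h _ (hK1m a ha).1]
      · rw [e2, hk'k _ (hK1m a ha).2]
    · obtain ⟨b, hb, e1, e2⟩ := hfwd a ha
      refine ⟨b, hb, ?_, ?_⟩
      · rw [e1, hh'h _ (hK1m a ha).1]
      · rw [e2, hk'k _ (hK1m a ha).2]

theorem exists_top (hS : IsPGroup p S) (hF : F.IsSaturated p) : Nonempty (BisetN F p (Nat.card S)) := by
  classical
  set A := F.autGroup S with hA
  have : Finite A := inferInstance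
  obtain ⟨-, T, hT⟩ := fullyAutomized_top hF
  have hTn : (T : Subgroup A).Normal := by
    rw [hT]
    refine ⟨fun a ha b => ?_⟩
    obtain ⟨g, hg, hga⟩ := mem_autInducedBy.1 (show (a : MulAut S) ∈ autInducedBy S S from ha)
    refine mem_autInducedBy.2 ⟨((b : MulAut S) ⟨g, hg⟩ : S), ((b : MulAut S) ⟨g, hg⟩).2, fun x => ?_⟩
    have e : (a : MulAut S) ((b : MulAut S)⁻¹ x) = ⟨g, hg⟩ * (b : MulAut S)⁻¹ x * ⟨g, hg⟩⁻¹ :=
      Subtype.ext (hga _)
    show (((b : MulAut S) ((a : MulAut S) ((b : MulAut S)⁻¹ x)) : S) : Ω) = _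
    rw [e, map_mul, map_mul, map_inv, MulAut.apply_inv_self]
    rfl
  have hcop : (Nat.card (T : Subgroup A)).Coprime (T : Subgroup A).index := T.card_coprime_index
  obtain ⟨H, hH⟩ := Subgroup.exists_right_complement'_of_coprime hcop
  have hdec : ∀ α ∈ A, ∃ y : S, ∃ h ∈ H, ∀ x : S, (α : MulAut S) x = y * (h : MulAut S) x * y⁻¹ := by
    intro α hα
    obtain ⟨⟨⟨t, ht⟩, ⟨h, hh⟩⟩, e, -⟩ := Subgroup.isComplement_iff_existsUnique.1 hH ⟨α, hα⟩
    rw [hT] at ht
    obtain ⟨g, hg, hgt⟩ := mem_autInducedBy.1 (show (t : MulAut S) ∈ autInducedBy S S from ht)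
    refine ⟨⟨g, hg⟩, h, hh, fun x => Subtype.ext ?_⟩
    rw [show α = (t : MulAut S) * (h : MulAut S) from (congrArg Subtype.val e).symm]
    exact hgt ((h : MulAut S) x)
  have huniq : ∀ (y y' : S) (h h' : H), (∀ x : S, y * ((h : A) : MulAut S) x * y⁻¹ =
      y' * ((h' : A) : MulAut S) x * y'⁻¹) → h = h' := by
    intro y y' h h' e
    have hq : ((h : A) * (h' : A)⁻¹ : A) ∈ (T : Subgroup A) := by
      rw [hT]
      refine mem_autInducedBy.2 ⟨((y⁻¹ * y' : S) : Ω), (y⁻¹ * y').2, fun x => ?_⟩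
      have := e (((h' : A) : MulAut S)⁻¹ x)
      rw [MulAut.apply_inv_self] at this
      show (((h : A) : MulAut S) (((h' : A) : MulAut S)⁻¹ x) : Ω) = _
      rw [show ((h : A) : MulAut S) (((h' : A) : MulAut S)⁻¹ x) = y⁻¹ * (y' * x * y'⁻¹) * y by
        rw [← this]; group]
      simp [mul_assoc]
    have := Subgroup.disjoint_def.1 hH.disjoint hq (H.mul_mem h.2 (H.inv_mem h'.2))
    exact Subtype.ext (mul_inv_eq_one.1 this)
  let act : MulAction (S × S) (↥S × H) :=
    { smul := fun a z => ((a.1 * z.1 * (((z.2 : A) : MulAut S) a.2)⁻¹, z.2) : ↥S × H)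
      one_smul := fun z => by
        show ((1 : S) * z.1 * (((z.2 : A) : MulAut S) 1)⁻¹, z.2) = z
        simp
      mul_smul := fun a b z => by
        show (a.1 * b.1 * z.1 * (((z.2 : A) : MulAut S) (a.2 * b.2))⁻¹, z.2) =
          (a.1 * (b.1 * z.1 * (((z.2 : A) : MulAut S) b.2)⁻¹) * (((z.2 : A) : MulAut S) a.2)⁻¹, z.2)
        simp [mul_assoc] }
  let _ := act
  have hsmul : ∀ (a : S × S) (z : ↥S × H),
      a • z = (a.1 * z.1 * (((z.2 : A) : MulAut S) a.2)⁻¹, z.2) := fun _ _ => rfl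
  refine ⟨⟨↥S × H, act, inferInstance, fun z => ?_, ⟨Nat.card H, ?_, Nat.card_prod _ _⟩, ?_⟩⟩
  · obtain ⟨x, h⟩ := z
    have hfn : Fn F S (fun y => (x : Ω) * autFn ((h : A) : MulAut S) y * (x : Ω)⁻¹) :=
      ((mem_autGroup_iff_fn le_rfl).1 (h : A).2).comp (fn_conj le_rfl x.2) fun y hy => autFn_mem _ hy
    refine ⟨S, _, hfn, fun a => ?_⟩
    rw [MulAction.mem_stabilizer_iff, hsmul]
    constructor
    · intro e
      refine ⟨a.2.2, ?_⟩
      have e' : a.1 * x * (((h : A) : MulAut S) a.2)⁻¹ = x := congrArg Prod.fst e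
      have : a.1 = x * ((h : A) : MulAut S) a.2 * x⁻¹ := by
        rw [eq_mul_inv_iff_mul_eq, ← mul_inv_eq_iff_eq_mul, e']
      rw [this, autFn_coe]
      rfl
    · rintro ⟨-, e⟩
      refine Prod.ext ?_ rfl
      rw [autFn_coe] at e
      have : a.1 = x * ((h : A) : MulAut S) a.2 * x⁻¹ := Subtype.ext e
      show a.1 * x * (((h : A) : MulAut S) a.2)⁻¹ = x
      rw [this]
      group
  · have hidx := hH.symm.index_eq_card
    intro hdvd
    exact T.not_dvd_index (hidx ▸ hdvd)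
  · intro K K' hK hK' _ hn
    have hfull : ∀ L : Subgroup (S × S), Tw F L → Nat.card S ≤ Nat.card L →
        ∃ y : S, ∃ h : H, ∀ a : S × S, a ∈ L ↔ a.1 = y * ((h : A) : MulAut S) a.2 * y⁻¹ := by
      intro L hL hc
      obtain ⟨f, hf, he⟩ := tw_witness hL
      have hd : dom L = S := eq_of_le_of_card le_rfl (dom_le L) (hc.trans (card_dom hL).ge)
      rw [hd] at hf
      obtain ⟨α, hα, hαf⟩ := exists_aut_of_fn hf (hf.img_eq_self fun x hx => hf.mem hx)
      obtain ⟨y, h, hh, hy⟩ := hdec α hα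
      refine ⟨y, ⟨h, hh⟩, fun a => ?_⟩
      rw [he, hd, ← hαf]
      exact ⟨fun h => (Subtype.ext h.2).trans (hy _), fun e => ⟨a.2.2, congrArg Subtype.val (e.trans (hy _).symm)⟩⟩
    obtain ⟨y, h, hy⟩ := hfull K hK hn
    obtain ⟨y', h', hy'⟩ := hfull K' hK' (hn.trans (le_of_eq (by
      rw [← card_dom hK, ← card_dom hK', isConj_card (show F.IsConj (dom K) (dom K') by assumption)])))
    have key : ∀ (L : Subgroup (S × S)) (y : S) (h : H), (∀ a : S × S, a ∈ L ↔
        a.1 = y * ((h : A) : MulAut S) a.2 * y⁻¹) →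
        marks (H := S × S) (↥S × H) L = Nat.card (Subgroup.center S) := by
      intro L y h hL
      have hmem : ∀ b : S, ((y * ((h : A) : MulAut S) b * y⁻¹, b) : S × S) ∈ L := fun b => (hL _).2 rfl
      have hfix : ∀ z : {z : ↥S × H // ∀ a ∈ L, a • z = z}, z.1.2 = h ∧ y⁻¹ * z.1.1 ∈ Subgroup.center S := by
        rintro ⟨⟨x, k⟩, hz⟩
        have e : ∀ b : S, y * ((h : A) : MulAut S) b * y⁻¹ * x * (((k : A) : MulAut S) b)⁻¹ = x :=
          fun b => congrArg Prod.fst (hz _ (hmem b))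
        have hk : h = k := huniq y x h k fun b => by
          rw [eq_mul_inv_iff_mul_eq, ← mul_inv_eq_iff_eq_mul, e b]
        subst hk
        refine ⟨rfl, Subgroup.mem_center_iff.2 fun u => ?_⟩
        obtain ⟨b, rfl⟩ := (((h : A) : MulAut S)).surjective u
        have e' := e b
        rw [mul_inv_eq_iff_eq_mul] at e'
        calc ((h : A) : MulAut S) b * (y⁻¹ * x) = y⁻¹ * (y * ((h : A) : MulAut S) b * y⁻¹ * x) := by group
          _ = y⁻¹ * x * ((h : A) : MulAut S) b := by rw [e']; group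
      refine Nat.card_congr
        { toFun := fun z => ⟨y⁻¹ * z.1.1, (hfix z).2⟩
          invFun := fun c => ⟨(y * c.1, h), fun a ha => ?_⟩
          left_inv := fun z => Subtype.ext (Prod.ext (mul_inv_cancel_left y z.1.1) (hfix z).1.symm)
          right_inv := fun c => Subtype.ext (inv_mul_cancel_left y c.1) }
      refine Prod.ext ?_ rfl
      show a.1 * (y * c.1) * (((h : A) : MulAut S) a.2)⁻¹ = y * c.1
      rw [(hL a).1 ha, mul_assoc (y * _) y⁻¹ _, inv_mul_cancel_left, mul_assoc y _ c.1,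
        Subgroup.mem_center_iff.1 c.2]
      group
    rw [key K y h hy, key K' y' h' hy']

theorem exists_step (hS : IsPGroup p S) (hF : F.IsSaturated p) {n : ℕ} (hn : n < Nat.card S)
    (D : BisetN F p (n + 1)) : Nonempty (BisetN F p n) := by
  classical
  obtain ⟨X, act, hfin, htw, ⟨m, hm, hcard⟩, hconst⟩ := D
  let _ := act
  let v : Subgroup (S × S) → ℕ := fun K => marks (H := S × S) X K
  let w : Subgroup (S × S) → ℕ := fun K => K.relIndex (Subgroup.normalizer (K : Set (S × S)))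
  let N₀ := Nat.card (S × S)
  let cls : Subgroup Ω → Set (Subgroup Ω) := fun P => {R | F.IsConj P R}
  let rep : Set (Subgroup Ω) → Subgroup Ω := fun C => Classical.epsilon fun P => P ∈ C ∧ F.IsFullyNormalized P
  have hrep : ∀ K : Subgroup (S × S), F.IsConj (dom K) (rep (cls (dom K))) ∧
      F.IsFullyNormalized (rep (cls (dom K))) := fun K => by
    obtain ⟨R, hR, hRn⟩ := exists_fullyNormalized (F := F) (dom_le K)
    exact Classical.epsilon_spec (p := fun P => P ∈ cls (dom K) ∧ F.IsFullyNormalized P) ⟨R, hR, hRn⟩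
  have hcls : ∀ K K' : Subgroup (S × S), F.IsConj (dom K) (dom K') → cls (dom K) = cls (dom K') :=
    fun K K' h => Set.ext fun R => ⟨fun hR => isConj_trans (isConj_symm h) hR, fun hR => isConj_trans h hR⟩
  let M : Subgroup (S × S) → ℕ := fun K => v (diag (rep (cls (dom K)))) + N₀ * Nat.card X
  let st : Setoid {K : Subgroup (S × S) // Tw F K ∧ Nat.card K = n} :=
    { r := fun K K' => ∃ a, K.1.map (MulAut.conj a).toMonoidHom = K'.1
      iseqv := ⟨fun K => ⟨1, by rw [map_one]; exact Subgroup.map_id _⟩,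
        fun {K K'} ⟨a, ha⟩ => ⟨a⁻¹, by
          rw [← ha, Subgroup.map_map]
          convert Subgroup.map_id _
          ext x <;> simp [mul_assoc]⟩,
        fun {K K' K''} ⟨a, ha⟩ ⟨b, hb⟩ => ⟨b * a, by
          rw [← hb, ← ha, Subgroup.map_map, map_mul]
          rfl⟩⟩ }
  let r : Quotient st → Subgroup (S × S) := fun q => q.out.1
  let c : Quotient st → ℕ := fun q => (M (r q) - v (r q)) / w (r q)
  let X' := X ⊕ (Σ q : Quotient st, Fin (c q) × ((S × S) ⧸ r q))
  have := Fintype.ofFinite (Quotient st)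
  let act' : MulAction (S × S) X' :=
    { smul := fun a z => z.elim (fun x => (Sum.inl (a • x) : X')) fun z => (Sum.inr ⟨z.1, z.2.1, a • z.2.2⟩ : X')
      one_smul := fun z => by
        rcases z with x | ⟨K, i, e⟩
        · show Sum.inl ((1 : S × S) • x) = Sum.inl x
          rw [one_smul]
        · show (Sum.inr ⟨K, i, (1 : S × S) • e⟩ : X') = Sum.inr ⟨K, i, e⟩
          rw [one_smul]
      mul_smul := fun a b z => by
        rcases z with x | ⟨K, i, e⟩
        · show Sum.inl ((a * b) • x) = Sum.inl (a • b • x)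
          rw [mul_smul]
        · show (Sum.inr ⟨K, i, (a * b) • e⟩ : X') = Sum.inr ⟨K, i, a • b • e⟩
          rw [mul_smul] }
  let _ := act'
  have hl : ∀ (a : S × S) (x : X), a • (Sum.inl x : X') = Sum.inl (a • x) := fun _ _ => rfl
  have hr : ∀ (a : S × S) K i e, a • (Sum.inr ⟨K, i, e⟩ : X') = Sum.inr ⟨K, i, a • e⟩ := fun _ _ _ _ => rfl
  have hcount : ∀ L : Subgroup (S × S), marks (H := S × S) X' L =
      v L + ∑ q : Quotient st, c q * marks (H := S × S) ((S × S) ⧸ r q) L := by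
    intro L
    show Nat.card {z : X' // ∀ k ∈ L, k • z = z} = _
    rw [Nat.card_congr ((Equiv.subtypeSum (p := fun z : X' => ∀ k ∈ L, k • z = z)).trans (Equiv.sumCongr
      (α₂ := {x : X // ∀ k ∈ L, k • x = x})
      (β₂ := Σ q : Quotient st, Fin (c q) × {e : (S × S) ⧸ r q // ∀ k ∈ L, k • e = e})
      { toFun := fun z => ⟨z.1, fun k hk => Sum.inl_injective ((hl k z.1).symm.trans (z.2 k hk))⟩
        invFun := fun z => ⟨z.1, fun k hk => by rw [hl, z.2 k hk]⟩
        left_inv := fun z => rfl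
        right_inv := fun z => rfl }
      { toFun := fun z => ⟨z.1.1, z.1.2.1, ⟨z.1.2.2, fun k hk => by
          have h := Sum.inr_injective ((hr k z.1.1 z.1.2.1 z.1.2.2).symm.trans (z.2 k hk))
          rw [Sigma.mk.injEq] at h
          exact congrArg Prod.snd (eq_of_heq h.2)⟩⟩
        invFun := fun z => ⟨⟨z.1, z.2.1, z.2.2.1⟩, fun k hk => by rw [hr, z.2.2.2 k hk]⟩
        left_inv := fun z => rfl
        right_inv := fun z => rfl }))]
    rw [Nat.card_sum, Nat.card_sigma]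
    congr 1
    refine Finset.sum_congr rfl fun q _ => ?_
    rw [Nat.card_prod, Nat.card_fin]
    rfl
  have hfixc : ∀ (L K : Subgroup (S × S)) (a : S × S),
      (∀ k ∈ L, k • (QuotientGroup.mk a : (S × S) ⧸ K) = QuotientGroup.mk a) ↔
        L.map (MulAut.conj a⁻¹).toMonoidHom ≤ K := by
    intro L K a
    constructor
    · rintro h _ ⟨k, hk, rfl⟩
      show a⁻¹ * k * a⁻¹⁻¹ ∈ K
      have := QuotientGroup.eq.1 (h k hk : (QuotientGroup.mk (k * a) : (S × S) ⧸ K) = QuotientGroup.mk a)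
      simpa [mul_assoc] using K.inv_mem this
    · intro h k hk
      show (QuotientGroup.mk (k * a) : (S × S) ⧸ K) = QuotientGroup.mk a
      refine QuotientGroup.eq.2 ?_
      have := K.inv_mem (h ⟨k, hk, rfl⟩)
      simpa [mul_assoc] using this
  have hzero : ∀ (L K : Subgroup (S × S)), Nat.card K ≤ Nat.card L →
      (∀ a, L.map (MulAut.conj a).toMonoidHom ≠ K) → marks (H := S × S) ((S × S) ⧸ K) L = 0 := by
    intro L K hle hne
    refine Nat.card_eq_zero.2 (Or.inl ⟨fun ⟨e, he⟩ => ?_⟩)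
    obtain ⟨a, rfl⟩ := QuotientGroup.mk_surjective e
    refine hne a⁻¹ (Subgroup.eq_of_le_of_card_ge ((hfixc L K a).1 he) ?_)
    rwa [Subgroup.card_map_of_injective (MulAut.conj a⁻¹).injective]
  have hself : ∀ K : Subgroup (S × S), marks (H := S × S) ((S × S) ⧸ K) K = w K := by
    intro K
    have e : {a : S × S | ∀ k ∈ K, k • (QuotientGroup.mk a : (S × S) ⧸ K) = QuotientGroup.mk a} =
        (Subgroup.normalizer (K : Set (S × S)) : Set (S × S)) := by
      ext a
      rw [Set.mem_setOf_eq, hfixc, SetLike.mem_coe, ← Subgroup.inv_mem_iff]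
      constructor
      · intro h
        refine mem_normalizer_of_map_le fun k hk => ?_
        exact h ⟨k, hk, rfl⟩
      · rintro h _ ⟨k, hk, rfl⟩
        exact (Subgroup.mem_normalizer_iff.1 h k).1 hk
    have h1 : Nat.card ({a : S × S | ∀ k ∈ K, k • (QuotientGroup.mk a : (S × S) ⧸ K) = QuotientGroup.mk a} :
        Set (S × S)) = marks (H := S × S) ((S × S) ⧸ K) K * Nat.card K := by
      rw [show {a : S × S | ∀ k ∈ K, k • (QuotientGroup.mk a : (S × S) ⧸ K) = QuotientGroup.mk a} =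
          QuotientGroup.mk ⁻¹' {e : (S × S) ⧸ K | ∀ k ∈ K, k • e = e} from rfl,
        Nat.card_congr (QuotientGroup.preimageMkEquivSubgroupProdSet K _), Nat.card_prod, mul_comm]
      rfl
    rw [e] at h1
    refine Nat.eq_of_mul_eq_mul_right (Nat.card_pos (α := K)) (h1.symm.trans ?_)
    show _ = K.relIndex _ * _
    rw [Subgroup.relIndex, mul_comm,
      ← Nat.card_congr (Subgroup.subgroupOfEquivOfLe (Subgroup.le_normalizer (H := K))).toEquiv,
      Subgroup.card_mul_index]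
    rfl
  refine ⟨⟨X', act', inferInstance, fun z => ?_, ?_, fun K K' hK hK' hKK' hn' => ?_⟩⟩
  · rcases z with x | ⟨q, i, e⟩
    · rw [show MulAction.stabilizer (S × S) (Sum.inl x : X') = MulAction.stabilizer (S × S) x from by
        ext a
        rw [MulAction.mem_stabilizer_iff, MulAction.mem_stabilizer_iff, hl, Sum.inl.injEq]]
      exact htw x
    · obtain ⟨a, rfl⟩ := QuotientGroup.mk_surjective e
      have e1 : MulAction.stabilizer (S × S) (Sum.inr ⟨q, i, QuotientGroup.mk a⟩ : X') =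
          MulAction.stabilizer (S × S) (a • (QuotientGroup.mk 1 : (S × S) ⧸ r q)) := by
        ext b
        rw [MulAction.mem_stabilizer_iff, MulAction.mem_stabilizer_iff, hr,
          show a • (QuotientGroup.mk 1 : (S × S) ⧸ r q) = QuotientGroup.mk a from
            (congrArg QuotientGroup.mk (mul_one a) :)]
        constructor
        · intro h
          have h' := Sum.inr_injective h
          rw [Sigma.mk.injEq] at h'
          exact congrArg Prod.snd (eq_of_heq h'.2)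
        · intro h
          rw [h]
      rw [e1, MulAction.stabilizer_smul_eq_stabilizer_map_conj, MulAction.stabilizer_quotient]
      exact q.out.2.1.conj a
  · have hdiv : ∀ q : Quotient st, ∃ j, Nat.card ((S × S) ⧸ r q) = Nat.card S * (p * j) := by
      intro q
      obtain ⟨hq, hqn⟩ := q.out.2
      have hdd : n ∣ Nat.card S := hqn ▸ card_dom hq ▸ Subgroup.card_dvd_of_le (dom_le _)
      obtain ⟨b, hb⟩ := hS.exists_card_eq
      obtain ⟨a, ha, han⟩ := (Nat.dvd_prime_pow Fact.out).1 (hb ▸ hdd)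
      have hab : a < b := (Nat.pow_lt_pow_iff_right (Fact.out : p.Prime).one_lt).1 (han ▸ hb ▸ hn)
      obtain ⟨d, rfl⟩ : ∃ d, b = a + 1 + d := ⟨b - a - 1, by omega⟩
      refine ⟨p ^ d, Nat.eq_of_mul_eq_mul_right (Nat.card_pos (α := r q)) ?_⟩
      have := Subgroup.index_mul_card (r q)
      rw [Subgroup.index] at this
      rw [this, Nat.card_prod, show Nat.card (r q) = n from hqn, han, hb]
      ring
    choose j hj using hdiv
    refine ⟨m + p * ∑ q, c q * j q, fun h => hm ((Nat.dvd_add_left (dvd_mul_right p _)).1 h), ?_⟩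
    show Nat.card (X ⊕ _) = _
    rw [Nat.card_sum, Nat.card_sigma, hcard, mul_add]
    congr 1
    rw [Finset.mul_sum, Finset.mul_sum]
    refine Finset.sum_congr rfl fun q _ => ?_
    rw [Nat.card_prod, Nat.card_fin, hj]
    ring
  · rw [hcount, hcount]
    rcases eq_or_lt_of_le hn' with hn' | hn'
    · have hval : ∀ L : Subgroup (S × S), Tw F L → Nat.card L = n →
          v L + ∑ q : Quotient st, c q * marks (H := S × S) ((S × S) ⧸ r q) L = M L := by
        intro L hL hLn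
        set q₀ : Quotient st := Quotient.mk st ⟨L, hL, hLn⟩
        obtain ⟨a, ha⟩ : ∃ a, L.map (MulAut.conj a).toMonoidHom = r q₀ :=
          st.symm (Quotient.exact (Quotient.out_eq q₀))
        rw [Finset.sum_eq_single q₀ (fun q _ hq => ?_) (fun h => absurd (Finset.mem_univ _) h)]
        · have hrL : Tw F (r q₀) := q₀.out.2.1
          have hrn : Nat.card (r q₀) = n := q₀.out.2.2
          have e1 : marks (H := S × S) ((S × S) ⧸ r q₀) L = w (r q₀) := by
            rw [← hself, ← marks_map_conj L a, ha]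
          have e2 : v L = v (r q₀) := by
            show marks (H := S × S) X L = marks (H := S × S) X (r q₀)
            rw [← ha, marks_map_conj]
          have e3 : M L = M (r q₀) := by
            show v (diag (rep (cls (dom L)))) + _ = v (diag (rep (cls (dom (r q₀))))) + _
            rw [hcls L (r q₀) (ha ▸ isConj_dom_conj L a)]
          rw [e1, e2, e3]
          have hmod : v (r q₀) ≡ v (diag (rep (cls (dom (r q₀))))) [MOD w (r q₀)] :=
            marks_modEq hS hF htw hrL (fun A B hA hB hAB hlt => hconst A B hA hB hAB (by omega))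
              (hrep _).2 (hrep _).1
          have hwN : w (r q₀) ∣ N₀ := (Subgroup.index_dvd_card _).trans (Subgroup.card_subgroup_dvd_card _)
          have hle : v (r q₀) ≤ M (r q₀) :=
            (marks_le _).trans ((Nat.le_mul_of_pos_left _ Nat.card_pos).trans (Nat.le_add_left _ _))
          have hd : w (r q₀) ∣ M (r q₀) - v (r q₀) := (Nat.modEq_iff_dvd' hle).1 <|
            hmod.trans ((Nat.ModEq.add_left _ (Nat.modEq_zero_iff_dvd.2 (dvd_mul_of_dvd_left hwN _))).symm)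
          show v (r q₀) + (M (r q₀) - v (r q₀)) / w (r q₀) * w (r q₀) = M (r q₀)
          rw [Nat.div_mul_cancel hd, Nat.add_sub_cancel' hle]
        · rw [hzero L (r q) (le_of_eq (q.out.2.2.trans hLn.symm)) (fun b hb => hq ?_), mul_zero]
          rw [← Quotient.out_eq q]
          exact Quotient.sound (st.symm ⟨b, hb⟩)
      rw [hval K hK hn'.symm, hval K' hK' (by
        rw [← card_dom hK', isConj_card hKK', card_dom hK, hn'])]
      show v (diag (rep (cls (dom K)))) + _ = v (diag (rep (cls (dom K')))) + _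
      rw [hcls K K' hKK']
    · have hcK : Nat.card K' = Nat.card K := by rw [← card_dom hK', isConj_card hKK', card_dom hK]
      have e0 : v K = v K' := hconst K K' hK hK' hKK' (by omega)
      rw [e0]
      congr 1
      refine Finset.sum_congr rfl fun q _ => ?_
      have hz : ∀ L : Subgroup (S × S), n < Nat.card L → marks (H := S × S) ((S × S) ⧸ r q) L = 0 :=
        fun L hL => hzero L (r q) (q.out.2.2.le.trans hL.le) fun b hb => by
          have : Nat.card (L.map (MulAut.conj b).toMonoidHom) = Nat.card L :=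
            Subgroup.card_map_of_injective (MulAut.conj b).injective
          rw [hb, show Nat.card (r q) = n from q.out.2.2] at this
          omega
      rw [hz K hn', hz K' (hcK ▸ hn')]

/-- A saturated system has a biset of size prime to `p` over `S` that is stable under its maps. -/
theorem exists_biset (hS : IsPGroup p S) (hF : F.IsSaturated p) :
    ∃ (X : Type u) (_ : MulAction (S × S) X) (_ : Finite X) (m : ℕ), ¬ p ∣ m ∧
      Nat.card X = Nat.card S * m ∧ (∀ x : X, Tw F (MulAction.stabilizer (S × S) x)) ∧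
      ∀ (P : Subgroup Ω) (f : Ω → Ω) (hf : Fn F P f), ∃ g : X → X, Function.Bijective g ∧
        ∀ (s : S) (hs : (s : Ω) ∈ P) (t : S) (x : X),
          g ((s, t) • x) = ((⟨f s, hf.mem hs⟩ : S), t) • g x := by
  classical
  obtain ⟨X, act, hfin, htw, ⟨m, hm, hcard⟩, hconst⟩ :=
    (Nat.decreasingInduction (motive := fun n _ => Nonempty (BisetN F p n))
      (fun n hn h => h.elim (exists_step hS hF hn)) (exists_top hS hF) (Nat.zero_le _)).some
  let _ := act
  refine ⟨X, act, hfin, m, hm, hcard, htw, fun P f hf => ?_⟩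
  obtain ⟨f', hf', hf'f, -⟩ := hf.exists_inv
  let φ' : P.subgroupOf S →* S := MonoidHom.mk' (fun x => ⟨f (x : S), hf.mem x.2⟩)
    fun x y => Subtype.ext (hf.map_mul x.2 y.2)
  let i₁ : (P.subgroupOf S) × S →* S × S := (P.subgroupOf S).subtype.prodMap (MonoidHom.id S)
  let i₂ : (P.subgroupOf S) × S →* S × S := φ'.prodMap (MonoidHom.id S)
  have hsid : Fn F S id := fn_id le_rfl
  have hmarks : ∀ K : Subgroup ((P.subgroupOf S) × S), marks (H := S × S) X (K.map i₁) = marks (H := S × S) X (K.map i₂) := by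
    intro K
    have hzero : ∀ L : Subgroup (S × S), ¬ Tw F L → marks (H := S × S) X L = 0 := fun L hL =>
      Nat.card_eq_zero.2 (Or.inl ⟨fun x => hL ((htw x.1).mono fun k hk => x.2 k hk)⟩)
    by_cases h1 : Tw F (K.map i₁)
    · have hA : ∀ a ∈ K.map i₁, (a.1 : Ω) ∈ P ∧ (a.2 : Ω) ∈ S := by
        rintro _ ⟨k, -, rfl⟩
        exact ⟨k.1.2, k.2.2⟩
      have hfw : ∀ a ∈ K.map i₁, ∃ b ∈ K.map i₂, (b.1 : Ω) = f a.1 ∧ (b.2 : Ω) = id (a.2 : Ω) := by
        rintro _ ⟨k, hk, rfl⟩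
        exact ⟨i₂ k, ⟨k, hk, rfl⟩, rfl, rfl⟩
      have hbw : ∀ b ∈ K.map i₂, ∃ a ∈ K.map i₁, (b.1 : Ω) = f a.1 ∧ (b.2 : Ω) = id (a.2 : Ω) := by
        rintro _ ⟨k, hk, rfl⟩
        exact ⟨i₁ k, ⟨k, hk, rfl⟩, rfl, rfl⟩
      obtain ⟨h2, hc⟩ := tw_map hf hsid hA hfw hbw h1
      exact hconst _ _ h1 h2 hc (Nat.zero_le _)
    · rw [hzero _ h1, hzero _ fun h2 => h1 ?_]
      refine (tw_map (A := img f P) hf' hsid (fun a ha => ?_) (fun a ha => ?_) (fun b hb => ?_) h2).1
      · obtain ⟨k, -, rfl⟩ := ha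
        exact ⟨mem_img_of_mem k.1.2, k.2.2⟩
      · obtain ⟨k, hk, rfl⟩ := ha
        exact ⟨i₁ k, ⟨k, hk, rfl⟩, (hf'f _ k.1.2).symm, rfl⟩
      · obtain ⟨k, hk, rfl⟩ := hb
        exact ⟨i₂ k, ⟨k, hk, rfl⟩, (hf'f _ k.1.2).symm, rfl⟩
  let ρ : (S × S) →* Equiv.Perm X := MulAction.toPermHom (S × S) X
  have hfx : ∀ (i : (P.subgroupOf S) × S →* S × S) K,
      Nat.card (fixOn (ρ.comp i) Set.univ K) = marks (H := S × S) X (K.map i) := fun i K => by
    refine Nat.card_congr (Equiv.subtypeEquivRight fun x => ?_)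
    constructor
    · rintro ⟨-, h⟩ _ ⟨k, hk, rfl⟩
      exact h k hk
    · exact fun h => ⟨trivial, fun k hk => h _ ⟨k, hk, rfl⟩⟩
  obtain ⟨g, hg, hge⟩ := exists_equivariant (ρ.comp i₁) (ρ.comp i₂) _ Set.univ Set.univ rfl
    (fun _ _ _ => trivial) (fun _ _ _ => trivial) fun K => by rw [hfx, hfx, hmarks]
  exact ⟨g, ⟨fun a b h => hg.2.1 trivial trivial h, fun b => (hg.2.2 trivial).imp fun a ha => ha.2⟩,
    fun s hs t x => hge (⟨s, hs⟩, t) x trivial⟩

end CfsgLib.Fsys.CharBiset
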