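import Cfsg.Agent.Lib.FusionSystem.ThompsonCriterion
import Cfsg.Agent.Lib.LocalEvenB.CentrallyLarge
/-
A strengthened Frobenius criterion: characteristic subgroups of `S` suffice (`p` odd or `S₄`-free).
-/
set_option autoImplicit false

namespace CfsgLib.Fsys

open Cfsg
open Cfsg.FusionSystem (centralizerIn normalizerIn imageAlong preimageAlong)

universe u

variable {Ω : Type u} [Group Ω] {S : Subgroup Ω} {F : FusionSystem S} {P : Subgroup Ω} {p : ℕ}

/-- The automizers of the nontrivial characteristic subgroups of `S` are `p`-groups. -/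
def CharPAut (p : ℕ) (F : FusionSystem S) : Prop :=
  ∀ Q : Subgroup Ω, Q ≤ S → Q ≠ ⊥ → (Q.subgroupOf S).Characteristic → IsPGroup p (F.autGroup Q)

variable [Finite S]

theorem exists_pow_fix {U : Subgroup Ω} (hU : IsPGroup p (F.autGroup U)) (hUP : U ≤ P) (hP : P ≤ S)
    {α : MulAut P} (hα : α ∈ F.autGroup P) (hi : img (autFn α) U = U) :
    ∃ k, ∀ x ∈ U, autFn (α ^ p ^ k) x = x := by
  obtain ⟨γ, hγ, hγe⟩ := exists_aut_of_fn (((mem_autGroup_iff_fn hP).1 hα).mono hUP) hi
  obtain ⟨k, hk⟩ := hU ⟨γ, hγ⟩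
  refine ⟨k, fun x hx => ?_⟩
  have h := autFn_pow_semiconj (α := γ) (β := α) (c := id) (fun x hx => hUP hx)
    (fun x hx => ((autFn_coe γ ⟨x, hx⟩).trans (hγe ⟨x, hx⟩)).symm) (p ^ k) x hx
  have hk' : γ ^ p ^ k = 1 := congrArg Subtype.val hk
  rwa [hk', autFn_id hx] at h

/-- Self-centralizing normal subgroups with a `p`-group automizer give the local hypothesis. -/
theorem locPAut_of_selfCentralizing [Fact p.Prime] (hS : IsPGroup p S) {U : Subgroup Ω}
    (hU : IsPGroup p (F.autGroup U)) (hn : S ≤ Subgroup.normalizer (U : Set Ω))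
    (hc : centralizerIn S U ≤ U) : LocPAut p F U := by
  intro P hP hUP α hα hi
  obtain ⟨k, hk⟩ := exists_pow_fix hU hUP hP hα hi
  set β := α ^ p ^ k with hβ
  have hmap : ∀ x ∈ P, ∀ y ∈ P, autFn β (x * y) = autFn β x * autFn β y := fun x hx y hy =>
    (autFn_coe β (⟨x, hx⟩ * ⟨y, hy⟩)).trans (by rw [map_mul, Subgroup.coe_mul, ← autFn_coe β, ← autFn_coe β])
  have hmem : ∀ x ∈ P, x⁻¹ * autFn β x ∈ U := by
    intro x hx
    have hy := autFn_mem β hx
    refine hc (mem_centralizerIn.2 ⟨S.mul_mem (S.inv_mem (hP hx)) (hP hy), fun j hj => ?_⟩)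
    have hxj : x * j * x⁻¹ ∈ U := (Subgroup.mem_normalizer_iff.1 (hn (hP hx)) j).1 hj
    have h1 := hmap (x * j * x⁻¹) (hUP hxj) x hx
    rw [inv_mul_cancel_right, hmap x hx j (hUP hj), hk j hj, hk _ hxj] at h1
    calc j * (x⁻¹ * autFn β x) = x⁻¹ * (x * j * x⁻¹ * autFn β x) := by group
      _ = x⁻¹ * (autFn β x * j) := by rw [← h1]
      _ = _ := (mul_assoc _ _ _).symm
  obtain ⟨l, hl⟩ := hS.exists_card_eq
  refine ⟨k + l, mulAut_ext fun x hx => ?_⟩
  rw [pow_add, pow_mul, ← hβ, ← hl, autFn_id hx]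
  have hpow : ∀ i : ℕ, autFn (β ^ i) x = x * (x⁻¹ * autFn β x) ^ i := by
    intro i
    induction i with
    | zero => rw [pow_zero, autFn_id hx, pow_zero, mul_one]
    | succ i ih =>
      have hq : (x⁻¹ * autFn β x) ^ i ∈ U := pow_mem (hmem x hx) i
      rw [pow_succ', autFn_mul _ _ hx, ih, hmap x hx _ (hUP hq), hk _ hq, pow_succ' (x⁻¹ * autFn β x),
        ← mul_assoc x, mul_inv_cancel_left]
  rw [hpow, show (x⁻¹ * autFn β x) ^ Nat.card S = 1 from
    congrArg Subtype.val (pow_card_eq_one' (x := (⟨_, S.mul_mem (S.inv_mem (hP hx)) (hP (autFn_mem β hx))⟩ : S))),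
    mul_one]

theorem wOf_char {W : ∀ (Q : Type u) [Group Q], Subgroup Q}
    (hW2 : ∀ (Q R : Type u) [Group Q] [Group R] [Finite Q], IsPGroup p Q → ∀ φ : Q ≃* R, (W Q).map φ.toMonoidHom = W R)
    (hS : IsPGroup p S) : ((wOf W S).subgroupOf S).Characteristic := by
  rw [show (wOf W S).subgroupOf S = W S from Subgroup.comap_map_eq_self_of_injective S.subtype_injective _]
  exact Subgroup.characteristic_iff_map_le.2 fun φ => (hW2 S S hS φ).le

/-- A system with `p`-group automizers of characteristic subgroups is inner. -/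
theorem pAut_of_charPAut [Fact p.Prime] (hS : IsPGroup p S) (hF : F.IsSaturated p) (hfree : SFour p F)
    (h : CharPAut p F) : PAut p F := by
  suffices key : ∀ n : ℕ, ∀ {Ω : Type u} [Group Ω] (S : Subgroup Ω) [Finite S], Nat.card S = n → IsPGroup p S →
      ∀ F : FusionSystem S, F.IsSaturated p → SFour p F → CharPAut p F → PAut p F from
    key _ S rfl hS F hF hfree h
  clear h hfree hF hS
  intro n
  induction n using Nat.strong_induction_on with
  | _ n ih =>
  intro Ω _ S _ hn hS F hF hfree h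
  by_cases hS1 : S = ⊥
  · intro P hP α hα
    refine ⟨0, mulAut_ext fun x hx => ?_⟩
    have hb : ∀ y ∈ P, y = 1 := fun y hy => Subgroup.mem_bot.1 (hS1 ▸ hP hy)
    rw [autFn_id hx, hb x hx, hb _ (autFn_mem _ P.one_mem)]
  refine pAut_of_thompson' hS hF hfree ?_ ?_
  · set Z := wOf (fun Q _ => zC Q) S with hZdef
    have hZe : Z = S ⊓ Subgroup.centralizer (S : Set Ω) := wOf_zC S
    have hZ1 : Z ≠ ⊥ := wOf_ne_bot zC_ne_bot hS hS1
    have hZS : Z ≤ S := wOf_le S
    have hCS : centralizerIn S Z = S := by rw [hZe]; exact centralizerIn_center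
    have hZn : F.IsFullyNormalized Z := hZe ▸ center_fullyNormalized
    obtain ⟨hauto, hfc⟩ := fullyNormalized_good hS hF hZn
    obtain ⟨C, hC⟩ := exists_centralizerSystem F hZS
    obtain ⟨E, hE⟩ := exists_cast hCS C
    have hEs : E.IsSaturated p :=
      system_cast (C := fun _ E => E.IsSaturated p) hCS hE (centralizerSystem_saturated hS hF hfc hC)
    have hEF : E.IsSubsystemOf F := fun P φ hφ => by rw [hE, hC] at hφ; exact hφ.1
    have hfn : ∀ {P : Subgroup Ω} {f : Ω → Ω}, Fn E P f ↔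
        P ≤ S ∧ ∃ g, Fn F (P ⊔ Z) g ∧ (∀ x ∈ P, g x = f x) ∧ ∀ z ∈ Z, g z = z := by
      intro P f
      constructor
      · rintro ⟨φ, hφ, hφf⟩
        rw [hE, hC] at hφ
        obtain ⟨hφF, hPC, -, ψ, hψ, hψe, hψi⟩ := hφ
        refine ⟨hPC.trans hCS.le, ofHom ψ, fn_ofHom hψ, fun x hx => ?_, fun z hz => ?_⟩
        · rw [ofHom_apply ψ (Subgroup.mem_sup_left hx)]
          exact (hψe ⟨x, hx⟩).trans (hφf ⟨x, hx⟩)
        · rw [ofHom_apply ψ (Subgroup.mem_sup_right hz)]
          exact hψi ⟨z, hz⟩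
      · rintro ⟨hP, g, hg, hge, hgz⟩
        obtain ⟨ψ, hψ, hψg⟩ := id hg
        obtain ⟨φ, hφ, hφg⟩ := hg.mono le_sup_left
        refine ⟨φ, ?_, fun x => (hφg x).trans (hge x x.2)⟩
        rw [hE, hC]
        exact ⟨hφ, hP.trans hCS.ge, fun x => hCS.ge ((F.le_of_mem hφ).2 x), ψ, hψ,
          fun x => (hψg _).trans (hφg x).symm, fun x => (hψg _).trans (hgz x x.2)⟩
    have hZc : E.IsCentral Z := central_iff_fn.2 ⟨hZS, fun P f hf => by
      obtain ⟨hP, g, hg, hge, hgz⟩ := hfn.1 hf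
      exact ⟨g, hfn.2 ⟨sup_le hP hZS, g, by rwa [sup_assoc, sup_idem], fun x _ => rfl, hgz⟩, hge, hgz⟩⟩
    have hZnE := central_normal hZc
    have hsc := normal_stronglyClosed hZnE
    have hZsub : Z.subgroupOf S = Subgroup.center S :=
      Subgroup.comap_map_eq_self_of_injective S.subtype_injective _
    let θ : S →* S ⧸ Subgroup.center S := QuotientGroup.mk' _
    obtain ⟨E', hE'⟩ := exists_factorSystem (F := E) hsc θ
      (fun s => (QuotientGroup.eq_one_iff s).trans (by rw [← hZsub]; rfl)) rfl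
    have hE's := surjectiveMorphism_saturated hS hEs (factor_surjectiveMorphism hS hEs hsc hE')
    have hr : θ.range = ⊤ := MonoidHom.range_eq_top.2 (QuotientGroup.mk'_surjective _)
    have hcard : Nat.card θ.range < Nat.card S := by
      rw [hr, Subgroup.card_top, (Subgroup.center S).card_eq_card_quotient_mul_card_subgroup]
      refine lt_mul_of_one_lt_right Nat.card_pos (Subgroup.one_lt_card_iff_ne_bot _ |>.2 ?_)
      exact zC_ne_bot S hS ((Subgroup.nontrivial_iff_ne_bot S).2 hS1)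
    have : Finite θ.range := Finite.of_surjective θ.rangeRestrict θ.rangeRestrict_surjective
    have hchar : CharPAut p E' := by
      intro Q' hQ' _ hQc
      set X := preimageAlong θ Q' with hX
      have hXS : X ≤ S := preimageAlong_le
      have hZX : Z ≤ X := fun z hz => mem_preimageAlong.2 ⟨hZS hz, by
        rw [(factor_ker hE' (hZS hz)).2 hz]; exact Q'.one_mem⟩
      have hXc : (X.subgroupOf S).Characteristic := by
        refine Subgroup.characteristic_iff_map_le.2 fun φ => ?_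
        rintro _ ⟨x, hx, rfl⟩
        obtain ⟨hxS, hxQ⟩ := mem_preimageAlong.1 (Subgroup.mem_subgroupOf.1 hx)
        refine Subgroup.mem_subgroupOf.2 (mem_preimageAlong.2 ⟨(φ x).2, ?_⟩)
        let φ' : S ⧸ Subgroup.center S ≃* S ⧸ Subgroup.center S :=
          QuotientGroup.congr _ _ φ (zC_map S S hS φ)
        let ρ : θ.range ≃* θ.range :=
          ((MulEquiv.subgroupCongr hr).trans Subgroup.topEquiv).trans
            (φ'.trans ((MulEquiv.subgroupCongr hr).trans Subgroup.topEquiv).symm)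
        have hρ := Subgroup.characteristic_iff_map_le.1 hQc ρ
          (Subgroup.mem_map_of_mem ρ.toMonoidHom (show (⟨θ x, ⟨x, rfl⟩⟩ : θ.range) ∈ Q'.subgroupOf θ.range by
            refine Subgroup.mem_subgroupOf.2 ?_
            show θ x ∈ Q'
            rwa [th_apply x.2] at hxQ))
        show th θ ((φ x : S) : Ω) ∈ Q'
        rw [th_apply (φ x).2]
        exact hρ
      intro β
      obtain ⟨-, g, hg, hge⟩ := (factor_fn hsc hE').1 ((mem_autGroup_iff_fn hQ').1 β.2)
      have hm : ∀ x ∈ X, g x ∈ X := fun x hx => mem_preimageAlong.2 ⟨hg.mem hx, by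
        rw [← hge x hx]; exact autFn_mem _ (mem_preimageAlong.1 hx).2⟩
      obtain ⟨γ, hγ, hγe⟩ := exists_aut_of_fn hg (hg.img_eq_self hm)
      obtain ⟨k, hk⟩ := h X hXS (fun e => hZ1 (le_bot_iff.1 (e ▸ hZX))) hXc
        ⟨γ, (mem_autGroup_iff_fn hXS).2 (((mem_autGroup_iff_fn hXS).1 hγ).of_subsystem hEF)⟩
      refine ⟨k, Subtype.ext (mulAut_ext fun y hy => ?_)⟩
      have hk' : γ ^ p ^ k = 1 := congrArg Subtype.val hk
      rw [← imageAlong_preimageAlong (α := θ) (P' := Q') hQ'] at hy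
      obtain ⟨x, hx, hxS, rfl⟩ := mem_imageAlong.1 hy
      have h1 := autFn_pow_semiconj (α := γ) (β := (β : MulAut Q')) (c := th θ)
        (fun x hx => (mem_preimageAlong.1 hx).2) (fun x hx => by
          rw [hge x hx, show autFn γ x = g x from (autFn_coe γ ⟨x, hx⟩).trans (hγe ⟨x, hx⟩)]) (p ^ k) x hx
      rw [hk', autFn_id hx] at h1
      rw [OneMemClass.coe_one, autFn_id (mem_preimageAlong.1 hx).2]
      exact h1
    have hE'P := ih _ (hn ▸ hcard) θ.range rfl (hS.of_surjective θ.rangeRestrict θ.rangeRestrict_surjective) E' hE's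
      ((hfree.of_subsystem le_rfl hEF).factor hS hEs hZnE hE' hE's) hchar
    have hEP : PAut p E := pAut_of_factor hS hsc (fun {P f} hf => by
      obtain ⟨g, hg, hge, hgz⟩ := (central_iff_fn.1 hZc).2 P f hf
      exact ⟨g, hg, hge, 1, S.one_mem, fun x hx => by rw [hgz x hx]; simp⟩) hE' hE'P
    intro P hP hZP α hα hi
    obtain ⟨k, hk⟩ := exists_pow_fix (h Z hZS hZ1 (wOf_char zC_map hS)) hZP hP hα hi
    have hβ : α ^ p ^ k ∈ E.autGroup P := (mem_autGroup_iff_fn hP).2 (hfn.2 ⟨hP, autFn (α ^ p ^ k),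
      by rw [sup_eq_left.2 hZP]; exact (mem_autGroup_iff_fn hP).1 (pow_mem hα _), fun x _ => rfl, hk⟩)
    obtain ⟨l, hl⟩ := hEP P hP _ hβ
    exact ⟨k + l, by rw [pow_add, pow_mul, hl]⟩
  · refine locPAut_of_selfCentralizing hS (h _ (wOf_le S) (wOf_ne_bot (W := fun Q _ => jA Q) jA_ne_bot hS hS1)
      (wOf_char (W := fun Q _ => jA Q) jA_map hS)) ?_ ?_
    · have := normalizerIn_wOf (W := fun Q _ => jA Q) jA_map hS
      exact fun s hs => (this.ge hs).2
    · intro c hc
      obtain ⟨hcS, hcj⟩ := mem_centralizerIn.1 hc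
      refine ⟨⟨c, hcS⟩, LocalEvenB.CentrallyLarge.centralizer_join_le
        (Subgroup.mem_centralizer_iff.2 fun x hx => Subtype.ext (hcj _ ⟨x, hx, rfl⟩)), rfl⟩

end CfsgLib.Fsys

namespace CfsgLib.Fsys

open Cfsg
open Cfsg.FusionSystem (centralizerIn normalizerIn)

universe u

variable {Ω : Type u} [Group Ω] {S : Subgroup Ω} {F : FusionSystem S} [Finite S] {p : ℕ} [Fact p.Prime]

/-- A minimal non-inner system is constrained (`p` odd or `S₄`-free). -/
theorem constrained_of_minimal' (hS : IsPGroup p S) (hF : F.IsSaturated p) (hfree : SFour p F)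
    (hprop : ∀ E : FusionSystem S, E ≤ F → ¬ F ≤ E → E.IsSaturated p → PAut p E) (hne : ¬ PAut p F) :
    F.IsConstrained p := by
  by_contra hcon
  have hcent : ¬ centralizerIn S F.core ≤ F.core := fun h =>
    hcon ⟨hF, F.core, core_normal, normal_centric core_normal h⟩
  refine hne ?_
  have hSc : ¬ S ≤ F.core := fun hle => hcent (centralizerIn_le.trans hle)
  by_cases hc1 : F.core = ⊥
  · have hS1 : S ≠ ⊥ := fun h => hSc (h.le.trans bot_le)
    have hloc : ∀ {W : ∀ (Q : Type u) [Group Q], Subgroup Q},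
        (∀ (Q : Type u) [Group Q] [Finite Q], IsPGroup p Q → Nontrivial Q → W Q ≠ ⊥) →
        (∀ (Q R : Type u) [Group Q] [Group R] [Finite Q], IsPGroup p Q → ∀ φ : Q ≃* R,
          (W Q).map φ.toMonoidHom = W R) → LocPAut p F (wOf W S) := by
      intro W hW1 hW2
      set U := wOf W S with hU
      have he : normalizerIn S U = S := normalizerIn_wOf hW2 hS
      have hUn : F.IsFullyNormalized U := ⟨wOf_le _, fun R _ => he.symm ▸ Subgroup.card_le_of_le normalizerIn_le⟩
      have hU1 : U ≠ ⊥ := wOf_ne_bot hW1 hS hS1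
      intro P hP hUP α hα hi
      obtain ⟨s, hs, hse⟩ := conj_of_proper_normalizer hS hF hprop hUn he
        (fun hle => hU1 (le_bot_iff.1 (hc1 ▸ hle))) ((mem_autGroup_iff_fn hP).1 hα) hUP hi
      exact pPow_of_conj hS hs hse
    exact pAut_of_thompson' hS hF hfree (hloc zC_ne_bot zC_map) (hloc (W := fun Q _ => jA Q) jA_ne_bot jA_map)
  · refine pAut_of_core' hS hF hprop (fun θ E hE _ hEs => ?_) hc1 hcent
    have : Finite θ.range := Finite.of_surjective θ.rangeRestrict θ.rangeRestrict_surjective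
    exact pAut_of_thompson' (hS.of_surjective θ.rangeRestrict θ.rangeRestrict_surjective) hEs
      (hfree.factor hS hF core_normal hE hEs) (factor_locPAut zC_ne_bot zC_map hS hF hprop hE hSc)
      (factor_locPAut (W := fun Q _ => jA Q) jA_ne_bot jA_map hS hF hprop hE hSc)

end CfsgLib.Fsys
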