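import Cfsg.Agent.Lib.FusionSystem.WeakNormalCore
import Cfsg.Agent.Lib.FusionSystem.NormalMisc

/-! Decompositions through the automizer of the base of a weakly normal subsystem. -/

set_option autoImplicit false

namespace CfsgLib.Fsys.WNR

open Cfsg Cfsg.FusionSystem
open Cfsg.FusionSystem (centralizerIn normalizerIn)

variable {Ω : Type*} [Group Ω] {S T : Subgroup Ω} {F : FusionSystem S} {E : FusionSystem T}

/-- The image of an intersection with a strongly closed subgroup. -/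
theorem img_inf_sc (hT : F.StronglyClosed T) {P : Subgroup Ω} {f : Ω → Ω} (hf : Fn F P f) :
    img f P ⊓ T = img f (P ⊓ T) := by
  refine le_antisymm (fun y hy => ?_) (img_le fun x hx => ⟨mem_img_of_mem hx.1, sc_apply hT hf hx.1 hx.2⟩)
  obtain ⟨g, hg, hgf, -⟩ := hf.exists_inv
  obtain ⟨x, hx, rfl⟩ := hf.mem_img.1 hy.1
  have h := sc_apply hT hg hy.1 hy.2
  rw [hgf x hx] at h
  exact mem_img_of_mem ⟨hx, h⟩

/-- An automorphism of `S` restricts to one of a strongly closed subgroup. -/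
theorem exists_restr [Finite S] (hT : F.StronglyClosed T) {α : MulAut S} (hα : α ∈ F.autGroup S) :
    ∃ β ∈ F.autGroup T, ∀ t ∈ T, autFn β t = autFn α t := by
  have hf := (fn_autS hα).mono hT.1
  obtain ⟨β, hβ, hβe⟩ := exists_aut_of_fn hf (hf.img_eq_self fun x hx => sc_apply hT (fn_autS hα) (hT.1 hx) hx)
  exact ⟨β, hβ, fun t ht => by rw [autFn_coe β ⟨t, ht⟩, hβe]⟩

/-- Decompositions compose. -/
theorem decomp_comp (hE : E.IsInvariantIn F) {X : Subgroup Ω} {f g e e' : Ω → Ω} {α β : MulAut T}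
    (hα : α ∈ F.autGroup T) (hf : Fn F X f) (he : Fn E X e) (hfe : ∀ x ∈ X, f x = autFn α (e x))
    (he' : Fn E (img f X) e') (hge : ∀ x ∈ img f X, g x = autFn β (e' x)) :
    ∃ u : Ω → Ω, Fn E X u ∧ ∀ x ∈ X, g (f x) = autFn (β * α) (u x) := by
  obtain ⟨χ, hχ, hχe⟩ := Invariant.aut hE he'.le he' (inv_mem hα)
  have hi : img (autFn α⁻¹) (img f X) = img e X := by
    rw [← hf.img_comp]
    exact img_congr fun x hx => by
      show autFn α⁻¹ (f x) = e x
      rw [hfe x hx, autFn_inv_apply α (he.mem hx)]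
  rw [hi] at hχ
  refine ⟨χ ∘ e, he.comp hχ fun x hx => mem_img_of_mem hx, fun x hx => ?_⟩
  have hm : f x ∈ img f X := mem_img_of_mem hx
  have h := hχe _ hm
  rw [hfe x hx, autFn_inv_apply α (he.mem hx), ← hfe x hx] at h
  show g (f x) = autFn (β * α) (χ (e x))
  rw [h, autFn_mul _ _ (autFn_mem _ (he'.mem hm)), autFn_apply_inv α (he'.mem hm), hge _ hm]

variable [Finite S] {p : ℕ} [Fact p.Prime]

set_option maxHeartbeats 400000 in
/-- An automorphism of `T` in `E` on a centric subgroup has a `p`-power in `E` on `T`. -/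
theorem exists_pow_mem_of_restrict (hS : IsPGroup p S) (hE : E.IsWeaklyNormalIn F p) {γ : MulAut T}
    (hγ : γ ∈ F.autGroup T) {Y : Subgroup Ω} (hY : E.IsCentric Y) (h : Fn E Y (autFn γ)) :
    ∃ K : ℕ, γ ^ p ^ K ∈ E.autGroup T := by
  classical
  have hEi := hE.2.2
  have hT := hEi.2.1
  haveI := finite_of_le_base hT.1
  have hTp := hS.to_le hT.1
  refine induction_down (S := T) (C := fun Y => E.IsCentric Y → ∀ γ ∈ F.autGroup T, Fn E Y (autFn γ) →
    ∃ K : ℕ, γ ^ p ^ K ∈ E.autGroup T) Y hY.1 ?_ hY γ hγ h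
  intro Y hYT ih hY γ hγ h
  rcases eq_or_lt_of_le hYT with rfl | hlt
  · exact ⟨0, by simpa using (mem_autGroup_iff_fn le_rfl).2 h⟩
  have hγf := (mem_autGroup_iff_fn hT.1).1 hγ
  set N := normalizerIn T Y with hNdef
  have hYN : Y < N := lt_normalizerIn hTp hlt
  have hNT : N ≤ T := inf_le_left
  haveI := finite_of_le_base (hNT.trans hT.1)
  have hYc := centric_img hEi hY (hγf.mono hYT)
  obtain ⟨M, k₀, hk₀, -, hM, hk₀γ⟩ := receptive_extend (fullyCentralized_receptive hTp hE.1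
    (isCentric_of_le (F := E) (E := E) (fun _ _ h => h) hYc).2) h rfl
  have hk : Fn E N k₀ := hk₀.mono fun n hn => (hM n).2
    (⟨hn.1, hn.2, autFn γ n, autFn_mem γ hn.1, fun x hx => hγf.map_conj hn.1 (hYT hx)⟩ : InExt T Y (autFn γ) n)
  have hkF := Fn.of_subsystem hEi.1 hk
  have hkn : ∀ n ∈ N, ∃ y ∈ Y, autFn γ n = k₀ (n * y) := fun n hn => by
    have hmem : (k₀ n)⁻¹ * autFn γ n ∈ img (autFn γ) Y := by
      refine mem_of_commute hYc (T.mul_mem (T.inv_mem (hk.mem hn)) (autFn_mem γ hn.1)) fun z hz => ?_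
      obtain ⟨y, hy, rfl⟩ := (hγf.mono hYT).mem_img.1 hz
      have hny : n * y * n⁻¹ ∈ Y := (mem_normalizer_iff'.1 hn.2).1 y hy
      have heq : k₀ n * autFn γ y * (k₀ n)⁻¹ = autFn γ n * autFn γ y * (autFn γ n)⁻¹ := by
        rw [← hγf.map_conj hn.1 (hYT hy), ← hk₀γ y hy, ← hkF.map_conj hn (hYN.le hy), hk₀γ _ hny]
      calc autFn γ y * ((k₀ n)⁻¹ * autFn γ n) = (k₀ n)⁻¹ * (k₀ n * autFn γ y * (k₀ n)⁻¹) * autFn γ n := by group
        _ = (k₀ n)⁻¹ * (autFn γ n * autFn γ y * (autFn γ n)⁻¹) * autFn γ n := by rw [heq]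
        _ = (k₀ n)⁻¹ * autFn γ n * autFn γ y := by group
    obtain ⟨y, hy, hye⟩ := (hγf.mono hYT).mem_img.1 hmem
    exact ⟨y, hy, by rw [hk.map_mul hn (hYN.le hy), hk₀γ y hy, hye, mul_inv_cancel_left]⟩
  have hγm : ∀ n ∈ N, autFn γ n ∈ img k₀ N := fun n hn => by
    obtain ⟨y, hy, hye⟩ := hkn n hn
    exact hye ▸ mem_img_of_mem (N.mul_mem hn (hYN.le hy))
  obtain ⟨k', hk', hk'k, hk'i⟩ := hk.exists_inv
  have hd₀ := (hγf.mono hNT).comp (Fn.of_subsystem hEi.1 hk') hγm
  obtain ⟨d, -, hde⟩ := exists_aut_of_fn hd₀ (hd₀.img_eq_self fun x hx => hk'i.le (mem_img_of_mem (hγm x hx)))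
  have hdf : ∀ n ∈ N, autFn d n = k' (autFn γ n) := fun n hn => by
    rw [autFn_coe d ⟨n, hn⟩, hde]
    rfl
  have hdY : ∀ y ∈ Y, autFn d y = y := fun y hy => by
    rw [hdf y (hYN.le hy), ← hk₀γ y hy, hk'k y (hYN.le hy)]
  have hdN : ∀ n ∈ N, n⁻¹ * autFn d n ∈ Y := fun n hn => by
    obtain ⟨y, hy, hye⟩ := hkn n hn
    rwa [hdf n hn, hye, hk'k _ (N.mul_mem hn (hYN.le hy)), inv_mul_cancel_left]
  haveI := finite_of_le_base (hYT.trans hT.1)
  obtain ⟨K, hK⟩ := IsPGroup.iff_card.1 (hS.to_le (hYT.trans hT.1))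
  have hdp : d ^ p ^ K = 1 := by rw [← hK]; exact pow_card_eq_one_of_fix hYN.le hdY hdN
  have hpow : ∀ j : ℕ, ∃ u : Ω → Ω, Fn E (img (autFn (γ ^ j)) N) u ∧
      ∀ n ∈ N, autFn (d ^ j) n = u (autFn (γ ^ j) n) := fun j => by
    induction j with
    | zero =>
      refine ⟨id, fn_id (img_le fun n hn => autFn_mem _ (hNT hn)), fun n hn => ?_⟩
      rw [pow_zero, pow_zero, autFn_id hn, autFn_id (hNT hn)]
      rfl
    | succ j ihj =>
      obtain ⟨u, hu, hue⟩ := ihj
      obtain ⟨v, hv, hve⟩ := Invariant.aut hEi hu.le hu hγ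
      have hjf := ((mem_autGroup_iff_fn hT.1).1 (pow_mem hγ j)).mono hNT
      have hi : img (autFn γ) (img (autFn (γ ^ j)) N) = img (autFn (γ ^ (j + 1))) N := by
        rw [← hjf.img_comp]
        exact img_congr fun n hn => by
          show autFn γ (autFn (γ ^ j) n) = _
          rw [pow_succ', autFn_mul _ _ (hNT hn)]
      rw [hi] at hv
      have hve' : ∀ n ∈ N, v (autFn (γ ^ (j + 1)) n) = autFn γ (autFn (d ^ j) n) := fun n hn => by
        rw [pow_succ', autFn_mul _ _ (hNT hn), hve _ (mem_img_of_mem hn), hue n hn]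
      refine ⟨k' ∘ v, hv.comp hk' fun z hz => ?_, fun n hn => ?_⟩
      · obtain ⟨n, hn, rfl⟩ := (((mem_autGroup_iff_fn hT.1).1 (pow_mem hγ (j + 1))).mono hNT).mem_img.1 hz
        rw [hve' n hn]
        exact hγm _ (autFn_mem _ hn)
      · show autFn (d ^ (j + 1)) n = k' (v (autFn (γ ^ (j + 1)) n))
        rw [hve' n hn, ← hdf _ (autFn_mem _ hn), ← autFn_mul _ _ hn, ← pow_succ']
  obtain ⟨u, hu, hue⟩ := hpow (p ^ K)
  have hqf := ((mem_autGroup_iff_fn hT.1).1 (pow_mem hγ (p ^ K))).mono hNT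
  obtain ⟨u', hu', hu'u, -⟩ := hu.exists_inv
  have hi : img u (img (autFn (γ ^ p ^ K)) N) = N := by
    rw [← hqf.img_comp]
    refine (img_congr (g := id) fun n hn => ?_).trans (img_id N)
    show u _ = n
    rw [← hue n hn, hdp, autFn_id hn]
  rw [hi] at hu'
  obtain ⟨L, hL⟩ := ih N hNT (Set.Finite.card_lt_card (Set.toFinite (N : Set Ω)) hYN)
    (isCentric_mono hY hYN.le hNT) (γ ^ p ^ K) (pow_mem hγ _) (hu'.congr fun n hn => by
      have h := hu'u _ (mem_img_of_mem hn)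
      rwa [← hue n hn, hdp, autFn_id hn] at h)
  exact ⟨K + L, by rw [pow_add, pow_mul]; exact hL⟩

/-- `K` is the kernel of a character of order prime to `p` of `Aut_F(T)`, trivial on `Aut_E(T)`. -/
structure IsCharKernel (F : FusionSystem S) (E : FusionSystem T) (p : ℕ) (K : Subgroup (MulAut T)) : Prop where
  le : K ≤ F.autGroup T
  conj_mem : ∀ α ∈ F.autGroup T, ∀ k ∈ K, α * k * α⁻¹ ∈ K
  autGroup_le : E.autGroup T ≤ K
  mem_of_pow : ∀ α ∈ F.autGroup T, ∀ k : ℕ, α ^ p ^ k ∈ K → α ∈ K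

/-- The first components of two decompositions agree modulo the kernel. -/
theorem decomp_unique (hS : IsPGroup p S) (hE : E.IsWeaklyNormalIn F p) {K : Subgroup (MulAut T)}
    (hK : IsCharKernel F E p K) {X : Subgroup Ω} (hX : E.IsCentric X) {α β : MulAut T}
    (hα : α ∈ F.autGroup T) (hβ : β ∈ F.autGroup T) {e e' : Ω → Ω} (he : Fn E X e) (he' : Fn E X e')
    (heq : ∀ x ∈ X, autFn α (e x) = autFn β (e' x)) : β⁻¹ * α ∈ K := by
  have hc := centric_img hE.2.2 hX (Fn.of_subsystem hE.2.2.1 he)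
  obtain ⟨k, hk, hke, hki⟩ := he.exists_inv
  have hγ := mul_mem (inv_mem hβ) hα
  obtain ⟨j, hj⟩ := exists_pow_mem_of_restrict hS hE hγ hc
    ((hk.comp he' fun y hy => hki.le (mem_img_of_mem hy)).congr fun y hy => by
      obtain ⟨x, hx, rfl⟩ := he.mem_img.1 hy
      show e' (k (e x)) = _
      rw [hke x hx, autFn_mul _ _ (he.mem hx), heq x hx, autFn_inv_apply β (he'.mem hx)])
  exact hK.mem_of_pow _ hγ j (hK.autGroup_le hj)

/-- All decompositions on centric subgroups lie in the kernel. -/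
def KernelPred (F : FusionSystem S) (E : FusionSystem T) (K : Subgroup (MulAut T)) (P : Subgroup Ω)
    (f : Ω → Ω) : Prop :=
  ∀ X ≤ P, E.IsCentric X → ∀ α ∈ F.autGroup T, ∀ e : Ω → Ω, Fn E X e →
    (∀ x ∈ X, f x = autFn α (e x)) → α ∈ K

/-- It is enough to decompose on one larger centric subgroup. -/
theorem kernelPred_of_mem (hS : IsPGroup p S) (hE : E.IsWeaklyNormalIn F p) {K : Subgroup (MulAut T)}
    (hK : IsCharKernel F E p K) {P : Subgroup Ω} {f : Ω → Ω} {β : MulAut T} (hβ : β ∈ K) {e' : Ω → Ω}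
    (he' : Fn E (P ⊓ T) e') (heq : ∀ x ∈ P ⊓ T, f x = autFn β (e' x)) : KernelPred F E K P f := by
  intro X hX hXc α hα e he hfe
  have h := decomp_unique hS hE hK hXc hα (hK.le hβ) he (he'.mono (le_inf hX hXc.1))
    fun x hx => (hfe x hx).symm.trans (heq x ⟨hX hx, hXc.1 hx⟩)
  simpa using mul_mem hβ h

theorem mem_of_pElement (hS : IsPGroup p S) (hT : F.StronglyClosed T) {K : Subgroup (MulAut T)}
    (hK : IsCharKernel F E p K) {α : MulAut T} (hα : α ∈ autInducedBy S T) : α ∈ K := by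
  obtain ⟨k, hk⟩ := isPGroup_autInducedBy (P := T) hS ⟨α, hα⟩
  refine hK.mem_of_pow α (autInducedBy_le_autGroup hT.1 hα) k ?_
  rw [show α ^ p ^ k = 1 from congrArg Subtype.val hk]
  exact one_mem K

/-- The maps all of whose decompositions lie in the kernel. -/
noncomputable def kernelSystem (hS : IsPGroup p S) (hE : E.IsWeaklyNormalIn F p) {K : Subgroup (MulAut T)}
    (hK : IsCharKernel F E p K) : FusionSystem S :=
  predSystem F (KernelPred F E K)
    (fun P f g he _ h X hX hXc α hα u hu hgu => h X hX hXc α hα u hu fun x hx => (he x (hX hx)).trans (hgu x hx))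
    (fun P hP s hs => by
      have hT := hE.2.2.2.1
      haveI := finite_of_le_base hT.1
      have hn : s ∈ Subgroup.normalizer (T : Set Ω) := sc_le_normalizer hT hs
      exact kernelPred_of_mem hS hE hK (mem_of_pElement hS hT hK (conjAut_mem_autInducedBy hn hs)) (fn_id inf_le_right)
        fun x hx => by rw [show id x = x from rfl, autFn_coe _ ⟨x, hx.2⟩, conjAut_coe])
    (fun P R f g hf hg hm h h' X hX hXc α hα u hu hgu => by
      have hE' := hE.2.2
      have hfX := hf.mono hX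
      have hXc' := centric_img hE' hXc hfX
      have hle : img f X ≤ R := img_le fun x hx => hm x (hX hx)
      obtain ⟨a, ha, v, hv, hfv⟩ := Invariant.frattini hE' hXc.1 hfX
      obtain ⟨b, hb, w, hw, hgw⟩ := Invariant.frattini hE' hXc'.1 (hg.mono hle)
      obtain ⟨z, hz, hze⟩ := decomp_comp hE' ha hfX hv hfv hw hgw
      have h1 := decomp_unique hS hE hK hXc hα (mul_mem hb ha) hu hz fun x hx => (hgu x hx).symm.trans (hze x hx)
      have hba : b * a ∈ K := mul_mem (h' _ hle hXc' b hb w hw hgw) (h X hX hXc a ha v hv hfv)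
      simpa [mul_assoc] using mul_mem hba h1)
    (fun P f g hf hg hgf h X hX hXc α hα u hu hgu => by
      have hE' := hE.2.2
      have hgX := hg.mono hX
      have hXc' := centric_img hE' hXc hgX
      have hle : img g X ≤ P := img_le fun y hy => by
        obtain ⟨x, hx, rfl⟩ := hf.mem_img.1 (hX hy)
        rw [hgf x hx]
        exact hx
      obtain ⟨b, hb, w, hw, hfw⟩ := Invariant.frattini hE' hXc'.1 (hf.mono hle)
      obtain ⟨z, hz, hze⟩ := decomp_comp hE' hα hgX hu hgu hw hfw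
      have hfg : ∀ x ∈ X, f (g x) = x := fun x hx => by
        obtain ⟨y, hy, rfl⟩ := hf.mem_img.1 (hX hx)
        rw [hgf y hy]
      have h1 := decomp_unique hS hE hK hXc (mul_mem hb hα) (one_mem _) hz (fn_id hXc.1) fun x hx => by
        rw [← hze x hx, hfg x hx]
        exact (autFn_id (hXc.1 hx)).symm
      rw [inv_one, one_mul] at h1
      simpa using mul_mem (inv_mem (h _ hle hXc' b hb w hw hfw)) h1)

end CfsgLib.Fsys.WNR
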