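import Cfsg.Agent.Lib.FusionSystem.CharacterKernel
import Cfsg.Agent.Lib.FusionSystem.WeaklyNormalResidual

/-! The system over `S` cut out by a kernel in the automizer of the base of a normal subsystem. -/

set_option autoImplicit false

namespace CfsgLib.Fsys.WNR

open Cfsg Cfsg.FusionSystem
open Cfsg.FusionSystem (centralizerIn normalizerIn)

variable {Ω : Type*} [Group Ω] {S T : Subgroup Ω} {F : FusionSystem S} {E : FusionSystem T}

/-- The automorphisms of `S` restricting into `K` on `T`. -/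
def liftKernel (hTS : T ≤ S) (F : FusionSystem S) (K : Subgroup (MulAut T)) : Subgroup (MulAut S) where
  carrier := {α | α ∈ F.autGroup S ∧ ∃ β ∈ K, ∀ t ∈ T, autFn β t = autFn α t}
  one_mem' := ⟨one_mem _, 1, one_mem K, fun t ht =>
    (autFn_coe (1 : MulAut T) ⟨t, ht⟩).trans (autFn_coe (1 : MulAut S) ⟨t, hTS ht⟩).symm⟩
  mul_mem' := by
    rintro a b ⟨ha, α, hα, hαe⟩ ⟨hb, β, hβ, hβe⟩
    refine ⟨mul_mem ha hb, α * β, mul_mem hα hβ, fun t ht => ?_⟩
    rw [autFn_mul _ _ ht, autFn_mul _ _ (hTS ht), ← hβe t ht, hαe _ (autFn_mem β ht)]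
  inv_mem' := by
    rintro a ⟨ha, α, hα, hαe⟩
    refine ⟨inv_mem ha, α⁻¹, inv_mem hα, fun t ht => ?_⟩
    conv_rhs => rw [← autFn_apply_inv α ht, hαe _ (autFn_mem α⁻¹ ht), autFn_inv_apply a (hTS (autFn_mem α⁻¹ ht))]

theorem mem_liftKernel {hTS : T ≤ S} {K : Subgroup (MulAut T)} {α : MulAut S} :
    α ∈ liftKernel hTS F K ↔ α ∈ F.autGroup S ∧ ∃ β ∈ K, ∀ t ∈ T, autFn β t = autFn α t := Iff.rfl

/-- The centric subgroups meeting `T` in an `E`-centric subgroup. -/
def InClass (F : FusionSystem S) (E : FusionSystem T) (P : Subgroup Ω) : Prop :=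
  F.IsCentric P ∧ E.IsCentric (P ⊓ T)

theorem inClass_img (hE : E.IsInvariantIn F) {P : Subgroup Ω} (hP : InClass F E P) {f : Ω → Ω} (hf : Fn F P f) :
    InClass F E (img f P) := by
  refine ⟨⟨hf.img_le_base, fun R hR => hP.1.2 R (isConj_trans (isConj_of_fn hf) hR)⟩, ?_⟩
  rw [img_inf_sc hE.2.1 hf]
  exact centric_img hE hP.2 (hf.mono inf_le_left)

variable [Finite S] {p : ℕ} [Fact p.Prime]

theorem inClass_top (hT : F.StronglyClosed T) : InClass F E S := by
  haveI := finite_of_le_base hT.1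
  exact ⟨centric_top F, (inf_eq_right.2 hT.1).symm ▸ centric_top E⟩

/-- The generating data. -/
def KernelBase (p : ℕ) (F : FusionSystem S) (E : FusionSystem T) (hTS : T ≤ S) (K : Subgroup (MulAut T))
    (D : FusionSystem S) : Prop :=
  (∀ P : Subgroup Ω, InClass F E P → opAut p F P ≤ D.autGroup P) ∧ liftKernel hTS F K ≤ D.autGroup S

/-- The least subsystem of `F` with the generating data. -/
noncomputable def characterSystem (p : ℕ) (F : FusionSystem S) (E : FusionSystem T) (hTS : T ≤ S)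
    (K : Subgroup (MulAut T)) : FusionSystem S :=
  predSystem F (fun P f => ∀ D : FusionSystem S, KernelBase p F E hTS K D → Fn D P f)
    (fun P f g he _ h D hD => (h D hD).congr he) (fun P hP s hs D _ => fn_conj hP hs)
    (fun P R f g _ _ hm h h' D hD => (h D hD).comp (h' D hD) hm)
    (fun P f g hf hg hgf h D hD => by
      obtain ⟨k, hk, hkf, -⟩ := (h D hD).exists_inv
      refine hk.congr fun y hy => ?_
      obtain ⟨x, hx, rfl⟩ := hf.mem_img.1 hy
      rw [hkf x hx, hgf x hx])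

section

variable {hTS : T ≤ S} {K : Subgroup (MulAut T)}

local notation "F₀" => characterSystem p F E hTS K

omit [Fact p.Prime] [Finite S] in
theorem characterSystem_le {P : Subgroup Ω} {f : Ω → Ω} (h : Fn F₀ P f) : Fn F P f := (fn_predSystem.1 h).1

omit [Fact p.Prime] [Finite S] in
theorem characterSystem_min {D : FusionSystem S} (hD : KernelBase p F E hTS K D) {P : Subgroup Ω} {f : Ω → Ω}
    (h : Fn F₀ P f) : Fn D P f := (fn_predSystem.1 h).2 D hD

omit [Fact p.Prime] in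
theorem characterSystem_base : KernelBase p F E hTS K F₀ :=
  ⟨fun P hP τ hτ => (mem_autGroup_iff_fn hP.1.1).2 (fn_predSystem.2
      ⟨(mem_autGroup_iff_fn hP.1.1).1 (Subgroup.map_subtype_le _ hτ),
        fun D hD => (mem_autGroup_iff_fn hP.1.1).1 (hD.1 P hP hτ)⟩),
    fun α hα => (mem_autGroup_iff_fn le_rfl).2 (fn_predSystem.2
      ⟨fn_autS hα.1, fun D hD => (mem_autGroup_iff_fn le_rfl).1 (hD.2 hα)⟩)⟩

variable (hS : IsPGroup p S) (hE : E.IsWeaklyNormalIn F p) (hK : IsCharKernel F E p K)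
include hS hE hK

theorem kernelSystem_base : KernelBase p F E hTS K (kernelSystem hS hE hK) := by
  have hT := hE.2.2.2.1
  haveI := finite_of_le_base hT.1
  refine ⟨fun P hP => opAut_closure fun τ hτ ⟨k, hk⟩ => ?_, fun α hα => ?_⟩
  · have hτf := (mem_autGroup_iff_fn hP.1.1).1 hτ
    have hX : img (autFn τ) (P ⊓ T) = P ⊓ T := by rw [← img_inf_sc hT hτf, img_autFn]
    obtain ⟨α, hα, e, he, hfe⟩ := Invariant.frattini hE.2.2 inf_le_right (hτf.mono inf_le_left)
    have hpow : ∀ j : ℕ, ∃ u : Ω → Ω, Fn E (P ⊓ T) u ∧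
        ∀ x ∈ P ⊓ T, autFn (τ ^ j) x = autFn (α ^ j) (u x) := fun j => by
      induction j with
      | zero =>
        exact ⟨id, fn_id inf_le_right, fun x hx => by
          rw [pow_zero, pow_zero, autFn_id hx.1]; exact (autFn_id hx.2).symm⟩
      | succ j ih =>
        obtain ⟨u, hu, hue⟩ := ih
        obtain ⟨w, hw, hwe⟩ := decomp_comp hE.2.2 hα (hτf.mono inf_le_left) he hfe (e' := u) (β := α ^ j)
          (g := autFn (τ ^ j)) (hX.symm ▸ hu) fun x hx => hue x (hX.le hx)
        exact ⟨w, hw, fun x hx => by rw [pow_succ, autFn_mul _ _ hx.1, hwe x hx, pow_succ]⟩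
    obtain ⟨u, hu, hue⟩ := hpow (p ^ k)
    have h := decomp_unique hS hE hK hP.2 (pow_mem hα (p ^ k)) (one_mem _) hu (fn_id inf_le_right) fun x hx => by
      rw [← hue x hx, hk, autFn_id hx.1]
      exact (autFn_id hx.2).symm
    rw [inv_one, one_mul] at h
    exact (mem_autGroup_iff_fn hP.1.1).2 (fn_predSystem.2
      ⟨hτf, kernelPred_of_mem hS hE hK (hK.mem_of_pow α hα k h) he hfe⟩)
  · obtain ⟨hαF, β, hβ, hβe⟩ := hα
    exact (mem_autGroup_iff_fn le_rfl).2 (fn_predSystem.2 ⟨fn_autS hαF,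
      kernelPred_of_mem hS hE hK hβ (fn_id inf_le_right) fun x hx => (hβe x hx.2).symm⟩)

/-- An automorphism of `S` in the system, or in it on a member of the class, lies in the lifted kernel. -/
theorem mem_lift_of_restrict {α : MulAut S} (hα : α ∈ F.autGroup S) {P : Subgroup Ω} (hP : InClass F E P)
    (h : Fn F₀ P (autFn α)) : α ∈ liftKernel hTS F K := by
  obtain ⟨β, hβ, hβe⟩ := exists_restr hE.2.2.2.1 hα
  refine ⟨hα, β, ?_, hβe⟩
  exact (fn_predSystem.1 (characterSystem_min (kernelSystem_base hS hE hK) h)).2 _ inf_le_left hP.2 β hβ id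
    (fn_id inf_le_right) fun x hx => (hβe x hx.2).symm

theorem autGroup_characterSystem : (F₀).autGroup S = liftKernel hTS F K := by
  refine le_antisymm (fun α hα => ?_) characterSystem_base.2
  have h := (mem_autGroup_iff_fn le_rfl).1 hα
  exact mem_lift_of_restrict hS hE hK ((mem_autGroup_iff_fn le_rfl).2 (characterSystem_le h))
    (inClass_top hE.2.2.2.1) h

/-- The system is invariant under `Aut_F(S)`. -/
theorem characterSystem_transform {α : MulAut S} (hα : α ∈ F.autGroup S) {P : Subgroup Ω} {g : Ω → Ω}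
    (hg : Fn F₀ P g) :
    ∃ χ : Ω → Ω, Fn F₀ (img (autFn α) P) χ ∧ ∀ x ∈ P, χ (autFn α x) = autFn α (g x) := by
  have hT := hE.2.2.2.1
  have hαf := fn_autS hα
  let D : FusionSystem S := predSystem F
    (fun P g => ∃ χ : Ω → Ω, Fn F₀ (img (autFn α) P) χ ∧ ∀ x ∈ P, χ (autFn α x) = autFn α (g x))
    (fun P f g he _ h => by
      obtain ⟨χ, hχ, hχe⟩ := h
      exact ⟨χ, hχ, fun x hx => by rw [hχe x hx, he x hx]⟩)
    (fun P hP s hs => ⟨fun y => autFn α s * y * (autFn α s)⁻¹,
      fn_conj (img_le fun x hx => autFn_mem α (hP hx)) (autFn_mem α hs),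
      fun x hx => (hαf.map_conj hs (hP hx)).symm⟩)
    (fun P R f g hf' _ hm h h' => by
      obtain ⟨χ, hχ, hχe⟩ := h
      obtain ⟨χ', hχ', hχ'e⟩ := h'
      refine ⟨χ' ∘ χ, hχ.comp hχ' fun y hy => ?_, fun x hx => ?_⟩
      · obtain ⟨x, hx, rfl⟩ := (hαf.mono hf'.le).mem_img.1 hy
        rw [hχe x hx]
        exact mem_img_of_mem (hm x hx)
      · show χ' (χ (autFn α x)) = autFn α (g (f x))
        rw [hχe x hx, hχ'e _ (hm x hx)])
    (fun P f g hf' _ hgf h => by
      obtain ⟨χ, hχ, hχe⟩ := h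
      obtain ⟨χ', hχ', hχ'χ, -⟩ := hχ.exists_inv
      have hi : img χ (img (autFn α) P) = img (autFn α) (img f P) := by
        rw [← (hαf.mono hf'.le).img_comp, ← hf'.img_comp]
        exact img_congr fun x hx => hχe x hx
      rw [hi] at hχ'
      refine ⟨χ', hχ', fun y hy => ?_⟩
      obtain ⟨x, hx, rfl⟩ := hf'.mem_img.1 hy
      rw [← hχe x hx, hχ'χ _ (mem_img_of_mem hx), hgf x hx])
  have hD : KernelBase p F E hTS K D := by
    refine ⟨fun P hP => opAut_closure fun τ hτ ⟨k, hk⟩ => ?_, fun a ha => ?_⟩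
    · refine (mem_autGroup_iff_fn hP.1.1).2 (fn_predSystem.2 ⟨(mem_autGroup_iff_fn hP.1.1).1 hτ, ?_⟩)
      have hf := hαf.mono hP.1.1
      obtain ⟨e, he, hmap⟩ := exists_transport hf.le hf rfl
      have hτ' : MulAut.congr e τ ∈ F.autGroup (img (autFn α) P) := hmap ▸ ⟨τ, hτ, rfl⟩
      refine ⟨_, (mem_autGroup_iff_fn hf.img_le_base).1 (characterSystem_base.1 _ (inClass_img hE.2.2 hP hf)
        (mem_opAut_of_pow hτ' (k := k) (by rw [← map_pow, hk, map_one]))), fun x hx => ?_⟩
      lift x to P using hx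
      rw [← he x, autFn_coe]
      simp [MulAut.congr, he]
    · obtain ⟨haF, b, hb, hbe⟩ := ha
      obtain ⟨β, hβ, hβe⟩ := exists_restr hT hα
      refine (mem_autGroup_iff_fn le_rfl).2 (fn_predSystem.2 ⟨fn_autS haF, ?_⟩)
      have hmem : α * a * α⁻¹ ∈ liftKernel hTS F K := by
        refine ⟨mul_mem (mul_mem hα haF) (inv_mem hα), β * b * β⁻¹, hK.conj_mem β hβ b hb, fun t ht => ?_⟩
        have hi : autFn β⁻¹ t = autFn α⁻¹ t := by
          conv_rhs => rw [← autFn_apply_inv β ht, hβe _ (autFn_mem β⁻¹ ht),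
            autFn_inv_apply α (hT.1 (autFn_mem β⁻¹ ht))]
        rw [autFn_mul _ _ ht, autFn_mul _ _ (autFn_mem _ ht), autFn_mul _ _ (hT.1 ht),
          autFn_mul _ _ (autFn_mem _ (hT.1 ht)), hbe _ (autFn_mem _ ht), hβe, hi]
        rw [← hbe _ (autFn_mem _ ht)]
        exact autFn_mem b (autFn_mem _ ht)
      rw [img_autFn]
      exact ⟨_, (mem_autGroup_iff_fn le_rfl).1 (characterSystem_base.2 hmem), fun x hx => by
        rw [autFn_mul _ _ (autFn_mem α hx), autFn_inv_apply α hx, autFn_mul _ _ hx]⟩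
  exact (fn_predSystem.1 (characterSystem_min hD hg)).2

/-- Every map is an automorphism of `S` after a map of the system. -/
theorem characterSystem_decomp {P : Subgroup Ω} {f : Ω → Ω} (hf : Fn F P f) :
    ∃ α ∈ F.autGroup S, ∃ g : Ω → Ω, Fn F₀ P g ∧ ∀ x ∈ P, f x = autFn α (g x) := by
  classical
  have hF := hE.2.1
  have hT := hE.2.2.2.1
  let C : Subgroup Ω → (Ω → Ω) → Prop := fun P f =>
    ∃ α ∈ F.autGroup S, ∃ g : Ω → Ω, Fn F₀ P g ∧ ∀ x ∈ P, f x = autFn α (g x)
  have hCone : ∀ {P : Subgroup Ω} {g : Ω → Ω}, Fn F₀ P g → C P g := fun {P g} hg =>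
    ⟨1, one_mem _, g, hg, fun x hx => (autFn_id (hg.mem hx)).symm⟩
  let D : FusionSystem S := predSystem F C
    (fun P f g he _ ⟨α, hα, u, hu, hfu⟩ => ⟨α, hα, u, hu, fun x hx => (he x hx) ▸ hfu x hx⟩)
    (fun P hP s hs => hCone (fn_conj hP hs))
    (fun P R f g hf hg hm ⟨α, hα, u, hu, hfu⟩ ⟨β, hβ, v, hv, hgv⟩ => by
      obtain ⟨χ, hχ, hχe⟩ := characterSystem_transform hS hE hK (inv_mem hα) hv
      refine ⟨β * α, mul_mem hβ hα, χ ∘ u, hu.comp hχ fun x hx => ?_, fun x hx => ?_⟩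
      · rw [← autFn_inv_apply α (hu.mem hx), ← hfu x hx]
        exact mem_img_of_mem (hm x hx)
      · have h := hχe _ (hm x hx)
        rw [hfu x hx, autFn_inv_apply α (hu.mem hx), ← hfu x hx] at h
        show g (f x) = autFn (β * α) (χ (u x))
        rw [h, autFn_mul _ _ (autFn_mem _ (hv.mem (hm x hx))), autFn_apply_inv α (hv.mem (hm x hx)),
          hgv _ (hm x hx)])
    (fun P f g hf hg hgf ⟨α, hα, u, hu, hfu⟩ => by
      obtain ⟨k, hk, hku, -⟩ := hu.exists_inv
      obtain ⟨χ, hχ, hχe⟩ := characterSystem_transform hS hE hK hα hk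
      have hi : img (autFn α) (img u P) = img f P := by
        rw [← hu.img_comp]
        exact img_congr fun x hx => (hfu x hx).symm
      rw [hi] at hχ
      refine ⟨α⁻¹, inv_mem hα, χ, hχ, fun y hy => ?_⟩
      obtain ⟨x, hx, rfl⟩ := hf.mem_img.1 hy
      rw [hgf x hx, hfu x hx, hχe _ (mem_img_of_mem hx), hku x hx, autFn_inv_apply α (hu.le hx)])
  have hle : F ≤ D := by
    refine le_of_automizers hS hF D (fun α hα => ?_) fun P hPS hP hbig => ?_
    · exact (mem_autGroup_iff_fn le_rfl).2 (fn_predSystem.2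
        ⟨fn_autS hα, α, hα, id, fn_id le_rfl, fun x _ => rfl⟩)
    have hext : ∀ α, ExtAut F P α → α ∈ D.autGroup P := by
      rintro α ⟨N, g, hPN, hg, hgα⟩
      refine (mem_autGroup hPS.le).2 (mem_hom_of_fn ((hbig N g ?_ hg).mono hPN.le) fun x => (hgα x).symm)
      haveI := finite_of_le_base hg.le
      exact Set.Finite.card_lt_card (Set.toFinite (N : Set Ω)) hPN
    rcases extClosure_eq_or_essential hS hF hPS hP with h | hess
    · rw [← h]
      exact (Subgroup.closure_le _).2 hext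
    have hclass : InClass F E P := ⟨hess.1, by
      by_contra hn
      exact (not_radical_of_inter_not_centric hS hF hE.2.2.1 hT hess.1 hn).2 (essential_radical hS hess)⟩
    intro α hα
    haveI := finite_of_le_base hPS.le
    obtain ⟨hA, hfc⟩ := fullyNormalized_good hS hF hP
    have hAS : autInducedBy S P ≤ opAut p F P := fun τ hτ => by
      obtain ⟨k, hk⟩ := isPGroup_autInducedBy hS ⟨τ, hτ⟩
      exact mem_opAut_of_pow (autInducedBy_le_autGroup hPS.le hτ) (congrArg Subtype.val hk)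
    let N := (opAut p F P).subgroupOf (F.autGroup P)
    haveI : N.Normal := ⟨fun n hn a => conj_mem_opAut hn a.2⟩
    obtain ⟨-, Syl, hSyl⟩ := hA
    have hTN : (Syl : Subgroup (F.autGroup P)) ≤ N := by
      rw [hSyl]
      exact fun a ha => hAS ha
    have hsup : (Subgroup.normalizer ((Syl : Subgroup (F.autGroup P)) : Set (F.autGroup P))) ⊔ N = ⊤ :=
      Sylow.normalizer_sup_eq_top' Syl hTN
    have hmem : (⟨α, hα⟩ : F.autGroup P) ∈
        ((Subgroup.normalizer ((Syl : Subgroup (F.autGroup P)) : Set (F.autGroup P)) ⊔ N : Subgroup _) :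
          Set (F.autGroup P)) := by
      rw [hsup]
      exact Subgroup.mem_top _
    rw [Subgroup.mul_normal] at hmem
    obtain ⟨a, ha, o, ho, e⟩ := hmem
    rw [← show (a : MulAut P) * (o : MulAut P) = α from congrArg Subtype.val e]
    refine mul_mem ?_ ?_
    · obtain ⟨n, -, hn, hnP⟩ := exists_mem_normalizer_not_mem hS (le_refl S) hPS
      refine hext _ (extAut_of_receptive (fullyCentralized_receptive hS hF hfc) a.2 hn hnP ?_)
      have hcn : (⟨conjAut P hn.2, autInducedBy_le_autGroup hPS.le (conjAut_mem_autInducedBy hn.2 hn.1)⟩ :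
          F.autGroup P) ∈ (Syl : Subgroup (F.autGroup P)) := by
        rw [hSyl]
        exact conjAut_mem_autInducedBy hn.2 hn.1
      have h1 := (Subgroup.mem_normalizer_iff.1 ha _).1 hcn
      rw [hSyl] at h1
      exact h1
    · refine (mem_autGroup_iff_fn hPS.le).2 (fn_predSystem.2 ⟨(mem_autGroup_iff_fn hPS.le).1 o.2, ?_⟩)
      exact hCone ((mem_autGroup_iff_fn hPS.le).1 (characterSystem_base.1 P hclass ho))
  exact (fn_predSystem.1 (fn_of_le hle hf)).2

end

end CfsgLib.Fsys.WNR
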