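/-
Simplicity of a 2-fusion system from a 2-local subgroup whose core is one fused class and whose quotient has no proper
strongly closed subgroup.
-/
import Cfsg.Agent.Lib.FusionSystem.Group
import Cfsg.Agent.Lib.LocalEven.AltEightClosed
import Cfsg.Agent.S5339

set_option autoImplicit false

namespace CfsgLib.Fsys.ClosedByQuotient

open Cfsg CfsgLib.Fsys
open CfsgLib.LocalEven.AltEightSylow (ClosedTop)
open scoped Pointwise

variable {G : Type*} [Group G] [Finite G]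

/-- Membership closure of a strongly closed subgroup. -/
theorem closed_mem {S T : Subgroup G} (hT : (groupFusionSystem S).StronglyClosed T) {x g : G}
    (hx : x ∈ T) (hg : g * x * g⁻¹ ∈ S) : g * x * g⁻¹ ∈ T := by
  have hR : Subgroup.zpowers x ≤ T := Subgroup.zpowers_le.2 hx
  refine hT.2 _ hR (conjHom (Subgroup.zpowers x) g) ⟨hR.trans hT.1, ?_, g, fun _ => rfl⟩
    ⟨x, Subgroup.mem_zpowers x⟩
  rintro ⟨y, n, rfl⟩
  show g * x ^ n * g⁻¹ ∈ S
  rw [← conj_zpow]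
  exact zpow_mem hg n

theorem eq_top_of_closed (S : Sylow 2 G) {Q : Type*} [Group Q] (H : Subgroup G) (f : H →* Q)
    (hf : Function.Surjective f) (hSH : (S : Subgroup G) ≤ H) (hk : IsPGroup 2 f.ker)
    (hcent : ∀ g : H, (∀ v ∈ f.ker, g * v = v * g) → g ∈ f.ker)
    (hfused : ∀ x ∈ f.ker, ∀ y ∈ f.ker, x ≠ 1 → y ≠ 1 → ∃ g : H, g * x * g⁻¹ = y)
    (hescape : ∃ v ∈ f.ker, ∃ w : H, w ∉ f.ker ∧ ∃ a : G, a * (v : G) * a⁻¹ = (w : G))
    (hQ : ClosedTop Q) {T : Subgroup G}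
    (hT : (groupFusionSystem (S : Subgroup G)).StronglyClosed T) (hne : T ≠ ⊥) : T = (S : Subgroup G) := by
  have : Fact (Nat.Prime 2) := ⟨Nat.prime_two⟩
  set S' : Sylow 2 H := S.subtype hSH
  have hS' : ∀ {x : H}, x ∈ (S' : Subgroup H) ↔ (x : G) ∈ (S : Subgroup G) := Iff.rfl
  set T' := T.subgroupOf H
  have hT' : ∀ {x : H}, x ∈ T' ↔ (x : G) ∈ T := Iff.rfl
  have hTS : T' ≤ (S' : Subgroup H) := fun x hx => hT.1 hx
  have hkS : f.ker ≤ (S' : Subgroup H) := hk.le_sylow_of_normal S'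
  have hcl : ∀ x ∈ T', ∀ g : H, g * x * g⁻¹ ∈ (S' : Subgroup H) → g * x * g⁻¹ ∈ T' :=
    fun x hx g hg => closed_mem hT (g := (g : G)) hx hg
  obtain ⟨⟨t, htT⟩, ht1⟩ := (Subgroup.ne_bot_iff_exists_ne_one).1 hne
  -- the kernel lies in `T`
  obtain ⟨v₀, hv₀k, hv₀T, hv₀1⟩ : ∃ v ∈ f.ker, v ∈ T' ∧ v ≠ 1 := by
    by_contra hno
    push Not at hno
    have hcomm : ∀ x ∈ T', ∀ v ∈ f.ker, x * v = v * x := fun x hx v hv => by
      have h1 : x * v * x⁻¹ * v⁻¹ ∈ f.ker :=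
        mul_mem ((MonoidHom.normal_ker f).conj_mem v hv x) (inv_mem hv)
      have h2 : x * v * x⁻¹ * v⁻¹ ∈ T' := by
        have h3 := hcl x⁻¹ (inv_mem hx) v ((S' : Subgroup H).mul_mem
          ((S' : Subgroup H).mul_mem (hkS hv) (hTS (inv_mem hx))) ((S' : Subgroup H).inv_mem (hkS hv)))
        simpa [mul_assoc] using mul_mem hx h3
      have := hno _ h1 h2
      rwa [mul_inv_eq_one, mul_inv_eq_iff_eq_mul] at this
    have h1 := hno ⟨t, hSH (hT.1 htT)⟩ (hcent _ (hcomm _ htT)) htT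
    exact ht1 (Subtype.ext (congrArg Subtype.val h1 :))
  have hkT : f.ker ≤ T' := fun y hy => by
    rcases eq_or_ne y 1 with rfl | hy1
    · exact one_mem _
    · obtain ⟨g, rfl⟩ := hfused v₀ hv₀k y hy hv₀1 hy1
      exact hcl v₀ hv₀T g (hkS hy)
  -- the image is not trivial
  obtain ⟨v, hv, w, hw, a, ha⟩ := hescape
  obtain ⟨m, hm⟩ := hk ⟨v, hv⟩
  have hwm : w ^ 2 ^ m = 1 := by
    have hvG : (v : G) ^ 2 ^ m = 1 := by
      simpa using congrArg (fun u : f.ker => ((u : H) : G)) hm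
    refine Subtype.ext ?_
    rw [Subgroup.coe_pow, ← ha, conj_pow, hvG]; simp
  have hwp : IsPGroup 2 (Subgroup.zpowers w) := fun x => by
    obtain ⟨n, hn⟩ := x.2
    exact ⟨m, Subtype.ext (by
      rw [Subgroup.coe_pow, Subgroup.coe_one, ← hn, ← zpow_natCast, ← zpow_mul, mul_comm, zpow_mul,
        zpow_natCast, hwm, one_zpow])⟩
  obtain ⟨R, hR⟩ := hwp.exists_le_sylow
  obtain ⟨h, hh⟩ := MulAction.exists_smul_eq H R S'
  have hwS : h * w * h⁻¹ ∈ (S' : Subgroup H) := by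
    rw [← hh, Sylow.coe_subgroup_smul, Subgroup.mem_pointwise_smul_iff_inv_smul_mem]
    simpa [MulAut.smul_def, mul_assoc] using hR (Subgroup.mem_zpowers w)
  have hwT : h * w * h⁻¹ ∈ T' := by
    have e : ((h : G) * a) * (v : G) * ((h : G) * a)⁻¹ = ((h * w * h⁻¹ : H) : G) := by
      rw [Subgroup.coe_mul, Subgroup.coe_mul, Subgroup.coe_inv, ← ha]
      group
    rw [hT', ← e]
    exact closed_mem hT (hkT hv) (e ▸ hwS)
  set SQ : Sylow 2 Q := S'.mapSurjective hf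
  have hKne : T'.map f ≠ ⊥ := fun hb => hw <| by
    have h1 : h * w * h⁻¹ ∈ f.ker := MonoidHom.mem_ker.2 (Subgroup.mem_bot.1 (hb ▸ ⟨_, hwT, rfl⟩))
    simpa [mul_assoc] using (MonoidHom.normal_ker f).conj_mem _ h1 h⁻¹
  have hKcl : ∀ x ∈ T'.map f, ∀ g : Q, g * x * g⁻¹ ∈ (SQ : Subgroup Q) → g * x * g⁻¹ ∈ T'.map f := by
    rintro _ ⟨x, hx, rfl⟩ g hg
    obtain ⟨k, rfl⟩ := hf g
    rw [← map_inv, ← map_mul, ← map_mul] at hg ⊢
    obtain ⟨s, hs, he⟩ := hg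
    refine ⟨_, hcl x hx k ?_, rfl⟩
    have h1 : s⁻¹ * (k * x * k⁻¹) ∈ f.ker := by
      rw [MonoidHom.mem_ker, map_mul, map_inv, he, inv_mul_cancel]
    simpa using (S' : Subgroup H).mul_mem hs (hkS h1)
  have hall := hQ SQ (T'.map f) (fun x hx => Subgroup.map_mono hTS hx) hKne hKcl
  refine le_antisymm hT.1 fun s hs => ?_
  obtain ⟨u, hu, he⟩ := hall ⟨⟨s, hSH hs⟩, hs, rfl⟩
  have h1 : u⁻¹ * (⟨s, hSH hs⟩ : H) ∈ f.ker := by
    rw [MonoidHom.mem_ker, map_mul, map_inv, he, inv_mul_cancel]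
  have h2 := mul_mem hu (hkT h1)
  rwa [mul_inv_cancel_left] at h2

/-- The simplicity criterion. -/
theorem isSimple (S : Sylow 2 G) {Q : Type*} [Group Q] (H : Subgroup G) (f : H →* Q)
    (hf : Function.Surjective f) (hSH : (S : Subgroup G) ≤ H) (hk : IsPGroup 2 f.ker) (hk1 : f.ker ≠ ⊥)
    (hcent : ∀ g : H, (∀ v ∈ f.ker, g * v = v * g) → g ∈ f.ker)
    (hfused : ∀ x ∈ f.ker, ∀ y ∈ f.ker, x ≠ 1 → y ≠ 1 → ∃ g : H, g * x * g⁻¹ = y)
    (hescape : ∃ v ∈ f.ker, ∃ w : H, w ∉ f.ker ∧ ∃ a : G, a * (v : G) * a⁻¹ = (w : G))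
    (hQ : ClosedTop Q)
    (hN : Subgroup.normalizer ((S : Subgroup G) : Set G) = (S : Subgroup G)) :
    (groupFusionSystem (S : Subgroup G)).IsSimple 2 := by
  have : Fact (Nat.Prime 2) := ⟨Nat.prime_two⟩
  refine Cfsg.Agent.S5339.result 2 S.2 _ (group_isSaturated S) ?_ ?_ fun T hT => ?_
  · intro hb
    refine hk1 ((Subgroup.eq_bot_iff_forall _).2 fun x hx => ?_)
    have h1 := hk.le_sylow_of_normal (S.subtype hSH) hx
    have h2 : (x : G) ∈ (S : Subgroup G) := h1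
    rw [hb, Subgroup.mem_bot] at h2
    exact Subtype.ext h2
  · rw [group_autGroup le_rfl, autInducedBy_top]
    refine le_antisymm ?_ ?_
    · rintro _ ⟨g, rfl⟩
      exact ⟨⟨(g : G), hN.le g.2⟩, by ext x; rfl⟩
    · rintro _ ⟨s, rfl⟩
      exact ⟨⟨(s : G), Subgroup.le_normalizer s.2⟩, by ext x; rfl⟩
  · exact or_iff_not_imp_left.2 fun hne => eq_top_of_closed S H f hf hSH hk hcent hfused hescape hQ hT hne

end CfsgLib.Fsys.ClosedByQuotient
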