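import Cfsg.Agent.Lib.FusionSystem.Saturated
import Cfsg.Prelude.Def_FusionComponents
/-
The direct product of two fusion systems: existence and saturation.
-/
set_option autoImplicit false

namespace CfsgLib.Fsys

open Cfsg
open Cfsg.FusionSystem (centralizerIn normalizerIn IsProductSystem)

variable {Ω₁ Ω₂ : Type*} [Group Ω₁] [Group Ω₂] {S₁ : Subgroup Ω₁} {S₂ : Subgroup Ω₂}
variable {F₁ : FusionSystem S₁} {F₂ : FusionSystem S₂} {E : FusionSystem (S₁.prod S₂)}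
variable {P Q : Subgroup (Ω₁ × Ω₂)} {f₁ f₁' : Ω₁ → Ω₁} {f₂ f₂' : Ω₂ → Ω₂}

/-- The componentwise map of a pair of functions. -/
def pairFn (f₁ : Ω₁ → Ω₁) (f₂ : Ω₂ → Ω₂) (x : Ω₁ × Ω₂) : Ω₁ × Ω₂ := (f₁ x.1, f₂ x.2)

theorem fst_mem {x : Ω₁ × Ω₂} (hx : x ∈ P) : x.1 ∈ P.map (MonoidHom.fst Ω₁ Ω₂) := ⟨x, hx, rfl⟩

theorem snd_mem {x : Ω₁ × Ω₂} (hx : x ∈ P) : x.2 ∈ P.map (MonoidHom.snd Ω₁ Ω₂) := ⟨x, hx, rfl⟩

theorem map_fst_le (hP : P ≤ S₁.prod S₂) : P.map (MonoidHom.fst Ω₁ Ω₂) ≤ S₁ := by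
  rintro _ ⟨x, hx, rfl⟩
  exact (hP hx).1

theorem map_snd_le (hP : P ≤ S₁.prod S₂) : P.map (MonoidHom.snd Ω₁ Ω₂) ≤ S₂ := by
  rintro _ ⟨x, hx, rfl⟩
  exact (hP hx).2

/-- The maps of the product with source `P`. -/
def prodHom (F₁ : FusionSystem S₁) (F₂ : FusionSystem S₂) (P : Subgroup (Ω₁ × Ω₂)) :
    Set (P →* Ω₁ × Ω₂) :=
  {φ | P ≤ S₁.prod S₂ ∧ ∃ f₁ f₂, Fn F₁ (P.map (MonoidHom.fst Ω₁ Ω₂)) f₁ ∧
    Fn F₂ (P.map (MonoidHom.snd Ω₁ Ω₂)) f₂ ∧ ∀ x : P, φ x = pairFn f₁ f₂ x}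

/-- The direct product of two fusion systems. -/
def prodSystem (F₁ : FusionSystem S₁) (F₂ : FusionSystem S₂) : FusionSystem (S₁.prod S₂) where
  Hom := prodHom F₁ F₂
  le_of_mem := by
    rintro P φ ⟨hP, f₁, f₂, h₁, h₂, h⟩
    exact ⟨hP, fun x => h x ▸ ⟨h₁.mem (fst_mem x.2), h₂.mem (snd_mem x.2)⟩⟩
  injective_of_mem := by
    rintro P φ ⟨-, f₁, f₂, h₁, h₂, h⟩ x y e
    rw [h, h] at e
    exact Subtype.ext (Prod.ext (h₁.inj (fst_mem x.2) (fst_mem y.2) (congrArg Prod.fst e))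
      (h₂.inj (snd_mem x.2) (snd_mem y.2) (congrArg Prod.snd e)))
  conj_mem := fun {P g} hP hg =>
    ⟨hP, _, _, fn_conj (map_fst_le hP) hg.1, fn_conj (map_snd_le hP) hg.2, fun _ => rfl⟩
  comp_mem := by
    rintro P Q φ ψ ⟨hP, f₁, f₂, h₁, h₂, h⟩ ⟨-, g₁, g₂, k₁, k₂, k⟩ hm
    refine ⟨hP, g₁ ∘ f₁, g₂ ∘ f₂, h₁.comp k₁ ?_, h₂.comp k₂ ?_, fun x => ?_⟩
    · rintro _ ⟨x, hx, rfl⟩
      have := fst_mem (hm ⟨x, hx⟩)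
      rwa [h] at this
    · rintro _ ⟨x, hx, rfl⟩
      have := snd_mem (hm ⟨x, hx⟩)
      rwa [h] at this
    · show ψ ⟨φ x, hm x⟩ = _
      rw [k]
      show pairFn g₁ g₂ (φ x) = _
      rw [h]
      rfl
  inv_mem := by
    rintro P φ ⟨hP, f₁, f₂, h₁, h₂, h⟩
    obtain ⟨g₁, k₁, hg₁, -⟩ := h₁.exists_inv
    obtain ⟨g₂, k₂, hg₂, -⟩ := h₂.exists_inv
    have hinj : Function.Injective φ := fun x y e => by
      rw [h, h] at e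
      exact Subtype.ext (Prod.ext (h₁.inj (fst_mem x.2) (fst_mem y.2) (congrArg Prod.fst e))
        (h₂.inj (snd_mem x.2) (snd_mem y.2) (congrArg Prod.snd e)))
    have key : ∀ x : P, (P.subtype.comp (MonoidHom.ofInjective hinj).symm.toMonoidHom) ⟨φ x, ⟨x, rfl⟩⟩ = x := by
      intro x
      show (((MonoidHom.ofInjective hinj).symm ⟨φ x, _⟩ : P) : Ω₁ × Ω₂) = x
      congr 1
      exact (MulEquiv.symm_apply_eq _).2 (Subtype.ext (MonoidHom.ofInjective_apply hinj).symm)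
    refine ⟨P.subtype.comp (MonoidHom.ofInjective hinj).symm.toMonoidHom,
      ⟨?_, g₁, g₂, k₁.mono ?_, k₂.mono ?_, ?_⟩, key⟩
    · rintro _ ⟨x, rfl⟩
      exact h x ▸ ⟨h₁.mem (fst_mem x.2), h₂.mem (snd_mem x.2)⟩
    · rintro _ ⟨_, ⟨x, rfl⟩, rfl⟩
      rw [h]
      exact mem_img_of_mem (fst_mem x.2)
    · rintro _ ⟨_, ⟨x, rfl⟩, rfl⟩
      rw [h]
      exact mem_img_of_mem (snd_mem x.2)
    · rintro ⟨_, ⟨x, rfl⟩⟩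
      rw [key x]
      show _ = pairFn g₁ g₂ (φ x)
      rw [h]
      exact Prod.ext (hg₁ _ (fst_mem x.2)).symm (hg₂ _ (snd_mem x.2)).symm

theorem prodSystem_isProductSystem (F₁ : FusionSystem S₁) (F₂ : FusionSystem S₂) :
    IsProductSystem F₁ F₂ (prodSystem F₁ F₂) := by
  intro P φ
  constructor
  · rintro ⟨hP, f₁, f₂, ⟨φ₁, hφ₁, h₁⟩, ⟨φ₂, hφ₂, h₂⟩, h⟩
    exact ⟨hP, φ₁, hφ₁, φ₂, hφ₂, fun x m₁ m₂ => (h x).trans (Prod.ext (h₁ ⟨_, m₁⟩).symm (h₂ ⟨_, m₂⟩).symm)⟩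
  · rintro ⟨hP, φ₁, hφ₁, φ₂, hφ₂, h⟩
    refine ⟨hP, _, _, fn_ofHom hφ₁, fn_ofHom hφ₂, fun x => (h x (fst_mem x.2) (snd_mem x.2)).trans ?_⟩
    exact Prod.ext (ofHom_apply φ₁ (fst_mem x.2)).symm (ofHom_apply φ₂ (snd_mem x.2)).symm

theorem eq_prodSystem (hE : IsProductSystem F₁ F₂ E) : E = prodSystem F₁ F₂ := by
  have h : E.Hom = (prodSystem F₁ F₂).Hom :=
    funext fun P => Set.ext fun φ => (hE P φ).trans (prodSystem_isProductSystem F₁ F₂ P φ).symm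
  cases E
  cases h
  rfl

theorem fn_prod (hP : P ≤ S₁.prod S₂) (h₁ : Fn F₁ (P.map (MonoidHom.fst Ω₁ Ω₂)) f₁)
    (h₂ : Fn F₂ (P.map (MonoidHom.snd Ω₁ Ω₂)) f₂) : Fn (prodSystem F₁ F₂) P (pairFn f₁ f₂) := by
  refine ⟨MonoidHom.mk' (fun x : P => pairFn f₁ f₂ x) fun x y => ?_, ⟨hP, f₁, f₂, h₁, h₂, fun _ => rfl⟩,
    fun _ => rfl⟩
  exact Prod.ext (h₁.map_mul (fst_mem x.2) (fst_mem y.2)) (h₂.map_mul (snd_mem x.2) (snd_mem y.2))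

theorem fn_prod_inv {f : Ω₁ × Ω₂ → Ω₁ × Ω₂} (hf : Fn (prodSystem F₁ F₂) P f) :
    ∃ f₁ f₂, Fn F₁ (P.map (MonoidHom.fst Ω₁ Ω₂)) f₁ ∧ Fn F₂ (P.map (MonoidHom.snd Ω₁ Ω₂)) f₂ ∧
      ∀ x ∈ P, f x = pairFn f₁ f₂ x := by
  obtain ⟨φ, ⟨-, f₁, f₂, h₁, h₂, h⟩, hφ⟩ := hf
  exact ⟨f₁, f₂, h₁, h₂, fun x hx => (hφ ⟨x, hx⟩).symm.trans (h ⟨x, hx⟩)⟩

theorem map_fst_img (hP : P ≤ S₁.prod S₂) (h₁ : Fn F₁ (P.map (MonoidHom.fst Ω₁ Ω₂)) f₁)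
    (h₂ : Fn F₂ (P.map (MonoidHom.snd Ω₁ Ω₂)) f₂) :
    (img (pairFn f₁ f₂) P).map (MonoidHom.fst Ω₁ Ω₂) = img f₁ (P.map (MonoidHom.fst Ω₁ Ω₂)) := by
  ext y
  rw [h₁.mem_img]
  constructor
  · rintro ⟨z, hz, rfl⟩
    obtain ⟨x, hx, rfl⟩ := (fn_prod hP h₁ h₂).mem_img.1 hz
    exact ⟨x.1, fst_mem hx, rfl⟩
  · rintro ⟨_, ⟨x, hx, rfl⟩, rfl⟩
    exact ⟨pairFn f₁ f₂ x, mem_img_of_mem hx, rfl⟩

theorem map_snd_img (hP : P ≤ S₁.prod S₂) (h₁ : Fn F₁ (P.map (MonoidHom.fst Ω₁ Ω₂)) f₁)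
    (h₂ : Fn F₂ (P.map (MonoidHom.snd Ω₁ Ω₂)) f₂) :
    (img (pairFn f₁ f₂) P).map (MonoidHom.snd Ω₁ Ω₂) = img f₂ (P.map (MonoidHom.snd Ω₁ Ω₂)) := by
  ext y
  rw [h₂.mem_img]
  constructor
  · rintro ⟨z, hz, rfl⟩
    obtain ⟨x, hx, rfl⟩ := (fn_prod hP h₁ h₂).mem_img.1 hz
    exact ⟨x.2, snd_mem hx, rfl⟩
  · rintro ⟨_, ⟨x, hx, rfl⟩, rfl⟩
    exact ⟨pairFn f₁ f₂ x, mem_img_of_mem hx, rfl⟩

theorem receptive_prod (hQ : Q ≤ S₁.prod S₂) (r₁ : F₁.IsReceptive (Q.map (MonoidHom.fst Ω₁ Ω₂)))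
    (r₂ : F₂.IsReceptive (Q.map (MonoidHom.snd Ω₁ Ω₂))) : (prodSystem F₁ F₂).IsReceptive Q := by
  refine receptive_of_extend hQ fun R f hf hi => ?_
  obtain ⟨f₁, f₂, h₁, h₂, h⟩ := fn_prod_inv hf
  have hi' : img (pairFn f₁ f₂) R = Q := (img_congr h).symm.trans hi
  obtain ⟨N₁, g₁, hg₁, -, hN₁, he₁⟩ := receptive_extend r₁ h₁ (by rw [← map_fst_img hf.le h₁ h₂, hi'])
  obtain ⟨N₂, g₂, hg₂, -, hN₂, he₂⟩ := receptive_extend r₂ h₂ (by rw [← map_snd_img hf.le h₁ h₂, hi'])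
  refine ⟨pairFn g₁ g₂, fun N hN => fn_prod (fun n hn => (hN n hn).1) (hg₁.mono ?_) (hg₂.mono ?_),
    fun x hx => ?_⟩
  · rintro _ ⟨n, hn, rfl⟩
    obtain ⟨hnS, hnR, t, ht, htx⟩ := hN n hn
    refine (hN₁ _).2 ⟨hnS.1, mem_normalizer_iff'.2 ⟨?_, ?_⟩, t.1, ht.1, ?_⟩
    · rintro _ ⟨x, hx, rfl⟩
      exact ⟨_, (mem_normalizer_iff'.1 hnR).1 x hx, by simp⟩
    · rintro _ ⟨x, hx, rfl⟩
      exact ⟨_, (mem_normalizer_iff'.1 hnR).2 x hx, by simp⟩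
    · rintro _ ⟨x, hx, rfl⟩
      have := congrArg Prod.fst (htx x hx)
      rwa [h _ ((mem_normalizer_iff'.1 hnR).1 x hx), h x hx] at this
  · rintro _ ⟨n, hn, rfl⟩
    obtain ⟨hnS, hnR, t, ht, htx⟩ := hN n hn
    refine (hN₂ _).2 ⟨hnS.2, mem_normalizer_iff'.2 ⟨?_, ?_⟩, t.2, ht.2, ?_⟩
    · rintro _ ⟨x, hx, rfl⟩
      exact ⟨_, (mem_normalizer_iff'.1 hnR).1 x hx, by simp⟩
    · rintro _ ⟨x, hx, rfl⟩
      exact ⟨_, (mem_normalizer_iff'.1 hnR).2 x hx, by simp⟩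
    · rintro _ ⟨x, hx, rfl⟩
      have := congrArg Prod.snd (htx x hx)
      rwa [h _ ((mem_normalizer_iff'.1 hnR).1 x hx), h x hx] at this
  · rw [h x hx]
    exact Prod.ext (he₁ _ (fst_mem hx)) (he₂ _ (snd_mem hx))

theorem isPGroup_prod {p : ℕ} (h₁ : IsPGroup p S₁) (h₂ : IsPGroup p S₂) : IsPGroup p (S₁.prod S₂) := by
  intro x
  obtain ⟨m, hm⟩ := h₁ ⟨_, x.2.1⟩
  obtain ⟨n, hn⟩ := h₂ ⟨_, x.2.2⟩
  refine ⟨m + n, Subtype.ext (Prod.ext ?_ ?_)⟩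
  · have := congrArg Subtype.val hm
    simp only [SubmonoidClass.coe_pow, OneMemClass.coe_one] at this
    simp [pow_add, pow_mul, this]
  · have := congrArg Subtype.val hn
    simp only [SubmonoidClass.coe_pow, OneMemClass.coe_one] at this
    simp [pow_add, mul_comm (p ^ m), pow_mul, this]

theorem finite_prod [Finite S₁] [Finite S₂] : Finite (S₁.prod S₂) :=
  Finite.of_equiv _ (Subgroup.prodEquiv S₁ S₂).symm.toEquiv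

section Automized

variable (F₁ F₂) in
/-- The group acting componentwise on subgroups with projections `Q₁`, `Q₂`. -/
abbrev PairAut (Q₁ : Subgroup Ω₁) (Q₂ : Subgroup Ω₂) := F₁.autGroup Q₁ × F₂.autGroup Q₂

variable {Q₁ : Subgroup Ω₁} {Q₂ : Subgroup Ω₂}

/-- The componentwise action. -/
noncomputable def pairAct (a : PairAut F₁ F₂ Q₁ Q₂) : Ω₁ × Ω₂ → Ω₁ × Ω₂ :=
  pairFn (autFn (a.1 : MulAut Q₁)) (autFn (a.2 : MulAut Q₂))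

theorem pairAct_mul (a b : PairAut F₁ F₂ Q₁ Q₂) {x : Ω₁ × Ω₂} (hx₁ : x.1 ∈ Q₁) (hx₂ : x.2 ∈ Q₂) :
    pairAct (a * b) x = pairAct a (pairAct b x) :=
  Prod.ext (autFn_mul _ _ hx₁) (autFn_mul _ _ hx₂)

theorem pairAct_one {x : Ω₁ × Ω₂} (hx₁ : x.1 ∈ Q₁) (hx₂ : x.2 ∈ Q₂) :
    pairAct (1 : PairAut F₁ F₂ Q₁ Q₂) x = x := by
  refine Prod.ext ?_ ?_
  · exact (autFn_coe (1 : MulAut Q₁) ⟨x.1, hx₁⟩)
  · exact (autFn_coe (1 : MulAut Q₂) ⟨x.2, hx₂⟩)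

theorem fn_pairAct (hQ₁ : Q₁ ≤ S₁) (hQ₂ : Q₂ ≤ S₂) (h1 : Q.map (MonoidHom.fst Ω₁ Ω₂) = Q₁)
    (h2 : Q.map (MonoidHom.snd Ω₁ Ω₂) = Q₂) (a : PairAut F₁ F₂ Q₁ Q₂) :
    Fn (prodSystem F₁ F₂) Q (pairAct a) :=
  fn_prod (fun x hx => ⟨hQ₁ (h1 ▸ fst_mem hx), hQ₂ (h2 ▸ snd_mem hx)⟩)
    (by rw [h1]; exact (mem_autGroup_iff_fn hQ₁).1 a.1.2) (by rw [h2]; exact (mem_autGroup_iff_fn hQ₂).1 a.2.2)

/-- The stabilizer of `Q` in the componentwise action. -/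
def pairStab (h1 : Q.map (MonoidHom.fst Ω₁ Ω₂) = Q₁) (h2 : Q.map (MonoidHom.snd Ω₁ Ω₂) = Q₂) :
    Subgroup (PairAut F₁ F₂ Q₁ Q₂) where
  carrier := {a | ∀ x ∈ Q, pairAct a x ∈ Q ∧ pairAct a⁻¹ x ∈ Q}
  one_mem' := fun x hx => by
    rw [inv_one, pairAct_one (h1 ▸ fst_mem hx) (h2 ▸ snd_mem hx)]
    exact ⟨hx, hx⟩
  mul_mem' := fun {a b} ha hb x hx => by
    rw [mul_inv_rev, pairAct_mul _ _ (h1 ▸ fst_mem hx) (h2 ▸ snd_mem hx),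
      pairAct_mul _ _ (h1 ▸ fst_mem hx) (h2 ▸ snd_mem hx)]
    exact ⟨(ha _ (hb x hx).1).1, (hb _ (ha x hx).2).2⟩
  inv_mem' := fun {a} ha x hx => by
    rw [inv_inv]
    exact ⟨(ha x hx).2, (ha x hx).1⟩

variable [Finite S₁] [Finite S₂] {p : ℕ} [Fact p.Prime]

/-- Restriction of the stabilizer to `Q`. -/
theorem exists_restrict (hQ₁ : Q₁ ≤ S₁) (hQ₂ : Q₂ ≤ S₂) (h1 : Q.map (MonoidHom.fst Ω₁ Ω₂) = Q₁)
    (h2 : Q.map (MonoidHom.snd Ω₁ Ω₂) = Q₂) :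
    ∃ ρ : pairStab (F₁ := F₁) (F₂ := F₂) h1 h2 →* (prodSystem F₁ F₂).autGroup Q,
      Function.Surjective ρ ∧ ∀ a (x : Q), ((((ρ a : MulAut Q) x) : Q) : Ω₁ × Ω₂) = pairAct a.1 x := by
  have hex : ∀ a : pairStab (F₁ := F₁) (F₂ := F₂) h1 h2,
      ∃ α ∈ (prodSystem F₁ F₂).autGroup Q, ∀ x : Q, ((α x : Q) : Ω₁ × Ω₂) = pairAct a.1 x := fun a =>
    exists_aut_of_fn (fn_pairAct hQ₁ hQ₂ h1 h2 a.1) <| le_antisymm (img_le fun x hx => (a.2 x hx).1)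
      fun x hx => Subgroup.subset_closure ⟨pairAct a.1⁻¹ x, (a.2 x hx).2, by
        rw [← pairAct_mul _ _ (h1 ▸ fst_mem hx) (h2 ▸ snd_mem hx), mul_inv_cancel,
          pairAct_one (h1 ▸ fst_mem hx) (h2 ▸ snd_mem hx)]⟩
  choose α hα hαe using hex
  refine ⟨MonoidHom.mk' (fun a => ⟨α a, hα a⟩) fun a b => Subtype.ext (MulEquiv.ext fun x => Subtype.ext ?_),
    ?_, hαe⟩
  · show ((α (a * b) x : Q) : Ω₁ × Ω₂) = (α a (α b x) : Q)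
    rw [hαe, hαe, hαe]
    exact pairAct_mul _ _ (h1 ▸ fst_mem x.2) (h2 ▸ snd_mem x.2)
  · rintro ⟨β, hβ⟩
    have hQS : Q ≤ S₁.prod S₂ := fun x hx => ⟨hQ₁ (h1 ▸ fst_mem hx), hQ₂ (h2 ▸ snd_mem hx)⟩
    have hβf := (mem_autGroup_iff_fn hQS).1 hβ
    obtain ⟨f₁, f₂, k₁, k₂, k⟩ := fn_prod_inv hβf
    have hi : img (pairFn f₁ f₂) Q = Q := (img_congr k).symm.trans (img_autFn β)
    have i₁ := (map_fst_img hQS k₁ k₂).symm.trans (congrArg (Subgroup.map _) hi)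
    have i₂ := (map_snd_img hQS k₁ k₂).symm.trans (congrArg (Subgroup.map _) hi)
    rw [h1] at k₁ i₁
    rw [h2] at k₂ i₂
    obtain ⟨a₁, ha₁, ha₁e⟩ := exists_aut_of_fn k₁ i₁
    obtain ⟨a₂, ha₂, ha₂e⟩ := exists_aut_of_fn k₂ i₂
    have key : ∀ x ∈ Q, pairAct ((⟨a₁, ha₁⟩, ⟨a₂, ha₂⟩) : PairAut F₁ F₂ Q₁ Q₂) x = autFn β x := by
      intro x hx
      rw [k x hx]
      exact Prod.ext ((autFn_coe a₁ ⟨x.1, h1 ▸ fst_mem hx⟩).trans (ha₁e _))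
        ((autFn_coe a₂ ⟨x.2, h2 ▸ snd_mem hx⟩).trans (ha₂e _))
    have hmem : ((⟨a₁, ha₁⟩, ⟨a₂, ha₂⟩) : PairAut F₁ F₂ Q₁ Q₂) ∈ pairStab h1 h2 := fun x hx => by
      refine ⟨key x hx ▸ autFn_mem β hx, ?_⟩
      have h := congrArg (pairAct ((⟨a₁, ha₁⟩, ⟨a₂, ha₂⟩) : PairAut F₁ F₂ Q₁ Q₂)⁻¹)
        (key _ (autFn_mem β⁻¹ hx))
      rw [autFn_apply_inv β hx, ← pairAct_mul _ _ (h1 ▸ fst_mem (autFn_mem β⁻¹ hx))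
        (h2 ▸ snd_mem (autFn_mem β⁻¹ hx)), inv_mul_cancel,
        pairAct_one (h1 ▸ fst_mem (autFn_mem β⁻¹ hx)) (h2 ▸ snd_mem (autFn_mem β⁻¹ hx))] at h
      exact h ▸ autFn_mem β⁻¹ hx
    refine ⟨⟨_, hmem⟩, Subtype.ext (MulEquiv.ext fun x => Subtype.ext ?_)⟩
    show ((α _ x : Q) : Ω₁ × Ω₂) = _
    rw [hαe, key x x.2, autFn_coe]

theorem isSaturated_prodSystem (h₁ : IsPGroup p S₁) (h₂ : IsPGroup p S₂) (hF₁ : F₁.IsSaturated p)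
    (hF₂ : F₂.IsSaturated p) : (prodSystem F₁ F₂).IsSaturated p := by
  intro P hP
  obtain ⟨Q₁, hc₁, hn₁⟩ := exists_fullyNormalized (F := F₁) (map_fst_le hP)
  obtain ⟨Q₂, hc₂, hn₂⟩ := exists_fullyNormalized (F := F₂) (map_snd_le hP)
  obtain ⟨u₁, hu₁, i₁⟩ := isConj_iff.1 hc₁
  obtain ⟨u₂, hu₂, i₂⟩ := isConj_iff.1 hc₂
  have hu := fn_prod hP hu₁ hu₂
  have e1 := (map_fst_img hP hu₁ hu₂).trans i₁
  have e2 := (map_snd_img hP hu₁ hu₂).trans i₂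
  have := finite_prod (S₁ := S₁) (S₂ := S₂)
  have hQ₁ := hn₁.1
  have hQ₂ := hn₂.1
  have := finite_of_le_base hQ₁
  have := finite_of_le_base hQ₂
  obtain ⟨U⟩ : Nonempty (Sylow p (pairStab (F₁ := F₁) (F₂ := F₂) e1 e2)) := Sylow.nonempty
  let U' : Subgroup (PairAut F₁ F₂ Q₁ Q₂) := (U : Subgroup _).map (pairStab e1 e2).subtype
  have hU' : IsPGroup p U' := U.isPGroup'.map _
  obtain ⟨γ₁, hγ₁, hT₁⟩ := exists_conj_into h₁ (fullyNormalized_good h₁ hF₁ hn₁).1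
    (T := (U'.map (MonoidHom.fst _ _)).map (F₁.autGroup Q₁).subtype)
    (Subgroup.map_subtype_le _) ((hU'.map _).map _)
  obtain ⟨γ₂, hγ₂, hT₂⟩ := exists_conj_into h₂ (fullyNormalized_good h₂ hF₂ hn₂).1
    (T := (U'.map (MonoidHom.snd _ _)).map (F₂.autGroup Q₂).subtype)
    (Subgroup.map_subtype_le _) ((hU'.map _).map _)
  let γ : PairAut F₁ F₂ Q₁ Q₂ := (⟨γ₁, hγ₁⟩, ⟨γ₂, hγ₂⟩)
  set Q₀ := img (pairFn u₁ u₂) P with hQ₀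
  have hγf := fn_pairAct hQ₁ hQ₂ e1 e2 γ
  set Q := img (pairAct γ) Q₀ with hQ
  have hQS : Q ≤ S₁.prod S₂ := hγf.img_le_base
  have g1 : Q.map (MonoidHom.fst Ω₁ Ω₂) = Q₁ := by
    refine (map_fst_img (F₁ := F₁) (F₂ := F₂) hu.img_le_base (f₁ := autFn γ₁) (f₂ := autFn γ₂) ?_ ?_).trans ?_
    · rw [e1]; exact (mem_autGroup_iff_fn hQ₁).1 hγ₁
    · rw [e2]; exact (mem_autGroup_iff_fn hQ₂).1 hγ₂
    · rw [e1, img_autFn]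
  have g2 : Q.map (MonoidHom.snd Ω₁ Ω₂) = Q₂ := by
    refine (map_snd_img (F₁ := F₁) (F₂ := F₂) hu.img_le_base (f₁ := autFn γ₁) (f₂ := autFn γ₂) ?_ ?_).trans ?_
    · rw [e1]; exact (mem_autGroup_iff_fn hQ₁).1 hγ₁
    · rw [e2]; exact (mem_autGroup_iff_fn hQ₂).1 hγ₂
    · rw [e2, img_autFn]
  refine ⟨Q, isConj_trans (isConj_of_fn hu) (isConj_of_fn hγf), ⟨hQS, ?_⟩,
    receptive_prod hQS (g1.symm ▸ fullyNormalized_receptive h₁ hF₁ hn₁)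
      (g2.symm ▸ fullyNormalized_receptive h₂ hF₂ hn₂)⟩
  -- conjugation by `γ` carries one stabilizer onto the other
  have mv : ∀ x ∈ Q₀, pairAct γ x ∈ Q := fun x hx => mem_img_of_mem hx
  have mvi : ∀ y ∈ Q, ∃ x ∈ Q₀, pairAct γ x = y := fun y hy => hγf.mem_img.1 hy
  have hconj : ∀ a, a ∈ pairStab (F₁ := F₁) (F₂ := F₂) e1 e2 ↔ γ * a * γ⁻¹ ∈ pairStab g1 g2 := by
    have key : ∀ a : PairAut F₁ F₂ Q₁ Q₂, ∀ x ∈ Q₀,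
        pairAct (γ * a * γ⁻¹) (pairAct γ x) = pairAct γ (pairAct a x) := by
      intro a x hx
      rw [← pairAct_mul _ _ (e1 ▸ fst_mem hx) (e2 ▸ snd_mem hx), inv_mul_cancel_right,
        pairAct_mul _ _ (e1 ▸ fst_mem hx) (e2 ▸ snd_mem hx)]
    intro a
    constructor
    · intro ha y hy
      obtain ⟨x, hx, rfl⟩ := mvi y hy
      rw [show (γ * a * γ⁻¹)⁻¹ = γ * a⁻¹ * γ⁻¹ by group, key a x hx, key a⁻¹ x hx]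
      exact ⟨mv _ (ha x hx).1, mv _ (ha x hx).2⟩
    · intro ha
      have back : ∀ b : PairAut F₁ F₂ Q₁ Q₂, ∀ x ∈ Q₀, pairAct (γ * b * γ⁻¹) (pairAct γ x) ∈ Q →
          pairAct b x ∈ Q₀ := by
        intro b x hx hmem
        rw [key b x hx] at hmem
        obtain ⟨x', hx', he⟩ := mvi _ hmem
        have := congrArg (pairAct γ⁻¹) he
        rw [← pairAct_mul _ _ (e1 ▸ fst_mem hx') (e2 ▸ snd_mem hx'), inv_mul_cancel,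
          pairAct_one (e1 ▸ fst_mem hx') (e2 ▸ snd_mem hx'),
          ← pairAct_mul γ⁻¹ γ (autFn_mem _ (e1 ▸ fst_mem hx)) (autFn_mem _ (e2 ▸ snd_mem hx)),
          inv_mul_cancel, pairAct_one (autFn_mem _ (e1 ▸ fst_mem hx)) (autFn_mem _ (e2 ▸ snd_mem hx))] at this
        exact this ▸ hx'
      intro x hx
      refine ⟨back a x hx (ha _ (mv x hx)).1, back a⁻¹ x hx ?_⟩
      have := (ha _ (mv x hx)).2
      rwa [show (γ * a * γ⁻¹)⁻¹ = γ * a⁻¹ * γ⁻¹ by group] at this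
  let c : pairStab (F₁ := F₁) (F₂ := F₂) e1 e2 →* pairStab (F₁ := F₁) (F₂ := F₂) g1 g2 :=
    ((MulAut.conj γ).toMonoidHom.comp (pairStab e1 e2).subtype).codRestrict _ fun a => (hconj a).1 a.2
  have hc : Function.Surjective c := fun b => by
    refine ⟨⟨γ⁻¹ * (b : PairAut F₁ F₂ Q₁ Q₂) * γ, (hconj _).2 ?_⟩, Subtype.ext ?_⟩
    · rw [show γ * (γ⁻¹ * (b : PairAut F₁ F₂ Q₁ Q₂) * γ) * γ⁻¹ = b by group]
      exact b.2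
    · show γ * (γ⁻¹ * (b : PairAut F₁ F₂ Q₁ Q₂) * γ) * γ⁻¹ = b
      group
  obtain ⟨ρ, hρ, hρe⟩ := exists_restrict (F₁ := F₁) (F₂ := F₂) hQ₁ hQ₂ g1 g2
  have := finite_of_le_base hQS
  let R : Sylow p ((prodSystem F₁ F₂).autGroup Q) := U.mapSurjective (f := ρ.comp c) (hρ.comp hc)
  refine ⟨R, (R.3 ?_ ?_).symm⟩
  · exact (isPGroup_autInducedBy (isPGroup_prod h₁ h₂)).comap_of_injective _
      (Subgroup.subtype_injective _)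
  · rintro _ ⟨a, ha, rfl⟩
    obtain ⟨s₁, hs₁, hsx₁⟩ := mem_autInducedBy.1 (hT₁ _ ⟨_, ⟨_, ⟨a, ha, rfl⟩, rfl⟩, rfl⟩)
    obtain ⟨s₂, hs₂, hsx₂⟩ := mem_autInducedBy.1 (hT₂ _ ⟨_, ⟨_, ⟨a, ha, rfl⟩, rfl⟩, rfl⟩)
    refine Subgroup.mem_subgroupOf.2 (mem_autInducedBy.2 ⟨(s₁, s₂), ⟨hs₁, hs₂⟩, fun x => ?_⟩)
    rw [show ((ρ.comp c) a) = ρ (c a) from rfl, hρe]
    refine Prod.ext ?_ ?_
    · exact (autFn_coe _ ⟨(x : Ω₁ × Ω₂).1, g1 ▸ fst_mem x.2⟩).trans (hsx₁ _)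
    · exact (autFn_coe _ ⟨(x : Ω₁ × Ω₂).2, g2 ▸ snd_mem x.2⟩).trans (hsx₂ _)

end Automized

end CfsgLib.Fsys
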