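import Cfsg.Agent.Lib.FusionSystem.SectionFreeFactor
import Cfsg.Agent.Lib.FusionSystem.NilpotencyCriterion
import Cfsg.Agent.S2759
/-
`S₄`-freeness of a saturated system at `2`: it amounts to no automizer involving `S₃`, a condition inherited by
subsystems.
-/
set_option autoImplicit false

namespace CfsgLib.Fsys

open Cfsg
open Cfsg.FusionSystem (centralizerIn normalizerIn)

universe u

variable {Ω : Type u} [Group Ω] {S : Subgroup Ω} {F : FusionSystem S} {p : ℕ}

/-- No automizer involves `S₃`. -/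
def AutS3Free (F : FusionSystem S) : Prop :=
  ∀ T : Subgroup Ω, T ≤ S → ¬ Involves (Equiv.Perm (Fin 3)) (F.autGroup T)

theorem AutS3Free.of_subsystem (h : AutS3Free F) {S' : Subgroup Ω} {E : FusionSystem S'} (hS' : S' ≤ S)
    (hE : E.IsSubsystemOf F) : AutS3Free E := by
  intro T hT hi
  have hle : E.autGroup T ≤ F.autGroup T := fun α hα =>
    (mem_autGroup_iff_fn (hT.trans hS')).2 (((mem_autGroup_iff_fn hT).1 hα).of_subsystem hE)
  exact h T (hT.trans hS') (involves_of_injective (Subgroup.inclusion_injective hle) hi)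

section normHom

variable {G : Type*} [Group G] {T : Subgroup Ω} (j : T →* G) (hj : Function.Injective j)

/-- The action of the normalizer of the image of `T` on `T`. -/
noncomputable def normHom : Subgroup.normalizer (j.range : Set G) →* MulAut T :=
  (MulAut.congr (MonoidHom.ofInjective hj).symm).toMonoidHom.comp j.range.normalizerMonoidHom

theorem normHom_apply (g : Subgroup.normalizer (j.range : Set G)) (t : T) :
    j (normHom j hj g t) = g * j t * (g : G)⁻¹ := by
  show j ((MonoidHom.ofInjective hj).symm _) = _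
  rw [← MonoidHom.ofInjective_apply hj, MulEquiv.apply_symm_apply]
  rfl

theorem involves_normHom_iff {H : Type*} [Group H] :
    Involves H (↥(Subgroup.normalizer (j.range : Set G)) ⧸
      (Subgroup.centralizer (j.range : Set G)).subgroupOf (Subgroup.normalizer (j.range : Set G))) ↔
      Involves H (normHom j hj).range := by
  have hk : (normHom j hj).ker =
      (Subgroup.centralizer (j.range : Set G)).subgroupOf (Subgroup.normalizer (j.range : Set G)) := by
    rw [← Subgroup.normalizerMonoidHom_ker]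
    exact MonoidHom.ker_mulEquiv_comp j.range.normalizerMonoidHom (MulAut.congr (MonoidHom.ofInjective hj).symm)
  have e := ((QuotientGroup.quotientMulEquivOfEq hk).symm.trans (QuotientGroup.quotientKerEquivRange (normHom j hj)))
  exact ⟨involves_of_injective (e := e.toMonoidHom) e.injective,
    involves_of_injective (e := e.symm.toMonoidHom) e.symm.injective⟩

end normHom

variable [Finite S]

/-- A group realizing an `S₃`-free system over a `2`-group on a Sylow subgroup is `S₄`-free. -/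
theorem not_involves_of_realized {G : Type*} [Group G] [Finite G] {ι : S →* G} (hι : F.IsRealizedBy ι)
    (hT : ∃ T : Sylow 2 G, (T : Subgroup G) = ι.range) (h : AutS3Free F) :
    ¬ Involves (Equiv.Perm (Fin 4)) G := by
  intro h4
  haveI : Fact (Nat.Prime 2) := ⟨Nat.prime_two⟩
  obtain ⟨U, hU, h3⟩ := Cfsg.Agent.S2759.result.mp h4
  obtain ⟨T₀, hT₀⟩ := hT
  obtain ⟨R, hR⟩ := hU.exists_le_sylow
  obtain ⟨g, hg⟩ := MulAction.exists_smul_eq G R T₀
  let P : Subgroup Ω := ((U.map (MulAut.conj g).toMonoidHom).comap ι).map S.subtype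
  have hPS : P ≤ S := Subgroup.map_subtype_le _
  let k : P →* G := (MulAut.conj g⁻¹).toMonoidHom.comp (ι.comp (Subgroup.inclusion hPS))
  have hk : Function.Injective k :=
    (MulAut.conj g⁻¹).injective.comp (hι.1.comp (Subgroup.inclusion_injective hPS))
  have hUr : U.map (MulAut.conj g).toMonoidHom ≤ ι.range := by
    rw [← hT₀, ← hg, Sylow.coe_subgroup_smul]
    rintro _ ⟨u, hu, rfl⟩
    exact Subgroup.smul_mem_pointwise_smul u (MulAut.conj g) _ (hR hu)
  have hrange : k.range = U := by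
    refine le_antisymm ?_ ?_
    · rintro _ ⟨⟨_, s, hs, rfl⟩, rfl⟩
      obtain ⟨u, hu, hue⟩ := hs
      show g⁻¹ * ι s * (g⁻¹)⁻¹ ∈ U
      rw [← hue]
      show g⁻¹ * (g * u * g⁻¹) * (g⁻¹)⁻¹ ∈ U
      simpa [mul_assoc] using hu
    · intro u hu
      obtain ⟨s, hs⟩ := hUr (Subgroup.mem_map_of_mem (MulAut.conj g).toMonoidHom hu)
      refine ⟨⟨(s : Ω), s, show ι s ∈ _ from hs ▸ Subgroup.mem_map_of_mem _ hu, rfl⟩, ?_⟩
      show g⁻¹ * ι ⟨(s : Ω), _⟩ * (g⁻¹)⁻¹ = u
      rw [Subtype.coe_eta, hs]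
      show g⁻¹ * (g * u * g⁻¹) * (g⁻¹)⁻¹ = u
      group
  rw [← hrange] at h3
  have h3' := (involves_normHom_iff k hk).1 h3
  have hle : (normHom k hk).range ≤ F.autGroup P := by
    rintro _ ⟨a, rfl⟩
    refine (mem_autGroup_iff_fn hPS).2 ⟨P.subtype.comp (normHom k hk a).toMonoidHom, ?_, fun x => (autFn_coe _ x).symm⟩
    refine (hι.2 P hPS _ fun x => hPS (normHom k hk a x).2).2 ⟨g * (a : G) * g⁻¹, fun x => ?_⟩
    have e := normHom_apply k hk a x
    change g⁻¹ * ι ⟨_, _⟩ * (g⁻¹)⁻¹ = a * (g⁻¹ * ι ⟨_, _⟩ * (g⁻¹)⁻¹) * (a : G)⁻¹ at e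
    have e' := congrArg (fun y => g * y * g⁻¹) e
    simp only [inv_inv, mul_assoc, mul_inv_cancel_left, mul_inv_cancel, mul_one] at e'
    simpa [mul_assoc] using e'
  exact h P hPS (involves_of_injective (Subgroup.inclusion_injective hle) h3')

variable [Fact p.Prime]

theorem centric_sup_centralizer {T : Subgroup Ω} (hT : F.IsFullyCentralized T) :
    F.IsCentric (T ⊔ centralizerIn S T) := by
  refine ⟨sup_le hT.1 centralizerIn_le, fun Q hQ => ?_⟩
  obtain ⟨χ, hχ, rfl⟩ := isConj_iff.1 hQ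
  have hle : img χ (centralizerIn S T) ≤ centralizerIn S (img χ T) := img_le fun x hx =>
    hχ.map_centralizer le_sup_left rfl (Subgroup.mem_sup_right hx) hx
  have heq : img χ (centralizerIn S T) = centralizerIn S (img χ T) :=
    eq_of_le_of_card centralizerIn_le hle (by
      rw [(hχ.mono le_sup_right).card_img]
      exact hT.2 _ (isConj_of_fn (hχ.mono le_sup_left)))
  intro z hz
  have hz' : z ∈ centralizerIn S (img χ T) := mem_centralizerIn.2
    ⟨(mem_centralizerIn.1 hz).1, fun w hw => (mem_centralizerIn.1 hz).2 w (img_mono le_sup_left hw)⟩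
  exact img_mono le_sup_right (heq.ge hz')

/-- An `S₄`-free saturated system at `2` has no automizer involving `S₃`. -/
theorem autS3Free_of_sectionFree (hp2 : p = 2) (hS : IsPGroup p S) (hF : F.IsSaturated p)
    (hfree : F.IsSectionFree p (Equiv.Perm (Fin 4))) : AutS3Free F := by
  subst hp2
  intro T hT h3
  obtain ⟨T₁, hTT₁, hT₁n⟩ := exists_fullyNormalized (F := F) hT
  obtain ⟨c, hc, rfl⟩ := isConj_iff.1 hTT₁
  obtain ⟨-, hT₁c⟩ := fullyNormalized_good hS hF hT₁n
  set T₁ := img c T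
  set R := T₁ ⊔ centralizerIn S T₁ with hR
  have hRc : F.IsCentric R := centric_sup_centralizer hT₁c
  obtain ⟨R₁, hRR₁, hR₁n⟩ := exists_fullyNormalized (F := F) hRc.1
  obtain ⟨e, he, rfl⟩ := isConj_iff.1 hRR₁
  have hR₁c : F.IsCentric (img e R) := ⟨hR₁n.1, fun Q hQ => hRc.2 Q (isConj_trans hRR₁ hQ)⟩
  obtain ⟨N, hN⟩ := exists_normalizerSystem F hR₁n.1
  obtain ⟨L, _, ι, hL⟩ := exists_normalizer_model hS hF hR₁n hR₁c hN
  obtain ⟨hfin, hι, -, -⟩ := id hL
  have hcT : ∀ x ∈ T, c x ∈ R := fun x hx => Subgroup.mem_sup_left (mem_img_of_mem hx)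
  have hk : Fn F T (e ∘ c) := hc.comp he hcT
  have hRN : img e R ≤ normalizerIn S (img e R) := le_normalizerIn hR₁n.1
  have hkN : ∀ x ∈ T, (e ∘ c) x ∈ normalizerIn S (img e R) := fun x hx => hRN (mem_img_of_mem (hcT x hx))
  let j : T →* L := MonoidHom.mk' (fun x => ι ⟨(e ∘ c) x, hkN x x.2⟩) fun a b => by
    rw [← map_mul]
    exact congrArg ι (Subtype.ext (hk.map_mul a.2 b.2))
  have hj : Function.Injective j := fun a b h =>
    Subtype.ext (hk.inj a.2 b.2 (congrArg Subtype.val (hι.1 h)))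
  have hle : F.autGroup T ≤ (normHom j hj).range := by
    intro α hα
    obtain ⟨β, hβ, hβe⟩ := exists_transport_aut hc le_rfl hα
    obtain ⟨M, b, hb, hTM, hM, hbe⟩ := receptive_extend (fullyNormalized_receptive hS hF hT₁n)
      ((mem_autGroup_iff_fn hT₁n.1).1 hβ) (img_autFn β)
    have hCM : centralizerIn S T₁ ≤ M := fun z hz => (hM z).2 (inExt_of_commute hz)
    have hRM : R ≤ M := sup_le hTM hCM
    have hbT : img b T₁ = T₁ := (img_congr hbe).trans (img_autFn β)
    have hbR : img b R = R := by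
      rw [hR, (hb.mono hRM).img_sup, hbT,
        (hb.mono hCM).img_eq_self fun x hx => hb.map_centralizer hTM hbT (hCM hx) hx]
    obtain ⟨γ, hγ, hγe⟩ := exists_aut_of_fn (hb.mono hRM) hbR
    obtain ⟨δ, hδ, hδe⟩ := exists_transport_aut he le_rfl hγ
    have hδN : Fn N (img e R) (autFn δ) := (fn_normalizerSystem hN).2 ⟨hRN,
      fun x hx => hRN (autFn_mem δ hx), _, by rw [sup_idem]; exact (mem_autGroup_iff_fn hR₁n.1).1 hδ,
      fun x _ => rfl, img_autFn δ⟩
    obtain ⟨φ, hφ, hφe⟩ := id hδN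
    obtain ⟨g, hg⟩ := (hι.2 _ hRN φ (N.le_of_mem hφ).2).1 hφ
    have key : ∀ x : T, g * j x * g⁻¹ = j (α x) := by
      intro x
      refine (hg ⟨(e ∘ c) x, mem_img_of_mem (hcT x x.2)⟩).symm.trans (congrArg ι (Subtype.ext ?_))
      show φ _ = e (c ((α x : T) : Ω))
      rw [hφe]
      show autFn δ (e (c x)) = _
      have h1 : c (x : Ω) ∈ R := hcT x x.2
      rw [hδe _ h1, show autFn γ (c x) = b (c x) from (autFn_coe γ ⟨_, h1⟩).trans (hγe ⟨_, h1⟩),
        hbe _ (mem_img_of_mem x.2), hβe _ x.2, autFn_coe]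
    have hgn : g ∈ Subgroup.normalizer (j.range : Set L) := Subgroup.mem_normalizer_fintype (by
      rintro _ ⟨x, rfl⟩
      exact ⟨α x, (key x).symm⟩)
    refine ⟨⟨g, hgn⟩, MulEquiv.ext fun x => hj ?_⟩
    rw [normHom_apply, key]
  refine hfree _ hR₁n hR₁c N hN L ι hL (Cfsg.Agent.S2759.result.mpr ⟨j.range, ?_, ?_⟩)
  · exact (hS.to_le hT).of_surjective j.rangeRestrict j.rangeRestrict_surjective
  · exact (involves_normHom_iff j hj).2 (involves_of_injective (Subgroup.inclusion_injective hle) h3)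

theorem sectionFree_of_autS3Free (hp2 : p = 2) (h : AutS3Free F) :
    F.IsSectionFree p (Equiv.Perm (Fin 4)) := by
  subst hp2
  intro Q hQn _ N hN L _ ι hL
  have := normalizerSystem_finite (S := S) (Q := Q)
  haveI := hL.1
  exact not_involves_of_realized hL.2.1 hL.2.2.1 (h.of_subsystem normalizerIn_le (normalizerSystem_sub hN))

end CfsgLib.Fsys
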