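import Cfsg.Agent.Lib.FusionSystem.TransportNormal

/-! Conjugates of components; the layer under automorphisms. -/

set_option autoImplicit false

namespace CfsgLib.Fsys.Tr

open Cfsg Cfsg.FusionSystem
open Cfsg.FusionSystem (centralizerIn normalizerIn)

universe u

variable {Ω : Type u} [Group Ω] {T T' T'' : Subgroup Ω} {E : FusionSystem T} {E' : FusionSystem T'}
  {E'' : FusionSystem T''} {h k h' k' : Ω → Ω} {p : ℕ}

namespace Transport

theorem trans (t : Transport E E' h k) (t' : Transport E' E'' h' k') :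
    Transport E E'' (h' ∘ h) (k ∘ k') := by
  refine ⟨fun x hx y hy => ?_, fun x hx => t'.mem _ (t.mem x hx), fun z hz => t.mem' _ (t'.mem' z hz),
    fun x hx => ?_, fun z hz => ?_, fun P g hg => ?_, fun P g hg => ?_⟩
  · show h' (h (x * y)) = h' (h x) * h' (h y)
    rw [t.map_mul x hx y hy, t'.map_mul _ (t.mem x hx) _ (t.mem y hy)]
  · show k (k' (h' (h x))) = x
    rw [t'.left _ (t.mem x hx), t.left x hx]
  · show h' (h (k (k' z))) = z
    rw [t.right _ (t'.mem' z hz), t'.right z hz]
  · have h1 := t'.fwd _ _ (t.fwd P g hg)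
    have e : himg h' (himg h P) = himg (h' ∘ h) P := le_antisymm
      (himg_le fun y hy => by
        obtain ⟨x, hx, rfl⟩ := (t.mem_himg hg.le).1 hy
        exact mem_himg_of_mem (h := h' ∘ h) hx)
      (himg_le fun x hx => mem_himg_of_mem (mem_himg_of_mem hx))
    rwa [e] at h1
  · have h1 := t.bwd _ _ (t'.bwd P g hg)
    have e : himg k (himg k' P) = himg (k ∘ k') P := le_antisymm
      (himg_le fun y hy => by
        obtain ⟨x, hx, rfl⟩ := (t'.symm.mem_himg hg.le).1 hy
        exact mem_himg_of_mem (h := k ∘ k') hx)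
      (himg_le fun x hx => mem_himg_of_mem (mem_himg_of_mem hx))
    rwa [e] at h1

theorem congr (t : Transport E E' h k) (he : ∀ x ∈ T, h x = h' x) : Transport E E' h' k := by
  refine ⟨fun x hx y hy => ?_, fun x hx => he x hx ▸ t.mem x hx, t.mem', fun x hx => ?_, fun y hy => ?_,
    fun P g hg => ?_, fun P g hg => ?_⟩
  · rw [← he x hx, ← he y hy, ← he _ (T.mul_mem hx hy)]
    exact t.map_mul x hx y hy
  · rw [← he x hx]
    exact t.left x hx
  · rw [← he _ (t.mem' y hy)]
    exact t.right y hy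
  · rw [← himg_congr fun x hx => he x (hg.le hx)]
    exact (t.fwd P g hg).congr fun y hy => he _ (hg.mem (by
      obtain ⟨x, hx, rfl⟩ := (t.mem_himg hg.le).1 hy
      rwa [t.left x (hg.le hx)]))
  · exact (t.bwd P g hg).congr fun x hx => by
      obtain ⟨y, hy, rfl⟩ := (t.symm.mem_himg hg.le).1 hx
      show k (g (h (k y))) = k (g (h' (k y)))
      rw [he _ (t.mem' y (hg.le hy))]

end Transport

/-- An invariant subsystem is carried onto itself by the automorphisms of its base. -/
theorem transport_aut {S : Subgroup Ω} {F : FusionSystem S} {U : Subgroup Ω} {D : FusionSystem U}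
    (hD : D.IsInvariantIn F) {α : MulAut U} (hα : α ∈ F.autGroup U) :
    Transport D D (autFn α) (autFn α⁻¹) := by
  have key : ∀ {β : MulAut U}, β ∈ F.autGroup U → ∀ (P : Subgroup Ω) (g : Ω → Ω), Fn D P g →
      Fn D (himg (autFn β) P) (fun y => autFn β (g (autFn β⁻¹ y))) := fun {β} hβ P g hg => by
    obtain ⟨χ, hχ, hχe⟩ := Invariant.aut hD hg.le hg hβ
    refine hχ.congr fun y hy => ?_
    obtain ⟨x, hx, rfl⟩ := (((mem_autGroup_iff_fn hD.2.1.1).1 hβ).mono hg.le).mem_img.1 hy
    show _ = autFn β (g (autFn β⁻¹ (autFn β x)))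
    rw [autFn_inv_apply β (hg.le hx)]
    exact hχe x hx
  refine ⟨fun x hx y hy => ((mem_autGroup_iff_fn hD.2.1.1).1 hα).map_mul hx hy, fun x hx => autFn_mem α hx,
    fun x hx => autFn_mem _ hx, fun x hx => autFn_inv_apply α hx, fun x hx => autFn_apply_inv α hx,
    key hα, fun P g hg => ?_⟩
  have h := key (inv_mem hα) P g hg
  rwa [inv_inv] at h

/-- A system is invariant in itself, as far as automorphisms of the base go. -/
theorem transport_self {S : Subgroup Ω} {F : FusionSystem S} {α : MulAut S} (hα : α ∈ F.autGroup S) :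
    Transport F F (autFn α) (autFn α⁻¹) := by
  have key : ∀ {β : MulAut S}, β ∈ F.autGroup S → ∀ (P : Subgroup Ω) (g : Ω → Ω), Fn F P g →
      Fn F (himg (autFn β) P) (fun y => autFn β (g (autFn β⁻¹ y))) := fun {β} hβ P g hg => by
    have hi := (mem_autGroup_iff_fn le_rfl).1 (inv_mem hβ)
    have hb := (mem_autGroup_iff_fn le_rfl).1 hβ
    have hm : ∀ y ∈ himg (autFn β) P, autFn β⁻¹ y ∈ P := fun y hy => by
      obtain ⟨x, hx, rfl⟩ := ((hb.mono hg.le)).mem_img.1 hy
      rwa [autFn_inv_apply β (hg.le hx)]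
    exact ((hi.mono (himg_le fun x hx => autFn_mem β (hg.le hx))).comp hg hm).comp hb fun y hy => hg.mem (hm y hy)
  refine ⟨fun x hx y hy => ((mem_autGroup_iff_fn le_rfl).1 hα).map_mul hx hy, fun x hx => autFn_mem α hx,
    fun x hx => autFn_mem _ hx, fun x hx => autFn_inv_apply α hx, fun x hx => autFn_apply_inv α hx,
    key hα, fun P g hg => ?_⟩
  have h := key (inv_mem hα) P g hg
  rwa [inv_inv] at h

/-- Conjugates of subnormal subsystems are subnormal. -/
theorem subnormal_conj {U S : Subgroup Ω} {C : FusionSystem U} {F : FusionSystem S}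
    (hC : C.IsSubnormalIn F p) [Fact p.Prime] :
    Finite S → IsPGroup p S → ∀ {γ : Ω → Ω}, Fn F U γ →
      ∃ (C' : FusionSystem (himg γ U)) (k : Ω → Ω), Transport C C' γ k ∧ C'.IsSubnormalIn F p := by
  revert ‹Fact p.Prime›
  induction hC with
  | @refl G q =>
    intro _ hfin hS γ hγ
    obtain ⟨α, hα, hαe⟩ := exists_aut_of_fn hγ (hγ.img_eq_self fun x hx => hγ.mem hx)
    have t := (transport_self hα).congr (h' := γ) fun x hx => (autFn_coe α ⟨x, hx⟩).trans (hαe ⟨x, hx⟩)
    have e : himg γ U = U := hγ.img_eq_self fun x hx => hγ.mem hx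
    rw [e]
    exact ⟨G, _, t, .refl _ _⟩
  | @step W R C D G q hCD hDF ih =>
    intro _ hfin hS γ hγ
    have hW := hDF.1.2.2.2.1.1
    have hUW : U ≤ W := subnormal_le hCD
    haveI := finite_of_le_base hW
    obtain ⟨α, hα, e, he, hγe⟩ := Invariant.frattini hDF.1.2.2 hUW hγ
    obtain ⟨C₁, k₁, t₁, hsub₁⟩ := ih inferInstance (hS.to_le hW) he
    obtain ⟨C₂, t₂, hsub₂⟩ := subnormal_image hsub₁ inferInstance (hS.to_le hW) (transport_aut hDF.1.2.2 hα)
    have t := (t₁.trans t₂).congr (h' := γ) fun x hx => (hγe x hx).symm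
    have ee : himg (autFn α) (himg e U) = himg γ U := by rw [← t.himg_base]
    revert C₂
    rw [ee]
    intro C₂ t₂ hsub₂ t
    exact ⟨C₂, _, t, .step hsub₂ hDF⟩

/-- Conjugates of components are components. -/
theorem component_conj {U S : Subgroup Ω} [Finite S] [Fact p.Prime] (hS : IsPGroup p S) {C : FusionSystem U}
    {F : FusionSystem S} (hC : C.IsComponentIn F p) {γ : Ω → Ω} (hγ : Fn F U γ) :
    ∃ (C' : FusionSystem (himg γ U)) (k : Ω → Ω), Transport C C' γ k ∧ C'.IsComponentIn F p := by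
  obtain ⟨C', k, t, hsub⟩ := subnormal_conj hC.1 inferInstance hS hγ
  haveI := finite_of_le_base (subnormal_le hC.1)
  exact ⟨C', k, t, hsub, t.quasisimple (hS.to_le (subnormal_le hC.1)) hC.2⟩

/-- A system is determined by a transport onto it. -/
theorem transport_unique {E₁ E₂ : FusionSystem T'} {k₁ k₂ : Ω → Ω} (t₁ : Transport E E₁ h k₁)
    (t₂ : Transport E E₂ h k₂) : E₁ = E₂ := by
  have key : ∀ {A B : FusionSystem T'} {a b : Ω → Ω}, Transport E A h a → Transport E B h b →
      ∀ P, A.Hom P ⊆ B.Hom P := by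
    intro A B a b ta tb P φ hφ
    have hP := (A.le_of_mem hφ).1
    have hg := tb.fwd _ _ (ta.bwd P _ (fn_ofHom hφ))
    have e : himg h (himg a P) = P := ta.symm.himg_himg hP
    rw [e] at hg
    refine mem_hom_iff.2 (hg.congr fun y hy => ?_)
    have hab : b y = a y := tb.inj (tb.mem' y (hP hy)) (ta.mem' y (hP hy))
      (by rw [tb.right y (hP hy), ta.right y (hP hy)])
    show h (a (ofHom φ (h (b y)))) = ofHom φ y
    rw [hab, ta.right y (hP hy), ta.right _ ((fn_ofHom hφ).mem hy)]
  exact system_ext fun P => Set.Subset.antisymm (key t₁ t₂ P) (key t₂ t₁ P)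

/-- The image of a layer contains the layer. -/
theorem layer_le_image {S : Subgroup Ω} [Finite S] [Fact p.Prime] (hS : IsPGroup p S) {F : FusionSystem S}
    (t : Transport F F h k) {U : Subgroup Ω} {L : FusionSystem U} (hL : L.IsLayerOf F p) :
    ∃ L' : FusionSystem (himg h U), Transport L L' h k ∧ L.IsSubsystemOf L' := by
  obtain ⟨hn, hcomp, hmin⟩ := hL
  obtain ⟨L', s⟩ := t.exists_image hn.1.2.2.2.1.1 L
  refine ⟨L', s, hmin _ L' (t.normal s hS hn) fun W C hC => ?_⟩
  obtain ⟨C₀, r, hsub⟩ := subnormal_image hC.1 inferInstance hS t.symm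
  haveI := finite_of_le_base (subnormal_le hC.1)
  have hC₀ : C₀.IsComponentIn F p := ⟨hsub, r.quasisimple (hS.to_le (subnormal_le hC.1)) hC.2⟩
  exact s.subsystem r.symm (hcomp _ C₀ hC₀)

theorem imageAlong_le_himg {S P : Subgroup Ω} {a : S →* Ω} (hP : P ≤ S) : imageAlong a P ≤ himg (th a) P :=
  fun y hy => by
    obtain ⟨x, hx, -, rfl⟩ := mem_imageAlong.1 hy
    exact mem_himg_of_mem hx

theorem himg_le_imageAlong {S P : Subgroup Ω} {a : S →* Ω} (hP : P ≤ S) : himg (th a) P ≤ imageAlong a P :=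
  himg_le fun _ hx => th_mem_imageAlong hx (hP hx)

end CfsgLib.Fsys.Tr
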