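import Cfsg.Agent.Lib.FusionSystem.Alperin
/-
Maps agreeing on a centric subgroup differ by an element of its centre; consequences for subsystems.
-/
set_option autoImplicit false

namespace CfsgLib.Fsys

open Cfsg
open Cfsg.FusionSystem (centralizerIn normalizerIn)

variable {Ω : Type*} [Group Ω] {S : Subgroup Ω} {F E : FusionSystem S} {P Q R : Subgroup Ω}

theorem isCentric_mono (hQ : F.IsCentric Q) (hQR : Q ≤ R) (hR : R ≤ S) : F.IsCentric R := by
  refine ⟨hR, fun R' hR' => ?_⟩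
  obtain ⟨f, hf, rfl⟩ := isConj_iff.1 hR'
  refine fun c hc => img_mono hQR (hQ.2 _ (isConj_of_fn (hf.mono hQR)) ?_)
  exact mem_centralizerIn.2 ⟨(mem_centralizerIn.1 hc).1,
    fun y hy => (mem_centralizerIn.1 hc).2 y (img_mono hQR hy)⟩

theorem Fn.restrict_le {f : Ω → Ω} (hle : E ≤ F) (h : Fn E P f) : Fn F P f := by
  obtain ⟨φ, hφ, hf⟩ := h
  exact ⟨φ, hle P hφ, hf⟩

variable [Finite S]

/-- A centric subgroup stays centric and is fully centralized in any subsystem over `S`. -/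
theorem isCentric_of_le (hle : E ≤ F) (hQ : F.IsCentric Q) :
    E.IsCentric Q ∧ E.IsFullyCentralized Q := by
  have hconj : ∀ Q', E.IsConj Q Q' → F.IsConj Q Q' := fun Q' ⟨φ, hφ, h⟩ => ⟨φ, hle Q hφ, h⟩
  refine ⟨⟨hQ.1, fun Q' h => hQ.2 Q' (hconj Q' h)⟩, hQ.1, fun Q' h => ?_⟩
  obtain ⟨f, hf, rfl⟩ := isConj_iff.1 (hconj Q' h)
  obtain ⟨g, hg, hgf, hgi⟩ := hf.exists_inv
  exact card_le_of_map_le centralizerIn_le (hg.mono (hQ.2 _ (isConj_of_fn hf))) fun c hc =>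
    hg.map_centralizer le_rfl hgi (hQ.2 _ (isConj_of_fn hf) hc) hc

variable {p : ℕ} [Fact p.Prime] (hS : IsPGroup p S) (hF : F.IsSaturated p)
include hS hF

theorem rigidity_step (hQ : F.IsCentric Q) (hQR : Q ≤ R) (hRn : R ≤ Subgroup.normalizer (Q : Set Ω))
    {f g : Ω → Ω} (hf : Fn F R f) (hg : Fn F R g) (he : ∀ x ∈ Q, f x = g x) :
    ∃ z ∈ Q, (∀ x ∈ Q, x * z = z * x) ∧ ∀ y ∈ R, g y = f (z * y * z⁻¹) := by
  have hR := hf.le
  have := finite_of_le_base hR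
  have hcQ : centralizerIn S (img f Q) ≤ img f Q := hQ.2 _ (isConj_of_fn (hf.mono hQR))
  have hstep : ∀ x ∈ R, ∃ c ∈ Q, g x = f (x * c) ∧ ∀ q ∈ Q, q * c = c * q := by
    intro x hx
    have hc : (f x)⁻¹ * g x ∈ centralizerIn S (img f Q) := by
      refine mem_centralizerIn.2 ⟨S.mul_mem (S.inv_mem (hf.mem hx)) (hg.mem hx), fun y hy => ?_⟩
      obtain ⟨q, hq, rfl⟩ := (hf.mono hQR).mem_img.1 hy
      have hq' := (mem_normalizer_iff'.1 (hRn hx)).1 q hq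
      have e : f x * f q * (f x)⁻¹ = g x * f q * (g x)⁻¹ := by
        rw [← hf.map_conj hx (hQR hq), he q hq, ← hg.map_conj hx (hQR hq), he _ hq']
      calc f q * ((f x)⁻¹ * g x) = (f x)⁻¹ * (f x * f q * (f x)⁻¹) * g x := by group
        _ = (f x)⁻¹ * (g x * f q * (g x)⁻¹) * g x := by rw [e]
        _ = (f x)⁻¹ * g x * f q := by group
    obtain ⟨c, hcQ', hce⟩ := (hf.mono hQR).mem_img.1 (hcQ hc)
    refine ⟨c, hcQ', ?_, fun q hq => ?_⟩
    · rw [hf.map_mul hx (hQR hcQ'), hce, mul_inv_cancel_left]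
    · refine hf.inj (R.mul_mem (hQR hq) (hQR hcQ')) (R.mul_mem (hQR hcQ') (hQR hq)) ?_
      rw [hf.map_mul (hQR hq) (hQR hcQ'), hf.map_mul (hQR hcQ') (hQR hq), hce]
      exact (mem_centralizerIn.1 hc).2 _ (mem_img_of_mem hq)
  have hgi : img g R = img f R := by
    refine eq_of_le_of_card hf.img_le_base (img_le fun x hx => ?_) (by rw [hf.card_img, hg.card_img])
    obtain ⟨c, hc, hce, -⟩ := hstep x hx
    exact hce ▸ mem_img_of_mem (R.mul_mem hx (hQR hc))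
  obtain ⟨f', hf', hf'f, hf'i⟩ := hf.exists_inv
  have hcomp : Fn F R (f' ∘ g) := hg.comp hf' fun x hx => hgi.le (mem_img_of_mem hx)
  obtain ⟨α, hα, hαe⟩ := exists_aut_of_fn hcomp (by rw [hg.img_comp, hgi, hf'i])
  have hαc : ∀ x : R, ∃ c ∈ Q, ((α x : R) : Ω) = x * c ∧ ∀ q ∈ Q, q * c = c * q := fun x => by
    obtain ⟨c, hc, hce, hcc⟩ := hstep x x.2
    refine ⟨c, hc, ?_, hcc⟩
    rw [hαe, Function.comp_apply, hce, hf'f _ (R.mul_mem x.2 (hQR hc))]
  have hαQ : ∀ x : R, (x : Ω) ∈ Q → α x = x := fun x hx => Subtype.ext <| by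
    rw [hαe, Function.comp_apply, ← he _ hx, hf'f _ x.2]
  obtain ⟨R', hR', hA, hr⟩ := hF R hR
  obtain ⟨h, hh, hhi⟩ := isConj_iff.1 hR'
  obtain ⟨e, hev, hmap⟩ := exists_transport hR hh hhi
  have hpow : ∀ (k : ℕ) (x : R), ∀ c ∈ Q, ((α x : R) : Ω) = x * c →
      (((α ^ k) x : R) : Ω) = x * c ^ k := by
    intro k x c hc hce
    induction k with
    | zero => simp
    | succ k ih =>
      have hk : (α ^ k) x = x * ⟨c ^ k, hQR (Q.pow_mem hc k)⟩ := Subtype.ext ih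
      rw [pow_succ', MulAut.mul_apply, hk, map_mul, hαQ ⟨c ^ k, _⟩ (Q.pow_mem hc k)]
      show ((α x : R) : Ω) * c ^ k = _
      rw [hce, pow_succ', mul_assoc]
  have hαp : ∃ k : ℕ, α ^ p ^ k = 1 := by
    obtain ⟨k, hk⟩ := IsPGroup.iff_card.1 (hS.to_le hR)
    refine ⟨k, MulEquiv.ext fun x => Subtype.ext ?_⟩
    obtain ⟨c, hc, hce, -⟩ := hαc x
    rw [hpow _ x c hc hce]
    have : (⟨c, hQR hc⟩ : R) ^ p ^ k = 1 := hk ▸ pow_card_eq_one'
    rw [show c ^ p ^ k = 1 from congrArg Subtype.val this]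
    simp
  have hTle : (Subgroup.zpowers α).map (MulAut.congr e).toMonoidHom ≤ F.autGroup R' :=
    hmap ▸ Subgroup.map_mono (Subgroup.zpowers_le.2 hα)
  have hTp : IsPGroup p ((Subgroup.zpowers α).map (MulAut.congr e).toMonoidHom) := by
    refine IsPGroup.map ?_ _
    rintro ⟨β, hβ⟩
    obtain ⟨m, rfl⟩ := Subgroup.mem_zpowers_iff.1 hβ
    obtain ⟨k, hk⟩ := hαp
    refine ⟨k, Subtype.ext ?_⟩
    show (α ^ m) ^ p ^ k = 1
    rw [← zpow_natCast (α ^ m), ← zpow_mul, mul_comm, zpow_mul, zpow_natCast, hk, one_zpow]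
  have := finite_of_le_base hA.1
  obtain ⟨γ, hγ, hγT⟩ := exists_conj_into hS hA hTle hTp
  obtain ⟨s, hs, hse⟩ :=
    mem_autInducedBy.1 (hγT (MulAut.congr e α) ⟨α, Subgroup.mem_zpowers α, rfl⟩)
  have hsx : ∀ x : R, ((γ (e (α x)) : R') : Ω) = s * ((γ (e x) : R') : Ω) * s⁻¹ := fun x => by
    have := hse (γ (e x))
    simpa [MulAut.congr] using this
  let Q'' := img (fun x => autFn γ (h x)) Q
  have hh2 : Fn F R (fun x => autFn γ (h x)) :=
    hh.comp ((mem_autGroup_iff_fn hA.1).1 hγ) fun x hx => hhi.le (mem_img_of_mem hx)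
  have hval : ∀ x : R, autFn γ (h x) = ((γ (e x) : R') : Ω) := fun x => by rw [← hev, autFn_coe]
  have hsC : s ∈ centralizerIn S Q'' := by
    refine mem_centralizerIn.2 ⟨hs, fun y hy => ?_⟩
    obtain ⟨q, hq, rfl⟩ := (hh2.mono hQR).mem_img.1 hy
    have := hsx ⟨q, hQR hq⟩
    rw [hαQ ⟨q, hQR hq⟩ hq, ← hval, eq_mul_inv_iff_mul_eq] at this
    exact this
  have hsQ := hQ.2 _ (isConj_of_fn (hh2.mono hQR)) hsC
  obtain ⟨z, hz, hzs⟩ := (hh2.mono hQR).mem_img.1 hsQ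
  refine ⟨z, hz, fun x hx => ?_, fun y hy => ?_⟩
  · refine hh2.inj (R.mul_mem (hQR hx) (hQR hz)) (R.mul_mem (hQR hz) (hQR hx)) ?_
    rw [hh2.map_mul (hQR hx) (hQR hz), hh2.map_mul (hQR hz) (hQR hx), hzs]
    exact (mem_centralizerIn.1 hsC).2 _ (mem_img_of_mem hx)
  · have h1 := hsx ⟨y, hy⟩
    rw [← hval, ← hval, ← hzs, ← hh2.map_conj (hQR hz) hy] at h1
    have h2 : ((α ⟨y, hy⟩ : R) : Ω) = z * y * z⁻¹ :=
      hh2.inj (α ⟨y, hy⟩).2 (R.mul_mem (R.mul_mem (hQR hz) hy) (R.inv_mem (hQR hz))) h1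
    rw [hαe, Function.comp_apply] at h2
    have h3 : g y ∈ img f R := hgi.le (mem_img_of_mem hy)
    obtain ⟨w, hw, hwy⟩ := hf.mem_img.1 h3
    rw [← hwy, hf'f w hw] at h2
    rw [← hwy, h2]

/-- Two maps agreeing on a centric subgroup differ by conjugation by a central element of it. -/
theorem rigidity (hQ : F.IsCentric Q) (hQP : Q ≤ P) {f g : Ω → Ω} (hf : Fn F P f) (hg : Fn F P g)
    (he : ∀ x ∈ Q, f x = g x) :
    ∃ z ∈ Q, (∀ x ∈ Q, x * z = z * x) ∧ ∀ y ∈ P, g y = f (z * y * z⁻¹) := by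
  refine induction_down (S := S) (C := fun Q => F.IsCentric Q → Q ≤ P → ∀ f g : Ω → Ω,
    Fn F P f → Fn F P g → (∀ x ∈ Q, f x = g x) →
    ∃ z ∈ Q, (∀ x ∈ Q, x * z = z * x) ∧ ∀ y ∈ P, g y = f (z * y * z⁻¹)) Q hQ.1 ?_ hQ hQP f g hf hg he
  intro Q _ ih hQ hQP f g hf hg he
  rcases eq_or_lt_of_le hQP with rfl | hlt
  · exact ⟨1, Q.one_mem, fun x _ => by simp, fun y hy => by simpa using (he y hy).symm⟩
  let R := P ⊓ Subgroup.normalizer (Q : Set Ω)
  have hQR : Q < R := by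
    obtain ⟨n, hn, hnN, hnQ⟩ := exists_mem_normalizer_not_mem hS hf.le hlt
    exact lt_of_le_of_ne (le_inf hQP Subgroup.le_normalizer) fun e => hnQ (e ▸ ⟨hn, hnN.2⟩)
  obtain ⟨z, hz, hzc, hze⟩ :=
    rigidity_step hS hF hQ hQR.le inf_le_right (hf.mono inf_le_left) (hg.mono inf_le_left) he
  have hRS : R ≤ S := inf_le_left.trans hf.le
  have hcard : Nat.card Q < Nat.card R := by
    have := finite_of_le_base hRS
    simpa only [SetLike.coe_sort_coe] using Set.Finite.card_lt_card (Set.toFinite (R : Set Ω)) hQR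
  have hf' : Fn F P (f ∘ fun y => z * y * z⁻¹) :=
    (fn_conj hf.le (hQ.1 hz)).comp hf fun y hy =>
      P.mul_mem (P.mul_mem (hQP hz) hy) (P.inv_mem (hQP hz))
  obtain ⟨z', hz', hzc', hze'⟩ := ih R hRS hcard (isCentric_mono hQ hQR.le hRS) inf_le_left _ g hf' hg
    fun x hx => (hze x hx).symm
  have hz'C : ∀ x ∈ Q, x * z' = z' * x := fun x hx => hzc' x (hQR.le hx)
  have hz'Q : z' ∈ Q := centralizer_le_of_centric hQ (mem_centralizerIn.2 ⟨hf.le hz'.1, hz'C⟩)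
  refine ⟨z * z', Q.mul_mem hz hz'Q, fun x hx => ?_, fun y hy => ?_⟩
  · rw [← mul_assoc, hzc x hx, mul_assoc, hz'C x hx, ← mul_assoc]
  · rw [hze' y hy]
    show f (z * (z' * y * z'⁻¹) * z⁻¹) = _
    congr 1
    group

/-- If the restriction of a map of `F` to a centric subgroup lies in a saturated subsystem, so does the map. -/
theorem fn_of_restrict (hle : E ≤ F) (hE : E.IsSaturated p) (hQ : F.IsCentric Q) (hQP : Q ≤ P)
    {f : Ω → Ω} (hf : Fn F P f) (hfE : Fn E Q f) : Fn E P f := by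
  refine induction_down (S := S) (C := fun Q => F.IsCentric Q → Q ≤ P → Fn E Q f → Fn E P f) Q hQ.1 ?_
    hQ hQP hfE
  intro Q _ ih hQ hQP hfE
  rcases eq_or_lt_of_le hQP with rfl | hlt
  · exact hfE
  let R := P ⊓ Subgroup.normalizer (Q : Set Ω)
  have hQR : Q < R := by
    obtain ⟨n, hn, hnN, hnQ⟩ := exists_mem_normalizer_not_mem hS hf.le hlt
    exact lt_of_le_of_ne (le_inf hQP Subgroup.le_normalizer) fun e => hnQ (e ▸ ⟨hn, hnN.2⟩)
  have hRS : R ≤ S := inf_le_left.trans hf.le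
  have himg : F.IsCentric (img f Q) := by
    refine ⟨(hf.mono hQP).img_le_base, fun Q' hQ' => hQ.2 Q' (isConj_trans (isConj_of_fn (hf.mono hQP)) hQ')⟩
  obtain ⟨N, k, hk, hQN, hN, hke⟩ := receptive_extend
    (fullyCentralized_receptive hS hE (isCentric_of_le hle himg).2) hfE rfl
  have hRN : R ≤ N := fun n hn => (hN n).2
    ⟨hRS hn, hn.2, f n, hf.mem hn.1, fun x hx => hf.map_conj hn.1 (hQP hx)⟩
  obtain ⟨z, hz, -, hze⟩ := rigidity hS hF hQ hQR.le ((hk.mono hRN).restrict_le hle) (hf.mono inf_le_left)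
    fun x hx => hke x hx
  have hfR : Fn E R f := by
    refine ((fn_conj hRS (hQ.1 hz)).comp (hk.mono hRN) fun y hy => ?_).congr fun y hy => (hze y hy).symm
    exact R.mul_mem (R.mul_mem (hQR.le hz) hy) (R.inv_mem (hQR.le hz))
  have hcard : Nat.card Q < Nat.card R := by
    have := finite_of_le_base hRS
    simpa only [SetLike.coe_sort_coe] using Set.Finite.card_lt_card (Set.toFinite (R : Set Ω)) hQR
  exact ih R hRS hcard (isCentric_mono hQ hQR.le hRS) inf_le_left hfR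

end CfsgLib.Fsys
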