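import Cfsg.Agent.Lib.FusionSystem.PrimeToPIndex
import Cfsg.Agent.Lib.FusionSystem.Criterion
import Cfsg.Agent.Lib.FusionSystem.Rigidity
import Cfsg.Prelude.Def_FusionComponents

/-! Existence of the `p'`-residual subsystem. -/

set_option autoImplicit false

namespace CfsgLib.Fsys

open Cfsg Cfsg.FusionSystem

variable {Ω : Type*} [Group Ω] {S : Subgroup Ω} [Finite S] {F : FusionSystem S} {p : ℕ} [Fact p.Prime]

/-- The least saturated subsystem of index prime to `p`, below every system with the two closure properties. -/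
theorem exists_pPrimeResidual' (hS : IsPGroup p S) (hF : F.IsSaturated p) :
    ∃ E : FusionSystem S, F.IsPPrimeResidual p E ∧ ∀ D : FusionSystem S,
      (∀ P : Subgroup Ω, F.IsCentric P → opAut p F P ≤ D.autGroup P) →
      (∀ α ∈ F.autGroup S, ∀ P : Subgroup Ω, F.IsCentric P → Fn D P (autFn α) → Fn D S (autFn α)) →
      E ≤ D := by
  classical
  let Base : FusionSystem S → Prop := fun D => ∀ P : Subgroup Ω, F.IsCentric P → opAut p F P ≤ D.autGroup P
  let E₀ : FusionSystem S := predSystem F (fun P f => ∀ D : FusionSystem S, Base D → Fn D P f)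
    (fun P f g he _ h D hD => (h D hD).congr he) (fun P hP s hs D _ => fn_conj hP hs)
    (fun P R f g _ _ hm h h' D hD => (h D hD).comp (h' D hD) hm)
    (fun P f g hf hg hgf h D hD => by
      obtain ⟨k, hk, hkf, -⟩ := (h D hD).exists_inv
      refine hk.congr fun y hy => ?_
      obtain ⟨x, hx, rfl⟩ := hf.mem_img.1 hy
      rw [hkf x hx, hgf x hx])
  have hE₀min : ∀ D, Base D → ∀ {P : Subgroup Ω} {f : Ω → Ω}, Fn E₀ P f → Fn D P f := fun D hD _ _ h =>
    (fn_predSystem.1 h).2 D hD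
  have h₀ : ∀ P : Subgroup Ω, F.IsCentric P → opAut p F P ≤ E₀.autGroup P := fun P hc τ hτ =>
    (mem_autGroup_iff_fn hc.1).2 (fn_predSystem.2 ⟨(mem_autGroup_iff_fn hc.1).1 (Subgroup.map_subtype_le _ hτ),
      fun D hD => (mem_autGroup_iff_fn hc.1).1 (hD P hc hτ)⟩)
  have hE₀F : ∀ {P : Subgroup Ω} {f : Ω → Ω}, Fn E₀ P f → Fn F P f := fun h => (fn_predSystem.1 h).1
  let EG : FusionSystem S := predSystem F (fun P g => Good F E₀ P g)
    (fun P f g he _ h => h.congr he) (fun P hP s hs => good_conj hP hs)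
    (fun P R f g hf _ hm h h' => Good.comp hf h h' hm)
    (fun P f g hf hg hgf h => Good.inv hf h hgf)
  have hgoodE₀ : ∀ {P : Subgroup Ω} {g : Ω → Ω}, Fn E₀ P g → Good F E₀ P g := fun {P g} h =>
    (fn_predSystem.1 (hE₀min EG (fun Q hQ τ hτ => (mem_autGroup_iff_fn hQ.1).2 (fn_predSystem.2
      ⟨(mem_autGroup_iff_fn hQ.1).1 (Subgroup.map_subtype_le _ hτ), good_opAut h₀ hQ hτ⟩)) h)).2
  have htrans : ∀ {P : Subgroup Ω} {g : Ω → Ω}, Fn E₀ P g → ∀ α ∈ F.autGroup S,
      Fn E₀ (img (autFn α) P) (autFn α ∘ g ∘ autFn α⁻¹) := by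
    intro P g hg α hα
    have hgF := hE₀F hg
    refine ((hgoodE₀ hg).transform hgF hα).fn ?_ fun x _ => rfl
    have hαP := (fn_autS (F := F) hα).mono hg.le
    have hαi := (fn_autS (F := F) (inv_mem hα)).mono hαP.img_le_base
    refine (hαi.comp hgF fun y hy => ?_).comp (fn_autS hα) fun y hy => ?_
    · obtain ⟨x, hx, rfl⟩ := hαP.mem_img.1 hy
      rwa [autFn_inv_apply α (hg.le hx)]
    · obtain ⟨x, hx, rfl⟩ := hαP.mem_img.1 hy
      show g (autFn α⁻¹ (autFn α x)) ∈ S
      rw [autFn_inv_apply α (hg.le hx)]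
      exact hgF.mem hx
  let A₀ : Subgroup (MulAut S) :=
    Subgroup.closure {α | α ∈ F.autGroup S ∧ ∃ P, F.IsCentric P ∧ Fn E₀ P (autFn α)}
  have hA₀ : A₀ ≤ F.autGroup S := (Subgroup.closure_le _).2 fun α h => h.1
  let C : Subgroup Ω → (Ω → Ω) → Prop := fun P f =>
    ∃ α ∈ A₀, ∃ e : Ω → Ω, Fn E₀ P e ∧ ∀ x ∈ P, f x = autFn α (e x)
  have hCone : ∀ {P : Subgroup Ω} {g : Ω → Ω}, Fn E₀ P g → C P g := fun {P g} hg =>
    ⟨1, Subgroup.one_mem _, g, hg, fun x hx => (autFn_coe (1 : MulAut S) ⟨g x, hg.mem hx⟩).symm⟩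
  let E : FusionSystem S := predSystem F C
    (fun P f g he _ ⟨α, hα, u, hu, hfu⟩ => ⟨α, hα, u, hu, fun x hx => (he x hx) ▸ hfu x hx⟩)
    (fun P hP s hs => hCone (fn_conj hP hs))
    (fun P R f g _ _ hm ⟨α, hα, u, hu, hfu⟩ ⟨β, hβ, v, hv, hgv⟩ => by
      have hw := htrans hv α⁻¹ (inv_mem (hA₀ hα))
      rw [inv_inv] at hw
      refine ⟨β * α, mul_mem hβ hα, _, hu.comp hw fun x hx => ?_, fun x hx => ?_⟩
      · rw [← autFn_inv_apply α (hu.mem hx), ← hfu x hx]
        exact mem_img_of_mem (hm x hx)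
      · show g (f x) = autFn (β * α) (autFn α⁻¹ (v (autFn α (u x))))
        rw [autFn_mul _ _ (autFn_mem _ (hv.mem (hfu x hx ▸ hm x hx))),
          autFn_apply_inv α (hv.mem (hfu x hx ▸ hm x hx)), ← hfu x hx, hgv _ (hm x hx)])
    (fun P f g hf hg hgf ⟨α, hα, u, hu, hfu⟩ => by
      obtain ⟨k, hk, hku, hki⟩ := hu.exists_inv
      have hw := htrans hk α (hA₀ hα)
      have hi : img (autFn α) (img u P) = img f P := by
        rw [← hu.img_comp]
        exact img_congr fun x hx => (hfu x hx).symm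
      rw [hi] at hw
      refine ⟨α⁻¹, inv_mem hα, _, hw, fun y hy => ?_⟩
      obtain ⟨x, hx, rfl⟩ := hf.mem_img.1 hy
      show g (f x) = autFn α⁻¹ (autFn α (k (autFn α⁻¹ (f x))))
      rw [hgf x hx, hfu x hx, autFn_inv_apply α (hu.mem hx), hku x hx, autFn_inv_apply α (hu.le hx)])
  have hEF : E.IsSubsystemOf F := fun P φ hφ => hφ.1
  have hof : ∀ {P : Subgroup Ω} {g : Ω → Ω}, Fn E₀ P g → Fn E P g := fun h =>
    fn_predSystem.2 ⟨hE₀F h, hCone h⟩
  have hE : ∀ P : Subgroup Ω, F.IsCentric P → opAut p F P ≤ E.autGroup P := fun P hc τ hτ =>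
    (mem_autGroup_iff_fn hc.1).2 (hof ((mem_autGroup_iff_fn hc.1).1 (h₀ P hc hτ)))
  have hA₀E : ∀ α ∈ A₀, Fn E S (autFn α) := fun α hα =>
    fn_predSystem.2 ⟨fn_autS (hA₀ hα), α, hα, id, fn_id le_rfl, fun x _ => rfl⟩
  have hclosed : ∀ α ∈ F.autGroup S, ∀ P : Subgroup Ω, F.IsCentric P → Fn E P (autFn α) → α ∈ A₀ := by
    intro α hα P hc h
    obtain ⟨-, α₀, hα₀, e, he, hαe⟩ := fn_predSystem.1 h
    have h1 : α₀⁻¹ * α ∈ A₀ := Subgroup.subset_closure ⟨mul_mem (inv_mem (hA₀ hα₀)) hα, P, hc,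
      he.congr fun x hx => by rw [autFn_mul _ _ (hc.1 hx), hαe x hx, autFn_inv_apply α₀ (he.mem hx)]⟩
    simpa using mul_mem hα₀ h1
  have hcent : ∀ P : Subgroup Ω, E.IsCentric P ↔ F.IsCentric P := fun P => centric_iff hS hF hE hEF
  have hsat : E.IsSaturated p := by
    refine Criterion.saturated_of_generating hS {P | F.IsCentric P} (fun P hP => hP.1)
      (fun P hP Q hQ => ?_) (fun P hP => ?_) (fun D hD => ?_) fun P hP hPn => absurd ((hcent P).1 hP) hPn
    · obtain ⟨φ, hφ, hr⟩ := hQ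
      have hc : F.IsConj P Q := ⟨φ, hEF P hφ, hr⟩
      exact ⟨isConj_le_right hc, fun R hR => hP.2 R (isConj_trans hc hR)⟩
    · have hPS : P ≤ S := hP.1
      obtain ⟨Q', hPQ', hQ'n⟩ := exists_fullyNormalized (F := F) hPS
      obtain ⟨f, hf, hfi⟩ := isConj_iff.1 hPQ'
      obtain ⟨α, hα, g, hg, hgd, hge⟩ := exists_good_decomp hS hF h₀ hf
      set Q := img g P
      have hgE : Fn E P g := hof (hgd.fn hg fun x _ => rfl)
      have hαQ : img (autFn α) Q = Q' := by
        rw [← hg.img_comp, ← hfi]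
        exact img_congr fun x hx => (hge x hx).symm
      have hαF := fn_autS (F := F) hα
      have hQS : Q ≤ S := hg.img_le_base
      have hQn : F.IsFullyNormalized Q := by
        refine ⟨hQS, fun R hR => ?_⟩
        refine (hQ'n.2 R (isConj_trans (isConj_symm (isConj_iff.2 ⟨_, hαF.mono hQS, hαQ⟩)) hR)).trans ?_
        obtain ⟨a, ha, haα, hai⟩ := (hαF.mono hQS).exists_inv
        rw [hαQ] at ha hai
        refine card_le_of_map_le normalizerIn_le ((fn_autS (F := F) (inv_mem hα)).mono normalizerIn_le)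
          fun n hn => ⟨autFn_mem _ hn.1, ?_⟩
        haveI := finite_of_le_base hQS
        refine mem_normalizer_of_map_le fun x hx => ?_
        have hfi' := fn_autS (F := F) (inv_mem hα)
        have hy : autFn α x ∈ Q' := hαQ ▸ mem_img_of_mem hx
        rw [← autFn_inv_apply α (hQS hx), ← hfi'.map_conj hn.1 (hQ'n.1 hy)]
        obtain ⟨z, hz, hzy⟩ := (hαF.mono hQS).mem_img.1 (hαQ.ge ((Subgroup.mem_normalizer_iff.1 hn.2 _).1 hy))
        rw [← hzy, autFn_inv_apply α (hQS hz)]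
        exact hz
      refine ⟨Q, isConj_of_fn hgE, ⟨hQS, ?_⟩, ?_⟩
      · haveI := finite_of_le_base hQS
        obtain ⟨hA, -⟩ := fullyNormalized_good hS hF hQn
        obtain ⟨-, T, hT⟩ := hA
        have hle : autInducedBy S Q ≤ E.autGroup Q := autInducedBy_le_autGroup hQS
        have hEA : E.autGroup Q ≤ F.autGroup Q :=
          (Subgroup.closure_le _).2 fun _ h => Subgroup.subset_closure (hEF Q h)
        have hnd : ¬ p ∣ (autInducedBy S Q).relIndex (E.autGroup Q) := fun h => by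
          apply T.not_dvd_index
          rw [hT]
          exact h.trans (Dvd.intro _ (Subgroup.relIndex_mul_relIndex _ _ _ hle hEA))
        exact ⟨CfsgLib.Fusion.Basic.sylowSubgroupOf hle (isPGroup_autInducedBy hS) hnd,
          CfsgLib.Fusion.Basic.coe_sylowSubgroupOf _ _ _⟩
      · refine receptive_of_extend hQS fun P₁ f₁ hf₁ hi₁ => ?_
        have hf₁F : Fn F P₁ f₁ := (fn_predSystem.1 hf₁).1
        obtain ⟨N, h, hh, hPN, hN, hhe⟩ := receptive_extend (fullyNormalized_receptive hS hF hQn) hf₁F hi₁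
        obtain ⟨β, hβ, e, heF, hed, hhe'⟩ := exists_good_decomp hS hF h₀ hh
        have heE₀ : Fn E₀ N e := hed.fn heF fun x _ => rfl
        have heE := hof heE₀
        obtain ⟨e', he', he'e, he'i⟩ := (heE.mono hPN).exists_inv
        have hc1 : F.IsCentric P₁ := by
          have hPQ : F.IsConj P P₁ :=
            isConj_trans (isConj_of_fn hg) (isConj_symm (isConj_iff.2 ⟨f₁, hf₁F, hi₁⟩))
          exact ⟨hf₁.le, fun R hR => hP.2 R (isConj_trans hPQ hR)⟩
        have hcQ : F.IsCentric (img e P₁) := ⟨(heF.mono hPN).img_le_base,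
          fun R hR => hc1.2 R (isConj_trans (isConj_of_fn (heF.mono hPN)) hR)⟩
        have hβA : β ∈ A₀ := hclosed β hβ _ hcQ ((he'.comp hf₁ fun y hy => he'i.le (mem_img_of_mem hy)).congr
          fun y hy => by
            obtain ⟨x, hx, rfl⟩ := (heE.mono hPN).mem_img.1 hy
            show f₁ (e' (e x)) = _
            rw [he'e x hx, ← hhe x hx, hhe' x (hPN hx)])
        refine ⟨h, fun N' hN' => ?_, hhe⟩
        have hle : N' ≤ N := fun x hx => (hN x).2 (hN' x hx)
        exact fn_predSystem.2 ⟨hh.mono hle, β, hβA, e, heE₀.mono hle, fun x hx => hhe' x (hle hx)⟩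
    · have hSc : F.IsCentric S := ⟨le_rfl, fun R hR => by
        rw [eq_of_le_of_card le_rfl (isConj_le_right hR) (isConj_card hR).ge]
        exact inf_le_left⟩
      have hbase : Base D := fun P hc τ hτ => Subgroup.subset_closure
        (hD P hc ((mem_autGroup hc.1).1 (hE P hc hτ)))
      intro P φ hφ
      obtain ⟨α, hα, e, he, hfe⟩ := hφ.2
      have hαD : Fn D S (autFn α) := by
        obtain ⟨ψ, hψ, hψα⟩ := hA₀E α hα
        exact ⟨ψ, hD S hSc hψ, hψα⟩
      exact mem_hom_of_fn ((hE₀min D hbase he).comp hαD fun x hx => he.mem hx) fun x => by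
        rw [← ofHom_coe φ x]
        exact hfe x x.2
  have hmin : ∀ D : FusionSystem S, Base D →
      (∀ α ∈ F.autGroup S, ∀ P : Subgroup Ω, F.IsCentric P → Fn D P (autFn α) → Fn D S (autFn α)) →
      E ≤ D := by
    intro D hbase hcl
    have hα₀D : ∀ α ∈ A₀, α ∈ D.autGroup S := fun α hα => by
      refine ((Subgroup.closure_le _).2 ?_) hα
      rintro β ⟨hβ, P, hc, hP⟩
      exact (mem_autGroup_iff_fn le_rfl).2 (hcl β hβ P hc (hE₀min D hbase hP))
    intro P φ hφ
    obtain ⟨α, hα, e, he, hfe⟩ := hφ.2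
    exact mem_hom_of_fn ((hE₀min D hbase he).comp ((mem_autGroup_iff_fn le_rfl).1 (hα₀D α hα))
      fun x hx => he.mem hx) fun x => by
        rw [← ofHom_coe φ x]
        exact hfe x x.2
  exact ⟨E, ⟨hsat, ⟨hEF, fun P hP => opAut_le hS hF hE hP⟩, fun D hDs hDi => hmin D (fun P hc => hDi.2 P hc.1)
    fun α hα P hc hP => fn_of_restrict hS hF (fun P φ hφ => hDi.1 P hφ) hDs hc hc.1 (fn_autS hα) hP⟩, hmin⟩

/-- The least saturated subsystem of index prime to `p`. -/
theorem exists_pPrimeResidual (hS : IsPGroup p S) (hF : F.IsSaturated p) :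
    ∃ E : FusionSystem S, F.IsPPrimeResidual p E :=
  (exists_pPrimeResidual' hS hF).imp fun _ h => h.1

/-- The residual lies in every system with the two closure properties. -/
theorem pPrimeResidual_le (hS : IsPGroup p S) (hF : F.IsSaturated p) {E : FusionSystem S}
    (hE : F.IsPPrimeResidual p E) (D : FusionSystem S)
    (h1 : ∀ P : Subgroup Ω, F.IsCentric P → opAut p F P ≤ D.autGroup P)
    (h2 : ∀ α ∈ F.autGroup S, ∀ P : Subgroup Ω, F.IsCentric P → Fn D P (autFn α) → Fn D S (autFn α)) :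
    E ≤ D := by
  obtain ⟨E', hE', hmin⟩ := exists_pPrimeResidual' hS hF
  exact fun P φ hφ => hmin D h1 h2 P (hE.2.2 E' hE'.1 hE'.2.1 P hφ)

end CfsgLib.Fsys
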