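import Cfsg.Agent.Lib.FusionSystem.Models
import Cfsg.Agent.Lib.FusionSystem.GroupNormal
/-
Normal subgroups of realizing groups give normal subsystems; minimal realizations of simple systems.
-/
set_option autoImplicit false

namespace CfsgLib.Fsys

open Cfsg
open Cfsg.FusionSystem (centralizerIn normalizerIn)
open CfsgLib.LocalEven.SylowIn (IsSylowIn)

universe u

variable {Ω : Type u} [Group Ω] {S : Subgroup Ω} {F : FusionSystem S} {P : Subgroup Ω}
variable {G : Type u} [Group G] {ι : S →* G}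

theorem th_injOn (hι : Function.Injective ι) {x y : Ω} (hx : x ∈ S) (hy : y ∈ S) (h : th ι x = th ι y) :
    x = y := by
  rw [th_apply hx, th_apply hy] at h
  exact congrArg Subtype.val (hι h)

/-- Maps of a realized system as functions. -/
theorem fn_realized_iff (hι : F.IsRealizedBy ι) {f : Ω → Ω} :
    Fn F P f ↔ P ≤ S ∧ (∀ x ∈ P, f x ∈ S) ∧ ∃ g : G, ∀ x ∈ P, th ι (f x) = g * th ι x * g⁻¹ := by
  constructor
  · rintro ⟨φ, hφ, hf⟩
    have hm := F.le_of_mem hφ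
    obtain ⟨g, hg⟩ := (hι.2 P hm.1 φ hm.2).1 hφ
    refine ⟨hm.1, fun x hx => hf ⟨x, hx⟩ ▸ hm.2 _, g, fun x hx => ?_⟩
    rw [← hf ⟨x, hx⟩, th_apply (hm.2 _), th_apply (hm.1 hx), hg ⟨x, hx⟩]
  · rintro ⟨hP, hf, g, hg⟩
    have hmul : ∀ x ∈ P, ∀ y ∈ P, f (x * y) = f x * f y := fun x hx y hy => by
      refine th_injOn hι.1 (hf _ (P.mul_mem hx hy)) (S.mul_mem (hf x hx) (hf y hy)) ?_
      rw [th_mul (hf x hx) (hf y hy), hg _ hx, hg _ hy, hg _ (P.mul_mem hx hy), th_mul (hP hx) (hP hy)]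
      group
    refine ⟨MonoidHom.mk' (fun x : P => f x) fun x y => hmul x x.2 y y.2, ?_, fun _ => rfl⟩
    refine (hι.2 P hP _ fun x => hf x x.2).2 ⟨g, fun x => ?_⟩
    rw [← th_coe (α := ι), ← th_coe (α := ι)]
    exact hg x x.2

/-- The subgroup of `S` that `ι` carries into `N`. -/
def subT (ι : S →* G) (N : Subgroup G) : Subgroup Ω := (N.comap ι).map S.subtype

theorem mem_subT {N : Subgroup G} {x : Ω} : x ∈ subT ι N ↔ x ∈ S ∧ th ι x ∈ N := by
  constructor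
  · rintro ⟨s, hs, rfl⟩
    exact ⟨s.2, by rwa [Subgroup.coe_subtype, th_coe]⟩
  · rintro ⟨hx, h⟩
    exact ⟨⟨x, hx⟩, show ι ⟨x, hx⟩ ∈ N by rwa [← th_apply hx], rfl⟩

/-- The fusion system that `N` induces on `subT ι N`. -/
def subSystem (hι : Function.Injective ι) (N : Subgroup G) : FusionSystem (subT ι N) where
  Hom P := {φ | P ≤ subT ι N ∧ (∀ x : P, φ x ∈ subT ι N) ∧ ∃ g ∈ N, ∀ x : P, th ι (φ x) = g * th ι x * g⁻¹}
  le_of_mem h := ⟨h.1, h.2.1⟩
  injective_of_mem := by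
    rintro P φ ⟨hP, hφ, g, -, hg⟩ a b hab
    have e : g * th ι (a : Ω) * g⁻¹ = g * th ι (b : Ω) * g⁻¹ := by rw [← hg, ← hg, hab]
    exact Subtype.ext (th_injOn hι (mem_subT.1 (hP a.2)).1 (mem_subT.1 (hP b.2)).1
      (mul_left_cancel (mul_right_cancel e)))
  conj_mem := by
    intro P g hP hg
    have hg' := mem_subT.1 hg
    refine ⟨hP, fun x => Subgroup.mul_mem _ (Subgroup.mul_mem _ hg (hP x.2)) (Subgroup.inv_mem _ hg),
      th ι g, hg'.2, fun x => ?_⟩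
    show th ι (g * (x : Ω) * g⁻¹) = _
    exact th_conj hg'.1 (mem_subT.1 (hP x.2)).1
  comp_mem := by
    rintro P Q φ ψ ⟨hP, hφT, g, hgH, hg⟩ ⟨-, hψT, k, hkH, hk⟩ h
    refine ⟨hP, fun x => hψT _, k * g, N.mul_mem hkH hgH, fun x => ?_⟩
    show th ι (ψ (φ.codRestrict Q h x)) = _
    rw [hk]
    show k * th ι (φ x) * k⁻¹ = _
    rw [hg]
    group
  inv_mem := by
    rintro P φ ⟨hP, hφT, g, hgH, hg⟩
    have hinj : Function.Injective φ := fun a b hab => by
      have e : g * th ι (a : Ω) * g⁻¹ = g * th ι (b : Ω) * g⁻¹ := by rw [← hg, ← hg, hab]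
      exact Subtype.ext (th_injOn hι (mem_subT.1 (hP a.2)).1 (mem_subT.1 (hP b.2)).1
        (mul_left_cancel (mul_right_cancel e)))
    have key : ∀ x : P, (P.subtype.comp (MonoidHom.ofInjective hinj).symm.toMonoidHom) ⟨φ x, ⟨x, rfl⟩⟩ = x := by
      intro x
      show (((MonoidHom.ofInjective hinj).symm ⟨φ x, _⟩ : P) : Ω) = x
      congr 1
      exact (MulEquiv.symm_apply_eq _).2 (Subtype.ext (MonoidHom.ofInjective_apply hinj).symm)
    refine ⟨_, ⟨?_, ?_, g⁻¹, N.inv_mem hgH, ?_⟩, key⟩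
    · rintro _ ⟨x, rfl⟩
      exact hφT x
    · rintro ⟨_, x, rfl⟩
      rw [key x]
      exact hP x.2
    · rintro ⟨_, x, rfl⟩
      rw [key x]
      show th ι (x : Ω) = g⁻¹ * th ι (φ x) * g⁻¹⁻¹
      rw [hg]
      group

theorem fn_subSystem {hι : Function.Injective ι} {N : Subgroup G} {f : Ω → Ω} :
    Fn (subSystem hι N) P f ↔
      P ≤ subT ι N ∧ (∀ x ∈ P, f x ∈ subT ι N) ∧ ∃ g ∈ N, ∀ x ∈ P, th ι (f x) = g * th ι x * g⁻¹ := by
  constructor
  · rintro ⟨φ, ⟨hP, hφ, g, hg, hφg⟩, hf⟩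
    exact ⟨hP, fun x hx => hf ⟨x, hx⟩ ▸ hφ ⟨x, hx⟩, g, hg, fun x hx => hf ⟨x, hx⟩ ▸ hφg ⟨x, hx⟩⟩
  · rintro ⟨hP, hf, g, hg, hfg⟩
    have hS : ∀ x ∈ P, x ∈ S := fun x hx => (mem_subT.1 (hP hx)).1
    have hfS : ∀ x ∈ P, f x ∈ S := fun x hx => (mem_subT.1 (hf x hx)).1
    refine ⟨MonoidHom.mk' (fun x : P => f x) fun x y => ?_,
      ⟨hP, fun x => hf x x.2, g, hg, fun x => hfg x x.2⟩, fun _ => rfl⟩
    refine th_injOn hι (hfS _ (P.mul_mem x.2 y.2)) (S.mul_mem (hfS x x.2) (hfS y y.2)) ?_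
    rw [th_mul (hfS x x.2) (hfS y y.2), hfg x x.2, hfg y y.2, Subgroup.coe_mul,
      hfg _ (P.mul_mem x.2 y.2), th_mul (hS x x.2) (hS y y.2)]
    group

variable {p : ℕ} [Fact p.Prime] [Finite G]

/-- A normal subgroup of a realizing group gives a normal subsystem. -/
theorem subSystem_normal (hι : F.IsRealizedBy ι) (hT : ∃ T : Sylow p G, (T : Subgroup G) = ι.range)
    (N : Subgroup G) [hN : N.Normal] : (subSystem hι.1 N).IsNormalIn F p := by
  obtain ⟨R, hR⟩ := hT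
  have hF := realized_saturated hι ⟨R, hR⟩
  have hTs := isSylowIn_inter_normal (H := N) R
  have : Finite S := Finite.of_injective ι hι.1
  set T := subT ι N with hTdef
  set E := subSystem hι.1 N
  have hTS : T ≤ S := fun x hx => (mem_subT.1 hx).1
  have hback : ∀ {z : G}, z ∈ (R : Subgroup G) ⊓ N → ∃ x ∈ T, th ι x = z := by
    intro z hz
    obtain ⟨s, rfl⟩ := (hR.le hz.1 : z ∈ ι.range)
    exact ⟨s, mem_subT.2 ⟨s.2, by rw [th_coe]; exact hz.2⟩, th_coe s⟩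
  have hfwd : ∀ {x : Ω}, x ∈ T → th ι x ∈ (R : Subgroup G) ⊓ N := fun {x} hx =>
    ⟨hR.ge (th_mem_range (hTS hx)), (mem_subT.1 hx).2⟩
  have hsub : E.IsSubsystemOf F := fun Q φ ⟨hQ, hφ, g, _, hg⟩ =>
    (hι.2 Q (hQ.trans hTS) φ fun x => hTS (hφ x)).2 ⟨g, fun x => by
      rw [← th_coe (α := ι), ← th_coe (α := ι)]; exact hg x⟩
  have hsc : F.StronglyClosed T := by
    refine stronglyClosed_iff_fn.2 ⟨hTS, fun Q f hf x hx hxT => ?_⟩
    obtain ⟨-, hfS, g, hg⟩ := (fn_realized_iff hι).1 hf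
    refine mem_subT.2 ⟨hfS x hx, ?_⟩
    rw [hg x hx]
    exact hN.conj_mem _ (mem_subT.1 hxT).2 g
  have haut : ∀ α ∈ F.autGroup T, ∃ a : G, ∀ x ∈ T, th ι (autFn α x) = a * th ι x * a⁻¹ := fun α hα =>
    ((fn_realized_iff hι).1 ((mem_autGroup_iff_fn hTS).1 hα)).2.2
  have hsat : E.IsSaturated p := by
    let ιN : T →* N := (ι.comp (Subgroup.inclusion hTS)).codRestrict N fun x => by
      show ι ⟨x, _⟩ ∈ N
      rw [← th_apply (hTS x.2)]
      exact (mem_subT.1 x.2).2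
    have hv : ∀ x : T, (ιN x : G) = th ι x := fun x => (th_apply (hTS x.2)).symm
    have hιN : E.IsRealizedBy ιN := by
      refine ⟨fun a b h => ?_, fun Q hQ φ hφ => ?_⟩
      · exact Subtype.ext (th_injOn hι.1 (hTS a.2) (hTS b.2) (by rw [← hv, ← hv, h]))
      · constructor
        · rintro ⟨-, -, g, hg, hgx⟩
          refine ⟨⟨g, hg⟩, fun x => Subtype.ext ?_⟩
          simp only [Subgroup.coe_mul, Subgroup.coe_inv, hv]
          exact hgx x
        · rintro ⟨g, hg⟩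
          refine ⟨hQ, hφ, g, g.2, fun x => ?_⟩
          have := congrArg Subtype.val (hg x)
          simpa only [Subgroup.coe_mul, Subgroup.coe_inv, hv] using this
    obtain ⟨R', hR'⟩ := (exists_sylow_iff hTs.1).2 hTs
    refine realized_saturated hιN ⟨R', hR'.trans ?_⟩
    ext z
    constructor
    · intro hz
      obtain ⟨x, hx, hxz⟩ := hback (show (z : G) ∈ (R : Subgroup G) ⊓ N from hz)
      exact ⟨⟨x, hx⟩, Subtype.ext ((hv _).trans hxz)⟩
    · rintro ⟨x, rfl⟩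
      show (ιN x : G) ∈ (R : Subgroup G) ⊓ N
      rw [hv]
      exact hfwd x.2
  refine ⟨⟨hsat, hF, hsub, hsc, fun Q hQ φ hφ α hα => ?_, fun Q hQ φ hφ => ?_⟩, fun α hα => ?_⟩
  · obtain ⟨-, hφT, h, hh, hφh⟩ := hφ
    obtain ⟨a, ha⟩ := haut α hα
    have hα' : ∀ x : T, th ι ((α x : T) : Ω) = a * th ι x * a⁻¹ := fun x => by
      rw [← autFn_coe]; exact ha x x.2
    have key : ∀ y ∈ (Q.subgroupOf T).map (T.subtype.comp α.toMonoidHom), ∃ x : Q, ∃ hx : φ x ∈ T,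
        y = ((α ⟨x, hQ x.2⟩ : T) : Ω) ∧
        th ι ((α ⟨φ x, hx⟩ : T) : Ω) = a * h * a⁻¹ * th ι y * (a * h * a⁻¹)⁻¹ := by
      rintro _ ⟨x, hx, rfl⟩
      refine ⟨⟨x, hx⟩, hφT _, rfl, ?_⟩
      show _ = a * h * a⁻¹ * th ι ((α x : T) : Ω) * (a * h * a⁻¹)⁻¹
      rw [hα', hα', hφh ⟨x, hx⟩]
      group
    have hvc : ∀ y : (Q.subgroupOf T).map (T.subtype.comp α.toMonoidHom),
        ∃ z ∈ T, th ι z = a * h * a⁻¹ * th ι y * (a * h * a⁻¹)⁻¹ := fun y => by
      obtain ⟨x, hx, -, e⟩ := key y y.2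
      exact ⟨_, (α _).2, e⟩
    choose χ hχT hχ using hvc
    have hyT : ∀ {y : Ω}, y ∈ (Q.subgroupOf T).map (T.subtype.comp α.toMonoidHom) → y ∈ T := by
      rintro _ ⟨x, -, rfl⟩
      exact (α x).2
    refine ⟨MonoidHom.mk' χ fun y z => th_injOn hι.1 (hTS (hχT _)) (S.mul_mem (hTS (hχT y)) (hTS (hχT z))) ?_,
      ⟨fun y hy => hyT hy, hχT, a * h * a⁻¹, hN.conj_mem h hh a, hχ⟩,
      fun x hφx hαx => ?_⟩
    · rw [hχ, th_mul (hTS (hχT y)) (hTS (hχT z)), hχ, hχ, Subgroup.coe_mul,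
        th_mul (hTS (hyT y.2)) (hTS (hyT z.2))]
      group
    · refine th_injOn hι.1 (hTS (hχT _)) (hTS (α _).2) ((hχ _).trans ?_)
      rw [hα', hα', hφh]
      group
  · obtain ⟨-, hφS, g, hg⟩ := (fn_realized_iff hι).1 (fn_ofHom hφ)
    have hU : ((R : Subgroup G) ⊓ N).map (MulAut.conj g).toMonoidHom ≤ N := by
      rintro _ ⟨x, hx, rfl⟩
      exact hN.conj_mem x hx.2 g
    obtain ⟨k, hk, hkT⟩ := sylow_conjugate_into hTs hU (hTs.2.1.map _)
    have hkg : ∀ x ∈ T, ∃ y ∈ T, th ι y = k * g * th ι x * (k * g)⁻¹ := fun x hx => by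
      refine hback ?_
      have := hkT ⟨_, ⟨_, hfwd hx, rfl⟩, rfl⟩
      simpa [mul_assoc] using this
    choose! f hfT hf using hkg
    have hfn : Fn F T f := (fn_realized_iff hι).2 ⟨hTS, fun x hx => hTS (hfT x hx), k * g, hf⟩
    obtain ⟨β, hβ, hβe⟩ := exists_aut_of_fn hfn (eq_of_le_of_card hTS (img_le hfT) hfn.card_img.ge)
    refine ⟨β, hβ, ?_⟩
    have hφg : ∀ x : Q, th ι (φ x) = g * th ι x * g⁻¹ := fun x => by
      have := hg x x.2
      rwa [ofHom_coe] at this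
    have hφT : ∀ x : Q, φ x ∈ T := fun x => by
      refine mem_subT.2 ⟨(F.le_of_mem hφ).2 x, ?_⟩
      rw [hφg x]
      exact hN.conj_mem _ (mem_subT.1 (hQ x.2)).2 g
    let φ₀ : Q →* Ω := T.subtype.comp (β.symm.toMonoidHom.comp (φ.codRestrict T hφT))
    have hm : ∀ x : Q, φ₀ x ∈ T := fun x => (β.symm _).2
    have hφ₀ : ∀ x : Q, φ x = ((β ⟨φ₀ x, hm x⟩ : T) : Ω) := fun x => by
      show φ x = ((β (β.symm ⟨φ x, hφT x⟩) : T) : Ω)
      rw [MulEquiv.apply_symm_apply]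
    refine ⟨φ₀, ⟨hQ, hm, g⁻¹ * k⁻¹ * g, ?_, fun x => ?_⟩, fun x _ => hφ₀ x⟩
    · have := hN.conj_mem _ (N.inv_mem hk) g⁻¹
      simpa [mul_assoc] using this
    · have h2 : th ι (φ x) = k * g * th ι (φ₀ x) * (k * g)⁻¹ := by
        rw [hφ₀ x, hβe]
        exact hf _ (hm x)
      rw [hφg x] at h2
      have h3 := congrArg (fun z => (k * g)⁻¹ * z * (k * g)) h2
      simp only [mul_assoc, mul_inv_rev, inv_mul_cancel_left, inv_mul_cancel, mul_one] at h3 ⊢
      rw [← h3]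
      simp [mul_assoc]
  · obtain ⟨-, -, h, hh, hαh⟩ := fn_subSystem.1 ((mem_autGroup_iff_fn le_rfl).1 hα)
    -- the same statement in the group
    have hhT : h ∈ Subgroup.normalizer (((R : Subgroup G) ⊓ N : Subgroup G) : Set G) :=
      mem_normalizer_of_map_le fun z hz => by
        obtain ⟨x, hx, rfl⟩ := hback hz
        rw [← hαh x hx]
        exact hfwd (autFn_mem α hx)
    have hmem : conjAut _ hhT ∈ (fusionSystemOfSubgroup N ((R : Subgroup G) ⊓ N) inf_le_right).autGroup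
        ((R : Subgroup G) ⊓ N) :=
      (mem_autGroup le_rfl).2 ⟨le_rfl, fun x => (conjAut _ hhT x).2, h, hh, fun x => rfl⟩
    set W := T ⊔ centralizerIn S T
    set W' := (R : Subgroup G) ⊓ N ⊔ centralizerIn (R : Subgroup G) ((R : Subgroup G) ⊓ N)
    obtain ⟨β, hβ, hβx, hβc⟩ := (normal_subsystem_of_normal (H := N) R).2 _ hmem
    obtain ⟨-, -, b, hb⟩ := fn_group_iff.1 ((mem_autGroup_iff_fn
      (sup_le inf_le_left inf_le_left)).1 hβ)
    have hWS : W ≤ S := sup_le hTS inf_le_left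
    have hCT : ∀ c ∈ centralizerIn S T, th ι c ∈ centralizerIn (R : Subgroup G) ((R : Subgroup G) ⊓ N) := by
      intro c hc
      refine mem_centralizerIn.2 ⟨hR.ge (th_mem_range hc.1), fun z hz => ?_⟩
      obtain ⟨x, hx, rfl⟩ := hback hz
      rw [← th_mul (hTS hx) hc.1, ← th_mul hc.1 (hTS hx), (mem_centralizerIn.1 hc).2 x hx]
    have hW' : ∀ {x : Ω}, x ∈ W → th ι x ∈ W' := by
      intro x hx
      have : W ≤ (W'.comap ι).map S.subtype := sup_le
        (fun x hx => ⟨⟨x, hTS hx⟩, show ι ⟨x, hTS hx⟩ ∈ W' from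
          th_apply (α := ι) (hTS hx) ▸ Subgroup.mem_sup_left (hfwd hx), rfl⟩)
        (fun c hc => ⟨⟨c, hc.1⟩, show ι ⟨c, hc.1⟩ ∈ W' from
          th_apply (α := ι) hc.1 ▸ Subgroup.mem_sup_right (hCT c hc), rfl⟩)
      obtain ⟨s, hs, rfl⟩ := this hx
      rwa [Subgroup.coe_subtype, th_coe]
    have hW'back : W' ≤ (W.subgroupOf S).map ι := sup_le
      (fun z hz => by
        obtain ⟨x, hx, rfl⟩ := hback hz
        exact ⟨⟨x, hTS hx⟩, show x ∈ W from Subgroup.mem_sup_left hx, (th_apply (hTS hx)).symm⟩)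
      (fun z hz => by
        obtain ⟨s, rfl⟩ := (hR.le hz.1 : z ∈ ι.range)
        refine ⟨s, show (s : Ω) ∈ W from Subgroup.mem_sup_right (mem_centralizerIn.2 ⟨s.2, fun x hx => ?_⟩), rfl⟩
        refine th_injOn hι.1 (S.mul_mem (hTS hx) s.2) (S.mul_mem s.2 (hTS hx)) ?_
        rw [th_mul (hTS hx) s.2, th_mul s.2 (hTS hx), th_coe]
        exact (mem_centralizerIn.1 hz).2 _ (hfwd hx))
    have hfW : ∀ x ∈ W, ∃ y ∈ W, th ι y = b * th ι x * b⁻¹ := fun x hx => by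
      obtain ⟨s, hs, he⟩ := hW'back (autFn_mem β (hW' hx))
      exact ⟨s, hs, by rw [th_coe, he]; exact hb _ (hW' hx)⟩
    choose! f hfm hf using hfW
    have hfn : Fn F W f := (fn_realized_iff hι).2 ⟨hWS, fun x hx => hWS (hfm x hx), b, hf⟩
    obtain ⟨γ, hγ, hγe⟩ := exists_aut_of_fn hfn (eq_of_le_of_card hWS (img_le hfm) hfn.card_img.ge)
    refine ⟨γ, hγ, fun x => ?_, fun c hc => ?_⟩
    · rw [hγe]
      refine th_injOn hι.1 (hWS (hfm _ (Subgroup.inclusion le_sup_left x).2)) (hTS (α x).2) ?_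
      rw [hf _ (Subgroup.inclusion le_sup_left x).2]
      show b * th ι (x : Ω) * b⁻¹ = th ι ((α x : T) : Ω)
      rw [← hb _ (hW' (Subgroup.mem_sup_left x.2)),
        ← autFn_coe α x, hαh x x.2]
      exact (autFn_coe β ⟨_, hW' (Subgroup.mem_sup_left x.2)⟩).trans (hβx ⟨_, hfwd x.2⟩)
    · rw [hγe]
      have hcW := hW' c.2
      have h1 := hβc ⟨_, hcW⟩ (hCT c hc)
      rw [← autFn_coe β] at h1
      change (th ι (c : Ω))⁻¹ * autFn β (th ι (c : Ω)) ∈ _ at h1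
      erw [hb _ hcW] at h1
      rw [← hf _ c.2, ← th_inv (hWS c.2), ← th_mul (S.inv_mem (hWS c.2)) (hWS (hfm _ c.2))] at h1
      obtain ⟨z, hz, hze⟩ := hback h1.1
      obtain rfl := th_injOn hι.1 (hTS hz) (S.mul_mem (S.inv_mem (hWS c.2)) (hWS (hfm _ c.2))) hze
      refine ⟨hz, Subgroup.mem_centralizer_iff.2 fun x hx => ?_⟩
      refine th_injOn hι.1 (S.mul_mem (hTS hx) (hTS hz)) (S.mul_mem (hTS hz) (hTS hx)) ?_
      rw [th_mul (hTS hx) (hTS hz), th_mul (hTS hz) (hTS hx)]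
      exact Subgroup.mem_centralizer_iff.1 h1.2 _ (hfwd hx)

end CfsgLib.Fsys

namespace CfsgLib.Fsys

open Cfsg
open CfsgLib.LocalEven.SylowIn (IsSylowIn)

universe u

variable {Ω : Type u} [Group Ω] {S : Subgroup Ω} {F : FusionSystem S}
variable {G : Type u} [Group G] {ι : S →* G} {p : ℕ} [Fact p.Prime] [Finite G]

/-- A quotient by a normal subgroup meeting the Sylow subgroup trivially still realizes the system. -/
theorem realized_quotient (hι : F.IsRealizedBy ι) {R : Sylow p G} (hR : (R : Subgroup G) = ι.range)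
    (N : Subgroup G) [N.Normal] (hRN : ∀ z ∈ (R : Subgroup G), z ∈ N → z = 1) :
    F.IsRealizedBy ((QuotientGroup.mk' N).comp ι) ∧
      ((R.mapSurjective (QuotientGroup.mk'_surjective N) : Sylow p (G ⧸ N)) : Subgroup (G ⧸ N)) =
        ((QuotientGroup.mk' N).comp ι).range := by
  let π := QuotientGroup.mk' N
  have hinj : Function.Injective (π.comp ι) := (injective_iff_map_eq_one _).2 fun s hs => hι.1 <| by
    rw [map_one]
    exact hRN _ (hR.ge ⟨s, rfl⟩) ((QuotientGroup.eq_one_iff _).1 hs)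
  refine ⟨⟨hinj, fun P hP φ hφ => ?_⟩, ?_⟩
  · constructor
    · intro hm
      obtain ⟨g, hg⟩ := (hι.2 P hP φ hφ).1 hm
      exact ⟨π g, fun x => by simp [π, hg x]⟩
    · rintro ⟨a, ha⟩
      obtain ⟨g, rfl⟩ := QuotientGroup.mk'_surjective N a
      let c : P →* G := (MulAut.conj g).toMonoidHom.comp (ι.comp (Subgroup.inclusion hP))
      have hd : ∀ x : P, (ι ⟨φ x, hφ x⟩)⁻¹ * c x ∈ N := fun x => by
        rw [← QuotientGroup.eq]
        exact ha x
      have hU : c.range ≤ (R : Subgroup G) ⊔ N := by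
        rintro _ ⟨x, rfl⟩
        simpa using ((R : Subgroup G) ⊔ N).mul_mem
          (Subgroup.mem_sup_left (hR.ge ⟨⟨φ x, hφ x⟩, rfl⟩)) (Subgroup.mem_sup_right (hd x))
      have : Finite S := Finite.of_injective ι hι.1
      have hp : IsPGroup p c.range := by
        have hPp : IsPGroup p P := (R.2.to_le (le_of_eq hR.symm)).of_injective
          ((ι.comp (Subgroup.inclusion hP)).codRestrict ι.range fun x => ⟨_, rfl⟩)
          fun a b e => Subgroup.inclusion_injective hP (hι.1 (congrArg Subtype.val e))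
        exact hPp.of_surjective c.rangeRestrict c.rangeRestrict_surjective
      obtain ⟨k, hk, hkU⟩ := exists_conj_kernel R N hp hU
      refine (hι.2 P hP φ hφ).2 ⟨k * g, fun x => ?_⟩
      have h1 := hkU _ ⟨x, rfl⟩
      have h2 : (ι ⟨φ x, hφ x⟩)⁻¹ * (k * c x * k⁻¹) ∈ N := by
        have := N.mul_mem (N.mul_mem (Subgroup.Normal.conj_mem inferInstance k hk (ι ⟨φ x, hφ x⟩)⁻¹) (hd x))
          (N.inv_mem hk)
        simpa [mul_assoc] using this
      have h3 := hRN _ ((R : Subgroup G).mul_mem ((R : Subgroup G).inv_mem (hR.ge ⟨⟨φ x, hφ x⟩, rfl⟩)) h1) h2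
      rw [inv_mul_eq_one] at h3
      rw [h3]
      simp [c, mul_assoc]; rfl
  · rw [Sylow.coe_mapSurjective, hR, MonoidHom.range_eq_map, MonoidHom.range_eq_map, Subgroup.map_map]

/-- A realizable simple system is realized by a proper quotient or a proper normal subgroup. -/
theorem exists_smaller_realization (hsimple : F.IsSimple p) (hι : F.IsRealizedBy ι)
    (hT : ∃ T : Sylow p G, (T : Subgroup G) = ι.range) {N : Subgroup G} [N.Normal] (hbot : N ≠ ⊥) (htop : N ≠ ⊤) :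
    ∃ (L : Type u) (_ : Group L) (_ : Finite L) (ι' : S →* L), F.IsRealizedBy ι' ∧
      (∃ T : Sylow p L, (T : Subgroup L) = ι'.range) ∧ Nat.card L < Nat.card G := by
  obtain ⟨R, hR⟩ := hT
  rcases hsimple.2.2 _ _ (subSystem_normal hι ⟨R, hR⟩ N) with h | ⟨h, hHom⟩
  · -- `N` has order prime to `p`
    let π := QuotientGroup.mk' N
    have hRN : ∀ z ∈ (R : Subgroup G), z ∈ N → z = 1 := by
      intro z hz hzN
      obtain ⟨s, rfl⟩ := (hR.le hz : z ∈ ι.range)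
      have : (s : Ω) ∈ subT ι N := mem_subT.2 ⟨s.2, by rwa [th_coe]⟩
      rw [h, Subgroup.mem_bot] at this
      rw [show s = 1 from Subtype.ext this, map_one]
    obtain ⟨hreal, hsyl⟩ := realized_quotient hι hR N hRN
    refine ⟨G ⧸ N, inferInstance, inferInstance, π.comp ι, hreal, ⟨_, hsyl⟩, ?_⟩
    rw [Subgroup.card_eq_card_quotient_mul_card_subgroup N]
    exact lt_mul_of_one_lt_right Nat.card_pos (Finite.one_lt_card_iff_nontrivial.2 ((Subgroup.nontrivial_iff_ne_bot N).2 hbot))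
  · -- `N` contains the Sylow subgroup and controls its fusion
    have hmem : ∀ s : S, ι s ∈ N := fun s => by
      rw [← th_coe (α := ι)]
      exact (mem_subT.1 (h.ge s.2)).2
    let ι' : S →* N := ι.codRestrict N hmem
    refine ⟨N, inferInstance, inferInstance, ι', ⟨fun a b e => hι.1 (congrArg Subtype.val e),
      fun P hP φ hφ => ?_⟩, ⟨R.subtype ?_, ?_⟩, ?_⟩
    · rw [← hHom P]
      constructor
      · rintro ⟨-, -, g, hg, hgx⟩
        refine ⟨⟨g, hg⟩, fun x => Subtype.ext ?_⟩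
        show ι ⟨φ x, hφ x⟩ = g * ι ⟨(x : Ω), hP x.2⟩ * g⁻¹
        rw [← th_coe (α := ι), ← th_coe (α := ι)]
        exact hgx x
      · rintro ⟨g, hg⟩
        refine ⟨h.symm ▸ hP, fun x => h.symm ▸ hφ x, g, g.2, fun x => ?_⟩
        rw [th_apply (hφ x), th_apply (hP x.2)]
        exact congrArg Subtype.val (hg x)
    · rw [hR]
      rintro _ ⟨s, rfl⟩
      exact hmem s
    · rw [Sylow.coe_subtype, hR]
      ext z
      exact ⟨fun ⟨s, hs⟩ => ⟨s, Subtype.ext hs⟩, fun ⟨s, hs⟩ => ⟨s, congrArg Subtype.val hs⟩⟩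
    · rw [← Subgroup.card_top (G := G)]
      exact card_lt_of_lt_top htop
where
  card_lt_of_lt_top {N : Subgroup G} (h : N ≠ ⊤) : Nat.card N < Nat.card (⊤ : Subgroup G) :=
    lt_of_le_of_ne (Subgroup.card_le_of_le le_top) fun e =>
      h (Subgroup.eq_of_le_of_card_ge le_top e.ge)

end CfsgLib.Fsys
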