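import Mathlib
/-
Trivialising a pair of cocycles of an action, orbit by orbit.
-/
set_option autoImplicit false

namespace CfsgLib.Fsys

/-- A cocycle of a right action with values in a group. -/
def IsActCocycle {K H D : Type*} [Group H] [Group D] (act : K → H → K) (Λ : K → H → D) : Prop :=
  ∀ k x y, Λ k (x * y) = Λ k x * Λ (act k x) y

theorem IsActCocycle.map_one {K H D : Type*} [Group H] [Group D] {act : K → H → K} {Λ : K → H → D}
    (h : IsActCocycle act Λ) (h1 : ∀ k, act k 1 = k) (k : K) : Λ k 1 = 1 := by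
  have e := h k 1 1
  rw [mul_one, h1] at e
  exact left_eq_mul.1 e

/-- Orbit representatives, with elements leading to them, of a right action. -/
theorem exists_orbit_reps {K H : Type*} [Group H] (act : K → H → K) (h1 : ∀ k, act k 1 = k)
    (hmul : ∀ k x y, act (act k x) y = act k (x * y)) :
    ∃ (rep : K → K) (w : K → H), (∀ k, act (rep k) (w k) = k) ∧ ∀ k x, rep (act k x) = rep k := by
  let s : Setoid K :=
    { r := fun a b => ∃ x, act a x = b
      iseqv :=
        { refl := fun a => ⟨1, h1 a⟩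
          symm := fun {a b} ⟨x, hx⟩ => ⟨x⁻¹, by rw [← hx, hmul, mul_inv_cancel, h1]⟩
          trans := fun {a b c} ⟨x, hx⟩ ⟨y, hy⟩ => ⟨x * y, by rw [← hmul, hx, hy]⟩ } }
  refine ⟨fun k => (Quotient.mk s k).out, fun k => Classical.choose (Quotient.mk_out (s := s) k),
    fun k => Classical.choose_spec (Quotient.mk_out (s := s) k), fun k x => ?_⟩
  exact congrArg Quotient.out (Quotient.sound (s := s) ⟨x⁻¹, by rw [hmul, mul_inv_cancel, h1]⟩)

/-- Two cocycles that agree up to conjugation on every point stabilizer are cohomologous. -/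
theorem exists_propagate {K H D : Type*} [Group H] [Group D] (act : K → H → K) (h1 : ∀ k, act k 1 = k)
    (hmul : ∀ k x y, act (act k x) y = act k (x * y)) {Λ M : K → H → D} (hΛ : IsActCocycle act Λ)
    (hM : IsActCocycle act M) (Good : K → D → Prop)
    (hstep : ∀ k x d, Good k d → Good (act k x) ((Λ k x)⁻¹ * d * M k x))
    (hseed : ∀ k, ∃ d, Good k d ∧ ∀ x, act k x = k → Λ k x * d = d * M k x) :
    ∃ f : K → D, ∀ k, Good k (f k) ∧ ∀ x, Λ k x * f (act k x) = f k * M k x := by
  obtain ⟨rep, w, hw, hrep⟩ := exists_orbit_reps act h1 hmul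
  choose d hd hds using hseed
  refine ⟨fun k => (Λ (rep k) (w k))⁻¹ * d (rep k) * M (rep k) (w k), fun k => ⟨?_, fun x => ?_⟩⟩
  · have := hstep (rep k) (w k) _ (hd (rep k))
    rwa [hw] at this
  · beta_reduce
    rw [hrep k x]
    have hv := hw (act k x)
    rw [hrep k x] at hv
    have hk := hw k
    generalize rep k = k₀ at hk hv ⊢
    generalize w k = u at hk ⊢
    generalize w (act k x) = v at hv ⊢
    have hux : act k₀ (u * x) = act k x := by rw [← hmul, hk]
    have hs : act k₀ (u * x * v⁻¹) = k₀ := by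
      rw [← hmul, hux, ← hv, hmul, mul_inv_cancel, h1]
    have eΛ : Λ k₀ (u * x * v⁻¹) * Λ k₀ v = Λ k₀ u * Λ k x := by
      have := hΛ k₀ (u * x * v⁻¹) v
      rw [inv_mul_cancel_right, hs, hΛ, hk] at this
      exact this.symm
    have eM : M k₀ (u * x * v⁻¹) * M k₀ v = M k₀ u * M k x := by
      have := hM k₀ (u * x * v⁻¹) v
      rw [inv_mul_cancel_right, hs, hM, hk] at this
      exact this.symm
    have e := hds k₀ _ hs
    calc Λ k x * ((Λ k₀ v)⁻¹ * d k₀ * M k₀ v)
        = (Λ k₀ u)⁻¹ * (Λ k₀ u * Λ k x) * (Λ k₀ v)⁻¹ * d k₀ * M k₀ v := by group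
      _ = (Λ k₀ u)⁻¹ * (Λ k₀ (u * x * v⁻¹) * d k₀) * M k₀ v := by rw [← eΛ]; group
      _ = (Λ k₀ u)⁻¹ * d k₀ * (M k₀ (u * x * v⁻¹) * M k₀ v) := by rw [e]; group
      _ = (Λ k₀ u)⁻¹ * d k₀ * M k₀ u * M k x := by rw [eM]; group

end CfsgLib.Fsys
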