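import Cfsg.Agent.Lib.FusionSystem.Rigidity
import Cfsg.Agent.Lib.FusionSystem.Inner
import Cfsg.Agent.Lib.FusionSystem.Propagate
/-
Preparations for the model theorem: a normal centric subgroup `Q` of a saturated system, the group
`A = Aut_F(Q)`, the map `S → A`, right cosets of its image and a compatible lifting cocycle.
-/
set_option autoImplicit false

namespace CfsgLib.Fsys

open Cfsg
open Cfsg.FusionSystem (centralizerIn normalizerIn)

variable {Ω : Type*} [Group Ω] {S : Subgroup Ω} {F : FusionSystem S} {Q : Subgroup Ω}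

/-- The automorphism of a normal subgroup induced by an element of `S`. -/
noncomputable def normalConj (hQ : F.IsNormal Q) : S →* F.autGroup Q where
  toFun x := ⟨conjAut Q (sc_le_normalizer (normal_stronglyClosed hQ) x.2),
    autInducedBy_le_autGroup hQ.1 (conjAut_mem_autInducedBy _ x.2)⟩
  map_one' := Subtype.ext <| MulEquiv.ext fun q => Subtype.ext <| by simp
  map_mul' x y := Subtype.ext <| MulEquiv.ext fun q => Subtype.ext <| by
    show ((x : Ω) * y) * (q : Ω) * ((x : Ω) * y)⁻¹ = (x : Ω) * (y * q * (y : Ω)⁻¹) * (x : Ω)⁻¹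
    group

/-- An element of `Aut_F(Q)` as a function. -/
noncomputable def aFn (a : F.autGroup Q) : Ω → Ω := autFn (a : MulAut Q)

theorem aFn_mem (a : F.autGroup Q) {q : Ω} (hq : q ∈ Q) : aFn a q ∈ Q := autFn_mem _ hq

theorem aFn_mul (a b : F.autGroup Q) {q : Ω} (hq : q ∈ Q) : aFn (a * b) q = aFn a (aFn b q) :=
  autFn_mul _ _ hq

theorem aFn_one {q : Ω} (hq : q ∈ Q) : aFn (1 : F.autGroup Q) q = q :=
  autFn_coe (1 : MulAut Q) ⟨q, hq⟩

theorem aFn_ext {a b : F.autGroup Q} (h : ∀ q ∈ Q, aFn a q = aFn b q) : a = b :=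
  Subtype.ext (mulAut_ext h)

theorem aFn_normalConj (hQ : F.IsNormal Q) (x : S) {q : Ω} (hq : q ∈ Q) :
    aFn (normalConj hQ x) q = x * q * (x : Ω)⁻¹ :=
  autFn_coe (conjAut Q (sc_le_normalizer (normal_stronglyClosed hQ) x.2)) ⟨q, hq⟩

theorem fn_aFn (hQ : Q ≤ S) (a : F.autGroup Q) : Fn F Q (aFn a) := (mem_autGroup_iff_fn hQ).1 a.2

theorem normalConj_conj (hQ : F.IsNormal Q) (a : F.autGroup Q) {q : Ω} (hq : q ∈ Q) :
    a * normalConj hQ ⟨q, hQ.1 hq⟩ * a⁻¹ = normalConj hQ ⟨aFn a q, hQ.1 (aFn_mem a hq)⟩ := by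
  rw [mul_inv_eq_iff_eq_mul]
  refine aFn_ext fun y hy => ?_
  rw [aFn_mul _ _ hy, aFn_normalConj hQ _ hy, aFn_mul _ _ hy, aFn_normalConj hQ _ (aFn_mem a hy)]
  exact (fn_aFn hQ.1 a).map_conj hq hy

theorem normalConj_eq_one [Finite S] (hQ : F.IsNormal Q) (hc : F.IsCentric Q) {x : S} (h : normalConj hQ x = 1) :
    (x : Ω) ∈ Q ∧ ∀ q ∈ Q, q * x = x * q := by
  have hcomm : ∀ q ∈ Q, q * (x : Ω) = x * q := fun q hq => by
    have := (aFn_normalConj hQ x hq).symm.trans (h ▸ aFn_one hq)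
    exact (mul_inv_eq_iff_eq_mul.1 this).symm
  exact ⟨centralizer_le_of_centric hc (mem_centralizerIn.2 ⟨x.2, hcomm⟩), hcomm⟩

theorem normalConj_eq_one_of (hQ : F.IsNormal Q) {x : S} (h : ∀ q ∈ Q, q * (x : Ω) = x * q) :
    normalConj hQ x = 1 :=
  aFn_ext fun q hq => by rw [aFn_normalConj hQ x hq, aFn_one hq, ← h q hq, mul_inv_cancel_right]

theorem ker_normalConj_comm [Finite S] (hQ : F.IsNormal Q) (hc : F.IsCentric Q) {x y : S} (hx : normalConj hQ x = 1)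
    (hy : normalConj hQ y = 1) : x * y = y * x :=
  Subtype.ext ((normalConj_eq_one hQ hc hy).2 _ (normalConj_eq_one hQ hc hx).1)

/-! ### Right cosets of the image -/

/-- The right cosets of the image of `S` in `Aut_F(Q)`. -/
abbrev Cos (hQ : F.IsNormal Q) : Type _ := Quotient (QuotientGroup.rightRel (normalConj hQ).range)

namespace Cos

variable {hQ : F.IsNormal Q}

/-- The action of `Aut_F(Q)` on the right cosets. -/
noncomputable def act (k : Cos hQ) (a : F.autGroup Q) : Cos hQ := Quotient.mk _ (k.out * a)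

/-- The cocycle of the action. -/
noncomputable def pr (k : Cos hQ) (a : F.autGroup Q) : F.autGroup Q := k.out * a * (k.act a).out⁻¹

theorem pr_mem (k : Cos hQ) (a : F.autGroup Q) : k.pr a ∈ (normalConj hQ).range := by
  have h : QuotientGroup.rightRel (normalConj hQ).range (k.act a).out (k.out * a) := Quotient.mk_out _
  rwa [QuotientGroup.rightRel_apply] at h

theorem act_one (k : Cos hQ) : k.act 1 = k := by
  rw [act, mul_one]
  exact k.out_eq

theorem act_eq_iff (k : Cos hQ) (a b : F.autGroup Q) :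
    k.act a = k.act b ↔ k.out * a * b⁻¹ * k.out⁻¹ ∈ (normalConj hQ).range := by
  rw [eq_comm, act, act, Quotient.eq, QuotientGroup.rightRel_apply]
  rw [mul_inv_rev, ← mul_assoc]

theorem act_eq_self_iff (k : Cos hQ) (a : F.autGroup Q) :
    k.act a = k ↔ k.out * a * k.out⁻¹ ∈ (normalConj hQ).range := by
  conv_lhs => rhs; rw [← act_one k]
  rw [act_eq_iff, inv_one, mul_one]

theorem act_mul (k : Cos hQ) (a b : F.autGroup Q) : (k.act a).act b = k.act (a * b) := by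
  refine Quotient.sound ?_
  refine (QuotientGroup.rightRel_apply).2 ?_
  have e : k.out * (a * b) * ((k.act a).out * b)⁻¹ = k.pr a := by
    rw [pr]
    group
  rw [e]
  exact pr_mem k a

theorem pr_one (k : Cos hQ) : k.pr 1 = 1 := by rw [pr, act_one, mul_one, mul_inv_cancel]

theorem pr_mul (k : Cos hQ) (a b : F.autGroup Q) : k.pr (a * b) = k.pr a * (k.act a).pr b := by
  rw [pr, pr, pr, act_mul]
  group

theorem pr_of_fixed (k : Cos hQ) {a : F.autGroup Q} (h : k.act a = k) : k.pr a = k.out * a * k.out⁻¹ := by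
  rw [pr, h]

theorem act_normalConj_mem (k : Cos hQ) {q : Ω} (hq : q ∈ Q) :
    k.act (normalConj hQ ⟨q, hQ.1 hq⟩) = k :=
  (act_eq_self_iff k _).2 (normalConj_conj hQ k.out hq ▸ ⟨_, rfl⟩)

end Cos

/-! ### Extending automorphisms of `Q` -/

/-- The subgroup of those `x ∈ S` whose action on `Q` is carried by `a` into the image of `S`. -/
noncomputable def extDom (hQ : F.IsNormal Q) (a : F.autGroup Q) : Subgroup S :=
  ((normalConj hQ).range.comap (MulAut.conj a).toMonoidHom).comap (normalConj hQ)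

theorem mem_extDom {hQ : F.IsNormal Q} {a : F.autGroup Q} {x : S} :
    x ∈ extDom hQ a ↔ a * normalConj hQ x * a⁻¹ ∈ (normalConj hQ).range := Iff.rfl

theorem le_extDom {hQ : F.IsNormal Q} (a : F.autGroup Q) {q : Ω} (hq : q ∈ Q) :
    (⟨q, hQ.1 hq⟩ : S) ∈ extDom hQ a :=
  mem_extDom.2 (normalConj_conj hQ a hq ▸ ⟨_, rfl⟩)

/-- A homomorphism of a subgroup of `S` into `S` is a map of `F`. -/
def SMor (F : FusionSystem S) (X : Subgroup S) (g : X → S) : Prop :=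
  ∃ f : Ω → Ω, Fn F (X.map S.subtype) f ∧ ∀ x : X, f ((x : S) : Ω) = g x

theorem SMor.map_mul {X : Subgroup S} {g : X → S} (h : SMor F X g) (x y : X) : g (x * y) = g x * g y := by
  obtain ⟨f, hf, e⟩ := h
  refine Subtype.ext ?_
  rw [Subgroup.coe_mul, ← e, ← e, ← e]
  exact hf.map_mul ⟨_, x.2, rfl⟩ ⟨_, y.2, rfl⟩

theorem sMor_conj (g : S) (X : Subgroup S) : SMor F X (fun x => g * x * g⁻¹) :=
  ⟨_, fn_conj (Subgroup.map_subtype_le X) g.2, fun _ => rfl⟩

theorem SMor.comp {X Y : Subgroup S} {g : X → S} {h : Y → S} (hg : SMor F X g) (hh : SMor F Y h)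
    (hm : ∀ x, g x ∈ Y) : SMor F X (fun x => h ⟨g x, hm x⟩) := by
  obtain ⟨f, hf, e⟩ := hg
  obtain ⟨f', hf', e'⟩ := hh
  refine ⟨f' ∘ f, hf.comp hf' ?_, fun x => ?_⟩
  · rintro _ ⟨x, hx, rfl⟩
    exact ⟨g ⟨x, hx⟩, hm _, (e ⟨x, hx⟩).symm⟩
  · show f' (f ((x : S) : Ω)) = _
    rw [e]
    exact e' ⟨g x, hm x⟩

theorem SMor.conj_right {X : Subgroup S} {g : X → S} (hg : SMor F X g) (b : S) :
    SMor F X (fun x => b * g x * b⁻¹) :=
  hg.comp (sMor_conj (F := F) b ⊤) (fun _ => Subgroup.mem_top _)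

theorem SMor.restrict {X Y : Subgroup S} {g : X → S} (hg : SMor F X g) (h : Y ≤ X) :
    SMor F Y (fun y => g ⟨y, h y.2⟩) := by
  obtain ⟨f, hf, e⟩ := hg
  exact ⟨f, hf.mono (Subgroup.map_mono h), fun y => e ⟨y, h y.2⟩⟩

variable {p : ℕ} [Fact p.Prime] [Finite S] (hS : IsPGroup p S) (hF : F.IsSaturated p)
  (hQ : F.IsNormal Q) (hc : F.IsCentric Q)
include hS hF

theorem exists_extension (a : F.autGroup Q) :
    ∃ g : extDom hQ a →* S, SMor F (extDom hQ a) g ∧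
      (∀ (q : Ω) (hq : q ∈ Q), ((g ⟨⟨q, hQ.1 hq⟩, le_extDom a hq⟩ : S) : Ω) = aFn a q) ∧
      ∀ x, normalConj hQ (g x) = a * normalConj hQ x * a⁻¹ := by
  have hr := fullyNormalized_receptive hS hF
    (fullyNormalized_of_weaklyClosed (weaklyClosed_of_stronglyClosed (normal_stronglyClosed hQ)))
  obtain ⟨N, f, hf, hQN, hN, hfe⟩ := receptive_extend hr (fn_aFn hQ.1 a) (img_autFn _)
  have hle : (extDom hQ a).map S.subtype ≤ N := by
    rintro _ ⟨x, hx, rfl⟩
    obtain ⟨h, hh⟩ := mem_extDom.1 hx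
    refine (hN _).2 ⟨x.2, sc_le_normalizer (normal_stronglyClosed hQ) x.2, h, h.2, fun q hq => ?_⟩
    have e := congrArg (fun b => aFn b q) (mul_inv_eq_iff_eq_mul.1 hh.symm)
    simp only [aFn_mul _ _ hq, aFn_normalConj hQ _ hq, aFn_normalConj hQ _ (aFn_mem a hq)] at e
    exact e
  have hf' := hf.mono hle
  let g : extDom hQ a →* S := MonoidHom.mk' (fun x => ⟨f ((x : S) : Ω), hf'.mem ⟨_, x.2, rfl⟩⟩)
    fun x y => Subtype.ext (hf'.map_mul ⟨_, x.2, rfl⟩ ⟨_, y.2, rfl⟩)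
  refine ⟨g, ⟨f, hf', fun x => rfl⟩, fun q hq => hfe q hq, fun x => ?_⟩
  rw [eq_mul_inv_iff_mul_eq]
  refine aFn_ext fun q hq => ?_
  rw [aFn_mul _ _ hq, aFn_mul _ _ hq, aFn_normalConj hQ _ (aFn_mem a hq), aFn_normalConj hQ _ hq]
  show f ((x : S) : Ω) * aFn a q * (f ((x : S) : Ω))⁻¹ = aFn a ((x : S) * q * ((x : S) : Ω)⁻¹)
  have hxq : ((x : S) : Ω) * q * ((x : S) : Ω)⁻¹ ∈ Q := sc_conj (normal_stronglyClosed hQ) (x : S).2 hq
  rw [← hfe q hq, ← hfe _ hxq]
  exact (hf.map_conj (hle ⟨_, x.2, rfl⟩) (hQN hq)).symm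

include hc in
/-- Two maps agreeing on `Q` differ by conjugation by an element of the kernel. -/
theorem smor_unique {X : Subgroup S} (hX : ∀ q (hq : q ∈ Q), (⟨q, hQ.1 hq⟩ : S) ∈ X) {g₁ g₂ : X → S}
    (h₁ : SMor F X g₁) (h₂ : SMor F X g₂)
    (he : ∀ q (hq : q ∈ Q), g₁ ⟨_, hX q hq⟩ = g₂ ⟨_, hX q hq⟩) :
    ∃ z : S, normalConj hQ z = 1 ∧ ∀ x : X, g₂ x = z * g₁ x * z⁻¹ := by
  obtain ⟨f₁, hf₁, e₁⟩ := h₁
  obtain ⟨f₂, hf₂, e₂⟩ := h₂
  have hQX : Q ≤ X.map S.subtype := fun q hq => ⟨⟨q, hQ.1 hq⟩, hX q hq, rfl⟩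
  obtain ⟨z, hz, hzc, hze⟩ := rigidity hS hF hc hQX hf₁ hf₂ fun q hq => by
    rw [e₁ ⟨_, hX q hq⟩, e₂ ⟨_, hX q hq⟩, he q hq]
  refine ⟨g₁ ⟨_, hX z hz⟩, normalConj_eq_one_of hQ fun q hq => ?_, fun x => Subtype.ext ?_⟩
  · obtain ⟨φ, hφ, hφ', hi⟩ := (normal_iff_fn.1 hQ).2 _ f₁ hf₁
    have hiQ : img f₁ Q = Q := (img_congr fun y hy => (hφ' y (hQX hy)).symm).trans hi
    obtain ⟨y, hy, rfl⟩ := (hf₁.mono hQX).mem_img.1 (hiQ.ge hq)
    rw [← e₁ ⟨_, hX z hz⟩]
    rw [← hf₁.map_mul (hQX hy) (hQX hz), ← hf₁.map_mul (hQX hz) (hQX hy), hzc y hy]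
  · have hxm : ((x : S) : Ω) ∈ X.map S.subtype := ⟨_, x.2, rfl⟩
    rw [← e₂, hze _ hxm]
    rw [hf₁.map_conj (hQX hz) hxm]
    rw [Subgroup.coe_mul, Subgroup.coe_mul, Subgroup.coe_inv, ← e₁, ← e₁]

omit hS hF in
/-- The lifting cocycle: properties. -/
structure IsLifting (L : Cos hQ → S → S) : Prop where
  proj : ∀ k x, normalConj hQ (L k x) = k.pr (normalConj hQ x)
  cocycle : IsActCocycle (fun k x => k.act (normalConj hQ x)) L
  on_Q : ∀ k q (hq : q ∈ Q), ((L k ⟨q, hQ.1 hq⟩ : S) : Ω) = aFn k.out q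
  mor : ∀ k (X : Subgroup S), (∀ x ∈ X, k.act (normalConj hQ x) = k) → SMor F X (fun x => L k x)

theorem exists_lifting : ∃ L : Cos hQ → S → S, IsLifting hQ L := by
  classical
  have h1 : ∀ k : Cos hQ, k.act (normalConj hQ (1 : S)) = k := fun k => by rw [map_one, Cos.act_one]
  have hmul : ∀ (k : Cos hQ) (x y : S),
      (k.act (normalConj hQ x)).act (normalConj hQ y) = k.act (normalConj hQ (x * y)) := fun k x y => by
    rw [map_mul, Cos.act_mul]
  obtain ⟨rep, w, hw, hrep⟩ := exists_orbit_reps (fun (k : Cos hQ) (x : S) => k.act (normalConj hQ x)) h1 hmul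
  have hB : ∀ k : Cos hQ, ∃ b : S, normalConj hQ b = (rep k).pr (normalConj hQ (w k)) := fun k =>
    Cos.pr_mem _ _
  choose B hB using hB
  have hφ := exists_extension hS hF hQ
  choose φ hφm hφQ hφc using hφ
  let ψ : F.autGroup Q → S → S := fun a u => if h : u ∈ extDom hQ a then φ a ⟨u, h⟩ else 1
  have hu : ∀ (k : Cos hQ) (x : S), (rep k).act (normalConj hQ (w k * x * (w (k.act (normalConj hQ x)))⁻¹)) =
      rep k := by
    intro k x
    have hv := hw (k.act (normalConj hQ x))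
    rw [hrep] at hv
    rw [← hmul, ← hmul, hw k]
    conv_lhs => arg 1; rw [← hv]
    rw [hmul, mul_inv_cancel, h1]
  have hψ : ∀ (a : F.autGroup Q) (u : S) (h : u ∈ extDom hQ a), ψ a u = φ a ⟨u, h⟩ := fun a u h => dif_pos h
  have hmem : ∀ (k : Cos hQ) (u : S), k.act (normalConj hQ u) = k → u ∈ extDom hQ k.out := fun k u h =>
    mem_extDom.2 ((Cos.act_eq_self_iff k _).1 h)
  refine ⟨fun k x => (B k)⁻¹ * ψ (rep k).out (w k * x * (w (k.act (normalConj hQ x)))⁻¹) *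
    B (k.act (normalConj hQ x)), ?_, ?_, ?_, ?_⟩
  · intro k x
    rw [hψ _ _ (hmem _ _ (hu k x)), map_mul, map_mul, map_inv, hφc, hB, hB, hrep,
      ← Cos.pr_of_fixed _ (hu k x)]
    have e : (rep k).pr (normalConj hQ (w k * x * (w (k.act (normalConj hQ x)))⁻¹)) *
        (rep k).pr (normalConj hQ (w (k.act (normalConj hQ x)))) =
        (rep k).pr (normalConj hQ (w k)) * k.pr (normalConj hQ x) := by
      have h2 := Cos.pr_mul (rep k) (normalConj hQ (w k * x * (w (k.act (normalConj hQ x)))⁻¹))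
        (normalConj hQ (w (k.act (normalConj hQ x))))
      rw [hu, ← map_mul, inv_mul_cancel_right, map_mul, Cos.pr_mul, hw] at h2
      exact h2.symm
    rw [mul_assoc, e, inv_mul_cancel_left]
  · intro k x y
    beta_reduce
    rw [hrep, hmul]
    have hk' : ((k.act (normalConj hQ x)).act (normalConj hQ y)) = k.act (normalConj hQ (x * y)) := hmul _ _ _
    have m1 := hmem _ _ (hu k x)
    have m2 := hmem _ _ (hu (k.act (normalConj hQ x)) y)
    rw [hrep, hk'] at m2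
    rw [hψ _ _ m1, hψ _ _ m2, hψ _ _ (hmem _ _ (hu k (x * y)))]
    have e : (⟨_, hmem _ _ (hu k (x * y))⟩ : extDom hQ (rep k).out) = ⟨_, m1⟩ * ⟨_, m2⟩ :=
      Subtype.ext (by simp [mul_assoc])
    rw [e, map_mul]
    group
  · intro k q hq
    beta_reduce
    rw [Cos.act_normalConj_mem k hq]
    have hwq : (w k : Ω) * q * (w k : Ω)⁻¹ ∈ Q := sc_conj (normal_stronglyClosed hQ) (w k).2 hq
    rw [show w k * ⟨q, hQ.1 hq⟩ * (w k)⁻¹ = (⟨_, hQ.1 hwq⟩ : S) from Subtype.ext rfl,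
      hψ _ _ (le_extDom _ hwq), Subgroup.coe_mul, Subgroup.coe_mul, Subgroup.coe_inv, hφQ]
    have hkout : (normalConj hQ (B k))⁻¹ * ((rep k).out * normalConj hQ (w k)) = k.out := by
      rw [hB, Cos.pr, hw]
      group
    rw [← hkout, ← map_inv, aFn_mul _ _ hq, aFn_mul _ _ hq, aFn_normalConj hQ _ hq,
      aFn_normalConj hQ _ (aFn_mem _ hwq), Subgroup.coe_inv, inv_inv]
    all_goals exact hwq
  · intro k X hX
    let Y : Subgroup S := X.map (MulAut.conj (w k)).toMonoidHom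
    have hY : Y ≤ extDom hQ (rep k).out := by
      rintro _ ⟨x, hx, rfl⟩
      have := hu k x
      rw [hX x hx] at this
      exact hmem _ _ this
    have h := ((sMor_conj (F := F) (w k) X).comp ((hφm (rep k).out).restrict hY)
      fun x => ⟨(x : S), x.2, rfl⟩).conj_right (B k)⁻¹
    obtain ⟨f, hf, e⟩ := h
    refine ⟨f, hf, fun x => (e x).trans (congrArg Subtype.val ?_)⟩
    have hxk := hu k x
    rw [hX x x.2] at hxk
    beta_reduce
    rw [hX x x.2, hψ _ _ (hmem _ _ hxk), inv_inv]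

end CfsgLib.Fsys
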