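import Cfsg.Prelude.Def_FusionComponents
import Cfsg.Agent.Lib.FusionSystem.PStable
import Cfsg.Agent.Lib.FusionSystem.Inner
import Cfsg.Agent.Lib.FusionSystem.ModelData
import Cfsg.Agent.Lib.FusionSystem.GroupNormal

/-! Subsystems on strongly closed subgroups of constrained systems are constrained. -/

set_option autoImplicit false

open Cfsg Cfsg.FusionSystem

namespace CfsgLib.Fsys

variable {Ω : Type*} [Group Ω] {S T P Q : Subgroup Ω} {F : FusionSystem S} {p : ℕ} [Fact p.Prime] [Finite S]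

/-- An element of `N_S(P)` inducing on a normal centric `Q` an element of a normal `p`-subgroup of
`Aut_F(Q)` lies in every centric radical `P`. -/
theorem mem_centricRadical_of_normal_pGroup (hS : IsPGroup p S) (hQ : F.IsNormal Q) (hcQ : F.IsCentric Q)
    (hc : F.IsCentric P) (hr : F.IsRadical p P) (A : Subgroup (F.autGroup Q)) [A.Normal] (hA : IsPGroup p A)
    {t : S} (ht : (t : Ω) ∈ Subgroup.normalizer (P : Set Ω)) (htA : normalConj hQ t ∈ A) : (t : Ω) ∈ P := by
  have hQP : Q ≤ P := normal_le_centricRadical hS hQ hc hr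
  have := finite_of_le_base hc.1
  have hres : ∀ a : F.autGroup P, ∃ b : F.autGroup Q, ∀ q ∈ Q, aFn b q = autFn (a : MulAut P) q := fun a => by
    have hf := ((mem_autGroup_iff_fn hc.1).1 a.2).mono hQP
    obtain ⟨b, hb, hbe⟩ := exists_aut_of_fn hf
      (weaklyClosed_img (weaklyClosed_of_stronglyClosed (normal_stronglyClosed hQ)) le_rfl hf)
    exact ⟨⟨b, hb⟩, fun q hq => (autFn_coe b ⟨q, hq⟩).trans (hbe ⟨q, hq⟩)⟩
  choose res hres using hres
  let r : F.autGroup P →* F.autGroup Q := MonoidHom.mk' res fun a b => aFn_ext fun q hq => by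
    rw [hres _ q hq, aFn_mul _ _ hq, hres _ q hq, hres _ _ (by rw [← hres _ q hq]; exact aFn_mem _ hq)]
    exact autFn_mul _ _ (hQP hq)
  have hker : IsPGroup p r.ker := fun a => by
    have hfix : ∀ q ∈ Q, autFn ((a : F.autGroup P) : MulAut P) q = q := fun q hq => by
      rw [← hres _ q hq, show res (a : F.autGroup P) = 1 from a.2, aFn_one hq]
    have hquad : QuadAut ((a : F.autGroup P) : MulAut P) := quadAut_iff.2 fun x => by
      set α : MulAut P := ((a : F.autGroup P) : MulAut P)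
      have hmem : (((x⁻¹ * α x : P)) : Ω) ∈ Q := by
        refine centralizer_le_of_centric hcQ (mem_centralizerIn.2 ⟨hc.1 (x⁻¹ * α x).2, fun q hq => ?_⟩)
        have h1 : (x : Ω) * q * (x : Ω)⁻¹ ∈ Q := sc_conj (normal_stronglyClosed hQ) (hc.1 x.2) hq
        have h2 : ((α x : P) : Ω) * q * ((α x : P) : Ω)⁻¹ = (x : Ω) * q * (x : Ω)⁻¹ := by
          have := hfix _ h1
          rwa [((mem_autGroup_iff_fn hc.1).1 (a : F.autGroup P).2).map_conj x.2 (hQP hq), hfix q hq,
            autFn_coe α x] at this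
        rw [Subgroup.coe_mul, Subgroup.coe_inv]
        have h3 := eq_mul_inv_iff_mul_eq.1 h2.symm
        calc q * ((x : Ω)⁻¹ * ((α x : P) : Ω))
            = (x : Ω)⁻¹ * ((x : Ω) * q * (x : Ω)⁻¹ * ((α x : P) : Ω)) := by group
          _ = (x : Ω)⁻¹ * (((α x : P) : Ω) * q) := by rw [h3]
          _ = (x : Ω)⁻¹ * ((α x : P) : Ω) * q := (mul_assoc _ _ _).symm
      exact Subtype.ext ((autFn_coe α _).symm.trans (hfix _ hmem))
    obtain ⟨k, hk⟩ := quadAut_pgroup (hS.to_le hc.1) hquad ⟨_, Subgroup.mem_zpowers _⟩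
    exact ⟨k, Subtype.ext (Subtype.ext (by simpa [Subtype.ext_iff] using hk))⟩
  have hB : A.comap r ≤ pCore p (F.autGroup P) :=
    CfsgLib.LocalEven.SylowIn.le_pCore (N := A.comap r) (hA.comap_of_ker_isPGroup r hker)
  have hta : conjAut P ht ∈ F.autGroup P :=
    autInducedBy_le_autGroup hc.1 (conjAut_mem_autInducedBy _ t.2)
  have hmem : (⟨_, hta⟩ : F.autGroup P) ∈ A.comap r := by
    have e : r ⟨_, hta⟩ = normalConj hQ t := aFn_ext fun q hq => by
      rw [show r ⟨_, hta⟩ = res ⟨_, hta⟩ from rfl, hres _ q hq, aFn_normalConj hQ t hq]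
      exact autFn_coe (conjAut P ht) ⟨q, hQP hq⟩
    exact Subgroup.mem_comap.2 (e ▸ htA)
  obtain ⟨x, hx⟩ : conjAut P ht ∈ Inn P := hr.2.le ⟨_, hB hmem, rfl⟩
  have hcen : (x : Ω)⁻¹ * t ∈ centralizerIn S P :=
    mem_centralizerIn.2 ⟨S.mul_mem (S.inv_mem (hc.1 x.2)) t.2, fun y hy => by
      have h1 : (x : Ω) * y * (x : Ω)⁻¹ = (t : Ω) * y * (t : Ω)⁻¹ :=
        congrArg Subtype.val (DFunLike.congr_fun hx (⟨y, hy⟩ : P))
      calc y * ((x : Ω)⁻¹ * t) = (x : Ω)⁻¹ * ((x : Ω) * y * (x : Ω)⁻¹ * t) := by group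
        _ = (x : Ω)⁻¹ * ((t : Ω) * y) := by rw [h1]; group
        _ = (x : Ω)⁻¹ * t * y := (mul_assoc _ _ _).symm⟩
  have := P.mul_mem x.2 (centralizer_le_of_centric hc hcen)
  rwa [mul_inv_cancel_left] at this

theorem core_centric (hF : F.IsConstrained p) : F.IsCentric F.core := by
  obtain ⟨-, Q, hQ, hc⟩ := hF
  refine normal_centric core_normal fun s hs => le_core hQ ?_
  have hs' := mem_centralizerIn.1 hs
  exact centralizer_le_of_centric hc (mem_centralizerIn.2 ⟨hs'.1, fun q hq => hs'.2 q (le_core hQ hq)⟩)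

/-- A normal `p`-subgroup of `Aut_F(O_p(F))` is induced only by elements of `O_p(F)`. -/
theorem mem_core_of_normal_pGroup (hS : IsPGroup p S) (hF : F.IsConstrained p)
    (A : Subgroup (F.autGroup F.core)) [A.Normal] (hA : IsPGroup p A) {t : S}
    (htA : normalConj core_normal t ∈ A) : (t : Ω) ∈ F.core := by
  have hc := core_centric hF
  have hQ : F.IsNormal F.core := core_normal
  let Y : Subgroup Ω := (A.comap (normalConj hQ)).map S.subtype
  have hYS : Y ≤ S := Subgroup.map_subtype_le _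
  have hY : ∀ {x : Ω}, x ∈ Y → ∃ s : S, normalConj hQ s ∈ A ∧ (s : Ω) = x := fun hx => by
    obtain ⟨s, hs, e⟩ := hx
    exact ⟨s, hs, e⟩
  have hYc : F.StronglyClosed Y := by
    refine stronglyClosed_iff_fn.2 ⟨hYS, fun P f hf x hx hxY => ?_⟩
    obtain ⟨s, hs, rfl⟩ := hY hxY
    obtain ⟨g, hg, he, hi⟩ := (normal_iff_fn.1 hQ).2 P f hf
    obtain ⟨a, ha, hae⟩ := exists_aut_of_fn (hg.mono le_sup_right) hi
    refine ⟨⟨f s, hf.mem hx⟩, Subgroup.mem_comap.2 ?_, rfl⟩
    have e : normalConj hQ ⟨f s, hf.mem hx⟩ = (⟨a, ha⟩ : F.autGroup _) * normalConj hQ s * ⟨a, ha⟩⁻¹ := by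
      rw [eq_mul_inv_iff_mul_eq]
      refine aFn_ext fun q hq => ?_
      rw [aFn_mul _ _ hq, aFn_mul _ _ hq, aFn_normalConj hQ _ (aFn_mem _ hq), aFn_normalConj hQ _ hq]
      have hga : ∀ y ∈ F.core, aFn (⟨a, ha⟩ : F.autGroup _) y = g y := fun y hy =>
        (autFn_coe a ⟨y, hy⟩).trans (hae ⟨y, hy⟩)
      rw [hga q hq, hga _ (sc_conj (normal_stronglyClosed hQ) s.2 hq),
        hg.map_conj (Subgroup.mem_sup_left hx) (Subgroup.mem_sup_right hq), he _ hx]
    exact e ▸ Subgroup.Normal.conj_mem inferInstance _ hs _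
  refine le_core (normal_of_stronglyClosed_of_le hS hF.1 hYc fun P hcP hrP => ?_) ⟨t, htA, rfl⟩
  refine le_of_forall_normalizer hS hcP.1 hYS (hcP.1.trans (sc_le_normalizer (F := F) hYc)) fun x hxY hxn => ?_
  obtain ⟨s, hs, rfl⟩ := hY hxY
  exact mem_centricRadical_of_normal_pGroup hS hQ hc hcP hrP A hA hxn hs

/-- A saturated subsystem on a strongly closed subgroup of a constrained system is constrained. -/
theorem constrained_of_stronglyClosed (hS : IsPGroup p S) (hF : F.IsConstrained p) {E : FusionSystem T}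
    (hsub : E.IsSubsystemOf F) (hT : F.StronglyClosed T) (hE : E.IsSaturated p) : E.IsConstrained p := by
  have := finite_of_le_base hT.1
  have hQ : F.IsNormal F.core := core_normal
  have hc := core_centric hF
  have hQsc := normal_stronglyClosed hQ
  have hscE : ∀ {X : Subgroup Ω}, F.StronglyClosed X → E.StronglyClosed (X ⊓ T) := fun {X} hX =>
    stronglyClosed_iff_fn.2 ⟨inf_le_right, fun P f hf x hx hxX =>
      ⟨(stronglyClosed_iff_fn.1 hX).2 P f (Fn.of_subsystem hsub hf) x hx hxX.1, hf.mem hx⟩⟩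
  have hR : E.IsNormal (F.core ⊓ T) := by
    obtain ⟨C, n, h0, hn, -, hsc, hcomm⟩ := normal_series hS hQ
    refine normal_of_series (hS.to_le hT.1) hE (hscE hQsc) (fun i => C i ⊓ T) n (by simp [h0]) (by simp [hn])
      (fun i hi => hscE (hsc i hi)) fun i hi => le_inf ?_ ?_
    · exact (Subgroup.commutator_mono inf_le_left inf_le_left).trans (hcomm i hi)
    · exact (Subgroup.commutator_mono inf_le_right inf_le_right).trans T.commutator_le_self
  refine ⟨hE, _, hR, normal_centric hR fun t ht => ?_⟩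
  obtain ⟨htT, htc⟩ := mem_centralizerIn.1 ht
  refine ⟨?_, htT⟩
  let R := F.core ⊓ T
  have hinv : ∀ (a : F.autGroup F.core) (r : Ω), r ∈ R → aFn a r ∈ R := fun a r hr =>
    ⟨aFn_mem a hr.1, sc_apply hT (fn_aFn hQ.1 a) hr.1 hr.2⟩
  let A : Subgroup (F.autGroup F.core) :=
    { carrier := {a | (∀ r ∈ R, aFn a r = r) ∧ ∀ q ∈ F.core, q⁻¹ * aFn a q ∈ R}
      one_mem' := ⟨fun r hr => aFn_one hr.1, fun q hq => by rw [aFn_one hq, inv_mul_cancel]; exact R.one_mem⟩
      mul_mem' := fun {a b} ha hb => by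
        refine ⟨fun r hr => ?_, fun q hq => ?_⟩
        · rw [aFn_mul _ _ hr.1, hb.1 r hr, ha.1 r hr]
        · rw [aFn_mul _ _ hq]
          have := R.mul_mem (hb.2 q hq) (ha.2 _ (aFn_mem b hq))
          rwa [mul_assoc, mul_inv_cancel_left] at this
      inv_mem' := fun {a} ha => by
        have hai : ∀ q ∈ F.core, aFn a (aFn a⁻¹ q) = q := fun q hq => by
          rw [← aFn_mul _ _ hq, mul_inv_cancel, aFn_one hq]
        refine ⟨fun r hr => ?_, fun q hq => ?_⟩
        · have := hai r hr.1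
          rwa [ha.1 _ (hinv _ r hr)] at this
        · have h1 := ha.2 _ (aFn_mem a⁻¹ hq)
          rw [hai q hq] at h1
          simpa using R.inv_mem h1 }
  have hAn : A.Normal := ⟨fun a ha g => by
    refine ⟨fun r hr => ?_, fun q hq => ?_⟩
    · rw [aFn_mul _ _ hr.1, aFn_mul _ _ (aFn_mem _ hr.1), ha.1 _ (hinv _ r hr), ← aFn_mul _ _ hr.1,
        mul_inv_cancel, aFn_one hr.1]
    · have hy := aFn_mem g⁻¹ hq
      have h1 := hinv g _ (ha.2 _ hy)
      rw [(fn_aFn hQ.1 g).map_mul (F.core.inv_mem hy) (aFn_mem a hy), (fn_aFn hQ.1 g).map_inv hy,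
        ← aFn_mul _ _ hq, mul_inv_cancel, aFn_one hq] at h1
      rwa [aFn_mul _ _ hq, aFn_mul _ _ hy]⟩
  have := finite_of_le_base hQ.1
  have hA : IsPGroup p A := fun a => by
    have hquad : QuadAut (((a : F.autGroup F.core)) : MulAut F.core) := quadAut_iff.2 fun x => by
      set α : MulAut F.core := ((a : F.autGroup F.core) : MulAut F.core)
      have hmem := a.2.2 x x.2
      rw [show aFn (a : F.autGroup F.core) (x : Ω) = ((α x : F.core) : Ω) from autFn_coe α x] at hmem
      exact Subtype.ext ((autFn_coe α _).symm.trans (a.2.1 _ hmem))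
    obtain ⟨k, hk⟩ := quadAut_pgroup (hS.to_le hQ.1) hquad ⟨_, Subgroup.mem_zpowers _⟩
    exact ⟨k, Subtype.ext (Subtype.ext (by simpa [Subtype.ext_iff] using hk))⟩
  refine mem_core_of_normal_pGroup hS hF A hA (t := ⟨t, hT.1 htT⟩) ⟨fun r hr => ?_, fun q hq => ?_⟩
  · rw [aFn_normalConj hQ _ hr.1]
    exact mul_inv_eq_iff_eq_mul.2 (htc r hr).symm
  · rw [aFn_normalConj hQ _ hq]
    have hqS := hQ.1 hq
    refine ⟨F.core.mul_mem (F.core.inv_mem hq) (sc_conj hQsc (hT.1 htT) hq), ?_⟩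
    have := T.mul_mem (sc_conj hT (S.inv_mem hqS) htT) (T.inv_mem htT)
    simpa [mul_assoc] using this

omit [Finite S] [Fact p.Prime] in
/-- A subnormal subsystem of a constrained system is constrained. -/
theorem constrained_of_subnormal {E : FusionSystem T} (hE : E.IsSubnormalIn F p) :
    Fact p.Prime → Finite S → IsPGroup p S → F.IsConstrained p → E.IsConstrained p := by
  induction hE with
  | refl F p => exact fun _ _ _ h => h
  | step _ hD ih =>
    intro hfact hfin hS hF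
    obtain ⟨⟨hDs, -, hsub, hsc, -⟩, -⟩ := hD
    exact ih hfact (finite_of_le_base hsc.1) (hS.to_le hsc.1) (constrained_of_stronglyClosed hS hF hsub hsc hDs)

end CfsgLib.Fsys
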