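import Cfsg.Agent.Lib.FusionSystem.ReductionChain
import Cfsg.Agent.Lib.FusionSystem.SubnormalConstrained
import Cfsg.Agent.Lib.FusionSystem.Realized
import Cfsg.Agent.Lib.FusionSystem.ModelTheorem
import Cfsg.Agent.Lib.Fusion.PSolvable

/-! Terminating residual series and `p`-solvable constrained systems. -/

set_option autoImplicit false

namespace CfsgLib.Fsys.Red

open Cfsg Cfsg.FusionSystem CfsgLib.Fsys.WNR
open Cfsg.FusionSystem (centralizerIn normalizerIn)
open CfsgLib.Fusion.PSolvable

universe u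

variable {Ω : Type u} [Group Ω] {S : Subgroup Ω} [Finite S] {F : FusionSystem S} {p : ℕ} [Fact p.Prime]

/-- All automizers are `p`-solvable. -/
def SolvAut (p : ℕ) (F : FusionSystem S) : Prop :=
  ∀ P : Subgroup Ω, P ≤ S → IsPSolvable p (F.autGroup P)

theorem solvAut_of_subsystem {T : Subgroup Ω} [Finite T] {E : FusionSystem T} (hE : E.IsSubsystemOf F)
    (h : SolvAut p F) : SolvAut p E := fun P hP =>
  psolvable_of_le (autGroup_mono' hE P) (h P (hP.trans (subsystem_le hE)))

/-- `p`-solvability of the automizers passes up through a subsystem of `p`-power index on a smaller base. -/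
theorem solvAut_of_pPower {T : Subgroup Ω} {D : FusionSystem T} (hS : IsPGroup p S)
    (hD : F.hyperfocalSubgroup p = T) (hDi : D.HasPPowerIndexIn F p) (h : ∀ P, P ≤ T → IsPSolvable p (D.autGroup P))
    (hF : F.IsSaturated p) : SolvAut p F := by
  classical
  intro P hP
  haveI := finite_of_le_base hP
  haveI : Finite (MulAut P) := Finite.of_injective (fun f : MulAut P => (f : P → P)) DFunLike.coe_injective
  have hT : F.StronglyClosed T := hD ▸ hyperfocal_stronglyClosed hS hF
  set R := P ⊓ T with hR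
  haveI := finite_of_le_base ((inf_le_left : R ≤ P).trans hP)
  haveI : Finite (MulAut R) := Finite.of_injective (fun f : MulAut R => (f : R → R)) DFunLike.coe_injective
  have hex : ∀ a : F.autGroup P, ∃ b ∈ F.autGroup R, ∀ x ∈ R, autFn b x = autFn (a : MulAut P) x := by
    intro a
    have hf := ((mem_autGroup_iff_fn hP).1 a.2).mono (inf_le_left : R ≤ P)
    obtain ⟨b, hb, hbe⟩ := exists_aut_of_fn hf (hf.img_eq_self fun x hx =>
      ⟨autFn_mem _ hx.1, sc_apply hT ((mem_autGroup_iff_fn hP).1 a.2) hx.1 hx.2⟩)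
    exact ⟨b, hb, fun x hx => (autFn_coe b ⟨x, hx⟩).trans (hbe ⟨x, hx⟩)⟩
  choose r hr hre using hex
  let ρ : F.autGroup P →* F.autGroup R := MonoidHom.mk' (fun a => ⟨r a, hr a⟩) fun a b => Subtype.ext
    (mulAut_ext fun x hx => by
      show autFn (r (a * b)) x = autFn (r a * r b) x
      rw [hre _ x hx, autFn_mul _ _ hx, hre b x hx, Subgroup.coe_mul, autFn_mul _ _ hx.1,
        hre a _ (hre b x hx ▸ autFn_mem (r b) hx)])
  set A := pResidual p (F.autGroup P) with hA
  let ψ : A →* F.autGroup R := ρ.comp A.subtype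
  have hrange : (ψ.range.map (F.autGroup R).subtype) ≤ D.autGroup R := by
    rintro _ ⟨_, ⟨⟨a, ha⟩, rfl⟩, rfl⟩
    suffices h : A ≤ ((D.autGroup R).subgroupOf (F.autGroup R)).comap ρ from h ha
    refine (Subgroup.closure_le _).2 fun a ha => ?_
    show (ρ a : MulAut R) ∈ D.autGroup R
    refine mem_of_coprime hDi inf_le_right (ρ a).2 ?_
    rw [Subgroup.orderOf_coe]
    exact Nat.Coprime.coprime_dvd_left (orderOf_map_dvd ρ a) ha
  have hAs : IsPSolvable p A := by
    have hker : IsPGroup p ψ.ker := by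
      rintro ⟨⟨a, ha⟩, hak⟩
      have hfix : ∀ x ∈ R, autFn (a : MulAut P) x = x := fun x hx => by
        have h1 : r a = 1 := congrArg Subtype.val (hak : ρ a = 1)
        rw [← hre a x hx, h1, autFn_id hx]
      obtain ⟨n, hn⟩ := IsPGroup.iff_card.1 (hS.to_le hP)
      refine ⟨n, Subtype.ext (Subtype.ext (Subtype.ext (mulAut_ext fun x hx => ?_)))⟩
      show autFn ((a : MulAut P) ^ p ^ n) x = autFn (1 : MulAut P) x
      rw [autFn_id hx]
      set z := x⁻¹ * autFn (a : MulAut P) x with hz
      have hzR : z ∈ R := ⟨P.mul_mem (P.inv_mem hx) (autFn_mem _ hx), by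
        rw [← hD]
        exact Subgroup.subset_closure ⟨P, a, ⟨x, hx⟩, hP, ha, by rw [hz, autFn_coe (a : MulAut P) ⟨x, hx⟩]⟩⟩
      have hpow : ∀ j : ℕ, autFn ((a : MulAut P) ^ j) x = x * z ^ j := fun j => by
        induction j with
        | zero => rw [pow_zero, autFn_id hx, pow_zero, mul_one]
        | succ j ih =>
          have hf := (mem_autGroup_iff_fn hP).1 a.2
          rw [pow_succ', autFn_mul _ _ hx, ih, hf.map_mul hx (P.pow_mem hzR.1 j),
            show autFn (a : MulAut P) x = x * z from (mul_inv_cancel_left _ _).symm,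
            hfix _ (R.pow_mem hzR j), mul_assoc, ← pow_succ']
      rw [hpow, ← hn, show z ^ Nat.card P = 1 from
        congrArg Subtype.val (pow_card_eq_one' (x := (⟨z, hzR.1⟩ : P))), mul_one]

    have hsolvrange : IsPSolvable p ψ.range :=
      psolvable_of_injective ((MonoidHom.codRestrict ((F.autGroup R).subtype.comp ψ.range.subtype) (D.autGroup R)
        fun x => hrange ⟨x, x.2, rfl⟩)) (fun x y e => Subtype.ext (Subtype.ext (congrArg
          (Subtype.val (p := (· ∈ D.autGroup R))) e))) (h R inf_le_right)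
    exact psolvable_cons ψ.ker (Or.inl hker)
      ((psolvable_congr (QuotientGroup.quotientKerEquivRange ψ)).2 hsolvrange)
  exact psolvable_of_normal A hAs (psolvable_of_isPGroup CfsgLib.Fusion.Basic.isPGroup_quotient_pResidual)

/-- `p`-solvability of the automizers passes up through the `p'`-residual. -/
theorem solvAut_of_residual (hS : IsPGroup p S) (hF : F.IsSaturated p) {E : FusionSystem S}
    (hE : F.IsPPrimeResidual p E) (h : SolvAut p E) : SolvAut p F := by
  intro P hP
  haveI := finite_of_le_base hP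
  haveI : Finite (MulAut P) := Finite.of_injective (fun f : MulAut P => (f : P → P)) DFunLike.coe_injective
  have hn := residual_normal hS (weaklyNormal_self hF) hE
  let N := (E.autGroup P).subgroupOf (F.autGroup P)
  haveI : N.Normal := ⟨fun n hn' a => Invariant.conj_mem hn.1.2.2 hP a.2 hn'⟩
  have hN : IsPSolvable p N :=
    (psolvable_congr (Subgroup.subgroupOfEquivOfLe (autGroup_mono' hE.2.1.1 P)).symm).1 (h P hP)
  refine psolvable_of_normal N hN (psolvable_of_coprime ?_)
  rw [Nat.coprime_comm, (Fact.out : p.Prime).coprime_iff_not_dvd]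
  obtain ⟨R⟩ : Nonempty (Sylow p (F.autGroup P)) := inferInstance
  have hRN : (R : Subgroup (F.autGroup P)) ≤ N := fun a ha => by
    obtain ⟨k, hk⟩ := R.isPGroup' ⟨a, ha⟩
    obtain ⟨j, -, hj⟩ := (Nat.dvd_prime_pow Fact.out).1
      (orderOf_dvd_of_pow_eq_one (congrArg Subtype.val hk : a ^ p ^ k = 1))
    exact hE.2.1.2 P hP ⟨a, Subgroup.subset_closure ⟨j, hj⟩, rfl⟩
  intro hdvd
  exact R.not_dvd_index (hdvd.trans (Subgroup.index_dvd_of_le hRN))

/-- Constrainedness passes up through the `p'`-residual. -/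
theorem constrained_of_residual (hS : IsPGroup p S) (hF : F.IsSaturated p) {E : FusionSystem S}
    (hE : F.IsPPrimeResidual p E) (hc : E.IsConstrained p) : F.IsConstrained p := by
  have hn := residual_normal hS (weaklyNormal_self hF) hE
  refine ⟨hF, _, normal_closure_images hS hF hn.1 (core_normal (F := E)), ?_⟩
  refine normal_centric (normal_closure_images hS hF hn.1 (core_normal (F := E))) fun c hc' => ?_
  have hle : E.core ≤ Subgroup.closure {x : Ω | ∃ φ ∈ F.Hom E.core, ∃ r : E.core, x = φ r} := fun x hx => by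
    obtain ⟨φ, hφ, hφx⟩ := fn_id (F := F) (core_le_base (F := E))
    exact Subgroup.subset_closure ⟨φ, hφ, ⟨x, hx⟩, (hφx ⟨x, hx⟩).symm⟩
  refine hle (centralizer_le_of_centric (core_centric hc) (mem_centralizerIn.2
    ⟨(mem_centralizerIn.1 hc').1, fun y hy => (mem_centralizerIn.1 hc').2 y (hle hy)⟩))

/-- Constrainedness passes up through the `p`-residual. -/
theorem constrained_of_pResidual (hS : IsPGroup p S) (hF : F.IsSaturated p) {T : Subgroup Ω}
    (hT : F.hyperfocalSubgroup p = T) {D : FusionSystem T} (hDs : D.IsSaturated p)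
    (hDi : D.HasPPowerIndexIn F p) (hc : D.IsConstrained p) : F.IsConstrained p := by
  classical
  have hTS : T ≤ S := subsystem_le hDi.1
  haveI := finite_of_le_base hTS
  have hDn := pPowerIndex_normal hS hF (fun s hs x hx => hT ▸ hyperfocal_conj hS hs (hT.symm ▸ hx)) hDs hDi
  set U := Subgroup.closure {x : Ω | ∃ φ ∈ F.Hom D.core, ∃ r : D.core, x = φ r} with hUdef
  have hU : F.IsNormal U := normal_closure_images hS hF hDn.1 (core_normal (F := D))
  have hle : D.core ≤ U := fun x hx => by
    obtain ⟨φ, hφ, hφx⟩ := fn_id (F := F) ((core_le_base (F := D)).trans hTS)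
    exact Subgroup.subset_closure ⟨φ, hφ, ⟨x, hx⟩, (hφx ⟨x, hx⟩).symm⟩
  set C := centralizerIn S U with hCdef
  have hCT : ∀ z ∈ C, z ∈ T → z ∈ U := fun z hz hzT => hle (centralizer_le_of_centric (core_centric hc)
    (mem_centralizerIn.2 ⟨hzT, fun y hy => (mem_centralizerIn.1 hz).2 y (hle hy)⟩))
  have hC : F.IsNormal C := by
    refine normal_of_stronglyClosed_of_le hS hF (sc_centralizer hU) fun P hPc hPr => ?_
    have hPS := hPc.1
    haveI := finite_of_le_base hPS
    haveI : Finite (MulAut P) := Finite.of_injective (fun f : MulAut P => (f : P → P)) DFunLike.coe_injective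
    have hUP : U ≤ P := normal_le_centricRadical hS hU hPc hPr
    have hUsc := normal_stronglyClosed hU
    refine le_of_forall_normalizer hS hPS centralizerIn_le (hPS.trans (sc_le_normalizer (sc_centralizer hU)))
      fun t ht htN => ?_
    let B : Subgroup (F.autGroup P) :=
      { carrier := {a | ∀ x ∈ U, autFn (a : MulAut P) x = x}
        one_mem' := fun x hx => autFn_id (hUP hx)
        mul_mem' := fun {a b} ha hb x hx => by
          show autFn ((a : MulAut P) * (b : MulAut P)) x = x
          rw [autFn_mul _ _ (hUP hx), hb x hx, ha x hx]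
        inv_mem' := fun {a} ha x hx => by
          show autFn (a : MulAut P)⁻¹ x = x
          conv_lhs => rw [← ha x hx]
          exact autFn_inv_apply _ (hUP hx) }
    haveI : B.Normal := ⟨fun b hb a x hx => by
      have hy : autFn (a : MulAut P)⁻¹ x ∈ U :=
        sc_apply hUsc ((mem_autGroup_iff_fn hPS).1 (inv_mem a.2)) (hUP hx) hx
      show autFn ((a : MulAut P) * (b : MulAut P) * (a : MulAut P)⁻¹) x = x
      rw [autFn_mul _ _ (hUP hx), autFn_mul _ _ (hUP hy), hb _ hy, autFn_apply_inv _ (hUP hx)]⟩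
    have hcop : ∀ b ∈ B, Nat.Coprime (orderOf b) p → b = 1 := by
      intro b hb hbc
      refine Subtype.ext (mulAut_ext fun x hx => ?_)
      rw [show ((1 : F.autGroup P) : MulAut P) = 1 from rfl, autFn_id hx]
      set z := x⁻¹ * autFn (b : MulAut P) x with hz
      have hf := (mem_autGroup_iff_fn hPS).1 b.2
      have hzT : z ∈ T := hT ▸ Subgroup.subset_closure ⟨P, b, ⟨x, hx⟩, hPS, Subgroup.subset_closure hbc,
        by rw [hz, autFn_coe (b : MulAut P) ⟨x, hx⟩]⟩
      have hzP : z ∈ P := P.mul_mem (P.inv_mem hx) (autFn_mem _ hx)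
      have hzC : z ∈ C := mem_centralizerIn.2 ⟨hPS hzP, fun y hy => by
        have hxy : x * y * x⁻¹ ∈ U := sc_conj hUsc (hPS hx) hy
        have h1 := hb _ hxy
        rw [hf.map_conj hx (hUP hy), hb y hy] at h1
        rw [hz]
        calc y * (x⁻¹ * autFn (b : MulAut P) x) = x⁻¹ * (x * y * x⁻¹) * autFn (b : MulAut P) x := by group
          _ = x⁻¹ * (autFn (b : MulAut P) x * y * (autFn (b : MulAut P) x)⁻¹) * autFn (b : MulAut P) x := by
              rw [h1]
          _ = x⁻¹ * autFn (b : MulAut P) x * y := by group⟩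
      have hzU := hCT z hzC hzT
      have hpow : ∀ j : ℕ, autFn ((b : MulAut P) ^ j) x = x * z ^ j := fun j => by
        induction j with
        | zero => rw [pow_zero, autFn_id hx, pow_zero, mul_one]
        | succ j ih =>
          rw [pow_succ', autFn_mul _ _ hx, ih, hf.map_mul hx (P.pow_mem hzP j),
            show autFn (b : MulAut P) x = x * z from (mul_inv_cancel_left _ _).symm,
            hb _ (U.pow_mem hzU j), mul_assoc, ← pow_succ']
      have hzo : z ^ orderOf b = 1 := by
        have h := hpow (orderOf b)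
        rw [← SubmonoidClass.coe_pow, pow_orderOf_eq_one, show ((1 : F.autGroup P) : MulAut P) = 1 from rfl,
          autFn_id hx] at h
        exact mul_eq_left.1 h.symm
      obtain ⟨k, hk⟩ := hS ⟨z, hPS hzP⟩
      have hzk : z ^ p ^ k = 1 := congrArg Subtype.val hk
      have hone : z = 1 := orderOf_eq_one_iff.1 (Nat.eq_one_of_dvd_coprimes (hbc.pow_right k)
        (orderOf_dvd_of_pow_eq_one hzo) (orderOf_dvd_of_pow_eq_one hzk))
      have h := mul_inv_cancel_left x (autFn (b : MulAut P) x)
      rw [← hz, hone, mul_one] at h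
      exact h.symm
    have hBp : IsPGroup p B := by
      rintro ⟨b, hb⟩
      obtain ⟨k, m, hm, he⟩ := Nat.exists_eq_pow_mul_and_not_dvd (orderOf_pos b).ne' p (Fact.out : p.Prime).ne_one
      refine ⟨k, Subtype.ext (hcop _ (B.pow_mem hb _) ?_)⟩
      show Nat.Coprime (orderOf (b ^ p ^ k)) p
      rw [orderOf_pow' _ (pow_ne_zero k (Fact.out : p.Prime).ne_zero), he, Nat.gcd_mul_right_left,
        Nat.mul_div_cancel_left _ (pow_pos (Fact.out : p.Prime).pos k), Nat.coprime_comm]
      exact ((Fact.out : p.Prime).coprime_iff_not_dvd).2 hm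
    have htS := centralizerIn_le ht
    let c : F.autGroup P := ⟨conjAut P htN, autInducedBy_le_autGroup hPS (conjAut_mem_autInducedBy htN htS)⟩
    have hcB : c ∈ B := fun x hx => by
      rw [autFn_coe (conjAut P htN) ⟨x, hUP hx⟩, conjAut_coe, ← (mem_centralizerIn.1 ht).2 x hx,
        mul_inv_cancel_right]
    have hInn : conjAut P htN ∈ Inn P := by
      rw [← hPr.2]
      exact ⟨c, le_sSup (s := {N : Subgroup (F.autGroup P) | N.Normal ∧ IsPGroup p N})
        ⟨inferInstance, hBp⟩ hcB, rfl⟩
    exact (conjAut_mem_inn_iff (centralizer_le_of_centric hPc) ⟨htS, htN⟩ hPS).1 hInn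
  refine ⟨hF, U ⊔ C, normal_sup hU hC, normal_centric (normal_sup hU hC) fun s hs => Subgroup.mem_sup_right
    (mem_centralizerIn.2 ⟨(mem_centralizerIn.1 hs).1,
      fun y hy => (mem_centralizerIn.1 hs).2 y (Subgroup.mem_sup_left hy)⟩)⟩

/-- A terminating series makes the system constrained with `p`-solvable automizers. -/
theorem constrained_of_terminating {S : Subgroup Ω} {F : FusionSystem S}
    (h : F.HasTerminatingResidualSeries p) :
    Finite S → IsPGroup p S → F.IsSaturated p → F.IsConstrained p ∧ SolvAut p F := by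
  revert ‹Fact p.Prime›
  induction h with
  | @trivial R G q hR =>
    intro _ hfin hS hF
    subst hR
    refine ⟨⟨hF, ⊥, normal_bot, normal_centric normal_bot centralizerIn_le⟩, fun P hP => ?_⟩
    obtain rfl := le_bot_iff.1 hP
    have : Subsingleton (MulAut (⊥ : Subgroup Ω)) :=
      ⟨fun a b => MulEquiv.ext fun x => Subtype.ext (by
        rw [Subgroup.mem_bot.1 (a x).2, Subgroup.mem_bot.1 (b x).2])⟩
    exact psolvable_of_subsingleton
  | @step R G E q D hE hD _ ih =>
    intro _ hfin hS hF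
    have hH : E.hyperfocalSubgroup q ≤ R := CfsgLib.Fsys.hyperfocal_le
    haveI := finite_of_le_base hH
    obtain ⟨hc, hsolv⟩ := ih inferInstance (hS.to_le hH) hD.1
    exact ⟨constrained_of_residual hS hF hE (constrained_of_pResidual hS hE.1 rfl hD.1 hD.2 hc),
      solvAut_of_residual hS hF hE (solvAut_of_pPower hS rfl hD.2 hsolv hE.1)⟩

/-- Above a normal subgroup with nontrivial `p`-solvable quotient there is a step of the series. -/
theorem exists_top_step {G : Type*} [Group G] [Finite G] (hG : IsPSolvable p G) (N : Subgroup G) [N.Normal]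
    (hN : N ≠ ⊤) : ∃ K : Subgroup G, K.Normal ∧ N ≤ K ∧ K ≠ ⊤ ∧
      ((∃ m : ℕ, K.index ∣ p ^ m) ∨ K.index.Coprime p) := by
  obtain ⟨n, H, h0, hl, hm, hn, hfac⟩ := hG
  have hex : ∀ j : Fin (n + 1), H j ⊔ N = ⊤ → ∃ i : Fin n, H i.castSucc ⊔ N ≠ ⊤ ∧ H i.succ ⊔ N = ⊤ := by
    intro j
    induction j using Fin.induction with
    | zero => intro h; rw [h0, bot_sup_eq] at h; exact absurd h hN
    | succ j ih =>
      intro h
      by_cases hj : H j.castSucc ⊔ N = ⊤
      · exact ih hj
      · exact ⟨j, hj, h⟩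
  obtain ⟨i, hi1, hi2⟩ := hex (Fin.last n) (by rw [hl, top_sup_eq])
  haveI := hn i.castSucc
  refine ⟨_, inferInstance, le_sup_right, hi1, ?_⟩
  have hd : (H i.castSucc ⊔ N).index ∣ (H i.castSucc).relIndex (H i.succ) := by
    have h2 : H i.succ ⊔ (H i.castSucc ⊔ N) = ⊤ := by rw [← sup_assoc, sup_eq_left.2 (hm (Fin.castSucc_le_succ i)), hi2]
    rw [← Subgroup.relIndex_top_right, ← h2, Subgroup.relIndex_sup_right]
    exact Subgroup.relIndex_dvd_of_le_left _ le_sup_left
  rcases hfac i with ⟨m, hm'⟩ | hc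
  · exact Or.inl ⟨m, hm' ▸ hd⟩
  · exact Or.inr (Nat.Coprime.coprime_dvd_left hd hc)

/-- A constrained system with `p`-solvable automizers has a terminating series. -/
theorem terminating_of_constrained : ∀ (n : ℕ) {S : Subgroup Ω} [Finite S] {F : FusionSystem S},
    Nat.card S = n → IsPGroup p S → F.IsConstrained p → SolvAut p F → F.HasTerminatingResidualSeries p := by
  classical
  intro n
  induction n using Nat.strong_induction_on with
  | _ n ih =>
  intro S _ F hn hS hc hsolv
  by_cases hb : S = ⊥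
  · exact .trivial F p hb
  obtain ⟨E, hE⟩ := exists_pPrimeResidual hS hc.1
  have hEn := residual_normal hS (weaklyNormal_self hc.1) hE
  have hEc : E.IsConstrained p :=
    constrained_of_subnormal (.step (.refl E p) hEn) inferInstance inferInstance hS hc
  have hEsolv : SolvAut p E := solvAut_of_subsystem hE.2.1.1 hsolv
  have hEE := pPrimeResidual_self hS hE
  have hlt : E.hyperfocalSubgroup p ≠ S := by
    intro heq
    set Q := E.core with hQdef
    have hQ : E.IsNormal Q := core_normal
    have hQc : E.IsCentric Q := core_centric hEc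
    have hQS : Q ≤ S := hQ.1
    haveI := finite_of_le_base hQS
    haveI : Finite (MulAut Q) := Finite.of_injective (fun f : MulAut Q => (f : Q → Q)) DFunLike.coe_injective
    let N := (Inn Q).subgroupOf (E.autGroup Q)
    haveI : N.Normal := inn_normal_aut
    have hQsc := normal_stronglyClosed hQ
    have hQn := sc_le_normalizer hQsc
    have hQA := (fullyNormalized_good hS hE.1
      (fullyNormalized_of_weaklyClosed (weaklyClosed_of_stronglyClosed hQsc))).1
    by_cases hN : N = ⊤
    · have hSQ : S ≤ Q := fun x hx => by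
        refine (conjAut_mem_inn_iff (centralizer_le_of_centric hQc) ⟨hx, hQn hx⟩ hQS).1 ?_
        have : (⟨_, autInducedBy_le_autGroup hQS (conjAut_mem_autInducedBy (hQn hx) hx)⟩ : E.autGroup Q) ∈ N :=
          hN ▸ Subgroup.mem_top _
        exact this
      refine hb (heq ▸ le_bot_iff.1 (hyperfocal_le_of_coprime fun P hP α hα hc x => ?_))
      haveI := finite_of_le_base hP
      obtain ⟨g, hg, hge, hgQ⟩ := (normal_iff_fn.1 hQ).2 _ _ ((mem_autGroup_iff_fn hP).1 hα)
      obtain ⟨a, ha, hae⟩ := exists_aut_of_fn (hg.mono le_sup_right) hgQ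
      have haI : (⟨a, ha⟩ : E.autGroup Q) ∈ N := hN ▸ Subgroup.mem_top _
      obtain ⟨q, hq⟩ : a ∈ Inn Q := haI
      have hval : ∀ y ∈ P, autFn α y = (q : Ω) * y * (q : Ω)⁻¹ := fun y hy => by
        rw [← hge y hy, ← hae ⟨y, hSQ (hP hy)⟩, ← hq]
        rfl
      obtain ⟨k, hk⟩ := hS ⟨(q : Ω), hQS q.2⟩
      have hpow : ∀ j : ℕ, ∀ y ∈ P, autFn (α ^ j) y = (q : Ω) ^ j * y * ((q : Ω) ^ j)⁻¹ := fun j => by
        induction j with
        | zero => intro y hy; simp [autFn_id hy]
        | succ j ih =>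
          intro y hy
          rw [pow_succ', autFn_mul _ _ hy, hval _ (autFn_mem _ hy), ih y hy, pow_succ', mul_inv_rev]
          group
      have h1 : α ^ p ^ k = 1 := mulAut_ext fun y hy => by
        rw [hpow _ y hy, show (q : Ω) ^ p ^ k = 1 from congrArg Subtype.val hk, autFn_id hy, one_mul, inv_one,
          mul_one]
      have h2 : α = 1 := orderOf_eq_one_iff.1 (Nat.eq_one_of_dvd_coprimes (hc.pow_right k) dvd_rfl
        (orderOf_dvd_of_pow_eq_one h1))
      rw [h2, MulAut.one_apply, inv_mul_cancel]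
      exact Subgroup.one_mem _
    obtain ⟨K, hKn, hNK, hKtop, hK⟩ := exists_top_step (hEsolv Q hQS) N hN
    have hInnK : Inn Q ≤ K.map (E.autGroup Q).subtype := fun a ha =>
      ⟨⟨a, inn_le_autGroup hQS ha⟩, hNK ha, rfl⟩
    rcases hK with ⟨m, hm⟩ | hcop
    · -- `p`-power index
      obtain ⟨-, R, hR⟩ := hQA
      have hpK : (pResidual p (E.autGroup Q)).map (E.autGroup Q).subtype ≤ K.map (E.autGroup Q).subtype := by
        refine Subgroup.map_mono ((Subgroup.closure_le _).2 fun a ha => ?_)
        obtain ⟨j, hj⟩ := exists_pow_eq_self_of_coprime (x := a) (n := K.index)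
          (Nat.Coprime.coprime_dvd_left hm ((ha : Nat.Coprime (orderOf a) p).symm.pow_left m))
        exact hj ▸ K.pow_mem (Subgroup.pow_index_mem K a) j
      have hRK : (R : Subgroup (E.autGroup Q)) ≤ K := by
        intro a ha
        rw [hR] at ha
        obtain ⟨s, hs, hse⟩ := mem_autInducedBy.1 (Subgroup.mem_subgroupOf.1 ha)
        obtain ⟨b, hb', hbe⟩ := hyperfocal_acts hS hE.1 hQsc (heq.symm ▸ hs)
        have hab : (a : MulAut Q) = b := MulEquiv.ext fun y => Subtype.ext ((hse y).trans (hbe y).symm)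
        obtain ⟨k, hk, hke⟩ := (sup_le hpK hInnK) hb'
        exact Subtype.ext ((hke.trans hab.symm) : (k : MulAut Q) = a) ▸ hk
      refine hKtop (Subgroup.index_eq_one.1 ?_)
      obtain ⟨j, -, hj⟩ := (Nat.dvd_prime_pow Fact.out).1 hm
      rcases Nat.eq_zero_or_pos j with rfl | hjp
      · rw [hj, pow_zero]
      · exact absurd ((dvd_pow_self p (by omega : j ≠ 0)).trans (hj ▸ Subgroup.index_dvd_of_le hRK))
          R.not_dvd_index
    · -- index prime to `p`
      have hw : (innerFusionSystem Q).IsWeaklyNormalIn E p := (normal_iff_inner_weaklyNormal hS hE.1 hQS).1 hQ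
      have hchar : IsCharKernel E (innerFusionSystem Q) p (K.map (E.autGroup Q).subtype) := by
        refine ⟨Subgroup.map_subtype_le _, ?_, ?_, ?_⟩
        · rintro α hα _ ⟨k, hk, rfl⟩
          exact ⟨⟨α, hα⟩ * k * ⟨α, hα⟩⁻¹, hKn.conj_mem k hk _, rfl⟩
        · rw [innerFusionSystem_eq_autSystem, autGroup_autSystem]
          exact hInnK
        · rintro α hα k ⟨b, hb', hbe⟩
          refine ⟨⟨α, hα⟩, ?_, rfl⟩
          have h1 : (⟨α, hα⟩ : E.autGroup Q) ^ p ^ k ∈ K := by
            have : b = (⟨α, hα⟩ : E.autGroup Q) ^ p ^ k := Subtype.ext (by rw [SubmonoidClass.coe_pow]; exact hbe)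
            exact this ▸ hb'
          have h2 := Subgroup.pow_index_mem K (⟨α, hα⟩ : E.autGroup Q)
          have hg : Nat.gcd (p ^ k) K.index = 1 := hcop.symm.pow_left k
          have hb2 := Nat.gcd_eq_gcd_ab (p ^ k) K.index
          rw [hg, Nat.cast_one] at hb2
          rw [← zpow_one (⟨α, hα⟩ : E.autGroup Q), hb2, zpow_add, zpow_mul, zpow_mul, zpow_natCast, zpow_natCast]
          exact mul_mem (zpow_mem h1 _) (zpow_mem h2 _)
      obtain ⟨a, ha⟩ : ∃ a : E.autGroup Q, a ∉ K := by
        by_contra hall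
        exact hKtop (eq_top_iff.2 fun a _ => not_not.1 fun h => hall ⟨a, h⟩)
      obtain ⟨α, hα, hαn⟩ := exists_not_mem_lift (hTS := hQS) hS hw hchar a.2 (fun ⟨b, hb', hbe⟩ =>
        ha (Subtype.ext hbe ▸ hb'))
      refine hαn ?_
      rw [← autGroup_characterSystem hS hw hchar]
      exact autGroup_mono' (hEE.2.2 _ (characterSystem_saturated (hTS := hQS) hS hw hchar)
        (characterSystem_primeToP hS hw hchar)) S hα
  have hH : E.hyperfocalSubgroup p ≤ S := CfsgLib.Fsys.hyperfocal_le
  haveI := finite_of_le_base hH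
  obtain ⟨D, hD⟩ : ∃ D : FusionSystem (E.hyperfocalSubgroup p), E.IsPResidual p D :=
    exists_pPowerIndex hS hE.1 hH le_rfl
  refine .step F E p D hE hD (ih _ ?_ rfl (hS.to_le hH) ?_ (solvAut_of_subsystem hD.2.1 hEsolv))
  · rw [← hn]
    exact Set.Finite.card_lt_card (Set.toFinite (S : Set Ω)) (SetLike.coe_ssubset_coe.2 (lt_of_le_of_ne hH hlt))
  · exact constrained_of_subnormal (.step (.refl D p) (pPowerIndex_normal hS hE.1
      (fun s hs x hx => hyperfocal_conj hS hs hx) hD.1 hD.2)) inferInstance inferInstance hS hEc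

/-- A model is `p`-solvable when the automizers are. -/
theorem model_psolvable {G : Type u} [Group G] {ι : S →* G} (hG : F.IsModel p G ι) (h : SolvAut p F) :
    IsPSolvable p G := by
  classical
  obtain ⟨hfin, hι, ⟨R, hR⟩, hcent⟩ := hG
  haveI := CfsgLib.LocalEven.SylowIn.pCore_normal G p
  have hp : IsPGroup p (pCore p G) := CfsgLib.LocalEven.SylowIn.isPGroup_pCore G p
  have hQ₀R : pCore p G ≤ ι.range := (hp.le_sylow_of_normal R).trans hR.le
  set Q := subT ι (pCore p G) with hQdef
  have hQS : Q ≤ S := fun x hx => (mem_subT.1 hx).1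
  haveI := finite_of_le_base hQS
  haveI : Finite (MulAut Q) := Finite.of_injective (fun f : MulAut Q => (f : Q → Q)) DFunLike.coe_injective
  let X : Subgroup (G × F.autGroup Q) :=
    { carrier := {z | ∀ x ∈ Q, th ι (autFn (z.2 : MulAut Q) x) = z.1 * th ι x * z.1⁻¹}
      one_mem' := fun x hx => by simp [autFn_id hx]
      mul_mem' := fun {a b} ha hb x hx => by
        show th ι (autFn ((a.2 : MulAut Q) * (b.2 : MulAut Q)) x) = a.1 * b.1 * th ι x * (a.1 * b.1)⁻¹
        rw [autFn_mul _ _ hx, ha _ (autFn_mem _ hx), hb x hx]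
        group
      inv_mem' := fun {a} ha x hx => by
        show th ι (autFn (a.2 : MulAut Q)⁻¹ x) = a.1⁻¹ * th ι x * a.1⁻¹⁻¹
        have h := ha _ (autFn_mem (a.2 : MulAut Q)⁻¹ hx)
        rw [autFn_apply_inv _ hx] at h
        rw [h]
        group }
  let ψ : X →* F.autGroup Q := (MonoidHom.snd G (F.autGroup Q)).comp X.subtype
  have hker : IsPGroup p ψ.ker := by
    rintro ⟨⟨⟨g, a⟩, hz⟩, hk⟩
    have ha : a = 1 := hk
    subst ha
    have hg : g ∈ pCore p G := hcent (Subgroup.mem_centralizer_iff.2 fun w hw => by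
      obtain ⟨⟨x, hx⟩, rfl⟩ := hQ₀R hw
      have hxQ : x ∈ Q := mem_subT.2 ⟨hx, by rw [th_apply hx]; exact hw⟩
      have h := hz x hxQ
      change th ι (autFn ((1 : F.autGroup Q) : MulAut Q) x) = g * th ι x * g⁻¹ at h
      rw [show ((1 : F.autGroup Q) : MulAut Q) = 1 from rfl, autFn_id hxQ, th_apply hx] at h
      calc ι ⟨x, hx⟩ * g = g * ι ⟨x, hx⟩ * g⁻¹ * g := by rw [← h]
        _ = g * ι ⟨x, hx⟩ := inv_mul_cancel_right _ _)
    obtain ⟨k, hk'⟩ := hp ⟨g, hg⟩
    exact ⟨k, Subtype.ext (Subtype.ext (Prod.ext (congrArg Subtype.val hk') (one_pow _)))⟩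
  have hX : IsPSolvable p X := psolvable_cons ψ.ker (Or.inl hker)
    ((psolvable_congr (QuotientGroup.quotientKerEquivRange ψ)).2 (psolvable_subgroup (h Q hQS) ψ.range))
  refine psolvable_of_surjective ((MonoidHom.fst G (F.autGroup Q)).comp X.subtype) (fun g => ?_) hX
  have hfx : ∀ x : Ω, ∃ y : Ω, x ∈ Q → y ∈ Q ∧ th ι y = g * th ι x * g⁻¹ := fun x => by
    by_cases hx : x ∈ Q
    · obtain ⟨-, hm⟩ := mem_subT.1 hx
      have hm' : g * th ι x * g⁻¹ ∈ pCore p G :=
        (inferInstance : (pCore p G).Normal).conj_mem _ hm g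
      obtain ⟨⟨y, hy⟩, hye⟩ := hQ₀R hm'
      exact ⟨y, fun _ => ⟨mem_subT.2 ⟨hy, by rw [th_apply hy, hye]; exact hm'⟩, by rw [th_apply hy, hye]⟩⟩
    · exact ⟨1, fun h => absurd h hx⟩
  choose f hf using hfx
  have hfn : Fn F Q f := (fn_realized_iff hι).2
    ⟨hQS, fun x hx => hQS (hf x hx).1, g, fun x hx => (hf x hx).2⟩
  obtain ⟨a, ha, hae⟩ := exists_aut_of_fn hfn (hfn.img_eq_self fun x hx => (hf x hx).1)
  refine ⟨⟨(g, ⟨a, ha⟩), fun x hx => ?_⟩, rfl⟩
  show th ι (autFn a x) = g * th ι x * g⁻¹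
  rw [autFn_coe a ⟨x, hx⟩, hae]
  exact (hf x hx).2

/-- The automizers of a system with a `p`-solvable realization are `p`-solvable. -/
theorem solvAut_of_realized {G : Type u} [Group G] [Finite G] {ι : S →* G} (hι : F.IsRealizedBy ι)
    (h : IsPSolvable p G) : SolvAut p F := by
  intro P hP
  haveI := finite_of_le_base hP
  haveI : Finite (MulAut P) := Finite.of_injective (fun f : MulAut P => (f : P → P)) DFunLike.coe_injective
  let X : Subgroup (G × F.autGroup P) :=
    { carrier := {z | ∀ x ∈ P, th ι (autFn (z.2 : MulAut P) x) = z.1 * th ι x * z.1⁻¹}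
      one_mem' := fun x hx => by simp [autFn_id hx]
      mul_mem' := fun {a b} ha hb x hx => by
        show th ι (autFn ((a.2 : MulAut P) * (b.2 : MulAut P)) x) = a.1 * b.1 * th ι x * (a.1 * b.1)⁻¹
        rw [autFn_mul _ _ hx, ha _ (autFn_mem _ hx), hb x hx]
        group
      inv_mem' := fun {a} ha x hx => by
        show th ι (autFn (a.2 : MulAut P)⁻¹ x) = a.1⁻¹ * th ι x * a.1⁻¹⁻¹
        have h := ha _ (autFn_mem (a.2 : MulAut P)⁻¹ hx)
        rw [autFn_apply_inv _ hx] at h
        rw [h]
        group }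
  have hX : IsPSolvable p X := psolvable_of_injective ((MonoidHom.fst G (F.autGroup P)).comp X.subtype)
    (fun z w e => by
      refine Subtype.ext (Prod.ext e (Subtype.ext (mulAut_ext fun x hx => ?_)))
      have h1 := z.2 x hx
      have h2 := w.2 x hx
      change (z : G × F.autGroup P).1 = (w : G × F.autGroup P).1 at e
      rw [e] at h1
      exact th_injOn hι.1 (hP (autFn_mem _ hx)) (hP (autFn_mem _ hx)) (h1.trans h2.symm)) h
  refine psolvable_of_surjective ((MonoidHom.snd G (F.autGroup P)).comp X.subtype) (fun a => ?_) hX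
  obtain ⟨-, -, g, hg⟩ := (fn_realized_iff hι).1 ((mem_autGroup_iff_fn hP).1 a.2)
  exact ⟨⟨(g, a), hg⟩, rfl⟩

end CfsgLib.Fsys.Red
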