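import Cfsg.Agent.Lib.FusionSystem.NilpotencyCriterion
import Cfsg.Agent.Lib.FusionSystem.TateFocal
import Cfsg.Agent.Lib.FusionSystem.SmallEssential
import Cfsg.Agent.Lib.FusionSystem.FactorSaturated
import Cfsg.Agent.Lib.FusionSystem.Models
import Cfsg.Agent.Lib.FusionSystem.Subsystems
import Cfsg.Agent.Lib.FusionSystem.LocalModels

/-! A nilpotency criterion by weakly embedded subgroups of one order. -/

set_option autoImplicit false
set_option linter.unusedSectionVars false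

namespace CfsgLib.Fsys.WEO

open Cfsg Cfsg.FusionSystem Pointwise
open Cfsg.FusionSystem (centralizerIn normalizerIn imageAlong preimageAlong)

universe u

variable {Ω : Type u} [Group Ω] {S : Subgroup Ω} {p : ℕ} [hp : Fact p.Prime]

theorem mem_sup_split {A B : Subgroup Ω} (h : A ≤ Subgroup.normalizer (B : Set Ω)) {x : Ω}
    (hx : x ∈ A ⊔ B) : ∃ a ∈ A, ∃ b ∈ B, x = a * b := by
  have : x ∈ ((A : Set Ω) * (B : Set Ω)) := Subgroup.coe_mul_of_left_le_normalizer_right A B h ▸ hx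
  obtain ⟨a, ha, b, hb, rfl⟩ := this
  exact ⟨a, ha, b, hb, rfl⟩

theorem card_lt {A B : Subgroup Ω} [Finite B] (h : A < B) : Nat.card A < Nat.card B := by
  simpa only [SetLike.coe_sort_coe] using Set.Finite.card_lt_card (Set.toFinite (B : Set Ω)) h

theorem exists_between {U L M : Subgroup Ω} [Finite U] (hU : IsPGroup p U) (hLM : L ≤ M) (hM : M ≤ U)
    {k : ℕ} (h1 : Nat.card L ≤ p ^ k) (h2 : p ^ k ≤ Nat.card M) :
    ∃ Q, L ≤ Q ∧ Q ≤ M ∧ Nat.card Q = p ^ k := by
  haveI := finite_of_le_base hM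
  haveI := finite_of_le_base (hLM.trans hM)
  obtain ⟨j, hj⟩ := IsPGroup.iff_card.1 (hU.to_le hM)
  obtain ⟨n, hn⟩ := IsPGroup.iff_card.1 (hU.to_le (hLM.trans hM))
  have hn' : Nat.card (L.subgroupOf M) = p ^ n :=
    (Nat.card_congr (Subgroup.subgroupOfEquivOfLe hLM).toEquiv).trans hn
  rw [hn] at h1
  rw [hj] at h2
  have hkj := (Nat.pow_le_pow_iff_right hp.out.one_lt).1 h2
  obtain ⟨Q, hQ, hLQ⟩ := Sylow.exists_subgroup_card_pow_prime_le p (G := M) (hj ▸ pow_dvd_pow p hkj)
    (L.subgroupOf M) hn' ((Nat.pow_le_pow_iff_right hp.out.one_lt).1 h1)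
  refine ⟨Q.map M.subtype, fun x hx => ⟨⟨x, hLM hx⟩, hLQ hx, rfl⟩, Subgroup.map_subtype_le Q, ?_⟩
  rw [Subgroup.card_map_of_injective M.subtype_injective, hQ]

/-- A lattice of normal subgroups in which every subgroup of order `p ^ k` is weakly embedded has a member of
that order above every smaller member. -/
theorem exists_member_card {U : Subgroup Ω} [Finite U] (hU : IsPGroup p U) (Λ : Subgroup Ω → Prop)
    (hle : ∀ X, Λ X → X ≤ U) (htop : Λ U) (hnorm : ∀ X, Λ X → U ≤ Subgroup.normalizer (X : Set Ω))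
    (hinf : ∀ X Y, Λ X → Λ Y → Λ (X ⊓ Y)) (hsup : ∀ X Y, Λ X → Λ Y → Λ (X ⊔ Y)) {k : ℕ}
    (hkU : p ^ k ≤ Nat.card U)
    (h : ∀ Q : Subgroup Ω, Q ≤ U → Nat.card Q = p ^ k → ∃ P, Λ P ∧ Λ (Q ⊔ P) ∧ Λ (Q ⊓ P))
    {L₀ : Subgroup Ω} (hL₀ : Λ L₀) (hL₀k : Nat.card L₀ ≤ p ^ k) :
    ∃ T, Λ T ∧ L₀ ≤ T ∧ Nat.card T = p ^ k := by
  have hfin : ∀ s : Set (Subgroup Ω), (∀ X ∈ s, Λ X) → s.Finite := fun s hs =>
    (Set.finite_range fun X : Subgroup U => X.map U.subtype).subset fun X hX =>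
      ⟨X.subgroupOf U, by simp [Subgroup.subgroupOf_map_subtype, hle X (hs X hX)]⟩
  obtain ⟨L, ⟨hL, hL₀L, hLk⟩, hmax⟩ := Set.exists_max_image
    {X : Subgroup Ω | Λ X ∧ L₀ ≤ X ∧ Nat.card X ≤ p ^ k} (fun X => Nat.card X) (hfin _ fun X hX => hX.1)
    ⟨L₀, hL₀, le_rfl, hL₀k⟩
  rcases hLk.eq_or_lt with heq | hlt
  · exact ⟨L, hL, hL₀L, heq⟩
  obtain ⟨M, ⟨hM, hLM⟩, hmin⟩ := Set.exists_min_image {X : Subgroup Ω | Λ X ∧ L < X} (fun X => Nat.card X)
    (hfin _ fun X hX => hX.1) ⟨U, htop, lt_of_le_of_ne (hle L hL) fun e => by subst e; omega⟩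
  haveI := finite_of_le_base (hle M hM)
  have hMk : p ^ k < Nat.card M := by
    by_contra hMk
    exact absurd (hmax M ⟨hM, hL₀L.trans hLM.le, not_lt.1 hMk⟩)
      (not_le.2 (card_lt hLM))
  obtain ⟨Q, hLQ, hQM, hQk⟩ := exists_between hU hLM.le (hle M hM) hLk hMk.le
  haveI := finite_of_le_base (hQM.trans (hle M hM))
  have hQ : ¬ Λ Q := fun hΛ => by
    have h1 : L ≠ Q := fun e => by rw [e, hQk] at hlt; exact lt_irrefl _ hlt
    have := hmin Q ⟨hΛ, lt_of_le_of_ne hLQ h1⟩
    omega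
  obtain ⟨P, hP, hQP, hQiP⟩ := h Q (hQM.trans (hle M hM)) hQk
  have hMN : M ⊓ P ≤ Subgroup.normalizer (L : Set Ω) := inf_le_left.trans ((hle M hM).trans (hnorm L hL))
  rcases (le_sup_left : L ≤ L ⊔ (M ⊓ P)).eq_or_lt with hX | hX
  · refine absurd ?_ hQ
    have e : Q = (Q ⊔ P) ⊓ M := by
      refine le_antisymm (le_inf le_sup_left hQM) fun x hx => ?_
      obtain ⟨a, ha, b, hb, rfl⟩ := mem_sup_split ((hQM.trans (hle M hM)).trans (hnorm P hP)) hx.1
      have hbM : b ∈ M := by simpa using M.mul_mem (M.inv_mem (hQM ha)) hx.2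
      exact Q.mul_mem ha (hLQ (hX.ge (Subgroup.mem_sup_right ⟨hbM, hb⟩)))
    exact e ▸ hinf _ _ hQP hM
  · have hXM : L ⊔ (M ⊓ P) = M := eq_of_le_of_card (hle M hM) (sup_le hLM.le inf_le_left)
      (hmin _ ⟨hsup _ _ hL (hinf _ _ hM hP), hX⟩)
    refine absurd ?_ hQ
    have e : Q = L ⊔ ((Q ⊓ P) ⊓ M) := by
      refine le_antisymm (fun x hx => ?_) (sup_le hLQ (inf_le_left.trans inf_le_left))
      have hx' : x ∈ (M ⊓ P) ⊔ L := by rw [sup_comm, hXM]; exact hQM hx
      obtain ⟨b, hb, a, ha, rfl⟩ := mem_sup_split hMN hx'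
      have hbQ : b ∈ Q := by simpa using Q.mul_mem hx (Q.inv_mem (hLQ ha))
      exact Subgroup.mul_mem _ (Subgroup.mem_sup_right ⟨⟨hbQ, hb.2⟩, hb.1⟩) (Subgroup.mem_sup_left ha)
    exact e ▸ hsup _ _ hL (hinf _ _ hQiP hM)

variable [Finite S] {F : FusionSystem S}

/-- Weak embedding of all subgroups of order `d`, and inner normalizer systems for them. -/
structure Hyp (p : ℕ) (F : FusionSystem S) (d : ℕ) : Prop where
  weak : ∀ Q : Subgroup Ω, Q ≤ S → Nat.card Q = d →
    ∃ P, F.StronglyClosed P ∧ F.StronglyClosed (Q ⊔ P) ∧ F.StronglyClosed (Q ⊓ P)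
  inner : ∀ H : Subgroup Ω, F.IsFullyNormalized H → Nat.card H = d →
    ∀ N : FusionSystem (normalizerIn S H), F.IsNormalizerSystem H N →
      ∀ P : Subgroup Ω, N.Hom P = (innerFusionSystem (normalizerIn S H)).Hom P

theorem sc_inf {X Y : Subgroup Ω} (hX : F.StronglyClosed X) (hY : F.StronglyClosed Y) :
    F.StronglyClosed (X ⊓ Y) :=
  stronglyClosed_iff_fn.2 ⟨inf_le_left.trans hX.1, fun P f hf x hx hxT =>
    ⟨(stronglyClosed_iff_fn.1 hX).2 P f hf x hx hxT.1, (stronglyClosed_iff_fn.1 hY).2 P f hf x hx hxT.2⟩⟩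

/-- An automorphism fixing a subgroup of order `d` that is normal in its domain has `p`-power order. -/
theorem pPow_of_stable {d : ℕ} (hyp : Hyp p F d) (hS : IsPGroup p S) (hF : F.IsSaturated p)
    {R H : Subgroup Ω} (hR : R ≤ S) (hH : H ≤ R) (hHd : Nat.card H = d)
    (hRH : R ≤ Subgroup.normalizer (H : Set Ω)) {α : MulAut R} (hα : α ∈ F.autGroup R)
    (hαH : ∀ x ∈ H, autFn α x ∈ H) : ∃ k, α ^ p ^ k = 1 := by
  obtain ⟨H', hHH', hH'⟩ := exists_fullyNormalized (F := F) (hH.trans hR)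
  obtain ⟨hA, hfc⟩ := fullyNormalized_good hS hF hH'
  obtain ⟨g, hg, hgm, hgi⟩ := exists_normalizer_map hS hA (fullyCentralized_receptive hS hF hfc) hHH'
  have hRN : R ≤ normalizerIn S H := le_inf hR hRH
  have hc := hg.mono hRN
  obtain ⟨β, hβ, hβe⟩ := exists_transport_aut hg hRN hα
  obtain ⟨N, hN⟩ := exists_normalizerSystem F hH'.1
  have hR'N : img g R ≤ normalizerIn S H' := img_le fun x hx => hgm x (hRN hx)
  haveI := finite_of_le_base hH'.1
  haveI : Finite (normalizerIn S H') := finite_of_le_base normalizerIn_le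
  have hle : H' ≤ img g R := hgi.ge.trans (img_mono hH)
  have hfn := (mem_autGroup_iff_fn (hR'N.trans normalizerIn_le)).1 hβ
  have hβN : β ∈ N.autGroup (img g R) := by
    refine (mem_autGroup_iff_fn hR'N).2 ((fn_normalizerSystem hN).2
      ⟨hR'N, fun y hy => hR'N (autFn_mem β hy), autFn β, by rwa [sup_eq_left.2 hle], fun y _ => rfl, ?_⟩)
    refine (hfn.mono hle).img_eq_self fun y hy => ?_
    obtain ⟨x, hx, rfl⟩ := (hc.mono hH).mem_img.1 (hgi.ge hy)
    rw [hβe x (hH hx)]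
    exact hgi.le (mem_img_of_mem (hαH x hx))
  obtain ⟨k, hk⟩ := pAut_of_le_inner (hS.to_le normalizerIn_le)
    (fun P φ hφ => (hyp.inner H' hH' ((isConj_card hHH').trans hHd) N hN P) ▸ hφ) _ hR'N β hβN
  exact ⟨k, pow_eq_one_of_semiconj hc (fun x hx => mem_img_of_mem hx) hβe hk⟩

/-- Automizers of subgroups of order at least `d` are `p`-groups. -/
theorem pPow_of_large {k : ℕ} (hyp : Hyp p F (p ^ k)) (hS : IsPGroup p S) (hF : F.IsSaturated p)
    {R : Subgroup Ω} (hR : R ≤ S) (hk : p ^ k ≤ Nat.card R) {α : MulAut R} (hα : α ∈ F.autGroup R) :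
    ∃ j, α ^ p ^ j = 1 := by
  haveI := finite_of_le_base hR
  let Λ : Subgroup Ω → Prop := fun X => X ≤ R ∧ ∀ a ∈ F.autGroup R, ∀ x ∈ X, autFn a x ∈ X
  have hnorm : ∀ X, Λ X → R ≤ Subgroup.normalizer (X : Set Ω) := fun X hX r hr => by
    haveI := finite_of_le_base (hX.1.trans hR)
    refine mem_normalizer_of_map_le fun x hx => ?_
    have hc : conjAut R (Subgroup.le_normalizer hr) ∈ F.autGroup R :=
      autInducedBy_le_autGroup hR (conjAut_mem_autInducedBy (Subgroup.le_normalizer hr) (hR hr))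
    have h := hX.2 _ hc x hx
    rwa [autFn_coe (conjAut R (Subgroup.le_normalizer hr)) ⟨x, hX.1 hx⟩, conjAut_coe] at h
  have hsc : ∀ P, F.StronglyClosed P → Λ (P ⊓ R) := fun P hP => ⟨inf_le_right, fun a ha x hx =>
    ⟨sc_apply hP ((mem_autGroup_iff_fn hR).1 ha) hx.2 hx.1, autFn_mem a hx.2⟩⟩
  obtain ⟨T, hT, -, hTk⟩ := exists_member_card (hS.to_le hR) Λ (fun X hX => hX.1)
    ⟨le_rfl, fun a _ x hx => autFn_mem a hx⟩ hnorm
    (fun X Y hX hY => ⟨inf_le_left.trans hX.1, fun a ha x hx => ⟨hX.2 a ha x hx.1, hY.2 a ha x hx.2⟩⟩)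
    (fun X Y hX hY => ⟨sup_le hX.1 hY.1, fun a ha x hx => by
      have hf := ((mem_autGroup_iff_fn hR).1 ha).mono (sup_le hX.1 hY.1)
      have h : img (autFn a) (X ⊔ Y) ≤ X ⊔ Y := by
        rw [hf.img_sup]
        exact sup_le_sup (img_le (hX.2 a ha)) (img_le (hY.2 a ha))
      exact h (mem_img_of_mem hx)⟩) hk
    (fun Q hQR hQk => by
      obtain ⟨P, hP, hQP, hQiP⟩ := hyp.weak Q (hQR.trans hR) hQk
      refine ⟨P ⊓ R, hsc P hP, ⟨sup_le hQR inf_le_right, fun a ha x hx => ?_⟩, ?_⟩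
      · have hxR : x ∈ R := sup_le hQR inf_le_right hx
        have h1 : autFn a x ∈ Q ⊔ P := sc_apply hQP ((mem_autGroup_iff_fn hR).1 ha) hxR
          ((sup_le_sup (le_refl Q) inf_le_left : Q ⊔ P ⊓ R ≤ Q ⊔ P) hx)
        obtain ⟨q, hq, y, hy, e⟩ := mem_sup_split ((hQR.trans hR).trans (sc_le_normalizer hP)) h1
        have hy' : y ∈ R := by
          have := R.mul_mem (R.inv_mem (hQR hq)) (autFn_mem a hxR)
          rwa [e, inv_mul_cancel_left] at this
        rw [e]
        exact Subgroup.mul_mem _ (Subgroup.mem_sup_left hq) (Subgroup.mem_sup_right ⟨hy, hy'⟩)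
      · rw [← inf_assoc]
        exact hsc _ hQiP)
    (L₀ := ⊥) ⟨bot_le, fun a ha x hx => by
      rw [Subgroup.mem_bot.1 hx, ((mem_autGroup_iff_fn hR).1 ha).map_one]; exact Subgroup.one_mem _⟩
    (by rw [Subgroup.card_bot]; exact Nat.one_le_pow _ _ hp.out.pos)
  exact pPow_of_stable hyp hS hF hR hT.1 hTk (hnorm T hT) hα (hT.2 α hα)

/-- A system with hyperfocal subgroup of order at most `p` and `p`-group top automizer has trivial hyperfocal subgroup. -/
theorem hyperfocal_bot_of_small (hS : IsPGroup p S) (hF : F.IsSaturated p)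
    (htop : ∀ α ∈ F.autGroup S, ∃ j, α ^ p ^ j = 1) (hsmall : Nat.card (F.hyperfocalSubgroup p) ≤ p) :
    F.hyperfocalSubgroup p = ⊥ := by
  set H := F.hyperfocalSubgroup p with hH
  have hsc : F.StronglyClosed H := hyperfocal_stronglyClosed hS hF
  haveI := finite_of_le_base hsc.1
  have hHp : IsPGroup p H := hS.to_le hsc.1
  have hab : ∀ a ∈ H, ∀ b ∈ H, a * b = b * a := by
    haveI : IsCyclic H := by
      obtain ⟨n, hn⟩ := IsPGroup.iff_card.1 hHp
      rw [hn] at hsmall
      rcases Nat.eq_zero_or_pos n with rfl | h0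
      · have := (Nat.card_eq_one_iff_unique.1 (by rw [hn, pow_zero] : Nat.card H = 1)).1
        infer_instance
      · refine isCyclic_of_prime_card (p := p) ?_
        rw [hn, show n = 1 from le_antisymm ?_ h0, pow_one]
        exact (Nat.pow_le_pow_iff_right hp.out.one_lt).1 (by rwa [pow_one])
    exact fun a ha b hb => congrArg Subtype.val
      ((IsCyclic.isMulCommutative (α := H)).1.1 ⟨a, ha⟩ ⟨b, hb⟩)
  have hHn : F.IsNormal H := normal_of_abelian_sc hS hF hsc hab
  have hfix : ∀ {f : Ω → Ω}, Fn F H f → img f H = H → ∀ x ∈ H, f x = x := by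
    intro f hf hi
    have hwc := weaklyClosed_of_stronglyClosed hsc
    obtain ⟨-, hfc⟩ := fullyNormalized_good hS hF (fullyNormalized_of_weaklyClosed hwc)
    obtain ⟨N, g, hg, hHN, hN, hge⟩ := receptive_extend (fullyCentralized_receptive hS hF hfc) hf hi
    have hC : centralizerIn S H ≤ N := fun y hy => (hN y).2 (inExt_of_commute hy)
    have hSC : S ≤ centralizerIn S H := fun s hs => mem_centralizerIn.2 ⟨hs, fun x hx => by
      have hn : s ∈ Subgroup.normalizer (H : Set Ω) := sc_le_normalizer hsc hs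
      obtain ⟨j, hj⟩ := hS ⟨s, hs⟩
      have hcj : conjAut H hn ^ p ^ j = 1 := by
        rw [conjAut, ← map_pow, show (⟨s, hn⟩ : Subgroup.normalizer (H : Set Ω)) ^ p ^ j = 1 from
          Subtype.ext (by simpa using congrArg Subtype.val hj), map_one]
      have h1 := SmallEssential.shift_small (p := p) hHp (K := ⊥) (L := ⊤) le_top
        (by rw [Subgroup.relIndex_top_right, Subgroup.index_bot]; exact hsmall) hcj
        (fun v hv => by rw [Subgroup.mem_bot.1 hv, map_one]; exact Subgroup.one_mem _)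
        (fun v _ => Subgroup.mem_top _) (Subgroup.mem_top (⟨x, hx⟩ : H))
      rw [Subgroup.mem_bot, inv_mul_eq_one] at h1
      have h2 : x = s * x * s⁻¹ := by
        have := congrArg Subtype.val h1
        rwa [conjAut_coe] at this
      exact (eq_mul_inv_iff_mul_eq.1 h2)⟩
    have hgS := hg.mono (hSC.trans hC)
    obtain ⟨a, ha, hae⟩ := exists_aut_of_fn hgS (hgS.img_eq_self fun x hx => hgS.mem hx)
    obtain ⟨b, -, hbe⟩ := exists_aut_of_fn hf hi
    obtain ⟨j, hj⟩ := htop a ha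
    have hb : b ^ p ^ j = 1 := pow_eq_one_of_semiconj (fn_id (F := F) hsc.1) (fun x hx => hsc.1 hx)
      (fun x hx => by
        show autFn a x = autFn b x
        rw [autFn_coe a ⟨x, hsc.1 hx⟩, hae, autFn_coe b ⟨x, hx⟩, hbe]
        exact hge x hx) hj
    intro x hx
    have h1 := SmallEssential.shift_small (p := p) hHp (K := ⊥) (L := ⊤) le_top
      (by rw [Subgroup.relIndex_top_right, Subgroup.index_bot]; exact hsmall) hb
      (fun v hv => by rw [Subgroup.mem_bot.1 hv, map_one]; exact Subgroup.one_mem _)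
      (fun v _ => Subgroup.mem_top _) (Subgroup.mem_top (⟨x, hx⟩ : H))
    rw [Subgroup.mem_bot, inv_mul_eq_one] at h1
    exact ((hbe ⟨x, hx⟩).symm.trans (congrArg Subtype.val h1.symm))
  refine le_bot_iff.1 (hyperfocal_le_of_coprime fun P hP α hα hc x => ?_)
  haveI := finite_of_le_base hP
  have hPf := (mem_autGroup_iff_fn hP).1 hα
  have hshift : ∀ y : P, (y : Ω)⁻¹ * (α y : P) ∈ H := fun y => Subgroup.subset_closure
    ⟨P, ⟨α, hα⟩, y, hP, Subgroup.subset_closure (show Nat.Coprime (orderOf (⟨α, hα⟩ : F.autGroup P)) p by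
      rwa [← Subgroup.orderOf_coe]), rfl⟩
  obtain ⟨g, hg, hge, hgi⟩ := (normal_iff_fn.1 hHn).2 _ _ hPf
  have hfixP : ∀ y : P, (y : Ω) ∈ H → α y = y := fun y hy => by
    refine Subtype.ext ?_
    rw [← autFn_coe α y, ← hge y y.2]
    exact hfix (hg.mono le_sup_right) hgi y hy
  suffices h : α x = x by rw [h, inv_mul_cancel]; exact Subgroup.one_mem _
  refine fixed_of_fixed_shift (hS.to_le hP) hc ?_ 
  exact hfixP _ (hshift x)

theorem hyperfocal_bot_of_pAut (hS : IsPGroup p S) (h : PAut p F) : F.hyperfocalSubgroup p = ⊥ := by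
  refine le_bot_iff.1 (hyperfocal_le_of_coprime fun P hP α hα hc x => ?_)
  obtain ⟨k, hk⟩ := h P hP α hα
  have h1 : α = 1 := orderOf_eq_one_iff.1 (Nat.eq_one_of_dvd_coprimes (hc.pow_right k) dvd_rfl
    (orderOf_dvd_of_pow_eq_one hk))
  rw [h1, MulAut.one_apply, inv_mul_cancel]
  exact Subgroup.one_mem _

/-- Modulo `L`, the hyperfocal subgroup vanishes when small or inside all maximal subgroups above `L`. -/
theorem hyperfocal_le_of_quotient (hS : IsPGroup p S) (hF : F.IsSaturated p) {L : Subgroup Ω}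
    (hL : F.StronglyClosed L) (htop : ∀ α ∈ F.autGroup S, ∃ j, α ^ p ^ j = 1)
    (h : Nat.card ↥(L ⊔ F.hyperfocalSubgroup p) ≤ p * Nat.card L ∨
      ∀ M : Subgroup S, IsCoatom M → L.subgroupOf S ≤ M → (F.hyperfocalSubgroup p).subgroupOf S ≤ M) :
    F.hyperfocalSubgroup p ≤ L := by
  set H := F.hyperfocalSubgroup p with hH
  haveI : (L.subgroupOf S).Normal := ⟨fun x hx g => sc_conj hL g.2 hx⟩
  let θ : S →* S ⧸ L.subgroupOf S := QuotientGroup.mk' _
  have hθ : ∀ s : S, θ s = 1 ↔ (s : Ω) ∈ L := fun s => QuotientGroup.eq_one_iff s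
  obtain ⟨E, hE⟩ := exists_factorSystem (F := F) hL θ hθ (S' := θ.range) rfl
  have hm := factor_surjectiveMorphism hS hF hL hE
  have hEs : E.IsSaturated p := surjectiveMorphism_saturated hS hF hm
  haveI : Finite θ.range := finite_target hm
  have hEp : IsPGroup p θ.range := hS.of_surjective θ.rangeRestrict θ.rangeRestrict_surjective
  have hEH : E.hyperfocalSubgroup p = imageAlong θ H := surjectiveMorphism_hyperfocal hm
  have hHS : H ≤ S := CfsgLib.Fsys.hyperfocal_le
  suffices hbot : E.hyperfocalSubgroup p = ⊥ by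
    intro x hx
    rw [hEH] at hbot
    have := hbot.le (th_mem_imageAlong hx (hHS hx))
    exact (factor_ker hE (hHS hx)).1 (Subgroup.mem_bot.1 this)
  rcases h with hsmall | hmax
  · refine hyperfocal_bot_of_small hEp hEs (fun b hb => ?_) ?_
    · obtain ⟨Φ, hΦs, -⟩ := exists_autHom_surjective hm (P' := θ.range) le_rfl
      obtain ⟨⟨a, ha⟩, hab⟩ := hΦs ⟨b, hb⟩
      have e : preimageAlong θ θ.range = S :=
        le_antisymm preimageAlong_le fun s hs => mem_preimageAlong.2 ⟨hs, th_mem_range hs⟩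
      have key : ∀ Z : Subgroup Ω, Z = S → ∀ γ ∈ F.autGroup Z, ∃ j, γ ^ p ^ j = 1 := by
        rintro _ rfl γ hγ
        exact htop γ hγ
      obtain ⟨j, hj⟩ := key _ e a ha
      refine ⟨j, ?_⟩
      have := congrArg Φ (show (⟨a, ha⟩ : F.autGroup _) ^ p ^ j = 1 from Subtype.ext hj)
      rw [map_pow, map_one, hab] at this
      exact congrArg Subtype.val this
    · rw [hEH]
      haveI := finite_of_le_base (sup_le hL.1 hHS)
      let f : ↥(L ⊔ H) →* S ⧸ L.subgroupOf S := θ.comp (Subgroup.inclusion (sup_le hL.1 hHS))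
      have hle : imageAlong θ H ≤ f.range := fun y hy => by
        obtain ⟨x, hx, hxS, rfl⟩ := mem_imageAlong.1 hy
        exact ⟨⟨x, Subgroup.mem_sup_right hx⟩, by show θ ⟨x, _⟩ = th θ x; rw [th_apply hxS]⟩
      refine (Subgroup.card_le_of_le hle).trans ?_
      have hk : Nat.card f.ker = Nat.card L := by
        rw [show f.ker = L.subgroupOf (L ⊔ H) from Subgroup.ext fun x => hθ _]
        exact Nat.card_congr (Subgroup.subgroupOfEquivOfLe le_sup_left).toEquiv
      have h2 := Subgroup.card_eq_card_quotient_mul_card_subgroup f.ker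
      rw [hk, Nat.card_congr (QuotientGroup.quotientKerEquivRange f).toEquiv] at h2
      haveI := finite_of_le_base hL.1
      exact Nat.le_of_mul_le_mul_right (h2 ▸ hsmall) Nat.card_pos
  · refine hyperfocal_bot_of_pAut hEp (pAut_of_le_inner hEp ?_)
    have hfoc : E.focalSubgroup ≤ (frattini θ.range).map θ.range.subtype := by
      rw [focal_eq_hyperfocal_sup (p := p) hEp hEs, hEH]
      refine sup_le (fun y hy => ?_) ?_
      · obtain ⟨x, hx, hxS, rfl⟩ := mem_imageAlong.1 hy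
        refine ⟨⟨_, th_mem_range hxS⟩, ?_, rfl⟩
        rw [frattini, Order.radical]
        refine Subgroup.mem_iInf.2 fun M => Subgroup.mem_iInf.2 fun hM => ?_
        have hco : IsCoatom (M.comap θ.rangeRestrict) :=
          Subgroup.isCoatom_comap_of_surjective θ.rangeRestrict_surjective hM
        have hLM : L.subgroupOf S ≤ M.comap θ.rangeRestrict := fun s hs => by
          rw [Subgroup.mem_comap, show θ.rangeRestrict s = 1 from Subtype.ext ((hθ s).2 hs)]
          exact M.one_mem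
        have := hmax _ hco hLM (show (⟨x, hxS⟩ : S) ∈ H.subgroupOf S from hx)
        have e : (⟨th θ x, th_mem_range hxS⟩ : θ.range) = θ.rangeRestrict ⟨x, hxS⟩ := Subtype.ext (th_apply hxS)
        exact e ▸ this
      · have h2 : commutator θ.range ≤ frattini θ.range := by
          rw [commutator_def, Subgroup.commutator_le]
          exact fun a _ b _ => CfsgLib.PGroup.Frattini.commutatorElement_mem_frattini hEp a b
        refine le_trans ?_ (Subgroup.map_mono h2)
        rw [commutator_def, Subgroup.map_commutator, ← MonoidHom.range_eq_map, Subgroup.range_subtype]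
    exact fun P φ hφ => (inner_of_focal_le_frattini hEp hEs hfoc) ▸ hφ

/-- The hyperfocal subgroup lies in every strongly closed subgroup of order `d`. -/
theorem hyperfocal_le_of_card {k : ℕ} (hyp : Hyp p F (p ^ k)) (hS : IsPGroup p S) (hF : F.IsSaturated p)
    {T : Subgroup Ω} (hT : F.StronglyClosed T) (hTk : Nat.card T = p ^ k) : F.hyperfocalSubgroup p ≤ T := by
  refine hyperfocal_le_of_coprime fun P hP α hα hc x => ?_
  obtain ⟨g, hg, hga⟩ := exists_extend_mod hS hF hT ((mem_autGroup_iff_fn hP).1 hα)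
  have hgT : img g T = T := sc_img hT le_sup_right hg
  have hPT : P ⊔ T ≤ S := sup_le hP hT.1
  obtain ⟨b, hb, hbg⟩ := exists_aut_of_fn hg (hg.img_eq_self fun z hz => by
    have hle : img g (P ⊔ T) ≤ P ⊔ T := by
      rw [hg.img_sup, hgT]
      refine sup_le (img_le fun z hz => ?_) le_sup_right
      simpa using (P ⊔ T).mul_mem (Subgroup.mem_sup_left (autFn_mem α hz) : autFn α z ∈ P ⊔ T)
        (Subgroup.mem_sup_right (hga z hz))
    exact hle (mem_img_of_mem hz))
  haveI := finite_of_le_base hPT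
  haveI := finite_of_le_base hP
  obtain ⟨j, hj⟩ := pPow_of_large hyp hS hF hPT (hTk ▸ Subgroup.card_le_of_le le_sup_right) hb
  have hb' : ∀ w ∈ P ⊔ T, autFn b w = g w := fun w hw => (autFn_coe b ⟨w, hw⟩).trans (hbg ⟨w, hw⟩)
  have hpow : ∀ (n : ℕ) (z : Ω), z ∈ P → (autFn (α ^ n) z)⁻¹ * autFn (b ^ n) z ∈ T := by
    intro n
    induction n with
    | zero =>
      intro z hz
      rw [pow_zero, pow_zero, autFn_id hz, autFn_id (Subgroup.mem_sup_left hz), inv_mul_cancel]
      exact T.one_mem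
    | succ n ih =>
      intro z hz
      have hz' : z ∈ P ⊔ T := Subgroup.mem_sup_left hz
      have hu := autFn_mem (α ^ n) hz
      rw [pow_succ', pow_succ', autFn_mul _ _ hz, autFn_mul _ _ hz', hb' _ (autFn_mem _ hz'),
        show autFn (b ^ n) z = autFn (α ^ n) z * ((autFn (α ^ n) z)⁻¹ * autFn (b ^ n) z) by simp,
        hg.map_mul (Subgroup.mem_sup_left hu) (Subgroup.mem_sup_right (ih z hz)), ← mul_assoc]
      exact T.mul_mem (hga _ hu) (hgT.le (mem_img_of_mem (ih z hz)))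
  obtain ⟨m, hm⟩ := exists_pow_eq_self_of_coprime (x := α) (n := p ^ j) (hc.symm.pow_left j)
  have h := hpow (p ^ j * m) x x.2
  rw [show α ^ (p ^ j * m) = α by rw [pow_mul, hm], pow_mul, hj, one_pow,
    autFn_id (Subgroup.mem_sup_left x.2), autFn_coe] at h
  simpa using T.inv_mem h

/-- Under the hypotheses the hyperfocal subgroup is trivial. -/
theorem hyperfocal_bot {k : ℕ} (hyp : Hyp p F (p ^ k)) (hk : 1 ≤ k) (hkS : p ^ k < Nat.card S)
    (hS : IsPGroup p S) (hF : F.IsSaturated p) : F.hyperfocalSubgroup p = ⊥ := by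
  set H := F.hyperfocalSubgroup p with hH
  have hHsc : F.StronglyClosed H := hyperfocal_stronglyClosed hS hF
  have hmem : ∀ (W L : Subgroup Ω), F.StronglyClosed W → F.StronglyClosed L → L ≤ W → Nat.card L ≤ p ^ k →
      p ^ k ≤ Nat.card W → ∃ T, F.StronglyClosed T ∧ L ≤ T ∧ T ≤ W ∧ Nat.card T = p ^ k := by
    intro W L hW hL hLW hLk hWk
    haveI := finite_of_le_base hW.1
    obtain ⟨T, ⟨hT, hTW⟩, hLT, hTk⟩ := exists_member_card (hS.to_le hW.1)
      (fun X => F.StronglyClosed X ∧ X ≤ W) (fun X hX => hX.2) ⟨hW, le_rfl⟩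
      (fun X hX => hW.1.trans (sc_le_normalizer hX.1))
      (fun X Y hX hY => ⟨sc_inf hX.1 hY.1, inf_le_left.trans hX.2⟩)
      (fun X Y hX hY => ⟨stronglyClosed_sup hS hF hX.1 hY.1, sup_le hX.2 hY.2⟩) hWk
      (fun Q hQW hQk => by
        obtain ⟨P, hP, hQP, hQiP⟩ := hyp.weak Q (hQW.trans hW.1) hQk
        refine ⟨P ⊓ W, ⟨sc_inf hP hW, inf_le_right⟩, ⟨?_, sup_le hQW inf_le_right⟩,
          ⟨by rw [← inf_assoc]; exact sc_inf hQiP hW, inf_le_left.trans hQW⟩⟩
        have e : Q ⊔ P ⊓ W = (Q ⊔ P) ⊓ W := by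
          refine le_antisymm (le_inf (sup_le_sup le_rfl inf_le_left) (sup_le hQW inf_le_right)) fun x hx => ?_
          obtain ⟨a, ha, b, hb, rfl⟩ := mem_sup_split ((hQW.trans hW.1).trans (sc_le_normalizer hP)) hx.1
          exact Subgroup.mul_mem _ (Subgroup.mem_sup_left ha) (Subgroup.mem_sup_right
            ⟨hb, by simpa using W.mul_mem (W.inv_mem (hQW ha)) hx.2⟩)
        exact e ▸ sc_inf hQP hW)
      (L₀ := L) ⟨hL, hLW⟩ hLk
    exact ⟨T, hT, hLT, hTW, hTk⟩
  suffices h : ∀ (n : ℕ) (L : Subgroup Ω), F.StronglyClosed L → Nat.card L < p ^ k →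
      p ^ k - Nat.card L = n → H ≤ L from
    le_bot_iff.1 (h _ ⊥ sc_bot (by rw [Subgroup.card_bot]; exact Nat.one_lt_pow (by omega) hp.out.one_lt) rfl)
  intro n
  induction n using Nat.strong_induction_on with
  | _ n ih =>
  intro L hL hLk hn
  by_contra hHL
  haveI := finite_of_le_base hL.1
  -- strongly closed subgroups properly above `L` contain `H`
  have habove : ∀ X, F.StronglyClosed X → L ≤ X → ¬ X ≤ L → H ≤ X := by
    intro X hX hLX hne
    haveI := finite_of_le_base hX.1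
    rcases Nat.lt_or_ge (Nat.card X) (p ^ k) with hlt | hge
    · have : Nat.card L < Nat.card X :=
        card_lt (lt_of_le_not_ge hLX hne)
      exact ih _ (by omega) X hX hlt rfl
    · obtain ⟨T, hT, -, hTX, hTk⟩ := hmem X ⊥ hX sc_bot bot_le
        (by rw [Subgroup.card_bot]; exact Nat.one_le_pow _ _ hp.out.pos) hge
      exact (hyperfocal_le_of_card hyp hS hF hT hTk).trans hTX
  set K := L ⊔ H with hK
  have hKsc : F.StronglyClosed K := stronglyClosed_sup hS hF hL hHsc
  haveI := finite_of_le_base hKsc.1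
  obtain ⟨T, hT, hLT, -, hTk⟩ := hmem S L sc_top hL hL.1 hLk.le hkS.le
  haveI := finite_of_le_base hT.1
  have hKk : Nat.card K ≤ p ^ k :=
    hTk ▸ Subgroup.card_le_of_le (sup_le hLT (hyperfocal_le_of_card hyp hS hF hT hTk))
  have htop : ∀ α ∈ F.autGroup S, ∃ j, α ^ p ^ j = 1 := fun α hα => pPow_of_large hyp hS hF le_rfl hkS.le hα
  by_cases hcase : Nat.card K ≤ p * Nat.card L ∨
      ∀ M : Subgroup S, IsCoatom M → L.subgroupOf S ≤ M → H.subgroupOf S ≤ M
  · exact hHL (hyperfocal_le_of_quotient hS hF hL htop hcase)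
  push Not at hcase
  obtain ⟨hbig, M, hM, hLM, hHM⟩ := hcase
  haveI hMn := CfsgLib.PGroup.Frattini.normal_of_isCoatom hS hM
  have hMp := CfsgLib.PGroup.Frattini.index_of_isCoatom hS hM
  set M' := M.map S.subtype with hM'
  have hM'S : M' ≤ S := Subgroup.map_subtype_le M
  have hMs : M'.subgroupOf S = M := Subgroup.comap_map_eq_self_of_injective S.subtype_injective M
  set A := M' ⊓ K with hA
  have hLA : L ≤ A := le_inf (fun x hx => ⟨⟨x, hL.1 hx⟩, hLM hx, rfl⟩) le_sup_left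
  have hMcard : Nat.card M' * p = Nat.card S := by
    rw [hM', Subgroup.card_map_of_injective S.subtype_injective, ← hMp, Subgroup.card_mul_index]
  haveI := finite_of_le_base hM'S
  have hkM : p ^ k ≤ Nat.card M' := by
    obtain ⟨m, hm⟩ := IsPGroup.iff_card.1 (hS.to_le hM'S)
    rw [← hMcard, hm, ← pow_succ] at hkS
    rw [hm]
    exact Nat.pow_le_pow_right hp.out.pos (Nat.lt_succ_iff.1 ((Nat.pow_lt_pow_iff_right hp.out.one_lt).1 hkS))
  haveI := finite_of_le_base (inf_le_left.trans hM'S : A ≤ S)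
  have hAL : ¬ A ≤ L := fun hAL => by
    have h1 : Nat.card A ≤ Nat.card L := Subgroup.card_le_of_le hAL
    have h2 : Nat.card K ≤ p * Nat.card A := by
      let f : K →* S ⧸ M := (QuotientGroup.mk' M).comp (Subgroup.inclusion hKsc.1)
      have hk : Nat.card f.ker = Nat.card A := by
        rw [show f.ker = A.subgroupOf K from Subgroup.ext fun x => by
          show f x = 1 ↔ (x : Ω) ∈ A
          rw [hA, Subgroup.mem_inf, and_iff_left x.2]
          show QuotientGroup.mk' M (Subgroup.inclusion hKsc.1 x) = 1 ↔ _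
          rw [QuotientGroup.mk'_apply, QuotientGroup.eq_one_iff, ← hMs]; rfl]
        exact Nat.card_congr (Subgroup.subgroupOfEquivOfLe inf_le_right).toEquiv
      rw [Subgroup.card_eq_card_quotient_mul_card_subgroup f.ker, hk,
        Nat.card_congr (QuotientGroup.quotientKerEquivRange f).toEquiv]
      refine Nat.mul_le_mul_right _ ?_
      exact ((Subgroup.card_le_card_group f.range).trans_eq (Subgroup.index_eq_card M).symm).trans hMp.le
    have := Nat.mul_le_mul_left p h1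
    omega
  obtain ⟨Q, hAQ, hQM, hQk⟩ := exists_between hS (inf_le_left : A ≤ M') hM'S
    ((Subgroup.card_le_of_le inf_le_right).trans hKk) hkM
  have hHM' : ¬ H ≤ M' := fun h => hHM fun x hx => by
    rw [← hMs]; exact h hx
  have hQK : Q ⊓ K ≤ A := le_inf (inf_le_left.trans hQM) inf_le_right
  have hLS : S ≤ Subgroup.normalizer (L : Set Ω) := sc_le_normalizer hL
  obtain ⟨P, hP, hQP, hQiP⟩ := hyp.weak Q (hQM.trans hM'S) hQk
  have hX1 : (Q ⊓ P) ⊓ K ≤ L := by
    by_contra hne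
    have h1 := habove _ (stronglyClosed_sup hS hF hL (sc_inf hQiP hKsc)) le_sup_left
      fun h => hne (le_sup_right.trans h)
    refine hHM' (h1.trans (sup_le (hLA.trans inf_le_left) ?_))
    exact (inf_le_left.trans inf_le_left).trans hQM
  have hPK : P ⊓ K ≤ L := by
    by_contra hne
    have h1 := habove _ (stronglyClosed_sup hS hF hL (sc_inf hP hKsc)) le_sup_left
      fun h => hne (le_sup_right.trans h)
    refine hAL fun a ha => ?_
    have ha' : a ∈ (P ⊓ K) ⊔ L :=
      (sup_le le_sup_right (h1.trans (sup_comm L (P ⊓ K)).le) : K ≤ (P ⊓ K) ⊔ L) ha.2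
    obtain ⟨b, hb, c, hc, rfl⟩ := mem_sup_split ((inf_le_left.trans hP.1).trans hLS) ha'
    refine L.mul_mem (hX1 ⟨⟨?_, hb.1⟩, hb.2⟩) hc
    simpa using Q.mul_mem (hAQ ha) (Q.inv_mem (hAQ (hLA hc)))
  have hPL : P ≤ L := by
    by_contra hne
    have h1 := habove _ (stronglyClosed_sup hS hF hL hP) le_sup_left fun h => hne (le_sup_right.trans h)
    refine hHL fun x hx => ?_
    obtain ⟨b, hb, c, hc, rfl⟩ := mem_sup_split (hP.1.trans hLS) (sup_comm L P ▸ h1 hx : x ∈ P ⊔ L)
    refine L.mul_mem (hPK ⟨hb, ?_⟩) hc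
    simpa using K.mul_mem (Subgroup.mem_sup_right hx) (K.inv_mem (Subgroup.mem_sup_left hc))
  have hQsc : F.StronglyClosed Q := by
    rwa [sup_eq_left.2 (hPL.trans (hLA.trans hAQ))] at hQP
  exact hHM' ((habove Q hQsc (hLA.trans hAQ) fun h => hAL (hAQ.trans h)).trans hQM)

theorem pAut_of_hyperfocal_bot (h : F.hyperfocalSubgroup p = ⊥) : PAut p F := by
  intro P hP α hα
  haveI := finite_of_le_base hP
  haveI : Finite (MulAut P) := Finite.of_injective (fun f : MulAut P => (f : P → P)) DFunLike.coe_injective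
  have hpg : IsPGroup p (F.autGroup P) := isPGroup_of_forall_coprime fun a ha => by
    refine Subtype.ext (mulAut_ext fun x hx => ?_)
    have h1 : x⁻¹ * autFn (a : MulAut P) x ∈ F.hyperfocalSubgroup p := Subgroup.subset_closure
      ⟨P, a, ⟨x, hx⟩, hP, Subgroup.subset_closure ha, by rw [autFn_coe (a : MulAut P) ⟨x, hx⟩]⟩
    rw [h, Subgroup.mem_bot, inv_mul_eq_one] at h1
    rw [Subgroup.coe_one, autFn_id hx, ← h1]
  obtain ⟨k, hk⟩ := hpg ⟨α, hα⟩
  exact ⟨k, congrArg Subtype.val hk⟩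

end CfsgLib.Fsys.WEO
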