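import Cfsg.Agent.Lib.FusionSystem.CentralLift
import Cfsg.Agent.Lib.FusionSystem.CentralizerNormal
import Cfsg.Agent.Lib.FusionSystem.TerminatingSeries
import Cfsg.Agent.Lib.FusionSystem.WeaklyEmbeddedOrder
import Cfsg.Agent.Lib.FusionSystem.NormalMisc
import Cfsg.Agent.Lib.FusionSystem.PPrimeResidual

/-! Constrained systems are the systems without components. -/

set_option autoImplicit false

namespace CfsgLib.Fsys.Comp

open Cfsg Cfsg.FusionSystem
open Cfsg.FusionSystem (centralizerIn normalizerIn imageAlong preimageAlong)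

universe u

variable {Ω : Type u} [Group Ω] {S R : Subgroup Ω} [Finite S] {F : FusionSystem S} {p : ℕ} [Fact p.Prime]
variable {Q : Subgroup Ω}

/-- The inner system of a normal subgroup is a normal subsystem. -/
theorem inner_normalIn (hS : IsPGroup p S) (hF : F.IsSaturated p) (hQ : F.IsNormal Q) :
    (innerFusionSystem Q).IsNormalIn F p := by
  refine ⟨(normal_iff_inner_weaklyNormal hS hF hQ.1).1 hQ, fun α hα => ?_⟩
  haveI := finite_of_le_base hQ.1
  rw [innerFusionSystem_eq_autSystem, autGroup_autSystem] at hα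
  obtain ⟨q, rfl⟩ := hα
  have hle : Q ⊔ centralizerIn S Q ≤ S := sup_le hQ.1 centralizerIn_le
  haveI := finite_of_le_base hle
  refine ⟨MulAut.conj ⟨q, Subgroup.mem_sup_left q.2⟩, inn_le_autGroup hle ⟨_, rfl⟩, fun x => rfl, fun c hc => ?_⟩
  show (c : Ω)⁻¹ * ((q : Ω) * c * (q : Ω)⁻¹) ∈ _
  rw [(mem_centralizerIn.1 hc).2 q q.2, mul_inv_cancel_right, inv_mul_cancel]
  exact Subgroup.one_mem _

theorem inner_hyperfocal (hS : IsPGroup p S) : (innerFusionSystem S).hyperfocalSubgroup p = ⊥ :=
  WEO.hyperfocal_bot_of_pAut hS (pAut_of_le_inner hS fun _ _ h => h)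

/-- The image of a normal subgroup under a surjective morphism is normal. -/
theorem normal_image {Ω' : Type*} [Group Ω'] {S' : Subgroup Ω'} {θ : S →* Ω'} {E : FusionSystem S'}
    (hm : F.IsSurjectiveMorphism E θ) (hQ : F.IsNormal Q) : E.IsNormal (imageAlong θ Q) := by
  have hQ' : imageAlong θ Q ≤ S' := fun y hy => by
    obtain ⟨x, -, hxS, rfl⟩ := mem_imageAlong.1 hy
    exact hm.2.1.le (th_mem_range hxS)
  refine normal_iff_fn.2 ⟨hQ', fun P' f' hf' => ?_⟩
  obtain ⟨f, hf, hfe⟩ := surjective_fn hm hf'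
  obtain ⟨g, hg, hge, hgQ⟩ := (normal_iff_fn.1 hQ).2 _ f hf
  obtain ⟨g', hg', hge'⟩ := morphism_fn hm.1 hg
  have hle : P' ⊔ imageAlong θ Q ≤ imageAlong θ (preimageAlong θ P' ⊔ Q) := by
    refine sup_le (fun y hy => ?_) (fun y hy => ?_)
    · rw [← imageAlong_preimageAlong (hf'.le.trans hm.2.1.ge) (α := θ)] at hy
      obtain ⟨x, hx, hxS, rfl⟩ := mem_imageAlong.1 hy
      exact th_mem_imageAlong (Subgroup.mem_sup_left hx) hxS
    · obtain ⟨x, hx, hxS, rfl⟩ := mem_imageAlong.1 hy
      exact th_mem_imageAlong (Subgroup.mem_sup_right hx) hxS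
  have hg'' := hg'.mono hle
  refine ⟨g', hg'', fun y hy => ?_, le_antisymm (img_le fun y hy => ?_) fun y hy => ?_⟩
  · rw [← imageAlong_preimageAlong (hf'.le.trans hm.2.1.ge) (α := θ)] at hy
    obtain ⟨x, hx, -, rfl⟩ := mem_imageAlong.1 hy
    rw [hge' x (Subgroup.mem_sup_left hx), hge x hx, hfe x hx]
  · obtain ⟨x, hx, -, rfl⟩ := mem_imageAlong.1 hy
    rw [hge' x (Subgroup.mem_sup_right hx)]
    exact th_mem_imageAlong (hgQ.le (mem_img_of_mem hx)) (hg.mem (Subgroup.mem_sup_right hx))
  · obtain ⟨x, hx, -, rfl⟩ := mem_imageAlong.1 hy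
    obtain ⟨z, hz, rfl⟩ := (hg.mono le_sup_right).mem_img.1 (hgQ.ge hx)
    rw [← hge' z (Subgroup.mem_sup_right hz)]
    exact mem_img_of_mem (th_mem_imageAlong hz (hg.le (Subgroup.mem_sup_right hz)))

theorem center_normal_sc : F.IsNormal F.center ∧ F.StronglyClosed F.center :=
  ⟨central_normal center_central, normal_stronglyClosed (central_normal center_central)⟩

/-- A quasisimple system is not constrained. -/
theorem not_quasisimple_of_constrained (hS : IsPGroup p S) (hc : F.IsConstrained p) : ¬ F.Quasisimple p := by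
  rintro ⟨hF, hhyp, hsimp⟩
  have hsc := (center_normal_sc (F := F)).2
  obtain ⟨E, hE⟩ := exists_factorSystem (S' := ⊤) hsc (QuotientGroup.mk' ((F.center).subgroupOf S))
    (fun s => (QuotientGroup.eq_one_iff s).trans Subgroup.mem_subgroupOf)
    (MonoidHom.range_eq_top.2 (QuotientGroup.mk'_surjective _))
  set θ := QuotientGroup.mk' ((F.center).subgroupOf S) with hθ
  have hm := factor_surjectiveMorphism hS hF hsc hE
  obtain ⟨hEs, hne, hsimple⟩ := hsimp E hE
  haveI := finite_target hm
  have hEp : IsPGroup p (⊤ : Subgroup (S ⧸ (F.center).subgroupOf S)) := (hS.to_quotient _).to_subgroup _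
  have hEn := inner_normalIn hEp hEs (normal_image hm (core_normal (F := F)))
  rcases hsimple _ _ hEn with h | ⟨h, hhom⟩
  · refine hne (le_bot_iff.1 fun y _ => ?_)
    obtain ⟨s, rfl⟩ := QuotientGroup.mk'_surjective _ y
    have hQZ : ∀ q ∈ F.core, q ∈ F.center := fun q hq =>
      (factor_ker hE (core_le_base hq)).1
        (Subgroup.mem_bot.1 (h.le (th_mem_imageAlong hq (core_le_base hq))))
    have hsQ : (s : Ω) ∈ F.core := centralizer_le_of_centric (core_centric hc) (mem_centralizerIn.2
      ⟨s.2, fun q hq => (Subgroup.mem_centralizer_iff.1 (F.center_le_centralizer (hQZ q hq)) s s.2).symm⟩)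
    rw [Subgroup.mem_bot, ← th_coe (α := θ) s]
    exact (factor_ker hE s.2).2 (hQZ _ hsQ)
  · rw [h] at hhom
    have he : E = innerFusionSystem (⊤ : Subgroup (S ⧸ (F.center).subgroupOf S)) :=
      system_ext fun P => (hhom P).symm
    have h1 := surjectiveMorphism_hyperfocal (p := p) hm
    rw [he, inner_hyperfocal hEp, hhyp] at h1
    refine hne (le_bot_iff.1 fun y _ => ?_)
    obtain ⟨a, rfl⟩ := QuotientGroup.mk'_surjective _ y
    rw [h1]
    exact mem_imageAlong.2 ⟨a, a.2, a.2, th_coe a⟩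

/-- A constrained system has no component. -/
theorem no_component (hS : IsPGroup p S) (hc : F.IsConstrained p) :
    ¬ ∃ (T : Subgroup Ω) (C : FusionSystem T), C.IsComponentIn F p := by
  rintro ⟨T, C, hsub, hq⟩
  have hTS : T ≤ S := by
    have key : ∀ {T U : Subgroup Ω} {C : FusionSystem T} {G : FusionSystem U} {q : ℕ},
        C.IsSubnormalIn G q → T ≤ U := by
      intro T U C G q h
      induction h with
      | refl => exact le_rfl
      | step _ hD ih => exact ih.trans (subsystem_le hD.1.2.2.1)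
    exact key hsub
  haveI := finite_of_le_base hTS
  exact not_quasisimple_of_constrained (hS.to_le hTS)
    (constrained_of_subnormal hsub inferInstance inferInstance hS hc) hq

/-- A normal constrained subsystem over `R` forces `C_R(O_p(F)) ≤ O_p(F)`. -/
theorem centralizer_core_le (hS : IsPGroup p S) {D : FusionSystem R} (hD : D.IsWeaklyNormalIn F p)
    (hc : D.IsConstrained p) : centralizerIn R F.core ≤ F.core := by
  have hRS : R ≤ S := subsystem_le hD.2.2.1
  haveI := finite_of_le_base hRS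
  have hU := normal_closure_images hS hD.2.1 hD (core_normal (F := D))
  intro x hx
  obtain ⟨hxR, hxc⟩ := mem_centralizerIn.1 hx
  have hle : D.core ≤ F.core := fun y hy => by
    obtain ⟨φ, hφ, hφy⟩ := fn_id (F := F) ((core_le_base (F := D)).trans hRS)
    exact le_core hU (Subgroup.subset_closure ⟨φ, hφ, ⟨y, hy⟩, (hφy ⟨y, hy⟩).symm⟩)
  exact hle (centralizer_le_of_centric (core_centric hc) (mem_centralizerIn.2
    ⟨hxR, fun y hy => hxc y (hle hy)⟩))

/-- A normal constrained subsystem over `S` makes the system constrained. -/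
theorem constrained_of_normal_top {D : FusionSystem S} (hS : IsPGroup p S) (hD : D.IsWeaklyNormalIn F p)
    (hc : D.IsConstrained p) : F.IsConstrained p :=
  ⟨hD.2.1, _, core_normal, normal_centric core_normal (centralizer_core_le hS hD hc)⟩

/-- The minimality hypothesis: all proper normal subsystems are constrained. -/
def Minimal (p : ℕ) (F : FusionSystem S) : Prop :=
  ∀ (T : Subgroup Ω) (D : FusionSystem T), D.IsNormalIn F p →
    ¬ (T = S ∧ ∀ P : Subgroup Ω, D.Hom P = F.Hom P) → D.IsConstrained p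

theorem core_le_center (hS : IsPGroup p S) (hF : F.IsSaturated p) (hnc : ¬ F.IsConstrained p)
    (hmin : Minimal p F) : F.core ≤ F.center := by
  have hQ : F.IsNormal F.core := core_normal
  have hn := inner_normalIn hS hF hQ
  obtain ⟨D, hD, hDc⟩ := Red.exists_centralizer_normal hS hn
  have hK : centralizerIn S F.core ≤ WNR.fixedSubgroup p F (innerFusionSystem F.core) := by
    refine WNR.le_fixedSubgroup hS hF hn.1.2.2 le_rfl ((WNR.centralized_iff hn.1.2.2.1 le_rfl).2 ?_)
    rintro P f ⟨φ, ⟨hP, g, hg, hφ⟩, hφf⟩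
    refine ⟨fun x => g * x * g⁻¹, fn_conj (sup_le (hP.trans hQ.1) centralizerIn_le) (hQ.1 hg),
      fun x hx => (hφ ⟨x, hx⟩).symm.trans (hφf ⟨x, hx⟩), fun x hx => ?_⟩
    show g * x * g⁻¹ = x
    rw [(mem_centralizerIn.1 hx).2 g hg, mul_inv_cancel_right]
  have hDn : ¬ D.IsConstrained p := fun hc => by
    refine hnc ⟨hF, _, hQ, normal_centric hQ fun x hx => ?_⟩
    exact centralizer_core_le hS hD.1 hc (mem_centralizerIn.2 ⟨hK hx, (mem_centralizerIn.1 hx).2⟩)
  obtain ⟨-, hhom⟩ := not_not.1 fun h => hDn (hmin _ D hD h)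
  refine le_center ⟨hQ.1, fun P φ hφ => ?_⟩
  obtain ⟨-, -, -, h⟩ := hDc P ((hhom P).symm ▸ hφ)
  exact h

/-- A system which is not constrained while its proper normal subsystems are is quasisimple. -/
theorem quasisimple_of_minimal (hS : IsPGroup p S) (hF : F.IsSaturated p) (hnc : ¬ F.IsConstrained p)
    (hmin : Minimal p F) : F.Quasisimple p := by
  classical
  have hHS : F.hyperfocalSubgroup p ≤ S := CfsgLib.Fsys.hyperfocal_le
  have hhyp : F.hyperfocalSubgroup p = S := by
    by_contra hne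
    obtain ⟨D, hDs, hDi⟩ := exists_pPowerIndex hS hF hHS le_rfl
    have hDn := pPowerIndex_normal hS hF (fun s hs x hx => hyperfocal_conj hS hs hx) hDs hDi
    exact hnc (Red.constrained_of_pResidual hS hF rfl hDs hDi (hmin _ D hDn fun h => hne h.1))
  refine ⟨hF, hhyp, fun E hE => ?_⟩
  set θ := QuotientGroup.mk' ((F.center).subgroupOf S) with hθ
  have hsc := (center_normal_sc (F := F)).2
  have hm := factor_surjectiveMorphism hS hF hsc hE
  refine ⟨surjectiveMorphism_saturated hS hF hm, fun h => hnc ?_, fun T' D hD => ?_⟩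
  · refine ⟨hF, _, core_normal, normal_centric core_normal fun x hx => ?_⟩
    refine le_core (center_normal_sc (F := F)).1 ((factor_ker hE (centralizerIn_le hx)).1 ?_)
    exact Subgroup.mem_bot.1 (h.le (Subgroup.mem_top _))
  · have hd : Lift.Data p F F.center θ E D := ⟨hS, hF, center_central, hE, hD⟩
    set T := Lift.base θ T' with hT
    obtain ⟨L, hL, hLD⟩ := hd.exists_weaklyNormal_lift
    have hTS : T ≤ S := preimageAlong_le
    haveI := finite_of_le_base hTS
    obtain ⟨N, hN⟩ := exists_pPrimeResidual (hS.to_le hTS) hL.1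
    have hNn := WNR.residual_normal hS hL hN
    by_cases hc : N.IsConstrained p
    · refine Or.inl (le_bot_iff.1 fun y hy => ?_)
      rw [← hd.image_base] at hy
      obtain ⟨x, hx, hxS, rfl⟩ := mem_imageAlong.1 hy
      have hxc : x ∈ F.core := centralizer_core_le hS hNn.1 hc (mem_centralizerIn.2 ⟨hx, fun q hq =>
        (Subgroup.mem_centralizer_iff.1
          (F.center_le_centralizer (core_le_center hS hF hnc hmin hq)) x hxS).symm⟩)
      rw [Subgroup.mem_bot]
      exact (factor_ker hE hxS).2 (core_le_center hS hF hnc hmin hxc)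
    · obtain ⟨hTeq, hhom⟩ := not_not.1 fun h => hc (hmin _ N hNn h)
      have hT' : T' = ⊤ := by
        refine top_le_iff.1 fun y _ => ?_
        obtain ⟨s, rfl⟩ := QuotientGroup.mk'_surjective _ y
        have hs : (s : Ω) ∈ T := hTeq.symm ▸ s.2
        rw [← th_coe (α := θ) s]
        exact (mem_preimageAlong.1 hs).2
      refine Or.inr ⟨hT', fun P' => Set.Subset.antisymm (hD.1.2.2.1 P') fun φ' hφ' => ?_⟩
      obtain ⟨hP', f, hf, hfe⟩ := (factor_fn hsc hE).1 (fn_ofHom hφ')
      obtain ⟨φ, hφ, hφf⟩ := id hf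
      have hfL : Fn L (preimageAlong θ P') f := ⟨φ, hN.2.1.1 _ ((hhom _).symm ▸ hφ), hφf⟩
      obtain ⟨f', hf', hfe'⟩ := hLD _ _ hfL
      have hPr : P' ≤ θ.range := hP'.trans (factor_range hE).ge
      rw [imageAlong_preimageAlong hPr] at hf'
      refine mem_hom_of_fn hf' fun y => ?_
      have hy := y.2
      obtain ⟨x, hx, -, hxy⟩ := mem_imageAlong.1 (show (y : S ⧸ (F.center).subgroupOf S) ∈
        imageAlong θ (preimageAlong θ P') by rw [imageAlong_preimageAlong hPr]; exact hy)
      rw [← hxy, hfe' x hx, ← hfe x hx, hxy, ofHom_coe]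

/-! ### Induction -/

/-- The set of all maps of a system. -/
def maps (F : FusionSystem S) : Set (Σ P : Subgroup Ω, (P →* Ω)) := {q | q.2 ∈ F.Hom q.1}

theorem maps_finite (F : FusionSystem S) : (maps F).Finite := by
  classical
  let g : maps F → Subgroup S × (S → S) := fun q =>
    (q.1.1.subgroupOf S, fun s => if h : (s : Ω) ∈ q.1.1 then ⟨q.1.2 ⟨s, h⟩, (F.le_of_mem q.2).2 _⟩ else 1)
  haveI : Finite (maps F) := by
    refine Finite.of_injective g fun q q' he => ?_
    obtain ⟨⟨P, φ⟩, hφ⟩ := q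
    obtain ⟨⟨P', φ'⟩, hφ'⟩ := q'
    have hP : P ≤ S := (F.le_of_mem hφ).1
    have hP' : P' ≤ S := (F.le_of_mem hφ').1
    obtain ⟨e1, e2⟩ := Prod.mk.inj he
    obtain rfl : P = P' := by
      rw [← Subgroup.map_subgroupOf_eq_of_le hP, ← Subgroup.map_subgroupOf_eq_of_le hP']
      exact congrArg _ e1
    have hφe : φ = φ' := MonoidHom.ext fun x => by
      have := congrArg Subtype.val (congrFun e2 ⟨x, hP x.2⟩)
      simpa only [dif_pos x.2] using this
    subst hφe
    rfl
  exact Set.toFinite _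

theorem maps_ssubset {T : Subgroup Ω} [Finite T] {D : FusionSystem T} (hD : D.IsSubsystemOf F)
    (hne : ¬ (T = S ∧ ∀ P : Subgroup Ω, D.Hom P = F.Hom P)) : maps D ⊂ maps F := by
  refine ⟨fun q hq => hD q.1 hq, fun h => hne ?_⟩
  have hall : ∀ (P : Subgroup Ω) (φ : P →* Ω), φ ∈ F.Hom P → φ ∈ D.Hom P := fun P φ hφ =>
    h (show (⟨P, φ⟩ : Σ P : Subgroup Ω, (P →* Ω)) ∈ maps F from hφ)
  refine ⟨le_antisymm (subsystem_le hD) ?_, fun P => Set.Subset.antisymm (hD P) (hall P)⟩
  exact (D.le_of_mem (hall S _ (F.conj_mem le_rfl S.one_mem))).1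

/-- A system which is not constrained has a component. -/
theorem exists_component : ∀ (n : ℕ) {S : Subgroup Ω} [Finite S] {F : FusionSystem S}, (maps F).ncard = n →
    IsPGroup p S → F.IsSaturated p → ¬ F.IsConstrained p →
    ∃ (T : Subgroup Ω) (C : FusionSystem T), C.IsComponentIn F p := by
  intro n
  induction n using Nat.strong_induction_on with
  | _ n ih =>
  intro S _ F hn hS hF hnc
  by_cases hmin : Minimal p F
  · exact ⟨S, F, IsSubnormalIn.refl F p, quasisimple_of_minimal hS hF hnc hmin⟩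
  · unfold Minimal at hmin
    push Not at hmin
    obtain ⟨T, D, hD, hne, hDc⟩ := hmin
    have hsub : D.IsSubsystemOf F := hD.1.2.2.1
    have hTS := subsystem_le hsub
    haveI := finite_of_le_base hTS
    have hlt : (maps D).ncard < n := hn ▸ Set.ncard_lt_ncard
      (maps_ssubset hsub fun h => by obtain ⟨P, hP⟩ := hne h.1; exact hP (h.2 P)) (maps_finite F)
    obtain ⟨U, C, hC, hCq⟩ := ih _ hlt rfl (hS.to_le hTS) hD.1.1 hDc
    exact ⟨U, C, IsSubnormalIn.step hC hD, hCq⟩

/-- Constrained systems are exactly the systems without components. -/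
theorem constrained_iff_no_component (hS : IsPGroup p S) (hF : F.IsSaturated p) :
    F.IsConstrained p ↔ ¬ ∃ (T : Subgroup Ω) (C : FusionSystem T), C.IsComponentIn F p :=
  ⟨no_component hS, fun h => by_contra fun hnc => h (exists_component _ rfl hS hF hnc)⟩

end CfsgLib.Fsys.Comp
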