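import Cfsg.Agent.Lib.FusionSystem.WeaklyNormalResidual

/-! The `p'`-residual lies in every weakly normal subsystem over the same subgroup. -/

set_option autoImplicit false

namespace CfsgLib.Fsys.WNR

open Cfsg Cfsg.FusionSystem
open Cfsg.FusionSystem (centralizerIn normalizerIn)

variable {Ω : Type*} [Group Ω] {S T : Subgroup Ω} {F : FusionSystem S} {E E' D : FusionSystem T}
variable {p : ℕ} [Fact p.Prime]

/-- The common maps of two systems. -/
def interSystem (E E' : FusionSystem T) : FusionSystem T :=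
  predSystem E (fun P f => Fn E' P f) (fun _ _ _ he _ h => h.congr he) (fun _ hP _ hs => fn_conj hP hs)
    (fun _ _ _ _ _ _ hm h h' => h.comp h' hm)
    (fun P f g hf _ hgf h => by
      obtain ⟨k, hk, hkf, -⟩ := h.exists_inv
      exact hk.congr fun y hy => by
        obtain ⟨x, hx, rfl⟩ := hf.mem_img.1 hy
        rw [hkf x hx, hgf x hx])

omit [Fact p.Prime] in
theorem fn_inter {P : Subgroup Ω} {f : Ω → Ω} : Fn (interSystem E E') P f ↔ Fn E P f ∧ Fn E' P f := fn_predSystem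

/-- The intersection is invariant under `Aut_F(T)`. -/
theorem inter_transform (hE : E.IsInvariantIn F) (hE' : E'.IsInvariantIn F) {α : MulAut T}
    (hα : α ∈ F.autGroup T) {P : Subgroup Ω} {g : Ω → Ω} (hg : Fn (interSystem E E') P g) :
    ∃ χ : Ω → Ω, Fn (interSystem E E') (img (autFn α) P) χ ∧ ∀ x ∈ P, χ (autFn α x) = autFn α (g x) := by
  obtain ⟨h1, h2⟩ := fn_inter.1 hg
  obtain ⟨χ, hχ, hχe⟩ := Invariant.aut hE h1.le h1 hα
  obtain ⟨χ', hχ', hχe'⟩ := Invariant.aut hE' h1.le h2 hα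
  have hαf := (mem_autGroup_iff_fn hE.2.1.1).1 hα
  refine ⟨χ, fn_inter.2 ⟨hχ, hχ'.congr fun y hy => ?_⟩, hχe⟩
  obtain ⟨x, hx, rfl⟩ := (hαf.mono h1.le).mem_img.1 hy
  rw [hχe x hx, hχe' x hx]

variable [Finite S]

/-- In a product of two normal automizers a power of index prime to `p` is inner. -/
theorem exists_coprime_pow_inner (hE : E.IsWeaklyNormalIn F p) (hE' : E'.IsWeaklyNormalIn F p)
    {a g : MulAut T} (ha : a ∈ E'.autGroup T) (hg : g ∈ E.autGroup T) :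
    ∃ r : ℕ, Nat.Coprime r p ∧ (a * g) ^ r ∈ Inn T := by
  haveI := finite_of_le_base hE.2.2.2.1.1
  have key : ∀ (G : FusionSystem T), G.IsSaturated p →
      ∃ r : ℕ, Nat.Coprime r p ∧ ∀ x ∈ G.autGroup T, x ^ r ∈ Inn T := by
    intro G hG
    obtain ⟨-, P, hP⟩ := fullyAutomized_top hG
    haveI : ((Inn T).subgroupOf (G.autGroup T)).Normal := inn_normal_aut
    refine ⟨((Inn T).subgroupOf (G.autGroup T)).index, ?_, fun x hx => ?_⟩
    · have h := P.not_dvd_index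
      rw [hP, autInducedBy_self] at h
      exact ((Fact.out : p.Prime).coprime_iff_not_dvd.2 h).symm
    · exact Subgroup.mem_subgroupOf.1 (Subgroup.pow_index_mem ((Inn T).subgroupOf (G.autGroup T)) ⟨x, hx⟩)
  obtain ⟨r₂, hr₂, h₂⟩ := key E' hE'.1
  obtain ⟨r₁, hr₁, h₁⟩ := key E hE.1
  have haF := autGroup_mono' hE'.2.2.1 T ha
  have hj : ∀ j : ℕ, ∃ k ∈ E.autGroup T, (a * g) ^ j = a ^ j * k := fun j => by
    induction j with
    | zero => exact ⟨1, Subgroup.one_mem _, by simp⟩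
    | succ j ih =>
      obtain ⟨k, hk, hke⟩ := ih
      have hc := Invariant.conj_mem hE.2.2 le_rfl (inv_mem haF) hk
      rw [inv_inv] at hc
      refine ⟨a⁻¹ * k * a * g, mul_mem hc hg, ?_⟩
      rw [pow_succ, hke, pow_succ]
      group
  obtain ⟨k, hk, hke⟩ := hj r₂
  have hin : (a * g) ^ r₂ ∈ E.autGroup T := hke ▸ mul_mem (inn_le_autGroup le_rfl (h₂ a ha)) hk
  exact ⟨r₂ * r₁, Nat.Coprime.mul_left hr₂ hr₁, by rw [pow_mul]; exact h₁ _ hin⟩

set_option maxHeartbeats 800000 in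
/-- An automorphism of `T` in one system lying in the other on a centric subgroup lies there on `T`. -/
theorem fn_top_of_restrict (hS : IsPGroup p S) (hE : E.IsWeaklyNormalIn F p) (hE' : E'.IsWeaklyNormalIn F p)
    {γ : MulAut T} (hγ : γ ∈ E.autGroup T) {Y : Subgroup Ω} (hY : E.IsCentric Y) (h : Fn E' Y (autFn γ)) :
    Fn E' T (autFn γ) := by
  classical
  have hEi := hE.2.2
  have hEi' := hE'.2.2
  have hT := hEi.2.1
  haveI := finite_of_le_base hT.1
  have hTp := hS.to_le hT.1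
  have hγF := autGroup_mono' hEi.1 T hγ
  have hγf := (mem_autGroup_iff_fn hT.1).1 hγF
  refine induction_down (S := T) (C := fun Y => E.IsCentric Y → Fn E' Y (autFn γ) → Fn E' T (autFn γ))
    Y hY.1 ?_ hY h
  intro Y hYT ih hY h
  rcases eq_or_lt_of_le hYT with rfl | hlt
  · exact h
  set N := normalizerIn T Y with hNdef
  have hYN : Y < N := lt_normalizerIn hTp hlt
  have hNT : N ≤ T := inf_le_left
  haveI := finite_of_le_base (hNT.trans hT.1)
  haveI := finite_of_le_base (hYT.trans hT.1)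
  have hYc := centric_img hEi hY (hγf.mono hYT)
  obtain ⟨M, k₀, hk₀, hYM, hM, hk₀γ⟩ := receptive_extend (fullyCentralized_receptive hTp hE'.1
    (isCentric_of_le (F := E') (E := E') (fun _ _ h => h) (centric_of_invariant hEi hEi'.1 hYc)).2) h rfl
  have hNM : N ≤ M := fun n hn => (hM n).2
    ⟨hn.1, hn.2, autFn γ n, autFn_mem γ hn.1, fun x hx => hγf.map_conj hn.1 (hYT hx)⟩
  have hk := hk₀.mono hNM
  have hkF := Fn.of_subsystem hEi'.1 hk
  have hkn : ∀ n ∈ N, ∃ y ∈ Y, autFn γ n = k₀ (n * y) := fun n hn => by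
    have hmem : (k₀ n)⁻¹ * autFn γ n ∈ img (autFn γ) Y := by
      refine mem_of_commute hYc (T.mul_mem (T.inv_mem (hk.mem hn)) (autFn_mem γ hn.1)) fun z hz => ?_
      obtain ⟨y, hy, rfl⟩ := (hγf.mono hYT).mem_img.1 hz
      have hny : n * y * n⁻¹ ∈ Y := (mem_normalizer_iff'.1 hn.2).1 y hy
      have heq : k₀ n * autFn γ y * (k₀ n)⁻¹ = autFn γ n * autFn γ y * (autFn γ n)⁻¹ := by
        rw [← hγf.map_conj hn.1 (hYT hy), ← hk₀γ y hy, ← hkF.map_conj hn (hYN.le hy), hk₀γ _ hny]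
      calc autFn γ y * ((k₀ n)⁻¹ * autFn γ n) = (k₀ n)⁻¹ * (k₀ n * autFn γ y * (k₀ n)⁻¹) * autFn γ n := by group
        _ = (k₀ n)⁻¹ * (autFn γ n * autFn γ y * (autFn γ n)⁻¹) * autFn γ n := by rw [heq]
        _ = (k₀ n)⁻¹ * autFn γ n * autFn γ y := by group
    obtain ⟨y, hy, hye⟩ := (hγf.mono hYT).mem_img.1 hmem
    exact ⟨y, hy, by rw [hk.map_mul hn (hYN.le hy), hk₀γ y hy, hye, mul_inv_cancel_left]⟩
  have hγm : ∀ n ∈ N, autFn γ n ∈ img k₀ N := fun n hn => by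
    obtain ⟨y, hy, hye⟩ := hkn n hn
    exact hye ▸ mem_img_of_mem (N.mul_mem hn (hYN.le hy))
  obtain ⟨k', hk', hk'k, hk'i⟩ := hkF.exists_inv
  have hd₀ := (hγf.mono hNT).comp hk' hγm
  obtain ⟨d, hd, hde⟩ := exists_aut_of_fn hd₀ (hd₀.img_eq_self fun x hx => hk'i.le (mem_img_of_mem (hγm x hx)))
  have hkd : ∀ n ∈ N, k₀ (autFn d n) = autFn γ n := fun n hn => by
    obtain ⟨y, hy, hye⟩ := hkn n hn
    rw [autFn_coe d ⟨n, hn⟩, hde]
    show k₀ (k' (autFn γ n)) = _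
    rw [hye, hk'k _ (N.mul_mem hn (hYN.le hy))]
  have hdY : ∀ y ∈ Y, autFn d y = y := fun y hy => by
    refine hkF.inj (autFn_mem d (hYN.le hy)) (hYN.le hy) ?_
    rw [hkd y (hYN.le hy), hk₀γ y hy]
  have hdN : ∀ n ∈ N, n⁻¹ * autFn d n ∈ Y := fun n hn => by
    obtain ⟨y, hy, hye⟩ := hkn n hn
    have : autFn d n = n * y := hkF.inj (autFn_mem d hn) (N.mul_mem hn (hYN.le hy)) (by rw [hkd n hn, hye])
    rwa [this, inv_mul_cancel_left]
  obtain ⟨K, hK⟩ := IsPGroup.iff_card.1 (hS.to_le (hYT.trans hT.1))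
  have hdp : d ^ p ^ K = 1 := by rw [← hK]; exact pow_card_eq_one_of_fix hYN.le hdY hdN
  let DM := interSystem E E'
  have hDM : ∀ P : Subgroup Ω, E'.IsCentric P → opAut p E' P ≤ DM.autGroup P := fun P hP =>
    opAut_closure fun τ hτ ⟨i, hi⟩ => (mem_autGroup_iff_fn hP.1).2 (fn_inter.2
      ⟨(mem_autGroup_iff_fn hP.1).1 (pElement_mem hS hE' hEi hP.1 hτ hi), (mem_autGroup_iff_fn hP.1).1 hτ⟩)
  obtain ⟨μ₁, hμ₁, e₁, he₁F, he₁d, hke⟩ := exists_good_decomp hTp hE'.1 hDM hk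
  have he₁ : Fn DM N e₁ := he₁d.fn he₁F fun x _ => rfl
  set μ := μ₁⁻¹ * γ with hμ
  have hμF : μ ∈ F.autGroup T := mul_mem (inv_mem (autGroup_mono' hEi'.1 T hμ₁)) hγF
  have hμf := (mem_autGroup_iff_fn hT.1).1 hμF
  have he₁m : ∀ n ∈ N, e₁ (autFn d n) = autFn μ n := fun n hn => by
    have h1 := hkd n hn
    rw [hke _ (autFn_mem d hn)] at h1
    rw [hμ, autFn_mul _ _ (hNT hn), ← h1, autFn_inv_apply μ₁ (he₁.mem (autFn_mem d hn))]
  have himg : img e₁ N = img (autFn μ) N := by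
    refine le_antisymm (img_le fun n hn => ?_) (img_le fun n hn => he₁m n hn ▸ mem_img_of_mem (autFn_mem d hn))
    obtain ⟨m, hm, rfl⟩ : ∃ m ∈ N, autFn d m = n := ⟨autFn d⁻¹ n, autFn_mem _ hn, autFn_apply_inv d hn⟩
    exact he₁m m hm ▸ mem_img_of_mem hm
  obtain ⟨e₁', he₁', he₁e, -⟩ := he₁.exists_inv
  obtain ⟨e, he, hee⟩ := inter_transform hEi hEi' (inv_mem hμF) he₁'
  have hi : img (autFn μ⁻¹) (img e₁ N) = N := by
    rw [himg, ← (hμf.mono hNT).img_comp]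
    exact (img_congr (g := id) fun x hx => autFn_inv_apply μ (hNT hx)).trans (img_id N)
  rw [hi] at he
  have hdec : ∀ n ∈ N, autFn d n = autFn μ (e n) := fun n hn => by
    have hm : autFn μ n ∈ img e₁ N := himg ▸ mem_img_of_mem hn
    have h1 := hee _ hm
    rw [autFn_inv_apply μ (hNT hn)] at h1
    rw [h1, autFn_apply_inv μ (he₁'.mem hm), ← he₁m n hn, he₁e _ (autFn_mem d hn)]
  have hpow : ∀ j : ℕ, ∃ u : Ω → Ω, Fn DM N u ∧ ∀ n ∈ N, autFn (d ^ j) n = autFn (μ ^ j) (u n) := fun j => by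
    induction j with
    | zero => exact ⟨id, fn_id hNT, fun n hn => by rw [pow_zero, pow_zero, autFn_id hn]; exact (autFn_id (hNT hn)).symm⟩
    | succ j ihj =>
      obtain ⟨u, hu, hue⟩ := ihj
      obtain ⟨χ, hχ, hχe⟩ := inter_transform hEi hEi' (inv_mem hμF) hu
      have hem : ∀ n ∈ N, e n ∈ img (autFn μ⁻¹) N := fun n hn => by
        have h1 := mem_img_of_mem (f := autFn μ⁻¹) (autFn_mem d hn)
        rwa [hdec n hn, autFn_inv_apply μ (he.mem hn)] at h1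
      refine ⟨χ ∘ e, he.comp hχ hem, fun n hn => ?_⟩
      have h1 := hχe _ (autFn_mem d hn)
      have h2 : autFn μ⁻¹ (autFn d n) = e n := by rw [hdec n hn, autFn_inv_apply μ (he.mem hn)]
      rw [h2] at h1
      show autFn (d ^ (j + 1)) n = autFn (μ ^ (j + 1)) (χ (e n))
      rw [h1, pow_succ, autFn_mul _ _ hn, hue _ (autFn_mem d hn), pow_succ,
        autFn_mul _ _ (autFn_mem _ (hu.mem (autFn_mem d hn))), autFn_apply_inv μ (hu.mem (autFn_mem d hn))]
  obtain ⟨r, hr, hinn⟩ := exists_coprime_pow_inner hE hE' (inv_mem hμ₁) hγ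
  obtain ⟨t, ht⟩ := hinn
  obtain ⟨u, hu, hue⟩ := hpow r
  have hdr : d ^ r ∈ DM.autGroup N := (mem_autGroup_iff_fn hNT).2
    ((hu.comp (fn_conj (le_refl T) t.2) fun n hn => hu.mem hn).congr fun n hn => by
      rw [hue n hn, hμ, ← ht, autFn_coe _ ⟨u n, hu.mem hn⟩]
      rfl)
  have hord : Nat.Coprime r (orderOf d) := by
    obtain ⟨i, -, hi⟩ := (Nat.dvd_prime_pow Fact.out).1 (orderOf_dvd_of_pow_eq_one hdp)
    rw [hi]
    exact hr.pow_right i
  obtain ⟨s, hs⟩ := exists_pow_eq_self_of_coprime hord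
  have hdDM : d ∈ DM.autGroup N := hs ▸ Subgroup.pow_mem _ hdr s
  have hγN : Fn E' N (autFn γ) :=
    ((fn_inter.1 ((mem_autGroup_iff_fn hNT).1 hdDM)).2.comp hk fun n hn => autFn_mem d hn).congr hkd
  exact ih N hNT (Set.Finite.card_lt_card (Set.toFinite (N : Set Ω)) hYN) (isCentric_mono hY hYN.le hNT) hγN

/-- The residual lies in every weakly normal subsystem over the same subgroup. -/
theorem residual_le (hS : IsPGroup p S) (hE : E.IsWeaklyNormalIn F p) (hE' : E'.IsWeaklyNormalIn F p)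
    (hD : E.IsPPrimeResidual p D) : D.IsSubsystemOf E' := by
  have hT := hE.2.2.2.1
  haveI := finite_of_le_base hT.1
  have hle := pPrimeResidual_le (hS.to_le hT.1) hE.1 hD (interSystem E E')
    (fun P hP => opAut_closure fun τ hτ ⟨i, hi⟩ => (mem_autGroup_iff_fn hP.1).2 (fn_inter.2
      ⟨(mem_autGroup_iff_fn hP.1).1 hτ, (mem_autGroup_iff_fn hP.1).1 (pElement_mem hS hE hE'.2.2 hP.1 hτ hi)⟩))
    fun β hβ P hP hβP => fn_inter.2 ⟨(mem_autGroup_iff_fn le_rfl).1 hβ,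
      fn_top_of_restrict hS hE hE' hβ hP (fn_inter.1 hβP).2⟩
  exact fun P φ hφ => mem_hom_iff.2 (fn_inter.1 (mem_hom_iff.1 (hle P hφ))).2

end CfsgLib.Fsys.WNR
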