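import Cfsg.Agent.Lib.FusionSystem.CoreDisplacement
import Cfsg.Agent.Lib.FusionSystem.Components

/-! A normal subgroup is centralized by every component. -/

set_option autoImplicit false

namespace CfsgLib.Fsys.CoreLayer

open Cfsg Cfsg.FusionSystem CfsgLib.Fsys.WNR
open Cfsg.FusionSystem (centralizerIn normalizerIn imageAlong preimageAlong)

universe u

variable {Ω : Type u} [Group Ω] {S T Q : Subgroup Ω} [Finite S] {F : FusionSystem S} {E : FusionSystem T}
  {p : ℕ} [Fact p.Prime]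

/-- The centralizer system of a normal subgroup is a normal subsystem. -/
theorem exists_normal_centralizer (hS : IsPGroup p S) (hF : F.IsSaturated p) (hQ : F.IsNormal Q) :
    ∃ D : FusionSystem (centralizerIn S Q), F.IsCentralizerSystem Q D ∧ D.IsNormalIn F p := by
  classical
  have hQsc := normal_stronglyClosed hQ
  obtain ⟨-, hQn⟩ := normal_iff_fn.1 hQ
  obtain ⟨D, hD⟩ := exists_centralizerSystem (F := F) hQ.1
  have hKS : (centralizerIn S Q) ≤ S := centralizerIn_le
  haveI := finite_of_le_base hKS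
  haveI := finite_of_le_base hQ.1
  have hQc := (fullyNormalized_good hS hF
    (fullyNormalized_of_weaklyClosed (weaklyClosed_of_stronglyClosed hQsc))).2
  have hKmap : ∀ {P : Subgroup Ω} {g : Ω → Ω}, Fn F (P ⊔ Q) g → img g Q = Q → ∀ x ∈ P, x ∈ (centralizerIn S Q) → g x ∈ (centralizerIn S Q) :=
    fun hg hgQ x hx hxK => hg.map_centralizer le_sup_right hgQ (Subgroup.mem_sup_left hx) hxK
  have hK : F.StronglyClosed (centralizerIn S Q) := stronglyClosed_iff_fn.2 ⟨hKS, fun P f hf x hx hxK => by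
    obtain ⟨g, hg, hge, hgQ⟩ := hQn P f hf
    rw [← hge x hx]
    exact hKmap hg hgQ x hx hxK⟩
  have hDF : D.IsSubsystemOf F := fun P φ h => by
    rw [hD P] at h
    exact h.1
  refine ⟨D, hD, ⟨centralizerSystem_saturated hS hF hQc hD, hF, hDF, hK, fun P hP φ hφ α hα => ?_,
    fun P hP φ hφ => ?_⟩, fun α hα => ?_⟩
  · obtain ⟨a, ha, hae, haQ⟩ := hQn (centralizerIn S Q) _ ((mem_autGroup_iff_fn hKS).1 hα)
    obtain ⟨-, hφK, u, hu, hue, huQ⟩ := (fn_centralizer hD).1 (fn_ofHom hφ)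
    have haP := ha.mono (sup_le_sup_right hP Q)
    obtain ⟨b, hb, hba, hbi⟩ := haP.exists_inv
    rw [haP.img_sup, img_congr (fun x hx => hae x (hP hx)), haQ] at hb hbi
    have hbm : ∀ y ∈ img (autFn α) P ⊔ Q, b y ∈ P ⊔ Q := fun y hy => hbi.le (mem_img_of_mem hy)
    have hum : ∀ y ∈ P ⊔ Q, u y ∈ (centralizerIn S Q) ⊔ Q := fun y hy => by
      have h := mem_img_of_mem (f := u) hy
      rw [hu.img_sup] at h
      exact sup_le_sup (img_le fun x hx => hue x hx ▸ hφK x hx) (img_le fun t ht => (huQ t ht).symm ▸ ht) h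
    have hc : Fn F (img (autFn α) P ⊔ Q) (a ∘ (u ∘ b)) :=
      (hb.comp hu hbm).comp ha fun y hy => hum _ (hbm y hy)
    have hcQ : ∀ t ∈ Q, (a ∘ (u ∘ b)) t = t := fun t ht => by
      obtain ⟨t', ht', rfl⟩ := (ha.mono le_sup_right).mem_img.1 (haQ.ge ht)
      show a (u (b (a t'))) = a t'
      rw [hba t' (Subgroup.mem_sup_right ht'), huQ t' ht']
    have hχ := fn_centralizer_of_fix hD (img_le fun x hx => autFn_mem α (hP hx)) hc hcQ
    have e : (P.subgroupOf (centralizerIn S Q)).map ((centralizerIn S Q).subtype.comp α.toMonoidHom) = img (autFn α) P := by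
      refine le_antisymm ?_ (img_le fun x hx => ⟨⟨x, hP hx⟩, hx, (autFn_coe α ⟨x, hP hx⟩).symm⟩)
      rintro _ ⟨x, hx, rfl⟩
      show ((α x : (centralizerIn S Q)) : Ω) ∈ _
      rw [← autFn_coe]
      exact mem_img_of_mem hx
    rw [← e] at hχ
    obtain ⟨ψ, hψ, hψe⟩ := hχ
    refine ⟨ψ, hψ, fun x hφx hαx => ?_⟩
    rw [hψe]
    show a (u (b ((α ⟨(x : Ω), hP x.2⟩ : (centralizerIn S Q)) : Ω))) = _
    rw [← autFn_coe α ⟨(x : Ω), hP x.2⟩, ← hae x (hP x.2), hba x (Subgroup.mem_sup_left x.2), hue x x.2,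
      ofHom_coe, hae _ hφx, autFn_coe α ⟨φ x, hφx⟩]
  · obtain ⟨g, hg, hge, hgQ⟩ := hQn P _ (fn_ofHom hφ)
    obtain ⟨N, a, ha, hQN, hN, hae⟩ :=
      receptive_extend (fullyCentralized_receptive hS hF hQc) (hg.mono le_sup_right) hgQ
    have hKN : (centralizerIn S Q) ≤ N := fun k hk => (hN k).2 (inExt_of_commute hk)
    have haKQ := ha.mono (sup_le hKN hQN)
    have haQ : img a Q = Q := (img_congr hae).trans hgQ
    have hKi : img a (centralizerIn S Q) = (centralizerIn S Q) := (ha.mono hKN).img_eq_self fun x hx => hKmap haKQ haQ x hx hx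
    obtain ⟨α, hα, hαe⟩ := exists_aut_of_fn (ha.mono hKN) hKi
    obtain ⟨b, hb, hba, hbi⟩ := haKQ.exists_inv
    rw [haKQ.img_sup, hKi, haQ] at hb hbi
    have hgK : ∀ x ∈ P, g x ∈ (centralizerIn S Q) := fun x hx => hKmap hg hgQ x hx (hP hx)
    have hgm : ∀ y ∈ P ⊔ Q, g y ∈ (centralizerIn S Q) ⊔ Q := fun y hy => by
      have h := mem_img_of_mem (f := g) hy
      rw [hg.img_sup, hgQ] at h
      exact sup_le_sup (img_le hgK) le_rfl h
    have hcQ : ∀ t ∈ Q, (b ∘ g) t = t := fun t ht => by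
      show b (g t) = t
      rw [← hae t ht, hba t (Subgroup.mem_sup_right ht)]
    obtain ⟨φ₀, hφ₀, hφ₀e⟩ := fn_centralizer_of_fix hD hP (hg.comp hb hgm) hcQ
    refine ⟨α, hα, φ₀, hφ₀, fun x hx => ?_⟩
    rw [hαe]
    show φ x = a (φ₀ x)
    rw [hφ₀e]
    show φ x = a (b (g x))
    obtain ⟨k, hk, hke⟩ := (ha.mono hKN).mem_img.1 (hKi.ge (hgK x x.2))
    rw [← ofHom_coe φ x, ← hge x x.2, ← hke, hba k (Subgroup.mem_sup_left hk)]
  · obtain ⟨-, -, u, hu, hue, huQ⟩ := (fn_centralizer hD).1 ((mem_autGroup_iff_fn le_rfl).1 hα)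
    have hKQS : (centralizerIn S Q) ⊔ Q ≤ S := hu.le
    haveI := finite_of_le_base hKQS
    have hwc : F.WeaklyClosed ((centralizerIn S Q) ⊔ Q) := by
      refine ⟨hKQS, fun φ hφ => ?_⟩
      rw [Fn.range_eq_img fun x => (ofHom_coe φ x).symm]
      have hf := fn_ofHom hφ
      rw [hf.img_sup, (hf.mono le_sup_left).img_eq_self fun x hx => sc_apply hK hf (Subgroup.mem_sup_left hx) hx,
        (hf.mono le_sup_right).img_eq_self fun x hx => sc_apply hQsc hf (Subgroup.mem_sup_right hx) hx]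
    have hr := fullyCentralized_receptive hS hF (fullyNormalized_good hS hF (fullyNormalized_of_weaklyClosed hwc)).2
    have hui : img u ((centralizerIn S Q) ⊔ Q) = (centralizerIn S Q) ⊔ Q := by
      rw [hu.img_sup, (hu.mono le_sup_left).img_eq_self fun x hx => hue x hx ▸ autFn_mem α hx,
        (hu.mono le_sup_right).img_eq_self fun x hx => (huQ x hx).symm ▸ hx]
    obtain ⟨N, a, ha, hKQN, hN, hae⟩ := receptive_extend hr hu hui
    have haK : ∀ x ∈ (centralizerIn S Q), a x = autFn α x := fun x hx => (hae x (Subgroup.mem_sup_left hx)).trans (hue x hx)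
    have haQ : ∀ x ∈ Q, a x = x := fun x hx => (hae x (Subgroup.mem_sup_right hx)).trans (huQ x hx)
    have hCN : centralizerIn S (centralizerIn S Q) ≤ N := fun c hc => (hN c).2 (by
      have hcS : c ∈ S := centralizerIn_le hc
      have hfix : ∀ k ∈ (centralizerIn S Q), c * k * c⁻¹ = k := fun k hk => by
        rw [← (mem_centralizerIn.1 hc).2 k hk, mul_inv_cancel_right]
      refine ⟨hcS, mem_normalizer_of_map_le fun x hx => ?_, c, hcS, fun x hx => ?_⟩
      · have h1 := mem_img_of_mem (f := fun y => c * y * c⁻¹) hx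
        rw [(fn_conj (F := F) hKQS hcS).img_sup] at h1
        exact sup_le_sup (img_le fun k hk => by show c * k * c⁻¹ ∈ (centralizerIn S Q); rw [hfix k hk]; exact hk)
          (img_le fun q hq => sc_conj hQsc hcS hq) h1
      · obtain ⟨k, hk, q, hq, rfl⟩ := mem_sup_of_commute
          (fun k hk q hq => ((mem_centralizerIn.1 hk).2 q hq).symm) hx
        have hq' := sc_conj hQsc hcS hq
        rw [show c * (k * q) * c⁻¹ = c * k * c⁻¹ * (c * q * c⁻¹) by group, hfix k hk,
          hu.map_mul (Subgroup.mem_sup_left hk) (Subgroup.mem_sup_right hq'), huQ _ hq',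
          hu.map_mul (Subgroup.mem_sup_left hk) (Subgroup.mem_sup_right hq), huQ q hq]
        have h2 := hfix _ ((hue k hk).symm ▸ autFn_mem α hk : u k ∈ (centralizerIn S Q))
        calc u k * (c * q * c⁻¹) = c * u k * c⁻¹ * (c * q * c⁻¹) := by rw [h2]
          _ = c * (u k * q) * c⁻¹ := by group)
    have hV : (centralizerIn S Q) ⊔ centralizerIn S (centralizerIn S Q) ≤ N := sup_le (le_sup_left.trans hKQN) hCN
    have haKi : img a (centralizerIn S Q) = (centralizerIn S Q) :=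
      (ha.mono (le_sup_left.trans hKQN)).img_eq_self fun x hx => (haK x hx).symm ▸ autFn_mem α hx
    have hm : ∀ x ∈ (centralizerIn S Q) ⊔ centralizerIn S (centralizerIn S Q), a x ∈ (centralizerIn S Q) ⊔ centralizerIn S (centralizerIn S Q) :=
      map_sup_mem (F := F) le_rfl (ha.mono hV)
        (fun k hk => Subgroup.mem_sup_left (haKi.le (mem_img_of_mem hk))) fun c hc =>
          Subgroup.mem_sup_right (ha.map_centralizer (le_sup_left.trans hKQN) haKi (hCN hc) hc)
    obtain ⟨β, hβ, hβe⟩ := exists_aut_of_fn (ha.mono hV) ((ha.mono hV).img_eq_self hm)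
    refine ⟨β, hβ, fun x => ?_, fun c hc => ?_⟩
    · rw [hβe]
      exact (haK x x.2).trans (autFn_coe α x)
    · rw [hβe c]
      have hac := ha.map_centralizer (le_sup_left.trans hKQN) haKi (hCN hc) hc
      have hQN : Q ≤ N := le_sup_right.trans hKQN
      refine ⟨mem_centralizerIn.2 ⟨S.mul_mem (S.inv_mem (centralizerIn_le hc)) (centralizerIn_le hac),
        fun q hq => ?_⟩, fun k hk => ?_⟩
      · have hq' := sc_conj hQsc (centralizerIn_le hc) hq
        have h1 := ha.map_conj (hCN hc) (hQN hq)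
        rw [haQ _ hq', haQ q hq] at h1
        calc q * ((c : Ω)⁻¹ * a c) = (c : Ω)⁻¹ * ((c : Ω) * q * (c : Ω)⁻¹) * a c := by group
          _ = (c : Ω)⁻¹ * (a c * q * (a c)⁻¹) * a c := by rw [h1]
          _ = _ := by group
      · have h1 : Commute k (c : Ω) := (mem_centralizerIn.1 hc).2 k hk
        have h2 : Commute k (a c) := (mem_centralizerIn.1 hac).2 k hk
        exact (h1.inv_right.mul_right h2).eq

/-- A normal subgroup of a quasisimple system is central. -/
theorem normal_le_center (hS : IsPGroup p S) (hq : F.Quasisimple p) (hQ : F.IsNormal Q) : Q ≤ F.center := by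
  obtain ⟨hF, hhyp, hsimp⟩ := hq
  have hsc := (Comp.center_normal_sc (F := F)).2
  obtain ⟨E, hE⟩ := exists_factorSystem (S' := ⊤) hsc (QuotientGroup.mk' ((F.center).subgroupOf S))
    (fun s => (QuotientGroup.eq_one_iff s).trans Subgroup.mem_subgroupOf)
    (MonoidHom.range_eq_top.2 (QuotientGroup.mk'_surjective _))
  set θ := QuotientGroup.mk' ((F.center).subgroupOf S) with hθ
  have hm := factor_surjectiveMorphism hS hF hsc hE
  obtain ⟨hEs, hne, hsimple⟩ := hsimp E hE
  haveI := finite_target hm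
  have hEp : IsPGroup p (⊤ : Subgroup (S ⧸ (F.center).subgroupOf S)) := (hS.to_quotient _).to_subgroup _
  rcases hsimple _ _ (Comp.inner_normalIn hEp hEs (Comp.normal_image hm hQ)) with h | ⟨h, hhom⟩
  · exact fun q hq => (factor_ker hE (hQ.1 hq)).1 (Subgroup.mem_bot.1 (h.le (th_mem_imageAlong hq (hQ.1 hq))))
  · rw [h] at hhom
    have he : E = innerFusionSystem (⊤ : Subgroup (S ⧸ (F.center).subgroupOf S)) :=
      system_ext fun P => (hhom P).symm
    have h1 := surjectiveMorphism_hyperfocal (p := p) hm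
    rw [he, Comp.inner_hyperfocal hEp, hhyp] at h1
    refine absurd (le_bot_iff.1 fun y _ => ?_) hne
    obtain ⟨a, rfl⟩ := QuotientGroup.mk'_surjective _ y
    rw [h1]
    exact mem_imageAlong.2 ⟨a, a.2, a.2, th_coe a⟩

/-- The automorphisms of `P` extending to `Q` so as to fix it. -/
def fixExt (F : FusionSystem S) (Q P : Subgroup Ω) (h : P ⊔ Q ≤ S) : Subgroup (MulAut P) where
  carrier := {α | ∃ ψ : Ω → Ω, Fn F (P ⊔ Q) ψ ∧ (∀ x ∈ P, ψ x = autFn α x) ∧ ∀ q ∈ Q, ψ q = q}
  one_mem' := ⟨id, fn_id h, fun _ hx => (autFn_id hx).symm, fun _ _ => rfl⟩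
  mul_mem' := by
    rintro α β ⟨ψ, hψ, hψα, hψQ⟩ ⟨χ, hχ, hχβ, hχQ⟩
    refine ⟨ψ ∘ χ, hχ.comp hψ fun x hx => ?_, fun x hx => ?_, fun q hq => ?_⟩
    · have h1 := mem_img_of_mem (f := χ) hx
      rw [hχ.img_sup] at h1
      exact sup_le_sup (img_le fun y hy => (hχβ y hy).symm ▸ autFn_mem β hy)
        (img_le fun y hy => (hχQ y hy).symm ▸ hy) h1
    · show ψ (χ x) = _
      rw [hχβ x hx, hψα _ (autFn_mem β hx), autFn_mul α β hx]
    · show ψ (χ q) = q
      rw [hχQ q hq, hψQ q hq]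
  inv_mem' := by
    rintro α ⟨ψ, hψ, hψα, hψQ⟩
    obtain ⟨χ, hχ, hχψ, -⟩ := hψ.exists_inv
    rw [hψ.img_sup, img_congr hψα, img_autFn, (img_congr (g := id) hψQ).trans (img_id Q)] at hχ
    refine ⟨χ, hχ, fun x hx => ?_, fun q hq => ?_⟩
    · have hy := autFn_mem α⁻¹ hx
      conv_lhs => rw [← autFn_apply_inv α hx, ← hψα _ hy, hχψ _ (Subgroup.mem_sup_left hy)]
    · conv_lhs => rw [← hψQ q hq, hχψ q (Subgroup.mem_sup_right hq)]

theorem subnormal_le {T U : Subgroup Ω} {C : FusionSystem T} {G : FusionSystem U} {q : ℕ}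
    (h : C.IsSubnormalIn G q) : C.IsSubsystemOf G ∧ T ≤ U := by
  induction h with
  | refl => exact ⟨fun P => Set.Subset.refl _, le_rfl⟩
  | step _ hD ih => exact ⟨fun P => (ih.1 P).trans (hD.1.2.2.1 P), ih.2.trans (subsystem_le hD.1.2.2.1)⟩

omit [Finite S] in
/-- A normal subgroup is centralized by every quasisimple subnormal subsystem. -/
theorem centralized_of_subnormal {T U : Subgroup Ω} {C : FusionSystem T} {G : FusionSystem U} {q : ℕ}
    (h : C.IsSubnormalIn G q) (hqp : q = p) (hfin : Finite U) (hU : IsPGroup p U) (hG : G.IsSaturated p)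
    (hC : C.Quasisimple p) {Q : Subgroup Ω} (hQ : G.IsNormal Q) :
    T ≤ centralizerIn U Q ∧ ∀ (P : Subgroup Ω) (f : Ω → Ω), Fn C P f →
      ∃ ψ, Fn G (P ⊔ Q) ψ ∧ (∀ x ∈ P, ψ x = f x) ∧ ∀ x ∈ Q, ψ x = x := by
  induction h generalizing Q with
  | refl G q =>
    subst hqp
    have hQZ := normal_le_center hU hC hQ
    refine ⟨fun s hs => mem_centralizerIn.2 ⟨hs, fun x hx =>
      ((Subgroup.mem_centralizer_iff.1 (G.center_le_centralizer (hQZ hx))) s hs).symm⟩, fun P f hf => ?_⟩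
    obtain ⟨ψ, hψ, hψf, hψZ⟩ := (central_iff_fn.1 (center_central (F := G))).2 P f hf
    exact ⟨ψ, hψ.mono (sup_le_sup_left hQZ P), hψf, fun x hx => hψZ x (hQZ hx)⟩
  | @step M U C D G q hCD hD ih =>
    subst hqp
    have hDi := hD.1.2.2
    have hM := hDi.2.1
    obtain ⟨hCDs, hTM⟩ := subnormal_le hCD
    haveI := finite_of_le_base hM.1
    have hTU : T ≤ U := hTM.trans hM.1
    haveI := finite_of_le_base hTU
    have hTp := hU.to_le hTU
    have hQsc := normal_stronglyClosed hQ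
    obtain ⟨-, hR⟩ := ih rfl inferInstance (hU.to_le hM.1) hD.1.1 hC (normal_inf hU hQ hM hDi.1 hD.1.1)
    have hco : ∀ {P : Subgroup Ω} (hP : P ≤ T), ∀ a ∈ C.autGroup P, Nat.Coprime (orderOf a) q →
        a ∈ fixExt G Q P (sup_le (hP.trans hTU) hQ.1) := by
      intro P hP a ha hac
      obtain ⟨u, hu, hue, huR⟩ := hR P _ ((mem_autGroup_iff_fn hP).1 ha)
      obtain ⟨ψ, hψ, hψu, hψQ, hψd⟩ := disp_of_normal hU hD hQ hu
      set R := Q ⊓ M with hRdef
      have hle : P ⊔ Q ≤ P ⊔ R ⊔ Q := sup_le_sup le_sup_left le_rfl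
      have hψ' := hψ.mono hle
      have hVS : P ⊔ Q ≤ U := hψ'.le
      have hψP : ∀ x ∈ P, ψ x = autFn a x := fun x hx =>
        (hψu x (Subgroup.mem_sup_left hx)).trans (hue x hx)
      obtain ⟨β, hβ, hβe⟩ := exists_aut_of_fn hψ'
        (by rw [hψ'.img_sup, img_congr hψP, img_autFn, hψQ])
      have hβe' : ∀ x ∈ P ⊔ Q, autFn β x = ψ x := fun x hx => (autFn_coe β ⟨x, hx⟩).trans (hβe _)
      obtain ⟨n, hn, hnco⟩ := exists_coprime_pow (p := q) hVS (le_sup_left : P ≤ P ⊔ Q) (a := a)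
        (fun x hx => (hβe' x (Subgroup.mem_sup_left hx)).trans (hψP x hx)) hac
      have hβQ : ∀ x ∈ Q, autFn β x ∈ Q := fun x hx => by
        rw [hβe' x (Subgroup.mem_sup_right hx)]
        exact hψQ.le (mem_img_of_mem hx)
      have hβR : ∀ r ∈ R, autFn β r = r := fun r hr => by
        rw [hβe' r (Subgroup.mem_sup_right hr.1), hψu r (Subgroup.mem_sup_right hr), huR r hr]
      have hβd : ∀ x ∈ Q, x⁻¹ * autFn β x ∈ R := fun x hx =>
        (hβe' x (Subgroup.mem_sup_right hx)).symm ▸ hψd x hx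
      have hpow : ∀ j : ℕ, (∀ r ∈ R, autFn (β ^ j) r = r) ∧ ∀ x ∈ Q, x⁻¹ * autFn (β ^ j) x ∈ R := fun j => by
        induction j with
        | zero => exact ⟨fun r hr => by rw [pow_zero, autFn_id (Subgroup.mem_sup_right hr.1)], fun x hx => by
            rw [pow_zero, autFn_id (Subgroup.mem_sup_right hx), inv_mul_cancel]; exact R.one_mem⟩
        | succ j ihj =>
          refine ⟨fun r hr => by
            rw [pow_succ, autFn_mul _ _ (Subgroup.mem_sup_right hr.1), hβR r hr, ihj.1 r hr], fun x hx => ?_⟩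
          rw [pow_succ, autFn_mul _ _ (Subgroup.mem_sup_right hx)]
          have h1 := R.mul_mem (hβd x hx) (ihj.2 _ (hβQ x hx))
          rwa [mul_assoc, mul_inv_cancel_left] at h1
      refine ⟨autFn (β ^ n), (mem_autGroup_iff_fn hVS).1 (Subgroup.pow_mem _ hβ n), hn, fun x hx => ?_⟩
      have hd := (hpow n).2 x hx
      have h1 := disp_mem_of_coprime hU hVS bot_le hnco
        (fun r hr => by rw [Subgroup.mem_bot] at hr ⊢; rw [hr]
                        exact ((mem_autGroup_iff_fn hVS).1 (Subgroup.pow_mem _ hβ n)).map_one)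
        (fun v _ r hr => by simp_all) (Subgroup.mem_sup_right hx)
        (by rw [(hpow n).1 _ hd, inv_mul_cancel]; exact Subgroup.one_mem _)
      exact (inv_mul_eq_one.1 (Subgroup.mem_bot.1 h1)).symm
    have hres : ∀ {P : Subgroup Ω} (hP : P ≤ T) (a : C.autGroup P), a ∈ pResidual q (C.autGroup P) →
        (a : MulAut P) ∈ fixExt G Q P (sup_le (hP.trans hTU) hQ.1) := fun {P} hP a ha => by
      have hle : pResidual q (C.autGroup P) ≤
          (fixExt G Q P (sup_le (hP.trans hTU) hQ.1)).comap (C.autGroup P).subtype :=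
        (Subgroup.closure_le _).2 fun b hb => hco hP b b.2 (by rw [Subgroup.orderOf_coe]; exact hb)
      exact hle ha
    have hTK : T ≤ centralizerIn U Q := by
      rw [← hC.2.1]
      refine (Subgroup.closure_le _).2 ?_
      rintro _ ⟨P, α, x, hP, hα, rfl⟩
      obtain ⟨ψ, hψ, hψP, hψQ⟩ := hres hP α hα
      refine mem_centralizerIn.2 ⟨U.mul_mem (U.inv_mem (hTU (hP x.2))) (hTU (hP ((α : MulAut P) x).2)),
        fun z hz => ?_⟩
      have hxU : (x : Ω) ∈ U := hTU (hP x.2)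
      have hz' := sc_conj hQsc hxU hz
      have h1 := hψ.map_conj (Subgroup.mem_sup_left x.2) (Subgroup.mem_sup_right hz)
      rw [hψQ _ hz', hψP x x.2, autFn_coe, hψQ z hz] at h1
      calc z * ((x : Ω)⁻¹ * (((α : MulAut P) x : P) : Ω))
          = (x : Ω)⁻¹ * ((x : Ω) * z * (x : Ω)⁻¹) * (((α : MulAut P) x : P) : Ω) := by group
        _ = _ := by rw [h1]; group
    let D' : FusionSystem T := predSystem C
      (fun P f => ∃ ψ, Fn G (P ⊔ Q) ψ ∧ (∀ x ∈ P, ψ x = f x) ∧ ∀ x ∈ Q, ψ x = x)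
      (fun P f g he _ ⟨ψ, hψ, hψf, hψK⟩ => ⟨ψ, hψ, fun x hx => (hψf x hx).trans (he x hx), hψK⟩)
      (fun P hP s hs => ⟨_, fn_conj (sup_le (hP.trans hTU) hQ.1) (hTU hs), fun x _ => rfl, fun x hx => by
        show s * x * s⁻¹ = x
        rw [← (mem_centralizerIn.1 (hTK hs)).2 x hx, mul_inv_cancel_right]⟩)
      (fun P R f g hf hg hm ⟨ψ, hψ, hψf, hψK⟩ ⟨χ, hχ, hχg, hχK⟩ => by
        refine ⟨χ ∘ ψ, hψ.comp hχ fun x hx => ?_, fun x hx => ?_, fun x hx => ?_⟩
        · have h1 := mem_img_of_mem (f := ψ) hx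
          rw [hψ.img_sup] at h1
          exact sup_le_sup (img_le fun y hy => (hψf y hy).symm ▸ hm y hy)
            (img_le fun y hy => (hψK y hy).symm ▸ hy) h1
        · show χ (ψ x) = g (f x)
          rw [hψf x hx, hχg _ (hm x hx)]
        · show χ (ψ x) = x
          rw [hψK x hx, hχK x hx])
      (fun P f g hf hg hgf ⟨ψ, hψ, hψf, hψK⟩ => by
        obtain ⟨χ, hχ, hχψ, -⟩ := hψ.exists_inv
        rw [hψ.img_sup, img_congr hψf, (img_congr (g := id) hψK).trans (img_id Q)] at hχ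
        refine ⟨χ, hχ, fun y hy => ?_, fun x hx => ?_⟩
        · obtain ⟨x, hx, rfl⟩ := hf.mem_img.1 hy
          rw [hgf x hx, ← hψf x hx, hχψ x (Subgroup.mem_sup_left hx)]
        · conv_lhs => rw [← hψK x hx, hχψ x (Subgroup.mem_sup_right hx)])
    have haut : ∀ {P : Subgroup Ω}, P ≤ T → C.IsFullyAutomized q P → C.autGroup P ≤ D'.autGroup P := by
      intro P hP hA α hα
      obtain ⟨β, hβ, γ, hγ, rfl⟩ := exists_residual_decomp hTp hC.1 hA hα
      exact mul_mem ((mem_autGroup_iff_fn hP).2 (fn_predSystem.2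
        ⟨(mem_autGroup_iff_fn hP).1 β.2, hres hP β hβ⟩)) (autInducedBy_le_autGroup hP hγ)
    have hle : C ≤ D' := le_of_automizers hTp hC.1 D' (haut le_rfl (fullyAutomized_top hC.1))
      fun P hP hPn _ => haut hP.le (fullyNormalized_good hTp hC.1 hPn).1
    exact ⟨hTK, fun P f hf => (fn_predSystem.1 (fn_of_le hle hf)).2⟩

/-- The largest normal subgroup centralizes the layer. -/
theorem layer_centralized (hS : IsPGroup p S) (hF : F.IsSaturated p) (hE : E.IsLayerOf F p)
    (hQ : F.IsNormal Q) (P : Subgroup Ω) : E.Hom P ⊆ F.centralizerHom Q P := by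
  obtain ⟨D, hD, hDn⟩ := exists_normal_centralizer hS hF hQ
  rw [← hD P]
  refine hE.2.2 _ D hDn (fun U C hC => ?_) P
  obtain ⟨hUK, hext⟩ := centralized_of_subnormal hC.1 rfl inferInstance hS hF hC.2 hQ
  intro P φ hφ
  refine mem_hom_of_fn ((fn_centralizer hD).2 ⟨(C.le_of_mem hφ).1.trans hUK, fun x hx => ?_,
    hext P _ (fn_ofHom hφ)⟩) fun x => (ofHom_coe φ x).symm
  rw [ofHom_apply φ hx]
  exact hUK ((C.le_of_mem hφ).2 ⟨x, hx⟩)

end CfsgLib.Fsys.CoreLayer
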