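import Cfsg.Agent.Lib.FusionSystem.Components
import Cfsg.Prelude.Def_FusionFitting

/-! The generalized Fitting subsystem of a constrained system. -/

set_option autoImplicit false

namespace CfsgLib.Fsys.Comp

open Cfsg Cfsg.FusionSystem
open Cfsg.FusionSystem (centralizerIn normalizerIn imageAlong preimageAlong InducedAlong)

universe u

variable {Ω : Type u} [Group Ω] {S : Subgroup Ω} [Finite S] {F : FusionSystem S} {p : ℕ} [Fact p.Prime]

/-- Without components the layer is the system over the trivial subgroup. -/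
theorem layer_bot (hS : IsPGroup p S) (hF : F.IsSaturated p)
    (hno : ¬ ∃ (T : Subgroup Ω) (C : FusionSystem T), C.IsComponentIn F p) :
    (innerFusionSystem (⊥ : Subgroup Ω)).IsLayerOf F p := by
  refine ⟨inner_normalIn hS hF normal_bot, fun U C hC => absurd ⟨U, C, hC⟩ hno, fun R D _ _ P φ hφ => ?_⟩
  obtain ⟨hP, g, hg, hgφ⟩ := hφ
  refine mem_hom_of_fn (fn_id (F := D) (hP.trans bot_le)) fun x => ?_
  rw [hgφ, Subgroup.mem_bot.1 hg, inv_one, one_mul, mul_one]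
  rfl

omit [Finite S] [Fact p.Prime] in
/-- An inner system is its own central product with the trivial system. -/
theorem inner_centralProduct_bot (Q : Subgroup Ω) :
    IsCentralProductOf (innerFusionSystem Q) (innerFusionSystem (⊥ : Subgroup Ω)) (innerFusionSystem Q) := by
  let θ : ↥(Q.prod (⊥ : Subgroup Ω)) →* Ω := (MonoidHom.fst Ω Ω).comp (Q.prod ⊥).subtype
  have hsnd : ∀ x : Ω × Ω, x ∈ Q.prod (⊥ : Subgroup Ω) → x.2 = 1 := fun x hx =>
    Subgroup.mem_bot.1 (Subgroup.mem_prod.1 hx).2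
  refine ⟨innerFusionSystem (Q.prod ⊥), fun P φ => ⟨?_, ?_⟩, ⊥, θ, bot_le, bot_inf_eq _, bot_inf_eq _,
    fun x hx => rfl, fun y hy => (hsnd _ hy).symm, bot_le, fun s => ⟨fun h => ?_, fun h => ?_⟩, ?_, ?_⟩
  · rintro ⟨hP, g, hg, hgφ⟩
    have h1 : P.map (MonoidHom.fst Ω Ω) ≤ Q := by
      rintro _ ⟨x, hx, rfl⟩
      exact (Subgroup.mem_prod.1 (hP hx)).1
    have h2 : P.map (MonoidHom.snd Ω Ω) ≤ (⊥ : Subgroup Ω) := by
      rintro _ ⟨x, hx, rfl⟩
      exact (Subgroup.mem_prod.1 (hP hx)).2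
    exact ⟨hP, _, FusionSystem.conj_mem _ h1 (Subgroup.mem_prod.1 hg).1, _,
      FusionSystem.conj_mem _ h2 (Subgroup.mem_prod.1 hg).2, fun x _ _ => hgφ x⟩
  · rintro ⟨hP, φ₁, ⟨-, g₁, hg₁, he₁⟩, φ₂, ⟨-, g₂, hg₂, he₂⟩, hφ⟩
    refine ⟨hP, (g₁, g₂), Subgroup.mem_prod.2 ⟨hg₁, hg₂⟩, fun x => ?_⟩
    rw [hφ x ⟨x, x.2, rfl⟩ ⟨x, x.2, rfl⟩, he₁, he₂]
    rfl
  · exact Subgroup.mem_bot.2 (Prod.ext h (hsnd _ s.2))
  · show ((s : Ω × Ω)).1 = 1
    rw [Subgroup.mem_bot.1 h]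
    rfl
  · ext x
    refine ⟨?_, fun hx => ⟨⟨(x, 1), Subgroup.mem_prod.2 ⟨hx, one_mem _⟩⟩, rfl⟩⟩
    rintro ⟨s, rfl⟩
    exact (Subgroup.mem_prod.1 s.2).1
  · intro P' φ'
    constructor
    · rintro ⟨hP', g, hg, hgφ⟩
      have hle : preimageAlong θ P' ≤ Q.prod (⊥ : Subgroup Ω) := preimageAlong_le
      have hmem : ((g, 1) : Ω × Ω) ∈ Q.prod (⊥ : Subgroup Ω) := Subgroup.mem_prod.2 ⟨hg, one_mem _⟩
      refine ⟨hP', _, FusionSystem.conj_mem _ hle hmem, hle, fun x => mul_mem (mul_mem hmem (hle x.2)) (inv_mem hmem),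
        fun x => ?_, fun x => hgφ _⟩
      have := (mem_preimageAlong.1 x.2).2
      rwa [th_apply (hle x.2)] at this
    · rintro ⟨hP', φ, ⟨-, g, hg, hgφ⟩, hle, hφS, hP'', hind⟩
      refine ⟨hP', g.1, (Subgroup.mem_prod.1 hg).1, fun y => ?_⟩
      have hx : ((y : Ω), (1 : Ω)) ∈ preimageAlong θ P' := by
        have hm : ((y : Ω), (1 : Ω)) ∈ Q.prod (⊥ : Subgroup Ω) := Subgroup.mem_prod.2 ⟨hP' y.2, one_mem _⟩
        exact ⟨⟨_, hm⟩, y.2, rfl⟩
      have e := hind ⟨_, hx⟩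
      refine e.trans ?_
      show (φ ⟨_, hx⟩).1 = _
      rw [hgφ]
      rfl

/-- Constrained systems are those whose generalized Fitting subsystem is the inner system of the core. -/
theorem constrained_iff_fitting (hS : IsPGroup p S) (hF : F.IsSaturated p) :
    F.IsConstrained p ↔ (innerFusionSystem F.core).IsGeneralizedFittingOf F p := by
  refine ⟨fun hc => ⟨⊥, _, layer_bot hS hF (no_component hS hc), inner_centralProduct_bot _⟩, ?_⟩
  rintro ⟨T, E, hE, D₀, -, Z, θ, -, -, -, h1, h2, hfac⟩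
  refine (constrained_iff_no_component hS hF).2 fun ⟨U, C, hC⟩ => ?_
  have hTQ : ∀ y ∈ T, y ∈ F.core := fun y hy => by
    have hm : ((1, y) : Ω × Ω) ∈ F.core.prod T := Subgroup.mem_prod.2 ⟨one_mem _, hy⟩
    exact (factor_range hfac).le ⟨_, h2 y hm⟩
  have hab : ∀ a ∈ T, ∀ b ∈ T, a * b = b * a := fun a ha b hb => by
    have hma : ((a, 1) : Ω × Ω) ∈ F.core.prod T := Subgroup.mem_prod.2 ⟨hTQ a ha, one_mem _⟩
    have hmb : ((1, b) : Ω × Ω) ∈ F.core.prod T := Subgroup.mem_prod.2 ⟨one_mem _, hb⟩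
    have e : (⟨_, hma⟩ * ⟨_, hmb⟩ : F.core.prod T) = ⟨_, hmb⟩ * ⟨_, hma⟩ := Subtype.ext (by simp)
    have := congrArg θ e
    rwa [map_mul, map_mul, h1, h2] at this
  have hUT : U ≤ T := subsystem_le (hE.2.1 U C hC)
  have hUS : U ≤ S := hUT.trans fun y hy => core_le_base (hTQ y hy)
  haveI := finite_of_le_base hUS
  exact quasisimple_nonabelian (hS.to_le hUS) hC.2
    ⟨⟨fun a b => Subtype.ext (hab a (hUT a.2) b (hUT b.2))⟩⟩

end CfsgLib.Fsys.Comp
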