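import Cfsg.Agent.Lib.FusionSystem.CentralizerNormal

/-! Normal subsystems move the elements of a normal subgroup within its intersection with their base. -/

set_option autoImplicit false

namespace CfsgLib.Fsys.CoreLayer

open Cfsg Cfsg.FusionSystem CfsgLib.Fsys.WNR
open Cfsg.FusionSystem (centralizerIn normalizerIn)

universe u

variable {Ω : Type u} [Group Ω] {S T Q : Subgroup Ω} [Finite S] {F : FusionSystem S} {E : FusionSystem T}
  {p : ℕ} [Fact p.Prime]

/-- A normal subgroup meets a strongly closed subgroup in a normal subgroup of each saturated subsystem there. -/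
theorem normal_inf (hS : IsPGroup p S) (hQ : F.IsNormal Q) (hT : F.StronglyClosed T)
    (hsub : E.IsSubsystemOf F) (hE : E.IsSaturated p) : E.IsNormal (Q ⊓ T) := by
  haveI := finite_of_le_base hT.1
  have hscE : ∀ {X : Subgroup Ω}, F.StronglyClosed X → E.StronglyClosed (X ⊓ T) := fun {X} hX =>
    stronglyClosed_iff_fn.2 ⟨inf_le_right, fun P f hf x hx hxX =>
      ⟨(stronglyClosed_iff_fn.1 hX).2 P f (Fn.of_subsystem hsub hf) x hx hxX.1, hf.mem hx⟩⟩
  obtain ⟨C, n, h0, hn, -, hsc, hcomm⟩ := normal_series hS hQ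
  refine normal_of_series (hS.to_le hT.1) hE (hscE (normal_stronglyClosed hQ)) (fun i => C i ⊓ T) n
    (by simp [h0]) (by simp [hn]) (fun i hi => hscE (hsc i hi)) fun i hi => le_inf ?_ ?_
  · exact (Subgroup.commutator_mono inf_le_left inf_le_left).trans (hcomm i hi)
  · exact (Subgroup.commutator_mono inf_le_right inf_le_right).trans T.commutator_le_self

omit [Finite S] in
/-- A coprime automorphism moving the displacement of an element within `R` moves the element within `R`. -/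
theorem disp_mem_of_coprime (hS : IsPGroup p S) {V R : Subgroup Ω} (hV : V ≤ S) (hRV : R ≤ V) {β : MulAut V}
    (hco : Nat.Coprime (orderOf β) p) (hR : ∀ r ∈ R, autFn β r ∈ R)
    (hRn : ∀ v ∈ V, ∀ r ∈ R, v * r * v⁻¹ ∈ R) {q : Ω} (hq : q ∈ V)
    (hd : (q⁻¹ * autFn β q)⁻¹ * autFn β (q⁻¹ * autFn β q) ∈ R) : q⁻¹ * autFn β q ∈ R := by
  set d := q⁻¹ * autFn β q with hd'
  have hdV : d ∈ V := V.mul_mem (V.inv_mem hq) (autFn_mem β hq)
  have hmul : ∀ (γ : MulAut V) {u v : Ω}, u ∈ V → v ∈ V → autFn γ (u * v) = autFn γ u * autFn γ v := by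
    intro γ u v hu hv
    lift u to V using hu
    lift v to V using hv
    rw [← Subgroup.coe_mul, autFn_coe, autFn_coe, autFn_coe, map_mul, Subgroup.coe_mul]
  have hRj : ∀ j : ℕ, ∀ r ∈ R, autFn (β ^ j) r ∈ R := fun j => by
    induction j with
    | zero => intro r hr; rw [pow_zero, autFn_id (hRV hr)]; exact hr
    | succ j ih => intro r hr; rw [pow_succ, autFn_mul _ _ (hRV hr)]; exact ih _ (hR r hr)
  have hA : ∀ j : ℕ, d⁻¹ * autFn (β ^ j) d ∈ R := fun j => by
    induction j with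
    | zero => rw [pow_zero, autFn_id hdV, inv_mul_cancel]; exact R.one_mem
    | succ j ih =>
      rw [pow_succ, autFn_mul _ _ hdV, ← mul_inv_cancel_left d (autFn β d),
        hmul _ hdV (hRV hd), ← mul_assoc]
      exact R.mul_mem ih (hRj j _ hd)
  have hB : ∀ j : ℕ, (d ^ j)⁻¹ * (q⁻¹ * autFn (β ^ j) q) ∈ R := fun j => by
    induction j with
    | zero => simp [autFn_id hq]
    | succ j ih =>
      have e : (d ^ (j + 1))⁻¹ * (q⁻¹ * autFn (β ^ (j + 1)) q) =
          d⁻¹ * ((d ^ j)⁻¹ * (q⁻¹ * autFn (β ^ j) q)) * d⁻¹⁻¹ * (d⁻¹ * autFn (β ^ j) d) := by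
        rw [pow_succ β, autFn_mul _ _ hq, ← mul_inv_cancel_left q (autFn β q), hmul _ hq hdV, pow_succ d]
        group
      rw [e]
      exact R.mul_mem (hRn _ (V.inv_mem hdV) _ ih) (hA j)
  have hm : d ^ orderOf β ∈ R := by
    have h := R.inv_mem (hB (orderOf β))
    rwa [pow_orderOf_eq_one, autFn_id hq, inv_mul_cancel, mul_one, inv_inv] at h
  obtain ⟨k, hk⟩ := hS ⟨d, hV hdV⟩
  have hk' : d ^ p ^ k = 1 := congrArg Subtype.val hk
  obtain ⟨a, ha0, ha1⟩ := Nat.chineseRemainder (hco.pow_right k) 0 1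
  obtain ⟨c, rfl⟩ := Nat.modEq_zero_iff_dvd.1 ha0
  rw [← pow_eq_self hk' ha1, pow_mul]
  exact R.pow_mem hm c

/-- A power of an extension of a coprime automorphism is a coprime extension. -/
theorem exists_coprime_pow {W V : Subgroup Ω} (hV : V ≤ S) (hWV : W ≤ V) {β : MulAut V} {a : MulAut W}
    (hext : ∀ w ∈ W, autFn β w = autFn a w) (hco : Nat.Coprime (orderOf a) p) :
    ∃ q : ℕ, (∀ w ∈ W, autFn (β ^ q) w = autFn a w) ∧ Nat.Coprime (orderOf (β ^ q)) p := by
  haveI := finite_of_le_base hV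
  haveI : Finite (MulAut V) := Finite.of_injective (fun f : MulAut V => (f : V → V)) DFunLike.coe_injective
  have hbpow : ∀ j : ℕ, ∀ w ∈ W, autFn (β ^ j) w = autFn (a ^ j) w := fun j => by
    induction j with
    | zero => intro w hw; rw [pow_zero, pow_zero, autFn_id (hWV hw), autFn_id hw]
    | succ j ih =>
      intro w hw
      rw [pow_succ, pow_succ, autFn_mul _ _ (hWV hw), autFn_mul _ _ hw, hext w hw, ih _ (autFn_mem a hw)]
  obtain ⟨q, r, k, hm, hr, -, hqk, hq1⟩ := exists_exponent (p := p) 0 (orderOf_pos β)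
  refine ⟨q, fun w hw => ?_, coprime_orderOf_pow hm hr hqk (pow_orderOf_eq_one β)⟩
  have h1 : a ^ orderOf β = 1 := mulAut_ext fun y hy => by
    rw [← hbpow _ y hy, pow_orderOf_eq_one, autFn_id (hWV hy), autFn_id hy]
  rw [hbpow q w hw, pow_eq_self (orderOf_dvd_iff_pow_eq_one.1
    (Nat.Coprime.dvd_of_dvd_mul_left (Nat.Coprime.pow_right k hco) (hm ▸ orderOf_dvd_of_pow_eq_one h1))) hq1]

/-- The map extends to `Q`, moving each of its elements within a coset of `R`. -/
def DispExt (F : FusionSystem S) (Q R P : Subgroup Ω) (f : Ω → Ω) : Prop :=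
  ∃ ψ : Ω → Ω, Fn F (P ⊔ Q) ψ ∧ (∀ x ∈ P, ψ x = f x) ∧ img ψ Q = Q ∧ ∀ q ∈ Q, q⁻¹ * ψ q ∈ R

/-- Every map of a normal subsystem over `T` extends to a normal subgroup `Q` moving it within `Q ⊓ T`. -/
theorem disp_of_normal (hS : IsPGroup p S) (hE : E.IsNormalIn F p) (hQ : F.IsNormal Q) {P : Subgroup Ω}
    {f : Ω → Ω} (hf : Fn E P f) : DispExt F Q (Q ⊓ T) P f := by
  classical
  obtain ⟨hw, hext⟩ := hE
  obtain ⟨hEs, hF, hEi⟩ := id hw
  have hT := hEi.2.1
  have hQsc := normal_stronglyClosed hQ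
  haveI := finite_of_le_base hT.1
  haveI := finite_of_le_base hQ.1
  have hTp := hS.to_le hT.1
  set R := Q ⊓ T with hRdef
  have hRn : ∀ s ∈ S, ∀ r ∈ R, s * r * s⁻¹ ∈ R := fun s hs r hr =>
    ⟨sc_conj hQsc hs hr.1, sc_conj hT hs hr.2⟩
  have hcommR : ∀ q ∈ Q, ∀ y ∈ T, q * y * q⁻¹ * y⁻¹ ∈ R := fun q hq y hy => by
    refine ⟨?_, T.mul_mem (sc_conj hT (hQ.1 hq) hy) (T.inv_mem hy)⟩
    rw [mul_assoc, mul_assoc]
    exact Q.mul_mem hq (by rw [← mul_assoc]; exact sc_conj hQsc (hT.1 hy) (Q.inv_mem hq))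
  have hRN : E.IsNormal R := normal_inf hS hQ hT hEi.1 hEs
  let D : FusionSystem T := predSystem E (fun P f => DispExt F Q R P f)
    (fun P f g he _ ⟨ψ, hψ, hψf, hψQ, hψd⟩ => ⟨ψ, hψ, fun x hx => (hψf x hx).trans (he x hx), hψQ, hψd⟩)
    (fun P hP s hs => ⟨_, fn_conj (sup_le (hP.trans hT.1) hQ.1) (hT.1 hs), fun x _ => rfl,
      (fn_conj (F := F) hQ.1 (hT.1 hs)).img_eq_self fun x hx => sc_conj hQsc (hT.1 hs) hx, fun q hq => by
        show q⁻¹ * (s * q * s⁻¹) ∈ R
        refine ⟨Q.mul_mem (Q.inv_mem hq) (sc_conj hQsc (hT.1 hs) hq), ?_⟩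
        rw [show q⁻¹ * (s * q * s⁻¹) = q⁻¹ * s * q⁻¹⁻¹ * s⁻¹ by group]
        exact T.mul_mem (sc_conj hT (S.inv_mem (hQ.1 hq)) hs) (T.inv_mem hs)⟩)
    (fun P X f g hf' hg hm ⟨ψ, hψ, hψf, hψQ, hψd⟩ ⟨χ, hχ, hχg, hχQ, hχd⟩ => by
      have hc : Fn F (P ⊔ Q) (χ ∘ ψ) := hψ.comp hχ fun x hx => by
        have h1 := mem_img_of_mem (f := ψ) hx
        rw [hψ.img_sup, hψQ] at h1
        exact sup_le_sup (img_le fun y hy => (hψf y hy).symm ▸ hm y hy) le_rfl h1
      refine ⟨χ ∘ ψ, hc, fun x hx => ?_, ?_, fun q hq => ?_⟩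
      · show χ (ψ x) = g (f x)
        rw [hψf x hx, hχg _ (hm x hx)]
      · rw [(hψ.mono le_sup_right).img_comp, hψQ, hχQ]
      · show q⁻¹ * χ (ψ q) ∈ R
        have hd := hψd q hq
        have hdX : q⁻¹ * ψ q ∈ X ⊔ Q := Subgroup.mem_sup_right hd.1
        rw [show ψ q = q * (q⁻¹ * ψ q) from (mul_inv_cancel_left _ _).symm,
          hχ.map_mul (Subgroup.mem_sup_right hq) hdX, ← mul_assoc]
        exact R.mul_mem (hχd q hq) ⟨sc_apply hQsc hχ hdX hd.1, sc_apply hT hχ hdX hd.2⟩)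
    (fun P f g hf' hg hgf ⟨ψ, hψ, hψf, hψQ, hψd⟩ => by
      obtain ⟨χ, hχ, hχψ, -⟩ := hψ.exists_inv
      rw [hψ.img_sup, img_congr hψf, hψQ] at hχ
      refine ⟨χ, hχ, fun y hy => ?_, (hχ.mono le_sup_right).img_eq_self fun y hy =>
        sc_apply hQsc hχ (Subgroup.mem_sup_right hy) hy, fun y hy => ?_⟩
      · obtain ⟨x, hx, rfl⟩ := hf'.mem_img.1 hy
        rw [hgf x hx, ← hψf x hx, hχψ x (Subgroup.mem_sup_left hx)]
      · obtain ⟨x, hx, rfl⟩ := (hψ.mono le_sup_right).mem_img.1 (hψQ.ge hy)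
        rw [hχψ x (Subgroup.mem_sup_right hx)]
        have := R.inv_mem (hψd x hx)
        rwa [mul_inv_rev, inv_inv] at this)
  -- a good lift gives an extension moving `Q` within `R`
  have hgood : ∀ {Y : Subgroup Ω} {h : MulAut ↥(Y ⊔ centralizerIn S Y)}, GoodLift p F E Y h →
      h ∈ F.autGroup (Y ⊔ centralizerIn S Y) → R ≤ Y → ∀ {P : Subgroup Ω} {g : Ω → Ω}, E.IsCentric P → R ≤ P →
      Fn F (normalizerIn S P) g → img g P = Y → ∀ a ∈ E.autGroup P,
      (∀ x ∈ P, autFn h (g x) = g (autFn a x)) → a ∈ D.autGroup P := by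
    intro Y h hh hhF hRY P g hP hRP hg hgi a ha hag
    obtain ⟨a', ha', hha⟩ := hh.restrict
    have hYT : Y ≤ T := hh.centric.1
    have hYS : Y ≤ S := hh.fullyNormalized.1
    haveI := finite_of_le_base hYS
    have hWS : (Y ⊔ centralizerIn S Y) ≤ S := sup_le hYS centralizerIn_le
    have hhf := (mem_autGroup_iff_fn hWS).1 hhF
    obtain ⟨g₁, hg₁, hg₁e, hg₁Q⟩ := (normal_iff_fn.1 hQ).2 (Y ⊔ centralizerIn S Y) _ hhf
    set V := (Y ⊔ centralizerIn S Y) ⊔ Q with hVdef
    have hVS : V ≤ S := sup_le hWS hQ.1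
    obtain ⟨β, hβ, hβe⟩ := exists_aut_of_fn hg₁
      (by rw [hg₁.img_sup, img_congr hg₁e, img_autFn, hg₁Q])
    obtain ⟨n, hn, hnco⟩ := exists_coprime_pow (p := p) hVS (le_sup_left : (Y ⊔ centralizerIn S Y) ≤ V) (a := h)
      (fun w hw => (autFn_coe β ⟨w, Subgroup.mem_sup_left hw⟩).trans ((hβe _).trans (hg₁e w hw))) hh.coprime
    set γ := β ^ n
    have hγ : Fn F V (autFn γ) := (mem_autGroup_iff_fn hVS).1 (pow_mem hβ n)
    have hγY : ∀ y ∈ Y, autFn γ y = autFn a' y := fun y hy =>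
      (hn y (Subgroup.mem_sup_left hy)).trans (hha y hy)
    have hQnY : ∀ q ∈ Q, q ∈ Subgroup.normalizer (Y : Set Ω) := fun q hq => mem_normalizer_of_map_le fun y hy => by
      have h1 := Y.mul_mem (hRY (hcommR q hq y (hYT hy))) hy
      rwa [inv_mul_cancel_right] at h1
    -- the automorphisms of `Y` induced by `Q` which lie in `E`
    obtain ⟨hA, -⟩ := fullyNormalized_good hTp hEs (fullyNormalized_sub hS hF hT hEi.1 hYT hh.fullyNormalized)
    obtain ⟨δ, hδ, hδT⟩ := exists_conj_into hTp hA (T := E.autGroup Y ⊓ autInducedBy Q Y) inf_le_left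
      ((isPGroup_autInducedBy (hS.to_le hQ.1)).to_le inf_le_right)
    have hnormal : ∀ δ' ∈ E.autGroup Y, ∀ τ ∈ E.autGroup Y ⊓ autInducedBy Q Y,
        δ' * τ * δ'⁻¹ ∈ E.autGroup Y ⊓ autInducedBy Q Y := by
      intro δ' hδ' τ hτ
      refine ⟨mul_mem (mul_mem hδ' hτ.1) (Subgroup.inv_mem _ hδ'), ?_⟩
      obtain ⟨u, hu, hτu⟩ := mem_autInducedBy.1 hτ.2
      obtain ⟨ψ, hψ, hψe, hψQ⟩ := (normal_iff_fn.1 hQ).2 Y _
        (Fn.of_subsystem hEi.1 ((mem_autGroup_iff_fn hYT).1 hδ'))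
      refine mem_autInducedBy.2 ⟨ψ u, hψQ.le (mem_img_of_mem hu), fun y => ?_⟩
      rw [← autFn_coe (δ' * τ * δ'⁻¹) y, autFn_mul _ _ y.2, autFn_mul _ _ (autFn_mem _ y.2)]
      have hz : autFn δ'⁻¹ (y : Ω) ∈ Y := autFn_mem _ y.2
      have huz := autFn_mem τ hz
      rw [autFn_coe τ ⟨_, hz⟩, hτu] at huz ⊢
      show autFn δ' (u * autFn δ'⁻¹ (y : Ω) * u⁻¹) = _
      rw [← hψe _ huz, hψ.map_conj (Subgroup.mem_sup_right hu) (Subgroup.mem_sup_left hz), hψe _ hz,
        autFn_apply_inv δ' y.2]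
    have hAT : ∀ τ ∈ E.autGroup Y ⊓ autInducedBy Q Y, τ ∈ autInducedBy T Y := fun τ hτ => by
      have h1 := hδT _ (hnormal _ (Subgroup.inv_mem _ hδ) τ hτ)
      simpa [mul_assoc] using h1
    have hγQ : ∀ q ∈ Q, autFn γ q ∈ Q := fun q hq => sc_apply hQsc hγ (Subgroup.mem_sup_right hq) hq
    have hγR : ∀ r ∈ R, autFn γ r ∈ R := fun r hr =>
      ⟨hγQ r hr.1, sc_apply hT hγ (Subgroup.mem_sup_right hr.1) hr.2⟩
    have hdisp : ∀ q ∈ Q, q⁻¹ * autFn γ q ∈ R := by
      intro q hq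
      refine disp_mem_of_coprime hS hVS (inf_le_left.trans le_sup_right) hnco hγR
        (fun v hv => hRn v (hVS hv)) (Subgroup.mem_sup_right hq) ?_
      set d := q⁻¹ * autFn γ q with hd
      have hdQ : d ∈ Q := Q.mul_mem (Q.inv_mem hq) (hγQ q hq)
      set σ := conjAut Y (hQnY q hq) with hσ
      have hσF : σ ∈ F.autGroup Y := autInducedBy_le_autGroup hYS (conjAut_mem_autInducedBy _ (hQ.1 hq))
      have hmem : σ⁻¹ * a' * σ * a'⁻¹ ∈ E.autGroup Y := by
        have h1 := Invariant.conj_mem hEi hYT (Subgroup.inv_mem _ hσF) ha'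
        rw [inv_inv] at h1
        exact mul_mem h1 (Subgroup.inv_mem _ ha')
      have heq : conjAut Y (hQnY d hdQ) = σ⁻¹ * a' * σ * a'⁻¹ := by
        suffices h1 : σ * conjAut Y (hQnY d hdQ) = a' * σ * a'⁻¹ by
          rw [eq_inv_mul_iff_mul_eq.2 h1]; simp [mul_assoc]
        refine mulAut_ext fun y hy => ?_
        have hz : autFn a'⁻¹ y ∈ Y := autFn_mem _ hy
        have hqz : q * autFn a'⁻¹ y * q⁻¹ ∈ Y := ((Subgroup.mem_normalizer_iff.1 (hQnY q hq)) _).1 hz
        rw [autFn_mul _ _ hy, autFn_mul _ _ hy, autFn_mul _ _ hz, autFn_coe _ ⟨y, hy⟩, conjAut_coe,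
          autFn_coe σ ⟨_, ((Subgroup.mem_normalizer_iff.1 (hQnY d hdQ)) _).1 hy⟩, conjAut_coe,
          autFn_coe σ ⟨_, hz⟩, conjAut_coe]
        show q * (d * y * d⁻¹) * q⁻¹ = autFn a' (q * autFn a'⁻¹ y * q⁻¹)
        rw [← hγY _ hqz, hγ.map_conj (Subgroup.mem_sup_right hq) (Subgroup.mem_sup_left (Subgroup.mem_sup_left hz)),
          hγY _ hz, autFn_apply_inv a' hy, hd]
        group
      obtain ⟨t, htT, ht⟩ := mem_autInducedBy.1 (hAT (conjAut Y (hQnY d hdQ))
        ⟨heq ▸ hmem, conjAut_mem_autInducedBy _ hdQ⟩)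
      set c := t⁻¹ * d with hc
      have hcC : c ∈ centralizerIn S Y := mem_centralizerIn.2
        ⟨S.mul_mem (S.inv_mem (hT.1 htT)) (hQ.1 hdQ), fun y hy => by
          have h1 : d * y * d⁻¹ = t * y * t⁻¹ := (conjAut_coe _ ⟨y, hy⟩).symm.trans (ht ⟨y, hy⟩)
          have h2 : c * y * c⁻¹ = y := by
            rw [show c * y * c⁻¹ = t⁻¹ * (d * y * d⁻¹) * t by rw [hc]; group, h1]
            group
          conv_lhs => rw [← h2]
          group⟩
      have hcW : c ∈ (Y ⊔ centralizerIn S Y) := Subgroup.mem_sup_right hcC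
      have htV : t ∈ V := by
        rw [show t = d * c⁻¹ by rw [hc]; group]
        exact V.mul_mem (Subgroup.mem_sup_right hdQ) (V.inv_mem (Subgroup.mem_sup_left hcW))
      refine ⟨Q.mul_mem (Q.inv_mem hdQ) (hγQ d hdQ), ?_⟩
      rw [show d = t * c by rw [hc]; group, hγ.map_mul htV (Subgroup.mem_sup_left hcW), hn c hcW,
        show (t * c)⁻¹ * (autFn γ t * autFn h c) =
          c⁻¹ * (t⁻¹ * autFn γ t) * c⁻¹⁻¹ * (c⁻¹ * autFn h c) by group]
      exact T.mul_mem (sc_conj hT (S.inv_mem (centralizerIn_le hcC))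
        (T.mul_mem (T.inv_mem htT) (sc_apply hT hγ htV htT))) (hYT (hh.compatible.move c hcC))
    -- transport back along `g`
    have hPS := hP.1.trans hT.1
    haveI := finite_of_le_base hPS
    have hQN : ∀ q ∈ Q, q ∈ normalizerIn S P := fun q hq => mem_normalizerIn.2 ⟨hQ.1 hq,
      mem_normalizer_of_map_le fun y hy => by
        have h1 := P.mul_mem (hRP (hcommR q hq y (hP.1 hy))) hy
        rwa [inv_mul_cancel_right] at h1⟩
    have hgP : Fn F (P ⊔ Q) g := hg.mono (sup_le (le_normalizerIn hPS) hQN)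
    have hgQ : img g Q = Q := (hgP.mono le_sup_right).img_eq_self fun x hx =>
      sc_apply hQsc hgP (Subgroup.mem_sup_right hx) hx
    obtain ⟨g', hg', hg'g, hg'i⟩ := hgP.exists_inv
    rw [hgP.img_sup, hgi, hgQ] at hg' hg'i
    have hYV : Y ⊔ Q ≤ V := sup_le_sup le_sup_left le_rfl
    have hgm : ∀ x ∈ P ⊔ Q, g x ∈ Y ⊔ Q := fun x hx => by
      have h1 := mem_img_of_mem (f := g) hx
      rwa [hgP.img_sup, hgi, hgQ] at h1
    have hcomp : Fn F (P ⊔ Q) (autFn γ ∘ g) := hgP.comp hγ fun x hx => hYV (hgm x hx)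
    have hmm : ∀ x ∈ P ⊔ Q, (autFn γ ∘ g) x ∈ Y ⊔ Q := fun x hx => by
      have h1 := mem_img_of_mem (f := autFn γ ∘ g) hx
      rw [hcomp.img_sup] at h1
      refine sup_le (img_le fun y hy => ?_) (img_le fun q hq => ?_) h1
      · show autFn γ (g y) ∈ _
        have hgy : g y ∈ Y := hgi.le (mem_img_of_mem hy)
        rw [hγY _ hgy]
        exact Subgroup.mem_sup_left (autFn_mem a' hgy)
      · exact Subgroup.mem_sup_right (hγQ _ (hgQ.le (mem_img_of_mem hq)))
    have hψ := hcomp.comp hg' hmm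
    refine (mem_autGroup_iff_fn hP.1).2 (fn_predSystem.2 ⟨(mem_autGroup_iff_fn hP.1).1 ha,
      g' ∘ (autFn γ ∘ g), hψ, fun x hx => ?_, (hψ.mono le_sup_right).img_eq_self fun x hx =>
        sc_apply hQsc hψ (Subgroup.mem_sup_right hx) hx, fun q hq => ?_⟩)
    · show g' (autFn γ (g x)) = autFn a x
      rw [hn _ (Subgroup.mem_sup_left (hgi.le (mem_img_of_mem hx))), hag x hx,
        hg'g _ (Subgroup.mem_sup_left (autFn_mem a hx))]
    · show q⁻¹ * g' (autFn γ (g q)) ∈ R
      have hgq : g q ∈ Q := hgQ.le (mem_img_of_mem hq)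
      have hr := hdisp _ hgq
      have hrQ : (g q)⁻¹ * autFn γ (g q) ∈ Y ⊔ Q := Subgroup.mem_sup_right hr.1
      rw [← mul_inv_cancel_left (g q) (autFn γ (g q)), hg'.map_mul (Subgroup.mem_sup_right hgq) hrQ,
        hg'g q (Subgroup.mem_sup_right hq), inv_mul_cancel_left]
      exact ⟨sc_apply hQsc hg' hrQ hr.1, sc_apply hT hg' hrQ hr.2⟩
  have hRT : R ≤ T := inf_le_right
  have hle : E ≤ D := by
    refine le_of_automizers hTp hEs D ?_ fun P hPT hP hbig => ?_
    · intro α hα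
      obtain ⟨β, hβ, γ, hγ, rfl⟩ := exists_residual_decomp hTp hEs (fullyAutomized_top hEs) hα
      refine mul_mem ?_ ?_
      · clear hα
        induction hβ using Subgroup.closure_induction with
        | mem a ha =>
          have hTn := fullyNormalized_of_weaklyClosed (weaklyClosed_of_stronglyClosed hT)
          obtain ⟨b, hb, hbe, hbc⟩ := hext a a.2
          have hWS : T ⊔ centralizerIn S T ≤ S := sup_le hT.1 centralizerIn_le
          have hbf := (mem_autGroup_iff_fn hWS).1 hb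
          have hbT : ∀ y ∈ T, autFn b y = autFn (a : MulAut T) y := fun y hy => by
            rw [autFn_coe b ⟨y, Subgroup.mem_sup_left hy⟩, autFn_coe (a : MulAut T) ⟨y, hy⟩]
            exact hbe ⟨y, hy⟩
          have hl : (a : MulAut T) ∈ liftGroup F E T := Or.inl ⟨a.2, b, hb, ⟨hbf,
            fun y hy => hbT y hy ▸ autFn_mem _ hy, fun u hu => by
              rw [autFn_coe b ⟨u, Subgroup.mem_sup_right hu⟩]
              exact (hbc ⟨u, Subgroup.mem_sup_right hu⟩ hu).1⟩, hbT⟩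
          obtain ⟨h, hhF, hh, hhe⟩ := exists_goodLift (p := p) hTn (centric_top E) hl
            (by rw [Subgroup.orderOf_coe]; exact ha)
          exact hgood hh hhF hRT (centric_top E) hRT (fn_id normalizerIn_le) (img_id T) _ a.2 hhe
        | one => exact one_mem _
        | mul x y _ _ hx hy => exact mul_mem hx hy
        | inv x _ hx => exact inv_mem hx
      · exact autInducedBy_le_autGroup le_rfl hγ
    have hext' : ∀ α, ExtAut E P α → α ∈ D.autGroup P := by
      rintro α ⟨N, g, hPN, hg, hgα⟩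
      refine (mem_autGroup hPT.le).2 (mem_hom_of_fn ((hbig N g ?_ hg).mono hPN.le) fun x => (hgα x).symm)
      haveI := finite_of_le_base hg.le
      exact Set.Finite.card_lt_card (Set.toFinite (N : Set Ω)) hPN
    rcases extClosure_eq_or_essential hTp hEs hPT hP with h | hess
    · rw [← h]
      exact (Subgroup.closure_le _).2 hext'
    have hPc := hess.1
    have hRP : R ≤ P := normal_le_centricRadical hTp hRN hPc (essential_radical hTp hess)
    have hPS := hPT.le.trans hT.1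
    haveI := finite_of_le_base hPS
    obtain ⟨hA, hfc⟩ := fullyNormalized_good hTp hEs hP
    obtain ⟨Y, hPY, hY⟩ := exists_fullyNormalized (F := F) hPS
    obtain ⟨g, hg, -, hgi⟩ := exists_normalizer_map hS (fullyNormalized_good hS hF hY).1
      (fullyNormalized_receptive hS hF hY) hPY
    have hgP := hg.mono (le_normalizerIn hPS)
    have hYc : E.IsCentric Y := hgi ▸ centric_img hEi hPc hgP
    haveI := finite_of_le_base hY.1
    have hRY : R ≤ Y := by
      have hi : img g R = R := (hgP.mono hRP).img_eq_self fun r hr =>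
        ⟨sc_apply hQsc hgP (hRP hr) hr.1, sc_apply hT hgP (hRP hr) hr.2⟩
      rw [← hi, ← hgi]
      exact img_mono hRP
    obtain ⟨e, he, -⟩ := exists_transport hPS hgP hgi
    have hAS : autInducedBy T P ≤ opAut p E P := fun τ hτ => by
      obtain ⟨k, hk⟩ := isPGroup_autInducedBy hTp ⟨τ, hτ⟩
      exact mem_opAut_of_pow (autInducedBy_le_autGroup hPT.le hτ) (congrArg Subtype.val hk)
    have hOA : opAut p E P ≤ E.autGroup P := Subgroup.map_subtype_le _
    have hlift : opAut p E P ≤ (liftGroup F E Y).comap (MulAut.congr e).toMonoidHom :=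
      opAut_closure fun τ hτ ⟨k, hk⟩ => by
        have hτ' := congr_mem hEi hPT.le hgP hgi e he hτ
        obtain ⟨b, hb, hbe, hbu⟩ := exists_lift_pElement hS hw hYc hY hτ' (k := k)
          (by rw [← map_pow, hk, map_one])
        exact Or.inl ⟨hτ', b, hb, ⟨(mem_autGroup_iff_fn (sup_le hY.1 centralizerIn_le)).1 hb,
          fun y hy => hbe y hy ▸ autFn_mem _ hy, hbu⟩, hbe⟩
    have hco : ∀ a ∈ opAut p E P, Nat.Coprime (orderOf a) p → a ∈ D.autGroup P := by
      intro a ha hac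
      obtain ⟨h, hhF, hh, hhe⟩ := exists_goodLift (p := p) hY hYc (hlift ha) (by
        show Nat.Coprime (orderOf (MulAut.congr e a)) p
        rwa [MulEquiv.orderOf_eq])
      refine hgood hh hhF hRY hPc hRP hg hgi a (hOA ha) fun x hx => ?_
      lift x to P using hx
      rw [← he x, hhe _ (e x).2]
      show autFn (MulAut.congr e a) ((e x : Y) : Ω) = g (autFn a x)
      rw [autFn_coe, autFn_coe, show (MulAut.congr e a) (e x) = e (a x) by simp [MulAut.congr], he]
    intro α hα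
    obtain ⟨-, Syl, hSyl⟩ := hA
    let N := (opAut p E P).subgroupOf (E.autGroup P)
    haveI : N.Normal := ⟨fun n hn a => conj_mem_opAut hn a.2⟩
    have hTN : (Syl : Subgroup (E.autGroup P)) ≤ N := by
      rw [hSyl]
      exact fun a ha => hAS ha
    have hsup : (Subgroup.normalizer ((Syl : Subgroup (E.autGroup P)) : Set (E.autGroup P))) ⊔ N = ⊤ :=
      Sylow.normalizer_sup_eq_top' Syl hTN
    have hmem : (⟨α, hα⟩ : E.autGroup P) ∈
        ((Subgroup.normalizer ((Syl : Subgroup (E.autGroup P)) : Set (E.autGroup P)) ⊔ N : Subgroup _) :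
          Set (E.autGroup P)) := by
      rw [hsup]
      exact Subgroup.mem_top _
    rw [Subgroup.mul_normal] at hmem
    obtain ⟨a, ha, o, ho, e'⟩ := hmem
    rw [← show (a : MulAut P) * (o : MulAut P) = α from congrArg Subtype.val e']
    refine mul_mem ?_ ?_
    · obtain ⟨n, -, hn, hnP⟩ := exists_mem_normalizer_not_mem hTp (le_refl T) hPT
      refine hext' _ (extAut_of_receptive (fullyCentralized_receptive hTp hEs hfc) a.2 hn hnP ?_)
      have hcn : (⟨conjAut P hn.2, autInducedBy_le_autGroup hPT.le (conjAut_mem_autInducedBy hn.2 hn.1)⟩ :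
          E.autGroup P) ∈ (Syl : Subgroup (E.autGroup P)) := by
        rw [hSyl]
        exact conjAut_mem_autInducedBy hn.2 hn.1
      have h1 := (Subgroup.mem_normalizer_iff.1 ha _).1 hcn
      rw [hSyl] at h1
      exact h1
    · haveI : Finite (MulAut P) := Finite.of_injective (fun f : MulAut P => (f : P → P)) DFunLike.coe_injective
      have hnd : ¬ p ∣ (autInducedBy T P).relIndex (opAut p E P) := fun h => by
        apply Syl.not_dvd_index
        rw [hSyl]
        exact h.trans (Dvd.intro _ (Subgroup.relIndex_mul_relIndex _ _ _ hAS hOA))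
      let Syl' : Sylow p (opAut p E P) :=
        CfsgLib.Fusion.Basic.sylowSubgroupOf hAS (isPGroup_autInducedBy hTp) hnd
      have hall : pResidual p (opAut p E P) ⊔ (Syl' : Subgroup (opAut p E P)) ≤
          (D.autGroup P).comap (opAut p E P).subtype := by
        refine sup_le ((Subgroup.closure_le _).2 fun b hb => hco b b.2 ?_) ?_
        · rw [Subgroup.orderOf_coe]
          exact hb
        · rw [CfsgLib.Fusion.Basic.coe_sylowSubgroupOf]
          exact fun b hb => autInducedBy_le_autGroup hPT.le hb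
      rw [CfsgLib.Fusion.Basic.pResidual_sup_sylow Syl'] at hall
      exact hall (Subgroup.mem_top (⟨(o : MulAut P), ho⟩ : opAut p E P))
  exact (fn_predSystem.1 (fn_of_le hle hf)).2

end CfsgLib.Fsys.CoreLayer
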