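import Cfsg.Agent.Lib.FusionSystem.Components
import Cfsg.Agent.Lib.FusionSystem.LocalModels
import Cfsg.Agent.Lib.KGroups.CharP
import Cfsg.Agent.Lib.LocalEvenB.CharP
import Cfsg.Agent.Lib.Solvable.FrattiniFitting

/-! The dichotomy of saturated fusion systems: characteristic `p`-type or component type. -/

set_option autoImplicit false

namespace CfsgLib.Fsys.Comp

open Cfsg Cfsg.FusionSystem
open Cfsg.FusionSystem (centralizerIn normalizerIn imageAlong)
open scoped Pointwise
open CfsgLib.Fsys.WNR (fn_centralizer fn_centralizer_of_fix)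

universe u

variable {Ω : Type u} [Group Ω] {S U X : Subgroup Ω} [Finite S] {F : FusionSystem S} {p : ℕ} [Fact p.Prime]

/-- The normalizer system is constrained if the centralizer system is. -/
theorem normalizer_constrained_of_centralizer (hS : IsPGroup p S) (hF : F.IsSaturated p)
    (hU : F.IsFullyNormalized U) {N : FusionSystem (normalizerIn S U)} (hN : F.IsNormalizerSystem U N)
    {E : FusionSystem (centralizerIn S U)} (hE : F.IsCentralizerSystem U E) (hEc : E.IsConstrained p) :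
    N.IsConstrained p := by
  have hD : normalizerIn S U ≤ S := normalizerIn_le
  have hC : centralizerIn S U ≤ S := centralizerIn_le
  haveI := finite_of_le_base hD
  haveI := finite_of_le_base hC
  have hNs := normalizerSystem_saturated hS hF hU hN
  have hUn := normalizerSystem_normal hN hU.1
  have hn := inner_normalIn (hS.to_le hD) hNs hUn
  set K := WNR.fixedSubgroup p N (innerFusionSystem U) with hKdef
  obtain ⟨D, hDn, hDc⟩ : ∃ D : FusionSystem K, D.IsNormalIn N p ∧ ∀ P, D.Hom P ⊆ N.centralizerHom U P :=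
    Red.exists_centralizer_normal (hS.to_le hD) hn
  have hK : centralizerIn S U ≤ K := by
    have hCN : centralizerIn S U ≤ centralizerIn (normalizerIn S U) U := fun x hx =>
      mem_centralizerIn.2 ⟨centralizerIn_le_normalizerIn hx, (mem_centralizerIn.1 hx).2⟩
    refine hCN.trans (WNR.le_fixedSubgroup (hS.to_le hD) hNs hn.1.2.2 le_rfl
      ((WNR.centralized_iff hn.1.2.2.1 le_rfl).2 ?_))
    rintro P f ⟨φ, ⟨hP, g, hg, hφ⟩, hφf⟩
    refine ⟨fun x => g * x * g⁻¹, fn_conj (sup_le (hP.trans hUn.1) centralizerIn_le) (hUn.1 hg),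
      fun x hx => (hφ ⟨x, hx⟩).symm.trans (hφf ⟨x, hx⟩), fun x hx => ?_⟩
    show g * x * g⁻¹ = x
    rw [(mem_centralizerIn.1 hx).2 g hg, mul_inv_cancel_right]
  have hKC : K ≤ centralizerIn S U := fun x hx =>
    mem_centralizerIn.2 ⟨hD (WNR.fixedSubgroup_le p hx).1, (mem_centralizerIn.1 (WNR.fixedSubgroup_le p hx)).2⟩
  have hsub : D.IsSubsystemOf E := fun P φ hφ => by
    obtain ⟨h1, h2, h3, ψ, hψ, h4, h5⟩ := hDc P hφ
    rw [hE P]
    exact ⟨normalizerSystem_sub hN P h1, fun x hx => hKC ((D.le_of_mem hφ).1 hx),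
      fun x => hKC ((D.le_of_mem hφ).2 x), ψ, normalizerSystem_sub hN _ hψ, h4, h5⟩
  have hsc : E.StronglyClosed K :=
    stronglyClosed_iff_fn.2 ⟨hKC, fun P f hf x hx _ => hK (hf.mem hx)⟩
  have hDcon := constrained_of_stronglyClosed (hS.to_le hC) hEc hsub hsc hDn.1.1
  refine ⟨hNs, _, core_normal, normal_centric core_normal fun x hx => ?_⟩
  obtain ⟨hxN, hxc⟩ := mem_centralizerIn.1 hx
  refine centralizer_core_le (hS.to_le hD) hDn.1 hDcon (mem_centralizerIn.2 ⟨hK ?_, hxc⟩)
  exact mem_centralizerIn.2 ⟨hD hxN, fun u hu => hxc u (le_core hUn hu)⟩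

/-- If `C_F(X')` is constrained for the fully normalized conjugates `X'` of `X ≤ U ∩ Z(N_S(U))`, so is `C_F(U)`. -/
theorem centralizer_constrained (hS : IsPGroup p S) (hF : F.IsSaturated p) (hU : F.IsFullyNormalized U)
    (hXU : X ≤ U) (hXc : ∀ x ∈ X, ∀ s ∈ normalizerIn S U, s * x = x * s)
    (hyp : ∀ X', F.IsConj X X' → F.IsFullyNormalized X' →
      ∀ C : FusionSystem (centralizerIn S X'), F.IsCentralizerSystem X' C → C.IsConstrained p)
    {E : FusionSystem (centralizerIn S U)} (hE : F.IsCentralizerSystem U E) : E.IsConstrained p := by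
  classical
  set D := normalizerIn S U with hDdef
  have hUS := hU.1
  have hXS := hXU.trans hUS
  have hUD : U ≤ D := le_normalizerIn hUS
  obtain ⟨X', hXX', hX'n⟩ := exists_fullyNormalized (F := F) hXS
  obtain ⟨hA, hc⟩ := fullyNormalized_good hS hF hX'n
  obtain ⟨f, hf, hfn, hfX⟩ := exists_normalizer_map hS hA (fullyCentralized_receptive hS hF hc) hXX'
  have hDX : D ≤ normalizerIn S X := fun s hs => centralizerIn_le_normalizerIn
    (mem_centralizerIn.2 ⟨normalizerIn_le hs, fun x hx => (hXc x hx s hs).symm⟩)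
  have hfD := hf.mono hDX
  have hXD : X ≤ D := hXU.trans hUD
  set CX := centralizerIn S X' with hCX
  have hfC : ∀ x ∈ D, f x ∈ CX := fun x hx => mem_centralizerIn.2 ⟨hfD.mem hx, fun y hy => by
    rw [← hfX] at hy
    obtain ⟨x₀, hx₀, rfl⟩ := (hfD.mono hXD).mem_img.1 hy
    rw [← hfD.map_mul (hXD hx₀) hx, ← hfD.map_mul hx (hXD hx₀), hXc x₀ hx₀ x hx]⟩
  have hCXS : CX ≤ S := centralizerIn_le
  haveI := finite_of_le_base hCXS
  obtain ⟨C, hC⟩ := exists_centralizerSystem F hX'n.1
  have hCF : C.IsSubsystemOf F := fun P φ hφ => by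
    rw [hC P] at hφ
    exact hφ.1
  obtain ⟨G, hGgrp, ι, hGfin, hι, ⟨T, hT⟩, hGc⟩ :=
    exists_model (hS.to_le hCXS) (hyp X' hXX' hX'n C hC)
  set U' := img f U with hU'
  have hU'C : U' ≤ CX := img_le fun x hx => hfC x (hUD hx)
  have hX'U' : X' ≤ U' := hfX ▸ img_mono hXU
  set A := imageAlong ι U' with hA'
  have hAmem : ∀ u ∈ U, th ι (f u) ∈ A := fun u hu =>
    th_mem_imageAlong (mem_img_of_mem hu) (hfC u (hUD hu))
  set K := Subgroup.centralizer (A : Set G) with hK
  have hCSS : (centralizerIn S U) ≤ S := centralizerIn_le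
  haveI := finite_of_le_base hCSS
  have hCSD : (centralizerIn S U) ≤ D := fun x hx => centralizerIn_le_normalizerIn hx
  have hjmem : ∀ x ∈ (centralizerIn S U), th ι (f x) ∈ K := fun x hx => Subgroup.mem_centralizer_iff.2 fun y hy => by
    obtain ⟨z, hz, -, rfl⟩ := mem_imageAlong.1 hy
    obtain ⟨u, hu, rfl⟩ := (hfD.mono hUD).mem_img.1 hz
    rw [← th_mul (hfC u (hUD hu)) (hfC x (hCSD hx)), ← th_mul (hfC x (hCSD hx)) (hfC u (hUD hu)),
      ← hfD.map_mul (hUD hu) (hCSD hx), ← hfD.map_mul (hCSD hx) (hUD hu), (mem_centralizerIn.1 hx).2 u hu]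
  let j : (centralizerIn S U) →* K := MonoidHom.mk' (fun x => ⟨th ι (f x), hjmem x x.2⟩) fun x y => Subtype.ext (by
    show th ι (f ((x : Ω) * y)) = th ι (f x) * th ι (f y)
    rw [hfD.map_mul (hCSD x.2) (hCSD y.2), th_mul (hfC x (hCSD x.2)) (hfC y (hCSD y.2))])
  have hinj : ∀ x ∈ D, ∀ y ∈ D, th ι (f x) = th ι (f y) → x = y := fun x hx y hy h =>
    hfD.inj hx hy (th_injOn hι.1 (hfC x hx) (hfC y hy) h)
  have hjinj : Function.Injective j := fun x y h =>
    Subtype.ext (hinj x (hCSD x.2) y (hCSD y.2) (congrArg Subtype.val h))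
  have hreal : E.IsRealizedBy j := by
    refine ⟨hjinj, fun P hP φ hφm => ⟨fun hφ => ?_, fun ⟨g, hg⟩ => ?_⟩⟩
    · obtain ⟨-, -, ψ, hψ, hψe, hψU⟩ := (fn_centralizer hE).1 (fn_ofHom hφ)
      have hPUD : P ⊔ U ≤ D := sup_le (hP.trans hCSD) hUD
      have hψD : ∀ x ∈ P ⊔ U, ψ x ∈ D := fun x hx => by
        refine (sup_le (hCSD) hUD : (centralizerIn S U) ⊔ U ≤ D) ?_
        have := mem_img_of_mem (f := ψ) hx
        rw [hψ.img_sup] at this
        refine sup_le_sup (img_le fun y hy => ?_) (img_le fun y hy => (hψU y hy).symm ▸ hy) this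
        rw [hψe y hy, ofHom_apply φ hy]
        exact hφm ⟨y, hy⟩
      obtain ⟨k, hk, hkf, hki⟩ := (hfD.mono hPUD).exists_inv
      set W := img f (P ⊔ U)
      have hkm : ∀ y ∈ W, k y ∈ P ⊔ U := fun y hy => hki.le (mem_img_of_mem hy)
      have hh : Fn F W (f ∘ (ψ ∘ k)) := (hk.comp hψ hkm).comp hfD fun y hy => hψD _ (hkm y hy)
      have hX'W : X' ≤ W := hX'U'.trans (img_mono le_sup_right)
      have hfix : ∀ u ∈ U, (f ∘ (ψ ∘ k)) (f u) = f u := fun u hu => by
        show f (ψ (k (f u))) = f u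
        rw [hkf u (Subgroup.mem_sup_right hu), hψU u hu]
      have hWC : W ≤ CX := img_le fun x hx => hfC x (hPUD hx)
      have hhC : Fn C W (f ∘ (ψ ∘ k)) := fn_centralizer_of_fix hC hWC (by rwa [sup_eq_left.2 hX'W])
        fun y hy => by
          rw [← hfX] at hy
          obtain ⟨x, hx, rfl⟩ := (hfD.mono hXD).mem_img.1 hy
          exact hfix x (hXU hx)
      obtain ⟨-, -, g, hg⟩ := (fn_realized_iff hι).1 hhC
      have hgK : g ∈ K := Subgroup.mem_centralizer_iff.2 fun y hy => by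
        obtain ⟨z, hz, -, rfl⟩ := mem_imageAlong.1 hy
        obtain ⟨u, hu, rfl⟩ := (hfD.mono hUD).mem_img.1 hz
        have := hg (f u) (mem_img_of_mem (Subgroup.mem_sup_right hu))
        rw [hfix u hu] at this
        exact eq_mul_inv_iff_mul_eq.1 this
      refine ⟨⟨g, hgK⟩, fun x => Subtype.ext ?_⟩
      have := hg (f x) (mem_img_of_mem (Subgroup.mem_sup_left x.2))
      show th ι (f (φ x)) = g * th ι (f x) * g⁻¹
      rw [← this]
      show th ι (f (φ x)) = th ι (f (ψ (k (f x))))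
      rw [hkf _ (Subgroup.mem_sup_left x.2), hψe _ x.2, ofHom_coe]
    · have hPUD : P ⊔ U ≤ D := sup_le (hP.trans hCSD) hUD
      set W := img f (P ⊔ U) with hW
      have hWC : W ≤ CX := img_le fun x hx => hfC x (hPUD hx)
      let M : Subgroup Ω := ((imageAlong ι (img f D)).comap
        ((MulAut.conj (g : G)).toMonoidHom.comp ι)).map CX.subtype
      have hM : ∀ x ∈ P ⊔ U, x ∈ D := fun x hx => hPUD hx
      have hWM : W ≤ M := by
        rw [hW, (hfD.mono hPUD).img_sup]
        refine sup_le (img_le fun x hx => ?_) (img_le fun u hu => ?_)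
        · refine ⟨⟨f x, hfC x (hCSD (hP hx))⟩, Subgroup.mem_comap.2 ?_, rfl⟩
          have e := congrArg Subtype.val (hg ⟨x, hx⟩)
          show (g : G) * ι ⟨f x, _⟩ * (g : G)⁻¹ ∈ _
          rw [← th_apply (hfC x (hCSD (hP hx)))]
          have e' : th ι (f (φ ⟨x, hx⟩)) = (g : G) * th ι (f x) * (g : G)⁻¹ := e
          rw [← e']
          exact th_mem_imageAlong (mem_img_of_mem (hCSD (hφm _))) (hfC _ (hCSD (hφm _)))
        · refine ⟨⟨f u, hfC u (hUD hu)⟩, Subgroup.mem_comap.2 ?_, rfl⟩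
          show (g : G) * ι ⟨f u, _⟩ * (g : G)⁻¹ ∈ _
          rw [← th_apply (hfC u (hUD hu)), ← Subgroup.mem_centralizer_iff.1 g.2 _ (hAmem u hu),
            mul_inv_cancel_right]
          exact th_mem_imageAlong (mem_img_of_mem (hUD hu)) (hfC u (hUD hu))
      have hz : ∀ y : Ω, ∃ z : Ω, y ∈ W → z ∈ img f D ∧ z ∈ CX ∧ th ι z = (g : G) * th ι y * (g : G)⁻¹ :=
        fun y => by
          by_cases hy : y ∈ W
          · obtain ⟨s, hs, rfl⟩ := hWM hy
            obtain ⟨z, hz, hzC, hze⟩ := mem_imageAlong.1 hs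
            refine ⟨z, fun _ => ⟨hz, hzC, ?_⟩⟩
            rw [hze, Subgroup.coe_subtype, th_coe]
            rfl
          · exact ⟨1, fun h => absurd h hy⟩
      choose z hzD hzC hze using hz
      have hzfn : Fn C W z := (fn_realized_iff hι).2 ⟨hWC, hzC, g, hze⟩
      have hzF := Fn.of_subsystem hCF hzfn
      obtain ⟨k, hk, hkf, hki⟩ := hfD.exists_inv
      have hψ : Fn F (P ⊔ U) (k ∘ (z ∘ f)) := ((hfD.mono hPUD).comp hzF fun x hx => mem_img_of_mem hx).comp hk
        fun x hx => hzD _ (mem_img_of_mem hx)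
      have hzeq : ∀ x ∈ P ⊔ U, ∀ w ∈ D, th ι (f w) = (g : G) * th ι (f x) * (g : G)⁻¹ → k (z (f x)) = w :=
        fun x hx w hw h => by
          have hm : f x ∈ W := mem_img_of_mem hx
          rw [th_injOn hι.1 (hzC _ hm) (hfC w hw) ((hze _ hm).trans h.symm), hkf w hw]
      have hψU : ∀ u ∈ U, (k ∘ (z ∘ f)) u = u := fun u hu => hzeq u (Subgroup.mem_sup_right hu) u (hUD hu) (by
        rw [← Subgroup.mem_centralizer_iff.1 g.2 _ (hAmem u hu), mul_inv_cancel_right])
      refine mem_hom_of_fn (fn_centralizer_of_fix hE hP hψ hψU) fun x => ?_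
      exact (hzeq x (Subgroup.mem_sup_left x.2) (φ x) (hCSD (hφm x)) (congrArg Subtype.val (hg x))).symm
  have hjsyl : ∃ R : Sylow p K, (R : Subgroup K) = j.range := by
    haveI : Finite K := inferInstance
    obtain ⟨R, hR⟩ := ((hS.to_le hCSS).of_surjective j.rangeRestrict j.rangeRestrict_surjective).exists_le_sylow
    refine ⟨R, (Subgroup.eq_of_le_of_card_ge hR ?_).symm⟩
    rw [Nat.card_congr (MonoidHom.ofInjective hjinj).toEquiv.symm]
    set R' := (R : Subgroup K).map K.subtype with hR'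
    have hR'K : R' ≤ K := Subgroup.map_subtype_le _
    have hR'p : IsPGroup p R' := R.2.map _
    haveI := finite_of_le_base (hU'C.trans le_rfl)
    have hAp : IsPGroup p A := ((hS.to_le hCXS).to_subgroup _).map _
    have hB : IsPGroup p ↥(R' ⊔ A) := hR'p.to_sup_of_normal_right' hAp
      (hR'K.trans (Subgroup.centralizer_le_normalizer _))
    obtain ⟨T', hT'⟩ := hB.exists_le_sylow
    obtain ⟨g, hg⟩ := MulAction.exists_smul_eq G T' T
    have hgm : ∀ b ∈ R' ⊔ A, g * b * g⁻¹ ∈ ι.range := fun b hb => by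
      rw [← hT, ← hg]
      exact Subgroup.smul_mem_pointwise_smul b (MulAut.conj g) _ (hT' hb)
    have hh : ∀ y : Ω, ∃ w : Ω, y ∈ U' → w ∈ CX ∧ th ι w = g * th ι y * g⁻¹ := fun y => by
      by_cases hy : y ∈ U'
      · obtain ⟨⟨w, hw⟩, hwe⟩ := hgm _ (Subgroup.mem_sup_right (th_mem_imageAlong hy (hU'C hy)))
        exact ⟨w, fun _ => ⟨hw, by rw [th_apply hw, hwe]⟩⟩
      · exact ⟨1, fun h => absurd h hy⟩
    choose h hhC hhe using hh
    have hhfn : Fn C U' h := (fn_realized_iff hι).2 ⟨hU'C, hhC, g, hhe⟩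
    have hhF := Fn.of_subsystem hCF hhfn
    have hconj : F.IsConj U (img h U') :=
      isConj_trans (isConj_of_fn (hfD.mono hUD)) (isConj_of_fn hhF)
    have hcard := (fullyNormalized_good hS hF hU).2.2 _ hconj
    refine le_trans ?_ hcard
    haveI := finite_of_le_base (centralizerIn_le (S := S) (P := img h U'))
    have hr : ∀ r : R, ∃ c : CX, ι c = g * ((r : K) : G) * g⁻¹ := fun r =>
      hgm _ (Subgroup.mem_sup_left (show ((r : K) : G) ∈ R' from ⟨r, r.2, rfl⟩))
    choose c hc' using hr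
    have hcm : ∀ r, (c r : Ω) ∈ centralizerIn S (img h U') := fun r =>
      mem_centralizerIn.2 ⟨hCXS (c r).2, fun y hy => by
        obtain ⟨u, hu, rfl⟩ := hhfn.mem_img.1 hy
        refine th_injOn hι.1 (mul_mem (hhC u hu) (c r).2) (mul_mem (c r).2 (hhC u hu)) ?_
        rw [th_mul (hhC u hu) (c r).2, th_mul (c r).2 (hhC u hu), hhe u hu, th_coe, hc']
        have := Subgroup.mem_centralizer_iff.1 (r : K).2 _ (th_mem_imageAlong hu (hU'C hu))
        calc g * th ι u * g⁻¹ * (g * ((r : K) : G) * g⁻¹) = g * (th ι u * ((r : K) : G)) * g⁻¹ := by group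
          _ = g * (((r : K) : G) * th ι u) * g⁻¹ := by rw [this]
          _ = g * ((r : K) : G) * g⁻¹ * (g * th ι u * g⁻¹) := by group⟩
    refine Nat.card_le_card_of_injective (fun r => (⟨c r, hcm r⟩ : centralizerIn S (img h U'))) fun r r' e => ?_
    have e' : c r = c r' := Subtype.ext (congrArg (fun z : centralizerIn S (img h U') => (z : Ω)) e)
    have := (hc' r).symm.trans ((congrArg ι e').trans (hc' r'))
    exact Subtype.ext (Subtype.ext (mul_left_cancel (mul_right_cancel this)))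
  have hKc : Subgroup.centralizer ((pCore p K : Subgroup K) : Set K) ≤ pCore p K := by
    have hbot : Subgroup.centralizer ((⊥ : Subgroup G) : Set G) = ⊤ :=
      top_le_iff.1 fun x _ => Subgroup.mem_centralizer_iff.2 fun y hy => by
        rw [Subgroup.mem_bot.1 hy, one_mul, mul_one]
    exact KGroups.CharP.centralizer_of_le (((hS.to_le hCXS).to_subgroup _).map _) bot_le
      (LocalEvenB.CharP.charP_congr ((MulEquiv.subgroupCongr hbot).trans Subgroup.topEquiv).symm hGc)
  exact model_constrained (G := K) (ι := j) ⟨inferInstance, hreal, hjsyl, hKc⟩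

/-- The dichotomy. -/
theorem dichotomy (hS : IsPGroup p S) (hF : F.IsSaturated p) :
    F.IsOfCharacteristicPType p ∨ F.IsOfComponentType p := by
  classical
  refine or_iff_not_imp_right.2 fun hnc U hU hUn N hN => ?_
  obtain ⟨E, hE⟩ := exists_centralizerSystem F hUn.1
  refine normalizer_constrained_of_centralizer hS hF hUn hN hE ?_
  set D := normalizerIn S U
  haveI := finite_of_le_base (normalizerIn_le : D ≤ S)
  haveI : Group.IsNilpotent D := (hS.to_le normalizerIn_le).isNilpotent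
  haveI : (U.subgroupOf D).Normal := ⟨fun n hn g => Subgroup.mem_subgroupOf.2
    ((Subgroup.mem_normalizer_iff.1 g.2.2 n).1 (Subgroup.mem_subgroupOf.1 hn))⟩
  have hUD : U ≤ D := le_normalizerIn hUn.1
  have hne : U.subgroupOf D ≠ ⊥ := fun h => hU (le_bot_iff.1 fun x hx => by
    have := (Subgroup.mem_bot (x := (⟨x, hUD hx⟩ : D))).1 (h ▸ Subgroup.mem_subgroupOf.2 hx)
    exact Subgroup.mem_bot.2 (congrArg Subtype.val this))
  have hmeet := Solvable.FrattiniFitting.inf_center_ne_bot (U.subgroupOf D) hne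
  have hp : IsPGroup p ↥(U.subgroupOf D ⊓ Subgroup.center D) := ((hS.to_le normalizerIn_le).to_subgroup _)
  haveI := (Subgroup.nontrivial_iff_ne_bot _).2 hmeet
  obtain ⟨k, hk, hcard⟩ := hp.nontrivial_iff_card.1 inferInstance
  obtain ⟨z, hz⟩ := exists_prime_orderOf_dvd_card' (G := ↥(U.subgroupOf D ⊓ Subgroup.center D)) p
    (hcard ▸ dvd_pow_self p hk.ne')
  have hzU : ((z : D) : Ω) ∈ U := Subgroup.mem_subgroupOf.1 (Subgroup.mem_inf.1 z.2).1
  have hXcard : Nat.card (Subgroup.zpowers ((z : D) : Ω)) = p := by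
    rw [Nat.card_zpowers, Subgroup.orderOf_coe, Subgroup.orderOf_coe, hz]
  have hXc : ∀ x ∈ Subgroup.zpowers ((z : D) : Ω), ∀ s ∈ D, s * x = x * s := by
    intro x hx s hs
    obtain ⟨m, rfl⟩ := Subgroup.mem_zpowers_iff.1 hx
    have h1 : Commute s ((z : D) : Ω) :=
      congrArg Subtype.val (Subgroup.mem_center_iff.1 (Subgroup.mem_inf.1 z.2).2 ⟨s, hs⟩)
    exact h1.zpow_right m
  refine centralizer_constrained hS hF hUn (Subgroup.zpowers_le.2 hzU) hXc (fun X' hXX' hX'n C hC => ?_) hE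
  haveI := finite_of_le_base (centralizerIn_le (S := S) (P := X'))
  have hCs := centralizerSystem_saturated hS hF (fullyNormalized_good hS hF hX'n).2 hC
  refine (constrained_iff_no_component (hS.to_le centralizerIn_le) hCs).2 fun ⟨T, D', hD'⟩ => hnc ?_
  exact ⟨X', (isConj_card hXX').trans hXcard, hX'n, C, hC, T, D', hD'⟩

end CfsgLib.Fsys.Comp
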