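import Cfsg.Agent.Lib.FusionSystem.CentralizerNormal
import Cfsg.Prelude.Def_TwoFusion

/-! Subsystems over strongly closed direct factors. -/

set_option autoImplicit false

namespace CfsgLib.Fsys.Red

open Cfsg Cfsg.FusionSystem CfsgLib.Fsys.WNR
open Cfsg.FusionSystem (centralizerIn normalizerIn)

universe u

variable {Ω : Type u} [Group Ω] {S K : Subgroup Ω} [Finite S] {F : FusionSystem S}
  {p : ℕ} [Fact p.Prime]

omit [Finite S] [Fact p.Prime] in
theorem fn_full {R : FusionSystem K} (hR : ∀ P : Subgroup Ω, P ≤ K → R.Hom P = F.Hom P)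
    {P : Subgroup Ω} (hP : P ≤ K) {f : Ω → Ω} : Fn R P f ↔ Fn F P f := by
  simp only [Fn, hR P hP]

/-- The full subsystem over a strongly closed factor is saturated. -/
theorem full_saturated (hS : IsPGroup p S) (hF : F.IsSaturated p) (hK : F.StronglyClosed K)
    (hdec : ∀ s ∈ S, ∃ k ∈ K, ∀ x ∈ K, s * x * s⁻¹ = k * x * k⁻¹)
    {R : FusionSystem K} (hR : ∀ P : Subgroup Ω, P ≤ K → R.Hom P = F.Hom P) : R.IsSaturated p := by
  haveI := finite_of_le_base hK.1
  intro P hP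
  obtain ⟨Q, hPQ, hQ⟩ := exists_fullyNormalized (F := F) (hP.trans hK.1)
  obtain ⟨f, hf, hfi⟩ := isConj_iff.1 hPQ
  have hQK : Q ≤ K := hfi ▸ img_le fun x hx => sc_apply hK hf hx (hP hx)
  obtain ⟨hA, hc⟩ := fullyNormalized_good hS hF hQ
  have hr := fullyCentralized_receptive hS hF hc
  refine ⟨Q, isConj_iff.2 ⟨f, (fn_full hR hP).2 hf, hfi⟩, ⟨hQK, ?_⟩, receptive_of_extend hQK fun P' g hg hgi => ?_⟩
  · have hAeq : R.autGroup Q = F.autGroup Q := by
      ext α
      rw [mem_autGroup hQK, mem_autGroup (hQK.trans hK.1), hR Q hQK]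
    have hInd : autInducedBy K Q = autInducedBy S Q := by
      ext α
      refine ⟨fun h => ?_, fun h => ?_⟩
      · obtain ⟨s, hs, hse⟩ := mem_autInducedBy.1 h
        exact mem_autInducedBy.2 ⟨s, hK.1 hs, hse⟩
      · obtain ⟨s, hs, hse⟩ := mem_autInducedBy.1 h
        obtain ⟨k, hk, hke⟩ := hdec s hs
        exact mem_autInducedBy.2 ⟨k, hk, fun x => (hse x).trans (hke x (hQK x.2))⟩
    obtain ⟨-, Y, hY⟩ := hA
    rw [hAeq, hInd]
    exact ⟨Y, hY⟩
  · have hP' : P' ≤ K := hg.le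
    obtain ⟨N, u, hu, hPN, hN, hue⟩ := receptive_extend hr ((fn_full hR hP').1 hg) hgi
    refine ⟨u, fun N' hN' => ?_, hue⟩
    have hle : N' ≤ N := fun x hx => by
      obtain ⟨hxK, hxn, h, hh, he⟩ := hN' x hx
      exact (hN x).2 ⟨hK.1 hxK, hxn, h, hK.1 hh, he⟩
    exact (fn_full hR (fun x hx => (hN' x hx).1)).2 (hu.mono hle)

/-- The subsystems over a strongly closed direct factor. -/
theorem directFactor_subsystems (hS : IsPGroup p S) (hF : F.IsSaturated p) {S₂ : Subgroup Ω}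
    (hprod : Cfsg.IsInternalDirectProduct K S₂ S) (hK : F.StronglyClosed K) (h₂ : F.StronglyClosed S₂)
    (R R' : FusionSystem K) (hR : ∀ P : Subgroup Ω, P ≤ K → R.Hom P = F.Hom P)
    (hR' : ∀ P : Subgroup Ω, P ≤ K → R'.Hom P = F.centralizerHom S₂ P) :
    R.IsSaturated p ∧ R'.IsSaturated p ∧ R'.IsNormalIn F p ∧ R'.IsNormalIn R p ∧ R.IsWeaklyNormalIn F p := by
  classical
  obtain ⟨-, hS₂, hcomm, -, hsup⟩ := hprod
  haveI := finite_of_le_base hK.1
  haveI := finite_of_le_base hS₂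
  have hKC : K ≤ centralizerIn S S₂ := fun x hx => mem_centralizerIn.2
    ⟨hK.1 hx, fun y hy => (hcomm x hx y hy).symm⟩
  have hdec' : ∀ s ∈ S, ∃ k ∈ K, ∃ c ∈ S₂, s = k * c := fun s hs => mem_sup_of_commute hcomm (hsup.symm ▸ hs)
  have hdec : ∀ s ∈ S, ∃ k ∈ K, ∀ x ∈ K, s * x * s⁻¹ = k * x * k⁻¹ := fun s hs => by
    obtain ⟨k, hk, c, hc, rfl⟩ := hdec' s hs
    refine ⟨k, hk, fun x hx => ?_⟩
    rw [show k * c * x * (k * c)⁻¹ = k * (c * x * c⁻¹) * k⁻¹ by group, ← hcomm x hx c hc, mul_inv_cancel_right]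
  have hRs := full_saturated hS hF hK hdec hR
  -- the centralizer system
  obtain ⟨C, hC⟩ := exists_centralizerSystem F hS₂
  have h₂c := (fullyNormalized_good hS hF (fullyNormalized_of_weaklyClosed (weaklyClosed_of_stronglyClosed h₂))).2
  have hCs := centralizerSystem_saturated hS hF h₂c hC
  have hCF : C.IsSubsystemOf F := fun P φ h => by
    rw [hC P] at h
    exact h.1
  haveI := finite_of_le_base (centralizerIn_le : centralizerIn S S₂ ≤ S)
  have hKCsc : C.StronglyClosed K := stronglyClosed_iff_fn.2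
    ⟨hKC, fun P f hf x hx hxK => sc_apply hK (Fn.of_subsystem hCF hf) hx hxK⟩
  have hRC : ∀ P : Subgroup Ω, P ≤ K → R'.Hom P = C.Hom P := fun P hP => (hR' P hP).trans (hC P).symm
  have hR's : R'.IsSaturated p := full_saturated (hS.to_le centralizerIn_le) hCs hKCsc
    (fun s hs => hdec s (centralizerIn_le hs)) hRC
  have hR'F : R'.IsSubsystemOf F := fun P φ h => hCF P (hRC P (R'.le_of_mem h).1 ▸ h)
  have hR'R : R'.IsSubsystemOf R := fun P φ h => by
    rw [hR P (R'.le_of_mem h).1]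
    exact hR'F P h
  have hRF : R.IsSubsystemOf F := fun P φ h => hR P (R.le_of_mem h).1 ▸ h
  have hext : ∀ {P : Subgroup Ω}, P ≤ K → ∀ {f : Ω → Ω}, Fn F P f →
      ∃ g : Ω → Ω, Fn F (P ⊔ S₂) g ∧ (∀ x ∈ P, g x = f x) ∧ img g S₂ = S₂ := by
    intro P hP f hf
    obtain ⟨g, hg, hge, hgT⟩ := exists_ext_centralizing hS hF h₂ (hP.trans hKC) hf
      ((img_le fun x hx => sc_apply hK hf hx (hP hx)).trans hKC)
    exact ⟨g, hg, hge, (hg.mono le_sup_right).img_eq_self hgT⟩
  have hRinv : R.IsInvariantIn F := by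
    refine ⟨hRF, hK, fun P hP φ hφ α hα => ?_, fun P hP φ hφ => ?_⟩
    · have hαf := (mem_autGroup_iff_fn hK.1).1 hα
      obtain ⟨k, hk, hkα, hki⟩ := (hαf.mono hP).exists_inv
      have hm : ∀ y ∈ img (autFn α) P, k y ∈ P := fun y hy => hki.le (mem_img_of_mem hy)
      have hφm : ∀ x ∈ P, ofHom φ x ∈ K := fun x hx => by
        rw [ofHom_apply φ hx]
        exact (R.le_of_mem hφ).2 ⟨x, hx⟩
      have h := (hk.comp (Fn.of_subsystem hRF (fn_ofHom hφ)) hm).comp hαf fun y hy => hφm _ (hm y hy)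
      have hi : img (autFn α) P ≤ K := img_le fun x hx => autFn_mem α (hP hx)
      obtain ⟨ψ, hψ, hψe⟩ := (fn_full hR hi).2 h
      have e : (P.subgroupOf K).map (K.subtype.comp α.toMonoidHom) = img (autFn α) P := by
        refine le_antisymm ?_ (img_le fun x hx => ⟨⟨x, hP hx⟩, hx, (autFn_coe α ⟨x, hP hx⟩).symm⟩)
        rintro _ ⟨x, hx, rfl⟩
        show ((α x : K) : Ω) ∈ _
        rw [← autFn_coe]
        exact mem_img_of_mem hx
      have h' : Fn R ((P.subgroupOf K).map (K.subtype.comp α.toMonoidHom)) _ := e ▸ (fn_full hR hi).2 h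
      obtain ⟨ψ', hψ', hψ'e⟩ := h'
      refine ⟨ψ', hψ', fun x hφx hαx => ?_⟩
      rw [hψ'e]
      show autFn α (ofHom φ (k ((α ⟨x, hP x.2⟩ : K) : Ω))) = _
      rw [← autFn_coe α ⟨x, hP x.2⟩, hkα x x.2, ofHom_coe]
      exact autFn_coe α ⟨φ x, hφx⟩
    · refine ⟨1, one_mem _, φ, by rw [hR P hP]; exact hφ, fun x hx => rfl⟩
  have hR'inv : R'.IsInvariantIn F := by
    refine ⟨hR'F, hK, fun P hP φ hφ α hα => ?_, fun P hP φ hφ => ?_⟩
    · obtain ⟨a, ha, hae, haT⟩ := hext (le_refl K) ((mem_autGroup_iff_fn hK.1).1 hα)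
      have hφC : Fn C P (ofHom φ) := by
        have := fn_ofHom hφ
        simpa only [Fn, hRC P hP] using this
      obtain ⟨-, -, u, hu, hue, huT⟩ := (fn_centralizer hC).1 hφC
      have haP := ha.mono (sup_le_sup hP le_rfl)
      obtain ⟨b, hb, hba, hbi⟩ := haP.exists_inv
      rw [haP.img_sup, img_congr fun x hx => hae x (hP hx), haT] at hb hbi
      have hbm : ∀ y ∈ img (autFn α) P ⊔ S₂, b y ∈ P ⊔ S₂ := fun y hy => hbi.le (mem_img_of_mem hy)
      have hφm : ∀ x ∈ P, ofHom φ x ∈ K := fun x hx => by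
        rw [ofHom_apply φ hx]
        exact (R'.le_of_mem hφ).2 ⟨x, hx⟩
      have hum : ∀ y ∈ P ⊔ S₂, u y ∈ K ⊔ S₂ := fun y hy => by
        have h := mem_img_of_mem (f := u) hy
        rw [hu.img_sup] at h
        exact sup_le_sup (img_le fun x hx => hue x hx ▸ hφm x hx) (img_le fun t ht => (huT t ht).symm ▸ ht) h
      have hc : Fn F (img (autFn α) P ⊔ S₂) (a ∘ (u ∘ b)) :=
        (hb.comp hu hbm).comp ha fun y hy => hum _ (hbm y hy)
      have hcT : ∀ t ∈ S₂, (a ∘ (u ∘ b)) t = t := fun t ht => by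
        obtain ⟨t', ht', rfl⟩ := (ha.mono le_sup_right).mem_img.1 (haT.ge ht)
        show a (u (b (a t'))) = a t'
        rw [hba t' (Subgroup.mem_sup_right ht'), huT t' ht']
      have hi : img (autFn α) P ≤ K := img_le fun x hx => autFn_mem α (hP hx)
      have e : (P.subgroupOf K).map (K.subtype.comp α.toMonoidHom) = img (autFn α) P := by
        refine le_antisymm ?_ (img_le fun x hx => ⟨⟨x, hP hx⟩, hx, (autFn_coe α ⟨x, hP hx⟩).symm⟩)
        rintro _ ⟨x, hx, rfl⟩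
        show ((α x : K) : Ω) ∈ _
        rw [← autFn_coe]
        exact mem_img_of_mem hx
      have h' : Fn R' ((P.subgroupOf K).map (K.subtype.comp α.toMonoidHom)) (a ∘ (u ∘ b)) := by
        rw [e]
        exact (fn_full hRC hi).2 (fn_centralizer_of_fix hC (hi.trans hKC) hc hcT)
      obtain ⟨ψ', hψ', hψ'e⟩ := h'
      refine ⟨ψ', hψ', fun x hφx hαx => ?_⟩
      rw [hψ'e]
      show a (u (b ((α ⟨x, hP x.2⟩ : K) : Ω))) = _
      rw [← autFn_coe α ⟨x, hP x.2⟩, ← hae x (hP x.2), hba x (Subgroup.mem_sup_left x.2), hue x x.2,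
        ofHom_coe, hae _ hφx]
      exact autFn_coe α ⟨φ x, hφx⟩
    · have hf := fn_ofHom hφ
      obtain ⟨g, hg, hge, hgT⟩ := hext hP hf
      obtain ⟨N, a, ha, hTN, hN, hae⟩ := receptive_extend
        (fullyCentralized_receptive hS hF h₂c) (hg.mono le_sup_right) hgT
      have hKN : K ≤ N := fun k hk => (hN k).2 (inExt_of_commute (mem_centralizerIn.2
        ⟨hK.1 hk, fun y hy => (hcomm k hk y hy).symm⟩))
      have haK : ∀ x ∈ K, a x ∈ K := fun x hx => sc_apply hK ha (hKN hx) hx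
      have hKi : img a K = K := (ha.mono hKN).img_eq_self haK
      obtain ⟨α, hα, hαe⟩ := exists_aut_of_fn (ha.mono hKN) hKi
      have hαe' : ∀ x ∈ K, autFn α x = a x := fun x hx => (autFn_coe α ⟨x, hx⟩).trans (hαe ⟨x, hx⟩)
      have haKT := ha.mono (sup_le hKN hTN)
      have haT : img a S₂ = S₂ := (img_congr hae).trans hgT
      obtain ⟨b, hb, hba, hbi⟩ := haKT.exists_inv
      rw [haKT.img_sup, hKi, haT] at hb hbi
      have hfK : ∀ x ∈ P, g x ∈ K := fun x hx => (hge x hx).symm ▸ sc_apply hK hf hx (hP hx)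
      have hgKT : ∀ y ∈ P ⊔ S₂, g y ∈ K ⊔ S₂ := fun y hy => by
        have h := mem_img_of_mem (f := g) hy
        rw [hg.img_sup, hgT] at h
        exact sup_le_sup (img_le hfK) le_rfl h
      have hcT : ∀ t ∈ S₂, (b ∘ g) t = t := fun t ht => by
        show b (g t) = t
        rw [← hae t ht, hba t (Subgroup.mem_sup_right ht)]
      obtain ⟨φ₀, hφ₀, hφ₀e⟩ :=
        (fn_full hRC hP).2 (fn_centralizer_of_fix hC (hP.trans hKC) (hg.comp hb hgKT) hcT)
      refine ⟨α, hα, φ₀, hφ₀, fun x hx => ?_⟩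
      obtain ⟨k, hk, hke⟩ := (ha.mono hKN).mem_img.1 (hKi.ge (hfK x x.2))
      have hbk : φ₀ x = k := by
        rw [hφ₀e x]
        show b (g x) = k
        rw [← hke, hba k (Subgroup.mem_sup_left hk)]
      rw [← autFn_coe α ⟨φ₀ x, hx⟩]
      show φ x = autFn α (φ₀ x)
      rw [hbk, hαe' k hk, hke, hge x x.2, ofHom_coe]
  have hw : R'.IsWeaklyNormalIn F p := ⟨hR's, hF, hR'inv⟩
  have hKS : K ⊔ centralizerIn S K = S := by
    refine le_antisymm (sup_le hK.1 centralizerIn_le) ?_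
    conv_lhs => rw [← hsup]
    exact sup_le_sup le_rfl fun c hc => mem_centralizerIn.2 ⟨hS₂ hc, fun y hy => hcomm y hy c hc⟩
  refine ⟨hRs, hR's, ⟨hw, fun α hα => ?_⟩, ⟨weaklyNormal_between hS hw hRs hRF hR'R, fun α hα => ?_⟩,
    hRs, hF, hRinv⟩
  · have hαC : Fn C K (autFn α) := (fn_full hRC le_rfl).1 ((mem_autGroup_iff_fn le_rfl).1 hα)
    obtain ⟨-, -, u, hu, hue, huT⟩ := (fn_centralizer hC).1 hαC
    have hu' : Fn F (K ⊔ centralizerIn S K) u := by
      rw [hKS]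
      rwa [hsup] at hu
    haveI := finite_of_le_base hu'.le
    obtain ⟨β, hβ, hβe⟩ := exists_aut_of_fn hu' (hu'.img_eq_self fun x hx => by
      rw [hKS]; exact hu'.mem hx)
    refine ⟨β, hβ, fun x => by rw [hβe]; exact (hue x x.2).trans (autFn_coe α x), fun c hc => ?_⟩
    rw [hβe c]
    obtain ⟨k, hk, d, hd, hkd⟩ := hdec' c (centralizerIn_le hc)
    have hkz : ∀ y ∈ K, y * k = k * y := fun y hy => by
      have h := (mem_centralizerIn.1 hc).2 y hy
      rw [hkd] at h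
      have h2 : y * k * d = k * y * d := by rw [mul_assoc, h, mul_assoc k d y, ← hcomm y hy d hd, mul_assoc]
      exact mul_right_cancel h2
    have huk : u k = autFn α k := hue k hk
    have hak : ∀ y ∈ K, y * autFn α k = autFn α k * y := fun y hy => by
      have hαf := (mem_autGroup_iff_fn le_rfl).1 hα
      have h := congrArg (autFn α) (hkz _ (autFn_mem α⁻¹ hy))
      rwa [hαf.map_mul (autFn_mem _ hy) hk, hαf.map_mul hk (autFn_mem _ hy), autFn_apply_inv α hy] at h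
    rw [hkd, hu.map_mul (Subgroup.mem_sup_left hk) (Subgroup.mem_sup_right hd), huT d hd, huk,
      show (k * d)⁻¹ * (autFn α k * d) = d⁻¹ * (k⁻¹ * autFn α k) * d by group]
    have hm : k⁻¹ * autFn α k ∈ K := K.mul_mem (K.inv_mem hk) (autFn_mem α hk)
    rw [mul_assoc, hcomm _ hm d hd, inv_mul_cancel_left]
    refine ⟨hm, fun y hy => ?_⟩
    show y * (k⁻¹ * autFn α k) = k⁻¹ * autFn α k * y
    rw [← mul_assoc, (Commute.inv_right (show Commute y k from hkz y hy)).eq, mul_assoc, hak y hy, mul_assoc]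
  · have hle : centralizerIn K K ≤ K := centralizerIn_le
    have hf : Fn R (K ⊔ centralizerIn K K) (autFn α) := by
      rw [sup_eq_left.2 hle]
      exact Fn.of_subsystem hR'R ((mem_autGroup_iff_fn le_rfl).1 hα)
    haveI := finite_of_le_base hf.le
    obtain ⟨β, hβ, hβe⟩ := exists_aut_of_fn hf (hf.img_eq_self fun x hx => by
      rw [sup_eq_left.2 hle] at hx ⊢
      exact autFn_mem α hx)
    refine ⟨β, hβ, fun x => by rw [hβe]; exact autFn_coe α x, fun c hc => ?_⟩
    rw [hβe c]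
    have hαf := (mem_autGroup_iff_fn le_rfl).1 hα
    have hcK : (c : Ω) ∈ K := hle hc
    refine ⟨K.mul_mem (K.inv_mem hcK) (autFn_mem α hcK), fun y hy => ?_⟩
    have hcc := (mem_centralizerIn.1 hc).2
    have hαc := (mem_centralizerIn.1 (hαf.map_centralizer le_rfl (img_autFn α) hcK hc)).2
    have h2 : y * (c : Ω)⁻¹ = (c : Ω)⁻¹ * y := (Commute.inv_right (show Commute y (c : Ω) from hcc y hy)).eq
    rw [← mul_assoc, h2, mul_assoc, hαc y hy, ← mul_assoc]

end CfsgLib.Fsys.Red
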