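import Cfsg.Agent.S5160

/-!
A simplicity criterion for the fusion system of a group by local normal closures.
-/

set_option autoImplicit false
set_option linter.style.haveILetI false

namespace CfsgLib.Fsys.GroupSimpleLocal

open Subgroup Cfsg Cfsg.FusionSystem CfsgLib.Fsys

variable {G : Type*} [Group G] [Finite G] {p : ℕ} [Fact p.Prime]

/-- The subgroup generated by the conjugates under `N(R)` of the elements of `S ∩ N(R)`. -/
def localCore (S R : Subgroup G) : Subgroup G :=
  closure {g : G | ∃ n ∈ normalizer (R : Set G), ∃ x ∈ S, x ∈ normalizer (R : Set G) ∧ g = n * x * n⁻¹}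

theorem localCore_le_normalizer (S R : Subgroup G) : localCore S R ≤ normalizer (R : Set G) := by
  refine (closure_le _).2 ?_
  rintro g ⟨n, hn, x, -, hx, rfl⟩
  exact mul_mem (mul_mem hn hx) (inv_mem hn)

theorem mem_localCore {S R : Subgroup G} {x : G} (hx : x ∈ S) (hxN : x ∈ normalizer (R : Set G)) :
    x ∈ localCore S R :=
  subset_closure ⟨1, one_mem _, x, hx, hxN, by simp⟩

theorem conj_mem_localCore {S R : Subgroup G} {g n : G} (hn : n ∈ normalizer (R : Set G))
    (hg : g ∈ localCore S R) : n * g * n⁻¹ ∈ localCore S R := by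
  refine closure_induction (p := fun g _ => n * g * n⁻¹ ∈ localCore S R) ?_ (by simp) ?_ ?_ hg
  · rintro _ ⟨m, hm, x, hx, hxN, rfl⟩
    exact subset_closure ⟨n * m, mul_mem hn hm, x, hx, hxN, by group⟩
  · intro a b _ _ ha hb
    simpa [mul_assoc] using mul_mem ha hb
  · intro a _ ha
    simpa [mul_assoc] using inv_mem ha

/-- A subgroup of `S` containing its centralizer is centric. -/
theorem isCentric_of_centralizer_le {S : Sylow p G} {R : Subgroup G} (hle : R ≤ S)
    (hcent : centralizer (R : Set G) ≤ R) : (groupFusionSystem (S : Subgroup G)).IsCentric R := by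
  refine ⟨hle, fun Q hQ => ?_⟩
  obtain ⟨-, -, g, rfl⟩ := group_isConj_iff.1 hQ
  intro x hx
  refine ⟨g⁻¹ * x * g, hcent ?_, by simp [mul_assoc]⟩
  rw [mem_centralizer_iff]
  intro r hr
  have h := mem_centralizer_iff.1 hx.2 (g * r * g⁻¹) ⟨r, hr, rfl⟩
  calc r * (g⁻¹ * x * g) = g⁻¹ * (g * r * g⁻¹ * x) * g := by group
    _ = g⁻¹ * (x * (g * r * g⁻¹)) * g := by rw [h]
    _ = g⁻¹ * x * g * r := by group

/-- The fusion system is simple if no proper nontrivial subgroup is strongly closed and `N(S)` is generated by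
`S` and elements of local normal closures. -/
theorem isSimple (S : Sylow p G) (hS1 : (S : Subgroup G) ≠ ⊥)
    (ha : ∀ T ≤ (S : Subgroup G), T ≠ ⊥ →
      (∀ g x : G, x ∈ T → g * x * g⁻¹ ∈ (S : Subgroup G) → g * x * g⁻¹ ∈ T) → (S : Subgroup G) ≤ T)
    (hgen : normalizer ((S : Subgroup G) : Set G) ≤ closure (((S : Subgroup G) : Set G) ∪
      {g | g ∈ normalizer ((S : Subgroup G) : Set G) ∧ ∃ R : Subgroup G,
        R ≤ S ∧ centralizer (R : Set G) ≤ R ∧ g ∈ localCore (S : Subgroup G) R})) :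
    (groupFusionSystem (S : Subgroup G)).IsSimple p := by
  have hF := group_isSaturated S
  refine ⟨hF, hS1, fun T E hE => ?_⟩
  obtain ⟨⟨hEsat, -, hinv⟩, -⟩ := hE
  have hcl : T = ⊥ ∨ T = (S : Subgroup G) := by
    refine or_iff_not_imp_left.2 fun hne => le_antisymm hinv.2.1.1 (ha T hinv.2.1.1 hne fun g x hx hgx => ?_)
    obtain ⟨φ, hφ, he⟩ := fn_group_conj (S := (S : Subgroup G)) (P := zpowers x)
      ((zpowers_le.2 hx).trans hinv.2.1.1) g (fun y hy => by
        obtain ⟨i, rfl⟩ := mem_zpowers_iff.1 hy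
        rw [← conj_zpow]
        exact zpow_mem hgx i)
    have h := hinv.2.1.2 (zpowers x) (zpowers_le.2 hx) φ hφ ⟨x, mem_zpowers x⟩
    rwa [he ⟨x, mem_zpowers x⟩] at h
  refine hcl.imp id fun hT => ⟨hT, fun P => ?_⟩
  subst hT
  have hle : E ≤ groupFusionSystem (S : Subgroup G) := hinv.1
  set N := normalizer ((S : Subgroup G) : Set G)
  set M : Subgroup G := ((E.autGroup (S : Subgroup G)).comap (S : Subgroup G).normalizerMonoidHom).map N.subtype
  have hSM : (S : Subgroup G) ≤ M := fun x hx =>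
    ⟨⟨x, (S : Subgroup G).le_normalizer hx⟩,
      autInducedBy_le_autGroup (F := E) le_rfl
        (conjAut_mem_autInducedBy ((S : Subgroup G).le_normalizer hx) hx), rfl⟩
  have hRM : ∀ g ∈ N, (∃ R : Subgroup G, R ≤ S ∧ centralizer (R : Set G) ≤ R ∧
      g ∈ localCore (S : Subgroup G) R) → g ∈ M := by
    rintro g hgN ⟨R, hRS, hcent, hg⟩
    have key : localCore (S : Subgroup G) R ≤
        ((E.autGroup R).comap R.normalizerMonoidHom).map (normalizer (R : Set G)).subtype := by
      refine (closure_le _).2 ?_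
      rintro _ ⟨n, hn, x, hx, hxN, rfl⟩
      refine ⟨⟨n, hn⟩ * ⟨x, hxN⟩ * ⟨n, hn⟩⁻¹, ?_, rfl⟩
      show R.normalizerMonoidHom (⟨n, hn⟩ * ⟨x, hxN⟩ * ⟨n, hn⟩⁻¹) ∈ E.autGroup R
      rw [map_mul, map_mul, map_inv]
      exact Invariant.conj_mem hinv hRS ((group_autGroup hRS).ge (conjAut_mem_autInducedBy hn trivial))
        (autInducedBy_le_autGroup (F := E) hRS (conjAut_mem_autInducedBy hxN hx))
    obtain ⟨⟨g', hgR⟩, hgE, he⟩ := key hg
    obtain rfl : g' = g := he
    refine ⟨⟨g', hgN⟩, ?_, rfl⟩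
    show conjAut (S : Subgroup G) hgN ∈ E.autGroup (S : Subgroup G)
    have hgS : ∀ x ∈ (S : Subgroup G), g' * x * g'⁻¹ ∈ (S : Subgroup G) := fun x hx =>
      (mem_normalizer_iff.1 hgN x).1 hx
    have hres : Fn E R (fun x => g' * x * g'⁻¹) :=
      ((mem_autGroup_iff_fn hRS).1 hgE).congr fun x hx =>
        (autFn_coe _ ⟨x, hx⟩).trans (conjAut_coe hgR ⟨x, hx⟩)
    exact (mem_autGroup le_rfl).2 (mem_hom_of_fn (fn_of_restrict S.2 hF hle hEsat
      (isCentric_of_centralizer_le hRS hcent) hRS (fn_group_conj le_rfl g' hgS) hres)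
      fun x => conjAut_coe hgN x)
  have hNM : N ≤ M := hgen.trans ((closure_le _).2 (by
    rintro g (hg | ⟨hg, hR⟩)
    exacts [hSM hg, hRM g hg hR]))
  refine Set.Subset.antisymm (hinv.1 P) fun φ hφ => ?_
  obtain ⟨α, hα, u, hu, he⟩ := Invariant.frattini hinv hφ.1 (fn_ofHom hφ)
  have hαE : α ∈ E.autGroup (S : Subgroup G) := by
    rw [group_autGroup le_rfl] at hα
    obtain ⟨g, -, hg⟩ := mem_autInducedBy.1 hα
    have hgN := mem_normalizer_of_autEq hg
    obtain ⟨⟨g', hg'N⟩, hg'E, he'⟩ := hNM hgN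
    obtain rfl : g' = g := he'
    have : α = conjAut (S : Subgroup G) hg'N := MulEquiv.ext fun x => Subtype.ext (hg x)
    rw [this]
    exact hg'E
  refine mem_hom_iff.2 ((hu.comp ((mem_autGroup_iff_fn le_rfl).1 hαE) fun x hx => hu.mem hx).congr ?_)
  exact fun x hx => (he x hx).symm

end CfsgLib.Fsys.GroupSimpleLocal
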