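import Cfsg.Agent.Lib.FusionSystem.PPowerIndex
import Cfsg.Agent.Lib.FusionSystem.BisetTransfer

/-! The saturated subsystem on a normal subgroup of index `p` containing the hyperfocal subgroup. -/

set_option autoImplicit false

namespace CfsgLib.Fsys.IndexP

open Cfsg Cfsg.FusionSystem
open CfsgLib.Fsys.Park CfsgLib.Fsys.CharBiset
open Cfsg.FusionSystem (centralizerIn normalizerIn)

universe u

variable {Ω : Type u} [Group Ω] {S : Subgroup Ω} {X : Type u} [MulAction (S × S) X]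

/-- The right translations of `X`. -/
def right (S : Subgroup Ω) : Subgroup (S × S) := (⊥ : Subgroup S).prod ⊤

/-- The permutation `g` commutes with the right action and induces `f` on `P`. -/
def Re (P : Subgroup Ω) (f : Ω → Ω) (g : Equiv.Perm X) : Prop :=
  (∀ (t : S) (x : X), g (((1 : S), t) • x) = ((1 : S), t) • g x) ∧
    ∀ (s : S), (s : Ω) ∈ P → ∀ (u : S), (u : Ω) = f s → ∀ (t : S) (x : X), g ((s, t) • x) = (u, t) • g x

theorem Re.congr {P : Subgroup Ω} {f f' : Ω → Ω} {g : Equiv.Perm X} (h : Re (S := S) P f g)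
    (he : ∀ x ∈ P, f x = f' x) : Re (S := S) P f' g :=
  ⟨h.1, fun s hs u hu t x => h.2 s hs u (hu.trans (he _ hs).symm) t x⟩

theorem Re.mono {P R : Subgroup Ω} {f : Ω → Ω} {g : Equiv.Perm X} (h : Re (S := S) P f g) (hR : R ≤ P) :
    Re (S := S) R f g := ⟨h.1, fun s hs => h.2 s (hR hs)⟩

theorem Re.comp {F : FusionSystem S} {P R : Subgroup Ω} {f f' : Ω → Ω} {g g' : Equiv.Perm X} (hf : Fn F P f)
    (hm : ∀ x ∈ P, f x ∈ R) (h : Re (S := S) P f g) (h' : Re (S := S) R f' g') :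
    Re (S := S) P (f' ∘ f) (g' * g) := by
  refine ⟨fun t x => ?_, fun s hs u hu t x => ?_⟩
  · rw [Equiv.Perm.mul_apply, Equiv.Perm.mul_apply, h.1, h'.1]
  · rw [Equiv.Perm.mul_apply, Equiv.Perm.mul_apply, h.2 s hs ⟨f s, hf.mem hs⟩ rfl, h'.2 ⟨f s, hf.mem hs⟩ (hm _ hs) u hu]

theorem Re.inv {F : FusionSystem S} {P : Subgroup Ω} {f f' : Ω → Ω} {g : Equiv.Perm X} (hf : Fn F P f)
    (hff : ∀ x ∈ P, f' (f x) = x) (h : Re (S := S) P f g) : Re (S := S) (img f P) f' g⁻¹ := by
  refine ⟨fun t x => ?_, fun s hs u hu t x => ?_⟩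
  · apply g.injective
    rw [h.1, Equiv.Perm.coe_inv, Equiv.apply_symm_apply, Equiv.apply_symm_apply]
  · obtain ⟨y, hy, hys⟩ := hf.mem_img.1 hs
    have huy : (u : Ω) = y := by rw [hu, ← hys, hff y hy]
    apply g.injective
    rw [h.2 u (huy ▸ hy) s (by rw [huy, hys]), Equiv.Perm.coe_inv, Equiv.apply_symm_apply, Equiv.apply_symm_apply]

/-- A family of functions invariant under a `p`-group without fixed points in its support has product one. -/
theorem prod_eq_one {H O A : Type*} [Group H] [Finite H] [MulAction H O] [Fintype O] [CommGroup A] {p : ℕ}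
    [Fact p.Prime] (hH : IsPGroup p H) (hA : ∀ a : A, a ^ p = 1) (d : O → A)
    (hd : ∀ (h : H) (o : O), d (h • o) = d o) (hfix : ∀ o : O, (∀ h : H, h • o = o) → d o = 1) :
    ∏ o, d o = 1 := by
  classical
  rw [Finset.prod_comp (fun a => a) d]
  refine Finset.prod_eq_one fun a _ => ?_
  by_cases ha : a = 1
  · rw [ha, one_pow]
  let act : MulAction H {o : O // d o = a} :=
    { smul := fun h o => ⟨h • o.1, (hd h o.1).trans o.2⟩
      one_smul := fun o => Subtype.ext (one_smul H o.1)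
      mul_smul := fun g h o => Subtype.ext (mul_smul g h o.1) }
  have h := hH.card_modEq_card_fixedPoints {o : O // d o = a}
  have h0 : Nat.card (MulAction.fixedPoints H {o : O // d o = a}) = 0 :=
    Nat.card_eq_zero.2 (Or.inl ⟨fun o => ha (o.1.2.symm.trans
      (hfix o.1.1 fun h => congrArg Subtype.val (o.2 h)))⟩)
  rw [h0, Nat.card_eq_fintype_card, Fintype.card_subtype, Nat.modEq_zero_iff_dvd] at h
  obtain ⟨k, hk⟩ := h
  rw [hk, pow_mul, hA, one_pow]

variable [Finite X] {A : Type*} [CommGroup A]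

/-- The transfer of a permutation. -/
noncomputable def chi (ℓ : X → A) (g : Equiv.Perm X) : A :=
  ∏ᶠ o : Quotient (MulAction.orbitRel ↥(right S) X), ℓ (g o.out) * (ℓ o.out)⁻¹

variable {lam : S →* A} {ℓ : X → A} (hℓ : ∀ (s t : S) (x : X), ℓ ((s, t) • x) = lam s * (lam t)⁻¹ * ℓ x)
include hℓ

theorem ell_diff {g : Equiv.Perm X} (hg : ∀ (t : S) (x : X), g (((1 : S), t) • x) = ((1 : S), t) • g x)
    (x : X) :
    ℓ (g (Quotient.mk (MulAction.orbitRel ↥(right S) X) x).out) *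
        (ℓ (Quotient.mk (MulAction.orbitRel ↥(right S) X) x).out)⁻¹ = ℓ (g x) * (ℓ x)⁻¹ := by
  obtain ⟨r, e⟩ := MulAction.mem_orbit_iff.1 (Quotient.mk_out (s := MulAction.orbitRel ↥(right S) X) x)
  have e1 : r.1 = ((1 : S), r.1.2) := Prod.ext r.2.1 rfl
  change r.1 • x = _ at e
  rw [e1] at e
  rw [← e, hg, hℓ, hℓ]
  exact Additive.ofMul.injective (by simp [ofMul_mul, ofMul_inv]; abel)

theorem chi_mul {g g' : Equiv.Perm X} (hg : ∀ (t : S) (x : X), g (((1 : S), t) • x) = ((1 : S), t) • g x)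
    (hg' : ∀ (t : S) (x : X), g' (((1 : S), t) • x) = ((1 : S), t) • g' x) :
    chi (S := S) ℓ (g * g') = chi (S := S) ℓ g * chi (S := S) ℓ g' := by
  classical
  have := Fintype.ofFinite (Quotient (MulAction.orbitRel ↥(right S) X))
  let σ : Quotient (MulAction.orbitRel ↥(right S) X) → Quotient (MulAction.orbitRel ↥(right S) X) :=
    Quotient.map' g' fun x y h => by
      obtain ⟨r, e⟩ := MulAction.mem_orbit_iff.1 h
      have e1 : r.1 = ((1 : S), r.1.2) := Prod.ext r.2.1 rfl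
      change r.1 • y = x at e
      rw [e1] at e
      exact MulAction.mem_orbit_iff.2 ⟨⟨((1 : S), r.1.2), rfl, trivial⟩, by rw [← e, hg']; rfl⟩
  have hσ : Function.Bijective σ := (Finite.surjective_iff_bijective).1 fun o => by
    induction o using Quotient.inductionOn with
    | h x => exact ⟨Quotient.mk _ (g'⁻¹ x), congrArg (Quotient.mk _) (g'.apply_symm_apply x)⟩
  simp only [chi, finprod_eq_prod_of_fintype]
  rw [← Fintype.prod_bijective σ hσ (fun o => ℓ (g (σ o).out) * (ℓ (σ o).out)⁻¹)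
    (fun o => ℓ (g o.out) * (ℓ o.out)⁻¹) fun _ => rfl,
    ← Finset.prod_mul_distrib]
  refine Finset.prod_congr rfl fun o _ => ?_
  induction o using Quotient.inductionOn with
  | h x =>
    show _ = ℓ (g (Quotient.mk _ (g' x)).out) * (ℓ (Quotient.mk _ (g' x)).out)⁻¹ * _
    rw [ell_diff hℓ hg, ell_diff hℓ hg', ell_diff hℓ (g := g * g') fun t x => by
      rw [Equiv.Perm.mul_apply, hg', hg]; rfl]
    exact Additive.ofMul.injective (by simp [ofMul_mul, ofMul_inv])

theorem chi_translation (s : S) (g : Equiv.Perm X) (hg : ∀ x, g x = (s, (1 : S)) • x) :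
    chi (S := S) ℓ g = lam s ^ Nat.card (Quotient (MulAction.orbitRel ↥(right S) X)) := by
  classical
  have := Fintype.ofFinite (Quotient (MulAction.orbitRel ↥(right S) X))
  simp only [chi, finprod_eq_prod_of_fintype, hg, hℓ, map_one, inv_one, mul_one, mul_inv_cancel_right,
    Finset.prod_const, Finset.card_univ, Nat.card_eq_fintype_card]

variable {p : ℕ} [Fact p.Prime] [Finite S] {F : FusionSystem S}

/-- Permutations inducing the identity have trivial transfer when the centralizers are in the kernel. -/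
theorem chi_eq_one (hS : IsPGroup p S) (hA : ∀ a : A, a ^ p = 1)
    (htw : ∀ x : X, Tw F (MulAction.stabilizer (S × S) x)) {P : Subgroup Ω} (hP : P ≤ S)
    (hcen : ∀ f : Ω → Ω, Fn F P f → ∀ t : S, (t : Ω) ∈ centralizerIn S (img f P) → lam t = 1)
    {g : Equiv.Perm X} (hg : Re (S := S) P id g) : chi (S := S) ℓ g = 1 := by
  classical
  set O := Quotient (MulAction.orbitRel ↥(right S) X)
  have := Fintype.ofFinite O
  let PS := P.subgroupOf S
  have hfree : ∀ (x : X) (t : S), ((1 : S), t) • x = x → t = 1 := by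
    intro x t h
    obtain ⟨f, hf, he⟩ := tw_witness (htw x)
    obtain ⟨h2, h1⟩ := (he ((1 : S), t)).1 h
    exact Subtype.ext ((hf.eq_one_iff h2).1 h1.symm)
  have horb : ∀ {x y : X}, MulAction.orbitRel ↥(right S) X x y → ∃ t : S, ((1 : S), t) • y = x := by
    intro x y h
    obtain ⟨r, e⟩ := MulAction.mem_orbit_iff.1 h
    have e1 : r.1 = ((1 : S), r.1.2) := Prod.ext r.2.1 rfl
    exact ⟨r.1.2, by rw [← e1]; exact e⟩
  have hmk : ∀ (t : S) (x : X), (Quotient.mk _ (((1 : S), t) • x) : O) = Quotient.mk _ x := fun t x =>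
    Quotient.sound ⟨⟨((1 : S), t), rfl, trivial⟩, rfl⟩
  let G : O → O := Quotient.map' g fun x y h => by
    obtain ⟨t, rfl⟩ := horb h
    exact ⟨⟨((1 : S), t), rfl, trivial⟩, (hg.1 t y).symm⟩
  have hG : Function.Bijective G := (Finite.surjective_iff_bijective).1 fun o => by
    induction o using Quotient.inductionOn with
    | h x => exact ⟨Quotient.mk _ (g⁻¹ x), congrArg (Quotient.mk _) (g.apply_symm_apply x)⟩
  let act : MulAction PS O :=
    { smul := fun s => Quotient.map' (fun x => ((s : S), (1 : S)) • x) fun x y h => by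
        obtain ⟨t, rfl⟩ := horb h
        refine ⟨⟨((1 : S), t), rfl, trivial⟩, ?_⟩
        show ((1 : S), t) • ((s : S), (1 : S)) • y = ((s : S), (1 : S)) • ((1 : S), t) • y
        rw [← mul_smul, ← mul_smul]
        simp
      one_smul := fun o => by
        induction o using Quotient.inductionOn with
        | h x => exact congrArg (Quotient.mk _) (by
          show (((1 : PS) : S), (1 : S)) • x = x
          rw [Subgroup.coe_one, ← Prod.one_eq_mk, one_smul])
      mul_smul := fun a b o => by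
        induction o using Quotient.inductionOn with
        | h x => exact congrArg (Quotient.mk _) (by
          show (((a * b : PS) : S), (1 : S)) • x = ((a : S), (1 : S)) • ((b : S), (1 : S)) • x
          rw [← mul_smul, Prod.mk_mul_mk, mul_one, Subgroup.coe_mul]) }
  have hgP : ∀ (s : PS) (t : S) (x : X), g (((s : S), t) • x) = ((s : S), t) • g x := fun s t x =>
    hg.2 _ s.2 _ rfl t x
  let Fix : O → Set (PS → S) := fun o =>
    {τ | ∃ x : X, Quotient.mk _ x = o ∧ ∀ s : PS, ((s : S), τ s) • x = x}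
  have hFix : ∀ o, Fix (G o) = Fix o := by
    intro o
    ext τ
    constructor
    · rintro ⟨y, hy, hyτ⟩
      refine ⟨g⁻¹ y, hG.1 (Eq.trans (congrArg (Quotient.mk _) (g.apply_symm_apply y)) hy), fun s => ?_⟩
      apply g.injective
      rw [hgP, Equiv.Perm.coe_inv, Equiv.apply_symm_apply, hyτ]
    · rintro ⟨y, hy, hyτ⟩
      exact ⟨g y, by rw [← hy]; rfl, fun s => by rw [← hgP, hyτ]⟩
  have hnon : ∀ o : O, (∀ s : PS, s • o = o) ↔ (Fix o).Nonempty := by
    intro o
    induction o using Quotient.inductionOn with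
    | h x =>
      constructor
      · intro h
        have : ∀ s : PS, ∃ t : S, ((1 : S), t) • ((s : S), (1 : S)) • x = x := fun s =>
          horb ((MulAction.orbitRel _ _).symm (Quotient.exact (h s)))
        choose τ hτ using this
        refine ⟨τ, x, rfl, fun s => ?_⟩
        conv_rhs => rw [← hτ s, ← mul_smul, Prod.mk_mul_mk, one_mul, mul_one]
      · rintro ⟨τ, y, hy, hyτ⟩ s
        rw [← hy]
        show Quotient.mk _ (((s : S), (1 : S)) • y) = _
        conv_rhs => rw [← hyτ s]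
        rw [show ((s : S), τ s) = ((1 : S), τ s) * ((s : S), (1 : S)) by simp, mul_smul, hmk]
  let E' : Set (PS → S) → O → A := fun Z o =>
    if h : Z.Nonempty then (if h' : ∃ x : X, Quotient.mk _ x = o ∧ ∀ s : PS, ((s : S), h.choose s) • x = x
      then ℓ h'.choose else 1) else 1
  let E : O → A := fun o => E' (Fix o) o
  -- the value does not depend on the point
  have huniq : ∀ (τ : PS → S) (x x' : X), Quotient.mk (MulAction.orbitRel ↥(right S) X) x = Quotient.mk _ x' →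
      (∀ s : PS, ((s : S), τ s) • x = x) → (∀ s : PS, ((s : S), τ s) • x' = x') → ℓ x = ℓ x' := by
    intro τ x x' he hx hx'
    obtain ⟨t, rfl⟩ := horb (Quotient.exact he)
    obtain ⟨f, hf, hfe⟩ := tw_witness (htw x')
    obtain ⟨f', hf', hf'f, -⟩ := hf.exists_inv
    have hPi : ∀ (s : Ω) (hs : s ∈ P), s ∈ img f (dom (MulAction.stabilizer (S × S) x')) ∧
        (τ ⟨⟨s, hP hs⟩, hs⟩ : Ω) = f' s := by
      intro s hs
      obtain ⟨h2, h1⟩ := (hfe _).1 (hx' ⟨⟨s, hP hs⟩, hs⟩)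
      refine ⟨by rw [show s = f _ from h1]; exact mem_img_of_mem h2, ?_⟩
      conv_rhs => rw [show s = f _ from h1, hf'f _ h2]
    have hfP : Fn F P f' := hf'.mono fun s hs => (hPi s hs).1
    have ht : lam t = 1 := hcen f' hfP t (mem_centralizerIn.2 ⟨t.2, fun y hy => by
      obtain ⟨s, hs, rfl⟩ := hfP.mem_img.1 hy
      rw [← (hPi s hs).2]
      have h1 := hx ⟨⟨s, hP hs⟩, hs⟩
      have h2 : ((1 : S), (t * τ ⟨⟨s, hP hs⟩, hs⟩)⁻¹ * (τ ⟨⟨s, hP hs⟩, hs⟩ * t)) • x' = x' := by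
        rw [show ((1 : S), (t * τ ⟨⟨s, hP hs⟩, hs⟩)⁻¹ * (τ ⟨⟨s, hP hs⟩, hs⟩ * t)) =
          ((⟨s, hP hs⟩ : S), t * τ ⟨⟨s, hP hs⟩, hs⟩)⁻¹ * ((⟨s, hP hs⟩ : S), τ ⟨⟨s, hP hs⟩, hs⟩ * t) by simp,
          mul_smul, inv_smul_eq_iff]
        calc ((⟨s, hP hs⟩ : S), τ ⟨⟨s, hP hs⟩, hs⟩ * t) • x'
            = ((⟨s, hP hs⟩ : S), τ ⟨⟨s, hP hs⟩, hs⟩) • ((1 : S), t) • x' := by
              rw [← mul_smul, Prod.mk_mul_mk, mul_one]
          _ = ((1 : S), t) • x' := h1
          _ = ((1 : S), t) • ((⟨s, hP hs⟩ : S), τ ⟨⟨s, hP hs⟩, hs⟩) • x' := by rw [hx' ⟨⟨s, hP hs⟩, hs⟩]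
          _ = _ := by rw [← mul_smul, Prod.mk_mul_mk, one_mul]
      exact (congrArg Subtype.val (inv_mul_eq_one.1 (hfree _ _ h2))).symm⟩)
    rw [hℓ, ht, map_one, inv_one, mul_one, one_mul]
  let d : O → A := fun o => ℓ (g o.out) * (ℓ o.out)⁻¹ * (E o * (E (G o))⁻¹)
  have hEmoved : ∀ o, ¬ (∀ s : PS, s • o = o) → E o = 1 := fun o ho =>
    dif_neg fun h => ho ((hnon o).2 h)
  have hd : ∏ o, d o = 1 := by
    refine prod_eq_one (H := PS) (hS.to_subgroup PS) hA d (fun s o => ?_) fun o ho => ?_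
    · by_cases ho : ∀ s : PS, s • o = o
      · rw [ho s]
      have hGo : ∀ o, (∀ s : PS, s • G o = G o) → ∀ s : PS, s • o = o := fun o h =>
        (hnon o).2 (by rw [← hFix o]; exact (hnon _).1 h)
      have hso : ¬ ∀ s' : PS, s' • s • o = s • o := fun h => ho fun s' => by
        have h1 := h (s * s' * s⁻¹)
        rw [← mul_smul, inv_mul_cancel_right, mul_smul] at h1
        exact (MulAction.injective s) h1
      simp only [d, hEmoved _ ho, hEmoved _ hso, hEmoved _ (fun h => ho (hGo _ h)),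
        hEmoved _ (fun h => hso (hGo _ h))]
      induction o using Quotient.inductionOn with
      | h x =>
        show ℓ (g (Quotient.mk _ (((s : S), (1 : S)) • x)).out) * (ℓ (Quotient.mk _ (((s : S), (1 : S)) • x)).out)⁻¹ * _ = _
        rw [ell_diff hℓ hg.1, ell_diff hℓ hg.1, hgP, hℓ, hℓ, map_one, inv_one, mul_one]
        exact Additive.ofMul.injective (by simp [ofMul_mul, ofMul_inv]; abel)
    · have hne : (Fix o).Nonempty := (hnon o).1 ho
      have h1 : ∃ x : X, Quotient.mk _ x = o ∧ ∀ s : PS, ((s : S), hne.choose s) • x = x := hne.choose_spec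
      have e1 : E o = ℓ h1.choose := by
        show E' (Fix o) o = _
        simp only [E', dif_pos hne, dif_pos h1]
      obtain ⟨hx, hxs⟩ := h1.choose_spec
      have h2 : ∃ x : X, Quotient.mk _ x = G o ∧ ∀ s : PS, ((s : S), hne.choose s) • x = x :=
        ⟨g h1.choose, congrArg G hx, fun s => by rw [← hgP, hxs]⟩
      have e2 : E (G o) = ℓ h2.choose := by
        show E' (Fix (G o)) (G o) = _
        rw [hFix]
        simp only [E', dif_pos hne, dif_pos h2]
      obtain ⟨hy, hys⟩ := h2.choose_spec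
      have e3 : ℓ h2.choose = ℓ (g h1.choose) :=
        huniq hne.choose _ _ (hy.trans (congrArg G hx).symm) hys fun s => by rw [← hgP, hxs]
      show ℓ (g o.out) * (ℓ o.out)⁻¹ * _ = 1
      rw [e1, e2, e3]
      conv_lhs => arg 1; rw [← hx, ell_diff hℓ hg.1]
      exact Additive.ofMul.injective (by simp [ofMul_mul, ofMul_inv])
  rw [chi, finprod_eq_prod_of_fintype]
  simp only [d] at hd
  rw [Finset.prod_mul_distrib, Finset.prod_mul_distrib, Finset.prod_mul_distrib, Finset.prod_inv_distrib,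
    Finset.prod_inv_distrib, Fintype.prod_bijective G hG (fun o => E (G o)) E fun _ => rfl,
    mul_inv_cancel, mul_one, ← Finset.prod_inv_distrib, ← Finset.prod_mul_distrib] at hd
  exact hd

omit hℓ in
/-- Twisted functions for a character stable under `F`. -/
theorem exists_ell (hlam : ∀ (P : Subgroup Ω) (f : Ω → Ω) (hf : Fn F P f) (s : S) (hs : (s : Ω) ∈ P),
      lam ⟨f s, hf.mem hs⟩ = lam s) (htw : ∀ x : X, Tw F (MulAction.stabilizer (S × S) x)) :
    ∃ ℓ : X → A, ∀ (s t : S) (x : X), ℓ ((s, t) • x) = lam s * (lam t)⁻¹ * ℓ x := by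
  obtain ⟨ℓ, hℓ⟩ := exists_char_equivariant (X := X)
    ((lam.comp (MonoidHom.fst S S)) * (lam.comp (MonoidHom.snd S S))⁻¹) fun x h hx => by
      obtain ⟨f, hf, he⟩ := tw_witness (htw x)
      obtain ⟨h2, h1⟩ := (he h).1 hx
      show lam h.1 * (lam h.2)⁻¹ = 1
      rw [mul_inv_eq_one, show h.1 = ⟨f h.2, hf.mem h2⟩ from Subtype.ext h1, hlam _ f hf _ h2]
  exact ⟨ℓ, fun s t x => hℓ (s, t) x⟩

end CfsgLib.Fsys.IndexP

namespace CfsgLib.Fsys

open Cfsg Cfsg.FusionSystem IndexP CharBiset Park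
open Cfsg.FusionSystem (centralizerIn normalizerIn)

universe u

variable {Ω : Type u} [Group Ω] {S : Subgroup Ω} [Finite S] {p : ℕ} [Fact p.Prime] {F : FusionSystem S}

/-- Conjugates of fully normalized subgroups by elements of `S` are fully normalized. -/
theorem fullyNormalized_conj {Q : Subgroup Ω} (hQ : F.IsFullyNormalized Q) {u : Ω} (hu : u ∈ S) :
    F.IsFullyNormalized (img (fun x => u * x * u⁻¹) Q) := by
  have hf := fn_conj (F := F) hQ.1 hu
  refine ⟨hf.img_le_base, fun R hR => ?_⟩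
  refine (hQ.2 R (isConj_trans (isConj_of_fn hf) hR)).trans ?_
  refine card_le_of_map_le normalizerIn_le (fn_conj (F := F) normalizerIn_le hu) fun n hn =>
    ⟨S.mul_mem (S.mul_mem hu hn.1) (S.inv_mem hu), ?_⟩
  haveI := finite_of_le_base hf.img_le_base
  refine mem_normalizer_of_map_le fun z hz => ?_
  obtain ⟨w, hw, rfl⟩ := hf.mem_img.1 hz
  rw [show u * n * u⁻¹ * (u * w * u⁻¹) * (u * n * u⁻¹)⁻¹ = u * (n * w * n⁻¹) * u⁻¹ by group]
  exact mem_img_of_mem ((Subgroup.mem_normalizer_iff.1 hn.2 w).1 hw)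

/-- The saturated subsystem of `p`-power index on a normal subgroup of index `p`. -/
theorem exists_index_prime (hS : IsPGroup p S) (hF : F.IsSaturated p) {T : Subgroup Ω} (hTS : T ≤ S)
    (hTn : ∀ s ∈ S, ∀ x ∈ T, s * x * s⁻¹ ∈ T) (hhyp : F.hyperfocalSubgroup p ≤ T)
    (hidx : (T.subgroupOf S).index = p) :
    ∃ E : FusionSystem T, E.IsSaturated p ∧ E.HasPPowerIndexIn F p := by
  classical
  haveI := finite_of_le_base hTS
  let N := T.subgroupOf S
  haveI hNn : N.Normal := ⟨fun x hx s => hTn s s.2 x hx⟩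
  have hcardA : Nat.card (S ⧸ N) = p := hidx
  haveI : IsCyclic (S ⧸ N) := isCyclic_of_prime_card hcardA
  let _ : CommGroup (S ⧸ N) := IsCyclic.commGroup
  let lam : S →* S ⧸ N := QuotientGroup.mk' N
  have hker : ∀ {s : S}, lam s = 1 ↔ (s : Ω) ∈ T := fun {s} => QuotientGroup.eq_one_iff _
  have hA : ∀ a : S ⧸ N, a ^ p = 1 := fun a => hcardA ▸ pow_card_eq_one'
  have hsc := stronglyClosed_of_hyperfocal_le hS hF hTS hTn hhyp
  have hlam : ∀ (P : Subgroup Ω) (f : Ω → Ω) (hf : Fn F P f) (s : S) (hs : (s : Ω) ∈ P),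
      lam ⟨f s, hf.mem hs⟩ = lam s := by
    intro P f hf s hs
    obtain ⟨u, hu, h⟩ := exists_conj_mod hS hF hTn hhyp hf
    have h1 : lam (⟨u, hu⟩ * s⁻¹ * ⟨u, hu⟩⁻¹ * ⟨f s, hf.mem hs⟩) = 1 := hker.2 (h s hs)
    rw [map_mul, map_mul, map_mul, map_inv, map_inv, mul_right_comm (lam _) (lam s)⁻¹, mul_inv_cancel, one_mul,
      inv_mul_eq_one] at h1
    exact h1.symm
  obtain ⟨X, _, _, m, hm, hcard, htw, hstab⟩ := exists_biset hS hF
  obtain ⟨ℓ, hℓ⟩ := exists_ell (lam := lam) hlam htw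
  set k := Nat.card (Quotient (MulAction.orbitRel ↥(right S) X))
  have hre : ∀ {P : Subgroup Ω} {f : Ω → Ω}, Fn F P f → ∃ g : Equiv.Perm X, Re (S := S) P f g := by
    intro P f hf
    obtain ⟨g, hg, hge⟩ := hstab P f hf
    refine ⟨Equiv.ofBijective g hg, fun t x => ?_, fun s hs u hu t x => ?_⟩
    · show g _ = _
      rw [hge 1 P.one_mem t x, show (⟨f ((1 : S) : Ω), hf.mem P.one_mem⟩ : S) = 1 from Subtype.ext hf.map_one]
      rfl
    · show g _ = _
      rw [hge s hs t x, show (⟨f (s : Ω), hf.mem hs⟩ : S) = u from Subtype.ext hu.symm]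
      rfl
  have hk : ¬ p ∣ k := by
    have hfree : ∀ (x : X) (t : S), ((1 : S), t) • x = x → t = 1 := by
      intro x t h
      obtain ⟨f, hf, he⟩ := tw_witness (htw x)
      obtain ⟨h2, h1⟩ := (he ((1 : S), t)).1 h
      exact Subtype.ext ((hf.eq_one_iff h2).1 h1.symm)
    have hb : Function.Bijective (fun z : Quotient (MulAction.orbitRel ↥(right S) X) × S =>
        ((1 : S), z.2) • z.1.out) := by
      refine ⟨fun ⟨o, t⟩ ⟨o', t'⟩ h => ?_, fun x => ?_⟩
      · change ((1 : S), t) • o.out = ((1 : S), t') • o'.out at h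
        obtain rfl : o = o' := by
          rw [← Quotient.out_eq o, ← Quotient.out_eq o']
          refine Quotient.sound ⟨⟨((1 : S), t⁻¹ * t'), rfl, trivial⟩, ?_⟩
          show ((1 : S), t⁻¹ * t') • o'.out = o.out
          rw [show ((1 : S), t⁻¹ * t') = ((1 : S), t)⁻¹ * ((1 : S), t') by simp, mul_smul, ← h, inv_smul_smul]
        refine Prod.ext rfl (inv_mul_eq_one.1 (hfree o.out _ ?_)).symm
        rw [show ((1 : S), t'⁻¹ * t) = ((1 : S), t')⁻¹ * ((1 : S), t) by simp, mul_smul, h, inv_smul_smul]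
      · obtain ⟨r, e⟩ := MulAction.mem_orbit_iff.1 ((MulAction.orbitRel ↥(right S) X).symm
          (Quotient.mk_out (s := MulAction.orbitRel ↥(right S) X) x))
        exact ⟨(_, r.1.2), by rw [← e]; exact congrArg (· • _) (Prod.ext r.2.1.symm rfl)⟩
    have h := Nat.card_eq_of_bijective _ hb
    rw [Nat.card_prod, hcard, mul_comm (Nat.card S)] at h
    rwa [show k = m from Nat.eq_of_mul_eq_mul_right Nat.card_pos h]
  have hsol : ∀ a : S ⧸ N, ∃ u : S, lam u ^ k = a := by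
    intro a
    have hco : (Nat.card (S ⧸ N)).Coprime k := by
      rw [hcardA]; exact (Fact.out : p.Prime).coprime_iff_not_dvd.2 hk
    obtain ⟨b, rfl⟩ := (powCoprime hco).surjective a
    obtain ⟨u, rfl⟩ := QuotientGroup.mk'_surjective N b
    exact ⟨u, rfl⟩
  have hkinj : ∀ u : S, lam u ^ k = 1 → (u : Ω) ∈ T := by
    intro u hu
    have hco : (Nat.card (S ⧸ N)).Coprime k := by
      rw [hcardA]; exact (Fact.out : p.Prime).coprime_iff_not_dvd.2 hk
    exact hker.1 ((powCoprime hco).injective (hu.trans (one_pow k).symm))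
  let tr : S → Equiv.Perm X := fun s => MulAction.toPerm ((s, (1 : S)) : S × S)
  have htr : ∀ (s : S), chi (S := S) ℓ (tr s) = lam s ^ k := fun s => chi_translation hℓ s _ fun _ => rfl
  have htrre : ∀ (s : S) (P : Subgroup Ω), Re (S := S) P (fun x => (s : Ω) * x * (s : Ω)⁻¹) (tr s) := by
    intro s P
    refine ⟨fun t x => ?_, fun a ha u hu t x => ?_⟩
    · show (s, (1 : S)) • ((1 : S), t) • x = ((1 : S), t) • (s, (1 : S)) • x
      rw [← mul_smul, ← mul_smul]; simp
    · show (s, (1 : S)) • (a, t) • x = (u, t) • (s, (1 : S)) • x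
      rw [show u = s * a * s⁻¹ from Subtype.ext hu, ← mul_smul, ← mul_smul]; simp
  have hchi1 : chi (S := S) ℓ (1 : Equiv.Perm X) = 1 := finprod_eq_one_of_forall_eq_one fun o => mul_inv_cancel _
  let C : Subgroup Ω → (Ω → Ω) → Prop := fun P f =>
    P ≤ T ∧ (∀ x ∈ P, f x ∈ T) ∧ ∃ g : Equiv.Perm X, Re (S := S) P f g ∧ chi (S := S) ℓ g = 1
  have hcongr : ∀ (P : Subgroup Ω) (f g : Ω → Ω), (∀ x ∈ P, f x = g x) → C P f → C P g := by
    intro P f g he h
    obtain ⟨g', hg', h1⟩ := h.2.2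
    exact ⟨h.1, fun x hx => he x hx ▸ h.2.1 x hx, g', hg'.congr he, h1⟩
  have hinv' : ∀ {P : Subgroup Ω} {f f' : Ω → Ω}, Fn F P f → (∀ x ∈ P, f' (f x) = x) → C P f → C (img f P) f' := by
    intro P f f' hf hff h
    obtain ⟨g, hg, h1⟩ := h.2.2
    refine ⟨img_le h.2.1, fun y hy => ?_, g⁻¹, hg.inv hf hff, ?_⟩
    · obtain ⟨x, hx, rfl⟩ := hf.mem_img.1 hy
      rw [hff x hx]
      exact h.1 hx
    · have := chi_mul hℓ (hg.inv hf hff).1 hg.1
      rw [inv_mul_cancel, hchi1, h1, mul_one] at this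
      exact this.symm
  let E : FusionSystem T :=
    { Hom := fun P => {φ | φ ∈ F.Hom P ∧ C P (ofHom φ)}
      le_of_mem := fun {P φ} h => ⟨h.2.1, fun x => by
        have := h.2.2.1 x x.2
        rwa [ofHom_coe] at this⟩
      injective_of_mem := fun h => F.injective_of_mem h.1
      conj_mem := fun {P s} hP hs => ⟨F.conj_mem (hP.trans hTS) (hTS hs),
        hcongr P _ _ (fun x hx => (ofHom_apply (conjHom P s) hx).symm)
          ⟨hP, fun x hx => T.mul_mem (T.mul_mem hs (hP hx)) (T.inv_mem hs), tr ⟨s, hTS hs⟩, htrre ⟨s, hTS hs⟩ P,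
            by rw [htr, hker.2 hs, one_pow]⟩⟩
      comp_mem := fun {P R φ ψ} hφ hψ h => by
        have hm : ∀ x ∈ P, ofHom φ x ∈ R := fun x hx => (ofHom_apply φ hx).symm ▸ h ⟨x, hx⟩
        obtain ⟨g, hg, h1⟩ := hφ.2.2.2
        obtain ⟨g', hg', h1'⟩ := hψ.2.2.2
        refine ⟨F.comp_mem hφ.1 hψ.1 h, hcongr P _ _ (fun x hx => ?_) ⟨hφ.2.1,
          fun x hx => hψ.2.2.1 _ (hm x hx), g' * g, hg.comp (fn_ofHom hφ.1) hm hg', by
            rw [chi_mul hℓ hg'.1 hg.1, h1, h1', one_mul]⟩⟩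
        rw [ofHom_apply (ψ.comp (φ.codRestrict R h)) hx]
        show ofHom ψ (ofHom φ x) = ψ ⟨φ ⟨x, hx⟩, h _⟩
        rw [ofHom_apply φ hx]
        exact ofHom_apply ψ (h _)
      inv_mem := fun {P φ} hφ => by
        obtain ⟨ψ, hψ, hψφ⟩ := F.inv_mem hφ.1
        have he : φ.range = img (ofHom φ) P := Fn.range_eq_img fun x => (ofHom_coe φ x).symm
        refine ⟨ψ, ⟨hψ, ?_⟩, hψφ⟩
        have h2 := hinv' (f' := ofHom ψ) (fn_ofHom hφ.1) (fun x hx => by
          rw [ofHom_apply φ hx, ofHom_apply ψ ⟨⟨x, hx⟩, rfl⟩]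
          exact hψφ ⟨x, hx⟩) hφ.2
        rwa [← he] at h2 }
  have hE : ∀ {P : Subgroup Ω} {f : Ω → Ω}, Fn E P f ↔ Fn F P f ∧ C P f := by
    intro P f
    constructor
    · rintro ⟨φ, ⟨hφ, hC⟩, hf⟩
      exact ⟨⟨φ, hφ, hf⟩, hcongr _ _ _ (fun x hx => (ofHom_apply φ hx).trans (hf ⟨x, hx⟩)) hC⟩
    · rintro ⟨⟨φ, hφ, hf⟩, hC⟩
      exact ⟨φ, ⟨hφ, hcongr _ _ _ (fun x hx => ((ofHom_apply φ hx).trans (hf ⟨x, hx⟩)).symm) hC⟩, hf⟩
  have hsub : E.IsSubsystemOf F := fun P φ hφ => hφ.1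
  refine ⟨E, ?_, hsub, hhyp, fun P hP => ?_⟩
  swap
  · rw [Subgroup.map_le_iff_le_comap]
    refine (Subgroup.closure_le _).2 fun a ha => ?_
    show (a : MulAut P) ∈ E.autGroup P
    haveI := finite_of_le_base (hP.trans hTS)
    have hf := (mem_autGroup_iff_fn (hP.trans hTS)).1 a.2
    refine (mem_autGroup_iff_fn hP).2 (hE.2 ⟨hf, hP, fun x hx => hP (autFn_mem _ hx), ?_⟩)
    obtain ⟨g, hg⟩ := hre hf
    have hgpow : ∀ n : ℕ, Re (S := S) P (autFn ((a : MulAut P) ^ n)) (g ^ n) ∧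
        chi (S := S) ℓ (g ^ n) = chi (S := S) ℓ g ^ n := by
      intro n
      induction n with
      | zero =>
        simp only [pow_zero]
        exact ⟨⟨fun t x => rfl, fun s hs u hu t x => by
          rw [show u = s from Subtype.ext (hu.trans (autFn_coe 1 ⟨(s : Ω), hs⟩))]; rfl⟩, hchi1⟩
      | succ n ih =>
        rw [pow_succ' g, pow_succ' (chi (S := S) ℓ g), pow_succ' (a : MulAut P)]
        exact ⟨(ih.1.comp ((mem_autGroup_iff_fn (hP.trans hTS)).1 (Subgroup.pow_mem _ a.2 n))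
          (fun x hx => autFn_mem _ hx) hg).congr fun x hx => (autFn_mul _ _ hx).symm,
          by rw [chi_mul hℓ hg.1 ih.1.1, ih.2]⟩
    have hap : Nat.Coprime (orderOf (a : MulAut P)) p := by rw [Subgroup.orderOf_coe]; exact ha
    obtain ⟨e, he⟩ : ∃ e : ℕ, ((a : MulAut P) ^ p) ^ e = (a : MulAut P) :=
      exists_pow_eq_self_of_coprime hap.symm
    exact ⟨g ^ (p * e), (hgpow _).1.congr fun x hx => by rw [pow_mul, he], by
      rw [(hgpow _).2, pow_mul, hA, one_pow]⟩
  -- saturation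
  intro P hP
  obtain ⟨Q', hPQ', hQ'n⟩ := exists_fullyNormalized (F := F) (hP.trans hTS)
  obtain ⟨f, hf, hfi⟩ := isConj_iff.1 hPQ'
  obtain ⟨g, hg⟩ := hre hf
  obtain ⟨u, hu⟩ := hsol (chi (S := S) ℓ g)
  have hu' := S.inv_mem u.2
  set c : Ω → Ω := fun x => (u : Ω)⁻¹ * x * ((u : Ω)⁻¹)⁻¹
  have hcf : Fn F Q' c := fn_conj hQ'n.1 hu'
  have hfm : ∀ x ∈ P, f x ∈ Q' := fun x hx => hfi.le (mem_img_of_mem hx)
  have hef := hf.comp hcf hfm
  have hQn : F.IsFullyNormalized (img c Q') := fullyNormalized_conj hQ'n hu'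
  set Q := img c Q'
  have heE : Fn E P (c ∘ f) := hE.2 ⟨hef, hP, fun x hx => hTn _ hu' _ (sc_apply hsc hf hx (hP hx)),
    tr u⁻¹ * g, hg.comp hf hfm (htrre u⁻¹ Q'), by
      rw [chi_mul hℓ (htrre u⁻¹ Q').1 hg.1, htr, map_inv, inv_pow, hu, inv_mul_cancel]⟩
  have heQ : img (c ∘ f) P = Q := by rw [hf.img_comp, hfi]
  have hQT : Q ≤ T := heQ ▸ img_le fun x hx => heE.mem hx
  obtain ⟨hQA, hQc⟩ := fullyNormalized_good hS hF hQn
  have hQr := fullyNormalized_receptive hS hF hQn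
  haveI := finite_of_le_base hQn.1
  -- either centralizers lie in `T` or the centralizer of `Q` does not
  have hdich : (∀ f : Ω → Ω, Fn F Q f → ∀ t : S, (t : Ω) ∈ centralizerIn S (img f Q) → lam t = 1) ∨
      ∃ z : S, (z : Ω) ∈ centralizerIn S Q ∧ lam z ≠ 1 := by
    by_contra hne
    rw [not_or, not_exists] at hne
    refine hne.1 fun f' hf' t ht => ?_
    by_contra ht1
    obtain ⟨h', hh', hh'f, hh'i⟩ := hf'.exists_inv
    obtain ⟨M, w, hw, hPM, hM, hwe⟩ := receptive_extend hQr hh' hh'i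
    have htM : (t : Ω) ∈ M := (hM _).2 (inExt_of_commute ht)
    refine hne.2 ⟨w t, hw.mem htM⟩ ⟨(hw.map_centralizer hPM ((img_congr hwe).trans hh'i) htM ht), ?_⟩
    rw [hlam M w hw t htM]
    exact ht1
  refine ⟨Q, isConj_iff.2 ⟨_, heE, heQ⟩, ?_, ?_⟩
  · -- fully automized
    haveI : Finite T := inferInstance
    obtain ⟨hQS, R, hR⟩ := hQA
    set K : Subgroup (F.autGroup Q) := (E.autGroup Q).subgroupOf (F.autGroup Q)
    have hKn : K.Normal := ⟨fun α hα β => by
      have hαE := hE.1 ((mem_autGroup_iff_fn hQT).1 hα)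
      obtain ⟨-, -, -, gα, hgα, hgα1⟩ := hαE
      obtain ⟨gβ, hgβ⟩ := hre ((mem_autGroup_iff_fn hQS).1 β.2)
      have hb := (mem_autGroup_iff_fn hQS).1 β.2
      have hi : Re (S := S) Q (autFn ((β : MulAut Q)⁻¹)) gβ⁻¹ := by
        have := hgβ.inv hb (f' := autFn ((β : MulAut Q)⁻¹)) fun x hx => autFn_inv_apply _ hx
        rwa [img_autFn] at this
      refine (mem_autGroup_iff_fn hQT).2 (hE.2 ⟨(mem_autGroup_iff_fn hQS).1 (β * α * β⁻¹).2, hQT,
        fun x hx => hQT (autFn_mem _ hx), gβ * (gα * gβ⁻¹), ?_, ?_⟩)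
      · have h1 := hi.comp ((mem_autGroup_iff_fn hQS).1 (β⁻¹).2) (fun x hx => autFn_mem _ hx) hgα
        have h2 := h1.comp (((mem_autGroup_iff_fn hQS).1 (β⁻¹).2).comp ((mem_autGroup_iff_fn hQS).1 α.2)
          fun x hx => autFn_mem _ hx) (fun x hx => autFn_mem _ (autFn_mem _ hx)) hgβ
        refine h2.congr fun x hx => ?_
        show autFn _ (autFn _ (autFn _ x)) = autFn ((β : MulAut Q) * (α : MulAut Q) * (β : MulAut Q)⁻¹) x
        rw [Subgroup.coe_inv, autFn_mul _ _ hx, autFn_mul _ _ (autFn_mem _ hx)]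
      · rw [chi_mul hℓ hgβ.1 (fun t x => by rw [Equiv.Perm.mul_apply, hi.1, hgα.1]; rfl),
          chi_mul hℓ hgα.1 hi.1, hgα1, one_mul, ← chi_mul hℓ hgβ.1 hi.1, mul_inv_cancel, hchi1]⟩
    have hle : autInducedBy T Q ≤ E.autGroup Q := autInducedBy_le_autGroup hQT
    have hEA : E.autGroup Q ≤ F.autGroup Q := autGroup_mono' hsub Q
    have hint : autInducedBy S Q ⊓ E.autGroup Q = autInducedBy T Q := by
      refine le_antisymm ?_ (le_inf (fun α hα => ?_) hle)
      · rintro α ⟨hαS, hαE⟩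
        obtain ⟨s, hs, hsα⟩ := mem_autInducedBy.1 hαS
        have fin : ∀ t : Ω, t ∈ T → (∀ x : Q, ((α x : Q) : Ω) = t * x * t⁻¹) → α ∈ autInducedBy T Q :=
          fun t ht h => mem_autInducedBy.2 ⟨t, ht, h⟩
        rcases hdich with hB | ⟨z, hz, hz1⟩
        · obtain ⟨-, -, -, gα, hgα, hgα1⟩ := hE.1 ((mem_autGroup_iff_fn hQT).1 hαE)
          refine fin s (hkinj ⟨s, hs⟩ ?_) hsα
          have hfc := (mem_autGroup_iff_fn hQS).1 (hEA hαE)
          have hs' : Re (S := S) Q (autFn α) (tr ⟨s, hs⟩) := (htrre ⟨s, hs⟩ Q).congr fun x hx =>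
            ((autFn_coe α ⟨x, hx⟩).trans (hsα ⟨x, hx⟩)).symm
          have hi := hgα.inv hfc (f' := autFn α⁻¹) fun x hx => autFn_inv_apply _ hx
          rw [img_autFn] at hi
          have hid : Re (S := S) Q id (gα⁻¹ * tr ⟨s, hs⟩) :=
            (hs'.comp hfc (fun x hx => autFn_mem _ hx) hi).congr fun x hx => autFn_inv_apply _ hx
          have h1 := chi_eq_one hℓ hS hA htw hQS hB hid
          have h2 := chi_mul hℓ hi.1 hgα.1
          rw [inv_mul_cancel, hchi1, hgα1, mul_one] at h2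
          rwa [chi_mul hℓ hi.1 hs'.1, htr, ← h2, one_mul] at h1
        · obtain ⟨j, hj⟩ : ∃ j : ℕ, lam ⟨s, hs⟩ * lam z ^ j = 1 := by
            have hz' : lam z ∈ (⊤ : Subgroup (S ⧸ N)) := trivial
            have hgen := mem_powers_of_prime_card (G := S ⧸ N) (g := lam z) (g' := (lam ⟨s, hs⟩)⁻¹) hcardA hz1
            obtain ⟨j, hj⟩ := hgen
            exact ⟨j, by rw [show lam z ^ j = _ from hj, mul_inv_cancel]⟩
          refine fin (s * ((z ^ j : S) : Ω)) ?_ fun x => ?_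
          · rw [← map_pow, ← map_mul] at hj
            exact hker.1 hj
          · rw [hsα x]
            have hzc : ((z ^ j : S) : Ω) * (x : Ω) = (x : Ω) * ((z ^ j : S) : Ω) := by
              rw [SubmonoidClass.coe_pow]
              exact ((show Commute (z : Ω) x from ((mem_centralizerIn.1 hz).2 x x.2).symm).pow_left j).eq
            rw [mul_assoc (s : Ω) _ (x : Ω), hzc]
            group
      · obtain ⟨t, ht, h⟩ := mem_autInducedBy.1 hα
        exact mem_autInducedBy.2 ⟨t, hTS ht, h⟩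
    have hnd := CfsgLib.Fusion.Basic.not_dvd_relIndex_of_normal R K
    have hRK : (R : Subgroup (F.autGroup Q)) ⊓ K = (autInducedBy T Q).subgroupOf (F.autGroup Q) := by
      rw [hR, ← hint]
      rfl
    rw [hRK] at hnd
    have hnd' : ¬ p ∣ (autInducedBy T Q).relIndex (E.autGroup Q) := by
      rwa [Subgroup.relIndex_subgroupOf hEA] at hnd
    exact ⟨hQT, CfsgLib.Fusion.Basic.sylowSubgroupOf hle (isPGroup_autInducedBy (hS.to_le hTS)) hnd',
      CfsgLib.Fusion.Basic.coe_sylowSubgroupOf _ _ _⟩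
  · -- receptive
    refine receptive_of_extend hQT fun P₀ f₀ hf₀ hi₀ => ?_
    obtain ⟨hf₀F, hP₀, hm₀, g₀, hg₀, hg₀1⟩ := hE.1 hf₀
    obtain ⟨M, h, hh, hPM, hM, hhe⟩ := receptive_extend hQr hf₀F hi₀
    let M' : Subgroup Ω := M ⊓ T
    obtain ⟨gh, hgh⟩ := hre (hh.mono (inf_le_left : M' ≤ M))
    have hP₀M : P₀ ≤ M' := le_inf hPM hP₀
    -- a correction commuting with `Q`
    have hz : ∃ z : S, (∀ y ∈ Q, (z : Ω) * y * (z : Ω)⁻¹ = y) ∧ lam z ^ k * chi (S := S) ℓ gh = 1 := by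
      rcases hdich with hB | ⟨z, hz, hz1⟩
      · refine ⟨1, fun y _ => by simp, ?_⟩
        rw [map_one, one_pow, one_mul]
        have hff : ∀ x ∈ P₀, h x = f₀ x := hhe
        obtain ⟨f₁, hf₁, hf₁f, hf₁i⟩ := hf₀F.exists_inv
        rw [hi₀] at hf₁ hf₁i
        have hi := hg₀.inv hf₀F (f' := f₁) hf₁f
        rw [hi₀] at hi
        have hgh' : Re (S := S) P₀ f₀ gh := (hgh.mono hP₀M).congr hff
        have hid : Re (S := S) Q id (gh * g₀⁻¹) :=
          (hi.comp hf₁ (fun y hy => hf₁i.le (mem_img_of_mem hy)) hgh').congr fun y hy => by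
            obtain ⟨x, hx, rfl⟩ := hf₀F.mem_img.1 (hi₀.ge hy)
            show f₀ (f₁ (f₀ x)) = f₀ x
            rw [hf₁f x hx]
        have h1 := chi_eq_one hℓ hS hA htw hQn.1 hB hid
        have h2 := chi_mul hℓ hi.1 hg₀.1
        rw [inv_mul_cancel, hchi1, hg₀1, mul_one] at h2
        rwa [chi_mul hℓ hgh.1 hi.1, ← h2, mul_one] at h1
      · obtain ⟨v, hv⟩ := hsol (chi (S := S) ℓ gh)⁻¹
        obtain ⟨j, hj⟩ := mem_powers_of_prime_card (G := S ⧸ N) (g := lam z) (g' := lam v) hcardA hz1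
        refine ⟨z ^ j, fun y hy => ?_, ?_⟩
        · rw [SubmonoidClass.coe_pow,
            ((show Commute (z : Ω) y from ((mem_centralizerIn.1 hz).2 y hy).symm).pow_left j).eq,
            mul_inv_cancel_right]
        · rw [map_pow, show lam z ^ j = lam v from hj, hv, inv_mul_cancel]
    obtain ⟨z, hzQ, hzc⟩ := hz
    refine ⟨fun x => (z : Ω) * h x * (z : Ω)⁻¹, fun N' hN' => ?_, fun x hx => ?_⟩
    · have hle : N' ≤ M' := fun x hx => by
        obtain ⟨hxT, hxn, w, hw, hwe⟩ := hN' x hx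
        exact ⟨(hM x).2 ⟨hTS hxT, hxn, w, hTS hw, hwe⟩, hxT⟩
      have hhN := hh.mono (hle.trans inf_le_left)
      refine hE.2 ⟨hhN.comp (fn_conj le_rfl z.2) (fun x hx => hhN.mem hx), fun x hx => (hle hx).2,
        fun x hx => hTn _ z.2 _ (sc_apply hsc hhN hx (hle hx).2), tr z * gh,
        (hgh.mono hle).comp hhN (fun x hx => hhN.mem hx) (htrre z S), ?_⟩
      rw [chi_mul hℓ (htrre z S).1 hgh.1, htr, hzc]
    · show (z : Ω) * h x * (z : Ω)⁻¹ = f₀ x
      rw [hhe x hx]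
      exact hzQ _ (hi₀.le (mem_img_of_mem hx))


/-- The saturated subsystem of `p`-power index on a subgroup containing the hyperfocal subgroup. -/
theorem exists_pPowerIndex (hS : IsPGroup p S) (hF : F.IsSaturated p) {T : Subgroup Ω} (hTS : T ≤ S)
    (hhyp : F.hyperfocalSubgroup p ≤ T) :
    ∃ E : FusionSystem T, E.IsSaturated p ∧ E.HasPPowerIndexIn F p := by
  suffices key : ∀ (n : ℕ) {S : Subgroup Ω} [Finite S] {F : FusionSystem S}, Nat.card S = n → IsPGroup p S →
      F.IsSaturated p → ∀ {T : Subgroup Ω}, T ≤ S → F.hyperfocalSubgroup p ≤ T →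
      ∃ E : FusionSystem T, E.IsSaturated p ∧ E.HasPPowerIndexIn F p from key _ rfl hS hF hTS hhyp
  clear hS hF hTS hhyp
  intro n
  induction n using Nat.strong_induction_on with
  | _ n ih =>
  intro S _ F hn hS hF T hTS hhyp
  rcases eq_or_lt_of_le hTS with rfl | hlt
  · exact ⟨F, hF, fun P φ hφ => hφ, hhyp, fun P hP => Subgroup.map_subtype_le _⟩
  obtain ⟨j, hj⟩ := IsPGroup.iff_card.1 hS
  obtain ⟨i, hi⟩ := IsPGroup.iff_card.1 ((hS.to_subgroup (T.subgroupOf S)))
  have hp1 := (Fact.out : p.Prime).one_lt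
  have hij : i < j := by
    have h : Nat.card (T.subgroupOf S) < Nat.card S := by
      rw [Nat.card_congr (Subgroup.subgroupOfEquivOfLe hTS).toEquiv]
      exact (Set.Finite.card_lt_card (Set.toFinite (S : Set Ω)) hlt)
    rw [hj, hi] at h
    exact (Nat.pow_lt_pow_iff_right hp1).1 h
  obtain ⟨K, hK, hTK⟩ := Sylow.exists_subgroup_card_pow_prime_le p (m := j - 1)
    (by rw [hj]; exact pow_dvd_pow p (Nat.sub_le j 1)) (T.subgroupOf S) hi (by omega)
  have hKidx : K.index = p := by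
    have h := K.card_mul_index
    rw [hK, hj, show p ^ j = p ^ (j - 1) * p by rw [← pow_succ]; congr 1; omega] at h
    exact Nat.eq_of_mul_eq_mul_left (pow_pos (by omega) _) h
  haveI hKn : K.Normal := by
    refine Subgroup.NormalizerCondition.normal_of_coatom K (normalizerCondition_of_isNilpotent (h := hS.isNilpotent))
      ⟨fun h => ?_, fun L hL => ?_⟩
    · rw [h, Subgroup.index_top] at hKidx
      omega
    · rw [← Subgroup.index_eq_one]
      have h := Subgroup.relIndex_mul_index hL.le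
      rw [hKidx] at h
      refine ((Nat.dvd_prime Fact.out).1 (Dvd.intro_left _ h)).resolve_right fun hLp => ?_
      rw [hLp] at h
      have h1 : K.relIndex L = 1 := by
        have := Nat.eq_of_mul_eq_mul_right (by omega : 0 < p) (h.trans (one_mul p).symm)
        exact this
      exact hL.not_ge (Subgroup.relIndex_eq_one.1 h1)
  let T' : Subgroup Ω := K.map S.subtype
  have hT'S : T' ≤ S := Subgroup.map_subtype_le K
  have hTT' : T ≤ T' := fun x hx => ⟨⟨x, hTS hx⟩, hTK hx, rfl⟩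
  haveI := finite_of_le_base hT'S
  have hT'K : T'.subgroupOf S = K := Subgroup.comap_map_eq_self_of_injective S.subtype_injective K
  obtain ⟨E', hE's, hE'i⟩ := exists_index_prime hS hF hT'S
    (fun s hs x ⟨y, hy, e⟩ => ⟨⟨s, hs⟩ * y * ⟨s, hs⟩⁻¹, hKn.conj_mem y hy _, by subst e; rfl⟩)
    (hhyp.trans hTT') (by rw [hT'K]; exact hKidx)
  have hcard : Nat.card T' < n := by
    rw [← hn, Subgroup.card_map_of_injective S.subtype_injective, hK, hj]
    exact Nat.pow_lt_pow_right hp1 (by omega)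
  have hle : E'.hyperfocalSubgroup p ≤ F.hyperfocalSubgroup p := by
    refine hyperfocal_le_of_coprime fun P hP α hα hc x => ?_
    refine Subgroup.subset_closure ⟨P, ⟨α, autGroup_mono' hE'i.1 P hα⟩, x, hP.trans hT'S,
      Subgroup.subset_closure ?_, rfl⟩
    show Nat.Coprime (orderOf (⟨α, autGroup_mono' hE'i.1 P hα⟩ : F.autGroup P)) p
    rwa [← Subgroup.orderOf_coe]
  obtain ⟨E, hEs, hEi⟩ := ih _ hcard rfl (hS.to_le hT'S) hE's hTT' (hle.trans hhyp)
  refine ⟨E, hEs, fun P φ hφ => hE'i.1 P (hEi.1 P hφ), hhyp, fun P hP => ?_⟩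
  rw [Subgroup.map_le_iff_le_comap]
  refine (Subgroup.closure_le _).2 fun a ha => ?_
  have hc : Nat.Coprime (orderOf (a : MulAut P)) p := by rw [Subgroup.orderOf_coe]; exact ha
  exact mem_of_coprime hEi hP (mem_of_coprime hE'i (hP.trans hTT') a.2 hc) hc

end CfsgLib.Fsys

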