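import Cfsg.Agent.Lib.FusionSystem.BisetTransfer
import Cfsg.Agent.Lib.Fusion.Basic
import Cfsg.Agent.S5083
import Cfsg.Agent.Lib.FusionSystem.FactorSaturated

/-! The hyperfocal part of Tate's theorem for fusion systems. -/

set_option autoImplicit false

open Cfsg Cfsg.FusionSystem
open scoped commutatorElement

namespace CfsgLib.Fsys

open CfsgLib.Fsys.Park CfsgLib.Fsys.CharBiset

universe u

variable {Ω : Type u} [Group Ω] {S : Subgroup Ω} [Finite S] {F : FusionSystem S} {p : ℕ} [Fact p.Prime]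
variable {T : Subgroup Ω}

/-- Modulo a normal subgroup containing the hyperfocal subgroup all maps are inner. -/
theorem exists_conj_mod (hS : IsPGroup p S) (hF : F.IsSaturated p)
    (hTn : ∀ s ∈ S, ∀ x ∈ T, s * x * s⁻¹ ∈ T) (hhyp : F.hyperfocalSubgroup p ≤ T) {P : Subgroup Ω}
    {f : Ω → Ω} (hf : Fn F P f) :
    ∃ u ∈ S, ∀ x ∈ P, u * x⁻¹ * u⁻¹ * f x ∈ T := by
  let C : Subgroup Ω → (Ω → Ω) → Prop := fun P f => ∃ u ∈ S, ∀ x ∈ P, u * x⁻¹ * u⁻¹ * f x ∈ T
  let E := predSystem F C (fun P f g he _ h => h.imp fun u hu => ⟨hu.1, fun x hx => he x hx ▸ hu.2 x hx⟩)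
    (fun P _ s hs => ⟨s, hs, fun x _ => by simp [mul_assoc]⟩)
    (fun P R f g _ _ hm h h' => by
      obtain ⟨u, hu, h1⟩ := h
      obtain ⟨v, hv, h2⟩ := h'
      refine ⟨v * u, S.mul_mem hv hu, fun x hx => ?_⟩
      have := T.mul_mem (hTn v hv _ (h1 x hx)) (h2 _ (hm x hx))
      simpa [mul_assoc] using this)
    (fun P f g hf _ he h => by
      obtain ⟨u, hu, h1⟩ := h
      refine ⟨u⁻¹, S.inv_mem hu, fun y hy => ?_⟩
      obtain ⟨x, hx, rfl⟩ := hf.mem_img.1 hy
      rw [he x hx]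
      have := hTn u⁻¹ (S.inv_mem hu) _ (T.inv_mem (h1 x hx))
      simpa [mul_assoc] using this)
  have key : ∀ R : Subgroup Ω, F.IsFullyAutomized p R → F.autGroup R ≤ E.autGroup R := by
    intro R hA α hα
    refine (mem_autGroup_iff_fn hA.1).2 (fn_predSystem.2 ⟨(mem_autGroup_iff_fn hA.1).1 hα, ?_⟩)
    obtain ⟨β, hβ, γ, hγ, e⟩ := exists_residual_decomp hS hF hA hα
    obtain ⟨u, hu, huγ⟩ := mem_autInducedBy.1 hγ
    refine ⟨u, hu, fun x hx => ?_⟩
    lift x to R using hx
    have h1 : ((γ x : R) : Ω)⁻¹ * (((β : MulAut R) (γ x) : R) : Ω) ∈ T :=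
      hhyp (Subgroup.subset_closure ⟨R, β, γ x, hA.1, hβ, rfl⟩)
    rw [autFn_coe, e, MulAut.mul_apply]
    rw [huγ x] at h1
    simpa [mul_assoc] using h1
  obtain ⟨φ, hφ, hφf⟩ := hf
  have hle : F ≤ E := alperin hS hF E (key S (fullyAutomized_top hF))
    fun R _ hR => key R (fullyNormalized_good hS hF hR.2.1).1
  obtain ⟨u, hu, h⟩ := (hle P hφ).2
  exact ⟨u, hu, fun x hx => hφf ⟨x, hx⟩ ▸ ofHom_apply φ hx ▸ h x hx⟩

/-- An equivariant map into a set with enough fixed points. -/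
theorem exists_equivariant_map {H X Y : Type*} [Group H] [MulAction H X] [MulAction H Y]
    (h : ∀ x : X, ∃ y : Y, ∀ a : H, a • x = x → a • y = y) :
    ∃ w : X → Y, ∀ (a : H) (x : X), w (a • x) = a • w x := by
  have hr : ∀ x : X, ∃ c : H, c • (Quotient.mk (MulAction.orbitRel H X) x).out = x := fun x => by
    have : MulAction.orbitRel H X x (Quotient.mk (MulAction.orbitRel H X) x).out :=
      ((MulAction.orbitRel H X).symm (Quotient.mk_out (s := MulAction.orbitRel H X) x))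
    exact MulAction.mem_orbit_iff.1 this
  choose c hc using hr
  choose y hy using h
  refine ⟨fun x => c x • y (Quotient.mk (MulAction.orbitRel H X) x).out, fun a x => ?_⟩
  have hq : (Quotient.mk (MulAction.orbitRel H X) (a • x)).out = (Quotient.mk (MulAction.orbitRel H X) x).out :=
    congrArg Quotient.out (Quotient.sound (MulAction.mem_orbit x a))
  have e := hy (Quotient.mk (MulAction.orbitRel H X) x).out ((c (a • x))⁻¹ * (a * c x)) (by
    rw [mul_smul, mul_smul, hc, inv_smul_eq_iff]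
    conv_lhs => rw [← hc (a • x), hq])
  rw [mul_smul, mul_smul, inv_smul_eq_iff] at e
  show c (a • x) • y (Quotient.mk (MulAction.orbitRel H X) (a • x)).out = _
  rw [hq, ← e]

/-- The quotient of `S` by a normal subgroup, and its central part. -/
theorem exists_correction (hS : IsPGroup p S) (hF : F.IsSaturated p)
    (hTn : ∀ s ∈ S, ∀ x ∈ T, s * x * s⁻¹ ∈ T) (hhyp : F.hyperfocalSubgroup p ≤ T)
    (K : Subgroup S) [K.Normal]
    (hcen : ∀ t : S, (t : Ω) ∈ T → QuotientGroup.mk' K t ∈ Subgroup.center (S ⧸ K)) :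
    ∃ (m : ℕ) (β : S →* Subgroup.center (S ⧸ K)), ¬ p ∣ m ∧
      ∀ (Q : Subgroup Ω), Q ≤ T → Q ≤ S → ∀ α ∈ F.autGroup Q, ∀ a b : S, (a : Ω) ∈ Q →
        (b : Ω) = autFn α a →
        (β b : S ⧸ K) * QuotientGroup.mk' K b ^ m = (β a : S ⧸ K) * QuotientGroup.mk' K a ^ m := by
  classical
  obtain ⟨X, _, _, m, hm, hcard, htw, hstab⟩ := exists_biset hS hF
  set π : S →* S ⧸ K := QuotientGroup.mk' K
  set Z := Subgroup.center (S ⧸ K)
  let _ : CommGroup Z :=
    { (inferInstance : Group Z) with mul_comm := fun a b => Subtype.ext (Subgroup.mem_center_iff.1 b.2 a) }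
  let θ : S →* (S ⧸ K) ⧸ Z := (QuotientGroup.mk' Z).comp π
  let actY : MulAction (S × S) ((S ⧸ K) ⧸ Z) :=
    { smul := fun a y => θ a.1 * y * (θ a.2)⁻¹
      one_smul := fun y => by show θ 1 * y * (θ 1)⁻¹ = y; simp
      mul_smul := fun a b y => by
        show θ (a.1 * b.1) * y * (θ (a.2 * b.2))⁻¹ = θ a.1 * (θ b.1 * y * (θ b.2)⁻¹) * (θ a.2)⁻¹
        simp [mul_assoc] }
  let _ := actY
  obtain ⟨w, hw⟩ := exists_equivariant_map (H := S × S) (X := X) (Y := (S ⧸ K) ⧸ Z) fun x => by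
    obtain ⟨f, hf, he⟩ := tw_witness (htw x)
    obtain ⟨v, hv, hvf⟩ := exists_conj_mod hS hF hTn hhyp hf
    refine ⟨θ ⟨v, hv⟩, fun a ha => ?_⟩
    obtain ⟨h2, h1⟩ := (he a).1 ha
    have h3 : (((⟨v, hv⟩ : S) * a.2⁻¹ * (⟨v, hv⟩ : S)⁻¹ * a.1 : S) : Ω) ∈ T := by
      simpa [h1] using hvf _ h2
    have h4 : θ ((⟨v, hv⟩ : S) * a.2⁻¹ * (⟨v, hv⟩ : S)⁻¹ * a.1) = 1 :=
      (QuotientGroup.eq_one_iff _).2 (hcen _ h3)
    rw [map_mul, map_mul, map_mul, map_inv, map_inv, mul_eq_one_iff_inv_eq] at h4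
    show θ a.1 * θ ⟨v, hv⟩ * (θ a.2)⁻¹ = θ ⟨v, hv⟩
    rw [← h4]
    group
  -- free right action
  let R : Subgroup (S × S) := (⊥ : Subgroup S).prod ⊤
  let O := Quotient (MulAction.orbitRel R X)
  have := Fintype.ofFinite O
  have horb : ∀ {x y : X}, MulAction.orbitRel R X x y → ∃ t : S, ((1 : S), t) • y = x := by
    intro x y h
    obtain ⟨r, e⟩ := MulAction.mem_orbit_iff.1 h
    have e1 : r.1 = ((1 : S), r.1.2) := Prod.ext r.2.1 rfl
    exact ⟨r.1.2, by rw [← e1]; exact e⟩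
  have hfree : ∀ (x : X) (t : S), ((1 : S), t) • x = x → t = 1 := by
    intro x t h
    obtain ⟨f, hf, he⟩ := tw_witness (htw x)
    obtain ⟨h2, h1⟩ := (he ((1 : S), t)).1 h
    exact Subtype.ext ((hf.eq_one_iff h2).1 h1.symm)
  have hrt : ∀ x : X, ∃ t : S, ((1 : S), t) • (Quotient.mk (MulAction.orbitRel R X) x).out = x := fun x =>
    horb ((MulAction.orbitRel R X).symm (Quotient.mk_out (s := MulAction.orbitRel R X) x))
  choose r hr using hrt
  let L : X → S ⧸ K := fun x => (w (Quotient.mk (MulAction.orbitRel R X) x).out).out * (π (r x))⁻¹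
  have hLR : ∀ (t : S) (x : X), L (((1 : S), t) • x) = L x * (π t)⁻¹ := by
    intro t x
    have hq : Quotient.mk (MulAction.orbitRel R X) (((1 : S), t) • x) = Quotient.mk _ x :=
      Quotient.sound ⟨⟨((1 : S), t), rfl, trivial⟩, rfl⟩
    have hrr : r (((1 : S), t) • x) = t * r x := by
      have h1 := hr (((1 : S), t) • x)
      rw [hq] at h1
      have h2 : ((1 : S), t * r x) • (Quotient.mk (MulAction.orbitRel R X) x).out = ((1 : S), t) • x := by
        conv_rhs => rw [← hr x, ← mul_smul, Prod.mk_mul_mk, mul_one]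
      replace h1 := h1.trans h2.symm
      refine (inv_mul_eq_one.1 (hfree (Quotient.mk (MulAction.orbitRel R X) x).out _ ?_)).symm
      rw [show ((1 : S), (t * r x)⁻¹ * r (((1 : S), t) • x)) = ((1 : S), t * r x)⁻¹ * ((1 : S), r (((1 : S), t) • x)) by
        simp, mul_smul, h1, inv_smul_smul]
    show (w (Quotient.mk _ (((1 : S), t) • x)).out).out * _ = _
    rw [hq, hrr, map_mul, mul_inv_rev, ← mul_assoc]
  have hLw : ∀ x : X, QuotientGroup.mk' Z (L x) = w x := by
    intro x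
    show QuotientGroup.mk' Z ((w (Quotient.mk (MulAction.orbitRel R X) x).out).out * (π (r x))⁻¹) = _
    rw [map_mul, map_inv]
    conv_rhs => rw [← hr x, hw]
    show _ = θ (1 : S) * _ * (θ (r x))⁻¹
    rw [map_one, one_mul]
    exact congrArg (· * _) (QuotientGroup.out_eq' _)
  have hcomm : ∀ (s t : S) (x : X),
      ((s, (1 : S)) • ((1 : S), t) • x : X) = ((1 : S), t) • (s, (1 : S)) • x := fun s t x => by
    rw [← mul_smul, ← mul_smul]
    simp
  -- the difference functions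
  have hDZ : ∀ (s : S) (x : X), (π s)⁻¹ * (L ((s, (1 : S)) • x) * (L x)⁻¹) ∈ Z := by
    intro s x
    rw [← QuotientGroup.eq_one_iff]
    show QuotientGroup.mk' Z _ = 1
    rw [map_mul, map_mul, map_inv, map_inv, hLw, hLw, hw]
    show (θ s)⁻¹ * (θ s * w x * (θ (1 : S))⁻¹ * (w x)⁻¹) = 1
    rw [map_one]
    group
  let D : S → O → Z := fun s o => ⟨_, hDZ s o.out⟩
  let σ : S → O → O := fun s => Quotient.map' (fun x => (s, (1 : S)) • x) fun x y h => by
    obtain ⟨t, rfl⟩ := horb h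
    exact ⟨⟨((1 : S), t), rfl, trivial⟩, (hcomm s t y).symm⟩
  have hσmk : ∀ (s : S) (x : X), σ s (Quotient.mk _ x) = Quotient.mk _ ((s, (1 : S)) • x) := fun _ _ => rfl
  have hσbij : ∀ s : S, Function.Bijective (σ s) := fun s => by
    refine Function.bijective_iff_has_inverse.2 ⟨σ s⁻¹, fun o => ?_, fun o => ?_⟩
    all_goals
      induction o using Quotient.inductionOn with
      | h x => simp [hσmk, ← mul_smul, ← Prod.one_eq_mk]
  have hD : ∀ (s : S) (x : X),
      (D s (Quotient.mk _ x) : S ⧸ K) = (π s)⁻¹ * (L ((s, (1 : S)) • x) * (L x)⁻¹) := by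
    intro s x
    obtain ⟨t, ht⟩ := horb (Quotient.mk_out (s := MulAction.orbitRel R X) x)
    show (π s)⁻¹ * (L (_ • (Quotient.mk (MulAction.orbitRel R X) x).out) * _) = _
    rw [← ht, hcomm, hLR, hLR, mul_inv_rev, inv_inv]
    simp [mul_assoc]
  let β : S →* Z := MonoidHom.mk' (fun s => ∏ o, D s o) fun a b => by
    have e : ∀ o, D (a * b) o = D a (σ b o) * D b o := by
      intro o
      induction o using Quotient.inductionOn with
      | h x =>
        refine Subtype.ext ?_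
        rw [hσmk, Subgroup.coe_mul, hD, hD, hD, ← mul_smul, Prod.mk_mul_mk, mul_one, map_mul]
        have hz : (π a)⁻¹ * (L ((a * b, (1 : S)) • x) * (L ((b, (1 : S)) • x))⁻¹) ∈ Z := by
          have := hDZ a ((b, (1 : S)) • x)
          rwa [← mul_smul, Prod.mk_mul_mk, mul_one] at this
        rw [← Subgroup.mem_center_iff.1 hz ((π b)⁻¹ * (L ((b, (1 : S)) • x) * (L x)⁻¹))]
        have hb := Subgroup.mem_center_iff.1 hz (π b)⁻¹
        rw [mul_inv_rev, ← mul_assoc ((π b)⁻¹ * _), mul_assoc (π b)⁻¹ (L _ * (L x)⁻¹)]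
        have hc := Subgroup.mem_center_iff.1 hz (L ((b, (1 : S)) • x) * (L x)⁻¹)
        rw [hc]
        group
    rw [Finset.prod_congr rfl fun o _ => e o, Finset.prod_mul_distrib,
      Fintype.prod_bijective (σ b) (hσbij b) (fun o => D a (σ b o)) (D a) fun _ => rfl]
  have hcardO : Fintype.card O = m := by
    have hb : Function.Bijective (fun x : X => (Quotient.mk (MulAction.orbitRel R X) x, r x)) := by
      refine ⟨fun x y h => ?_, fun (ot : O × S) => ⟨((1 : S), ot.2) • ot.1.out, ?_⟩⟩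
      · obtain ⟨h1, h2⟩ := Prod.ext_iff.1 h
        change Quotient.mk _ x = Quotient.mk _ y at h1
        change r x = r y at h2
        rw [← hr x, ← hr y, h1, h2]
      · obtain ⟨o, t⟩ := ot
        have hq : Quotient.mk (MulAction.orbitRel R X) (((1 : S), t) • o.out) = o := by
          refine Eq.trans (Quotient.sound ?_) (Quotient.out_eq o)
          exact (MulAction.mem_orbit o.out (⟨((1 : S), t), rfl, trivial⟩ : R) :)
        refine Prod.ext hq (inv_mul_eq_one.1 (hfree o.out _ ?_)).symm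
        have h1 := hr (((1 : S), t) • o.out)
        rw [hq] at h1
        rw [show ((1 : S), t⁻¹ * r (((1 : S), t) • o.out)) = ((1 : S), t)⁻¹ * ((1 : S), r (((1 : S), t) • o.out)) by
          simp, mul_smul, h1, inv_smul_smul]
    have h := Nat.card_eq_of_bijective _ hb
    rw [Nat.card_prod, hcard, mul_comm] at h
    rw [← Nat.card_eq_fintype_card]
    exact (Nat.eq_of_mul_eq_mul_right Nat.card_pos h).symm
  refine ⟨m, β, hm, fun Q hQT hQS α hα a b ha hb => ?_⟩
  have hbQ : (b : Ω) ∈ Q := hb ▸ autFn_mem α ha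
  have hfn := (mem_autGroup_iff_fn hQS).1 hα
  obtain ⟨g, hg, hge⟩ := hstab Q _ hfn
  have hab : (⟨autFn α (a : Ω), hfn.mem ha⟩ : S) = b := Subtype.ext hb.symm
  have hgR : ∀ t x, g (((1 : S), t) • x) = ((1 : S), t) • g x := fun t x => by
    rw [hge 1 Q.one_mem t x, show (⟨autFn α ((1 : S) : Ω), hfn.mem Q.one_mem⟩ : S) = 1 from Subtype.ext hfn.map_one]
  let V : S → O → S ⧸ K := fun s o => π s * (D s o : S ⧸ K)
  have hV : ∀ (s : S) (x : X), V s (Quotient.mk _ x) = L ((s, (1 : S)) • x) * (L x)⁻¹ := fun s x => by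
    show π s * (D s (Quotient.mk _ x) : S ⧸ K) = _
    rw [hD, mul_inv_cancel_left]
  have hπZ : ∀ s : S, (s : Ω) ∈ Q → π s ∈ Z := fun s hs => hcen s (hQT hs)
  let E : X → S ⧸ K := fun x => L (g x) * (L x)⁻¹
  have hER : ∀ (t : S) (x : X), E (((1 : S), t) • x) = E x := fun t x => by
    show L (g _) * (L _)⁻¹ = _
    rw [hgR, hLR, hLR]
    simp [mul_assoc, E]
  have hEZ : ∀ x, QuotientGroup.mk' Z (E ((a, (1 : S)) • x)) = QuotientGroup.mk' Z (E x) := fun x => by
    show QuotientGroup.mk' Z (L (g _) * (L _)⁻¹) = QuotientGroup.mk' Z (L _ * (L _)⁻¹)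
    rw [hge a ha, hab, map_mul, map_inv, hLw, hLw, hw, hw, map_mul, map_inv, hLw, hLw]
    show θ b * w (g x) * (θ 1)⁻¹ * (θ a * w x * (θ 1)⁻¹)⁻¹ = _
    have h1 : θ a = 1 := (QuotientGroup.eq_one_iff _).2 (hπZ a ha)
    have h2 : θ b = 1 := (QuotientGroup.eq_one_iff _).2 (hπZ b hbQ)
    rw [h1, h2, map_one]
    group
  let sec : X → S ⧸ K := fun x => (QuotientGroup.mk' Z (E x)).out
  have hez : ∀ x, E x * (sec x)⁻¹ ∈ Z := fun x => by
    rw [← QuotientGroup.eq_one_iff]
    show QuotientGroup.mk' Z _ = 1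
    rw [map_mul, map_inv, show QuotientGroup.mk' Z (sec x) = QuotientGroup.mk' Z (E x) from
      QuotientGroup.out_eq' _, mul_inv_cancel]
  let e : O → Z := fun o => ⟨_, hez o.out⟩
  have he' : ∀ x, (e (Quotient.mk _ x) : S ⧸ K) = E x * (sec x)⁻¹ := fun x => by
    obtain ⟨t, ht⟩ := horb (Quotient.mk_out (s := MulAction.orbitRel R X) x)
    show E (Quotient.mk (MulAction.orbitRel R X) x).out * ((QuotientGroup.mk' Z (E _)).out)⁻¹ = _
    rw [← ht, hER]
  let G : O → O := Quotient.map' g fun x y h => by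
    obtain ⟨t, rfl⟩ := horb h
    exact ⟨⟨((1 : S), t), rfl, trivial⟩, (hgR t y).symm⟩
  have hG : Function.Bijective G := by
    refine (Finite.surjective_iff_bijective).1 fun o => ?_
    induction o using Quotient.inductionOn with
    | h x =>
      obtain ⟨y, rfl⟩ := hg.2 x
      exact ⟨Quotient.mk _ y, rfl⟩
  have key : ∀ o, (⟨π b, hπZ b hbQ⟩ : Z) * D b (G o) =
      (⟨π a, hπZ a ha⟩ : Z) * D a o * (e (σ a o) * (e o)⁻¹) := by
    intro o
    induction o using Quotient.inductionOn with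
    | h x =>
      refine Subtype.ext ?_
      rw [hσmk]
      show V b (Quotient.mk _ (g x)) = V a (Quotient.mk _ x) * ((e _ : S ⧸ K) * (e _ : S ⧸ K)⁻¹)
      rw [hV, hV, he', he', show sec ((a, (1 : S)) • x) = sec x from congrArg Quotient.out (hEZ x)]
      have hδ : E ((a, (1 : S)) • x) * (sec x)⁻¹ * (E x * (sec x)⁻¹)⁻¹ = E ((a, (1 : S)) • x) * (E x)⁻¹ := by group
      have hcz : L ((a, (1 : S)) • x) * (L x)⁻¹ ∈ Z := by
        rw [← hV]
        exact Z.mul_mem (hπZ a ha) (D a _).2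
      rw [hδ, show L ((b, (1 : S)) • g x) = E ((a, (1 : S)) • x) * L ((a, (1 : S)) • x) by
        show _ = L (g _) * _ * _
        rw [inv_mul_cancel_right, hge a ha, hab]]
      rw [← Subgroup.mem_center_iff.1 hcz, mul_assoc (E _) (E x)⁻¹,
        Subgroup.mem_center_iff.1 hcz (E x)⁻¹]
      simp [E, mul_assoc]
  have h := Finset.prod_congr (s₁ := Finset.univ) rfl fun o (_ : o ∈ Finset.univ) => key o
  rw [Finset.prod_mul_distrib, Finset.prod_mul_distrib, Finset.prod_mul_distrib, Finset.prod_mul_distrib,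
    Fintype.prod_bijective (σ a) (hσbij a) (fun o => e (σ a o)) e fun _ => rfl, Finset.prod_inv_distrib,
    mul_inv_cancel, mul_one, Fintype.prod_bijective G hG (fun o => D b (G o)) (D b) fun _ => rfl,
    Finset.prod_const, Finset.prod_const, Finset.card_univ, hcardO] at h
  have h' := congrArg (Subtype.val : Z → S ⧸ K) h
  simp only [Subgroup.coe_mul, SubgroupClass.coe_pow] at h'
  show (β b : S ⧸ K) * π b ^ m = (β a : S ⧸ K) * π a ^ m
  rw [Subgroup.mem_center_iff.1 (Z.pow_mem (hπZ b hbQ) m), Subgroup.mem_center_iff.1 (Z.pow_mem (hπZ a ha) m)]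
  exact h'

/-- The hyperfocal subgroup is generated by the displacements of automorphisms of order prime to `p`. -/
theorem hyperfocal_le_of_coprime {G₀ : Subgroup Ω}
    (h : ∀ (P : Subgroup Ω), P ≤ S → ∀ α ∈ F.autGroup P, Nat.Coprime (orderOf α) p →
      ∀ x : P, (x : Ω)⁻¹ * ((α x : P) : Ω) ∈ G₀) : F.hyperfocalSubgroup p ≤ G₀ := by
  refine (Subgroup.closure_le _).2 ?_
  rintro _ ⟨P, α, x, hP, hα, rfl⟩
  suffices H : ∀ a ∈ pResidual p (F.autGroup P), ∀ x : P, (x : Ω)⁻¹ * (((a : MulAut P) x : P) : Ω) ∈ G₀ from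
    H α hα x
  intro a ha
  induction ha using Subgroup.closure_induction with
  | mem a ha => exact h P hP a a.2 (by rwa [Subgroup.orderOf_coe])
  | one => intro x; simpa using G₀.one_mem
  | mul a b _ _ ha hb =>
    intro x
    have := G₀.mul_mem (hb x) (ha ((b : MulAut P) x))
    simpa [mul_assoc] using this
  | inv a _ ha =>
    intro x
    have := G₀.inv_mem (ha ((a : MulAut P)⁻¹ x))
    simpa using this

/-- A displacement of a coprime automorphism dies under an invariant map to an abelian `p`-group. -/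
theorem displacement_eq_one {P : Subgroup Ω} (hP : P ≤ S) {α : MulAut P} (hα : α ∈ F.autGroup P)
    (hcop : Nat.Coprime (orderOf α) p) {B : Type*} [CommGroup B] (hB : IsPGroup p B) (χ : S →* B)
    (h : ∀ (Q : Subgroup Ω) (γ : MulAut Q), Q ≤ P → γ ∈ F.autGroup Q →
      (∀ q ∈ Q, q ∈ Subgroup.closure (Set.range fun x : P => (x : Ω)⁻¹ * ((α x : P) : Ω))) →
      ∀ a b : S, (a : Ω) ∈ Q → (b : Ω) = autFn γ a → χ b = χ a) (x : P) :
    χ ⟨(x : Ω)⁻¹ * ((α x : P) : Ω), S.mul_mem (S.inv_mem (hP x.2)) (hP (α x).2)⟩ = 1 := by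
  set Q : Subgroup Ω := Subgroup.closure (Set.range fun x : P => (x : Ω)⁻¹ * ((α x : P) : Ω)) with hQ
  have hQP : Q ≤ P := (Subgroup.closure_le _).2 (by
    rintro _ ⟨z, rfl⟩
    exact P.mul_mem (P.inv_mem z.2) (α z).2)
  have hαf := (mem_autGroup_iff_fn hP).1 hα
  have hQS := hQP.trans hP
  have hinv : ∀ q ∈ Q, autFn α q ∈ Q := by
    intro q hq
    induction hq using Subgroup.closure_induction with
    | mem q hq =>
      obtain ⟨z, rfl⟩ := hq
      show autFn α ((z⁻¹ * α z : P) : Ω) ∈ Q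
      rw [autFn_coe, map_mul, map_inv]
      exact Subgroup.subset_closure ⟨α z, rfl⟩
    | one => rw [hαf.map_one]; exact Q.one_mem
    | mul u v hu hv ihu ihv => rw [hαf.map_mul (hQP hu) (hQP hv)]; exact Q.mul_mem ihu ihv
    | inv u hu ih => rw [hαf.map_inv (hQP hu)]; exact Q.inv_mem ih
  haveI := finite_of_le_base hQS
  obtain ⟨γ, hγ, hγf⟩ := exists_aut_of_fn (hαf.mono hQP) ((hαf.mono hQP).img_eq_self hinv)
  set y : P := x⁻¹ * α x with hy
  have hyQ : ∀ k : ℕ, (((α ^ k) y : P) : Ω) ∈ Q := by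
    intro k
    induction k with
    | zero => exact Subgroup.subset_closure ⟨x, rfl⟩
    | succ k ih =>
      rw [pow_succ', MulAut.mul_apply, ← autFn_coe]
      exact hinv _ ih
  have hχ : ∀ k : ℕ, χ ⟨(((α ^ k) y : P) : Ω), hP ((α ^ k) y).2⟩ = χ ⟨(y : Ω), hP y.2⟩ := by
    intro k
    induction k with
    | zero => rfl
    | succ k ih =>
      rw [← ih]
      refine h Q γ hQP hγ (fun q hq => hq) _ _ (hyQ k) ?_
      show (((α ^ (k + 1)) y : P) : Ω) = autFn γ (((α ^ k) y : P) : Ω)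
      rw [show autFn γ (((α ^ k) y : P) : Ω) = autFn α (((α ^ k) y : P) : Ω) from
        (autFn_coe γ ⟨_, hyQ k⟩).trans (hγf _), autFn_coe, pow_succ', MulAut.mul_apply]
  have hpow : ∀ k : ℕ, χ ⟨(((α ^ k) x : P) : Ω), hP ((α ^ k) x).2⟩ =
      χ ⟨(x : Ω), hP x.2⟩ * χ ⟨(y : Ω), hP y.2⟩ ^ k := by
    intro k
    induction k with
    | zero => simp
    | succ k ih =>
      have e : (α ^ (k + 1)) x = (α ^ k) x * (α ^ k) y := by
        rw [hy, map_mul, map_inv, mul_inv_cancel_left, pow_succ, MulAut.mul_apply]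
      calc χ ⟨(((α ^ (k + 1)) x : P) : Ω), hP ((α ^ (k + 1)) x).2⟩
          = χ ⟨(((α ^ k) x : P) : Ω), hP ((α ^ k) x).2⟩ * χ ⟨(((α ^ k) y : P) : Ω), hP ((α ^ k) y).2⟩ := by
            rw [← map_mul]
            exact congrArg χ (Subtype.ext (congrArg (fun z : P => (z : Ω)) e))
        _ = _ := by rw [ih, hχ k, pow_succ, mul_assoc]
  have h1 := hpow (orderOf α)
  simp only [pow_orderOf_eq_one, MulAut.one_apply, left_eq_mul] at h1
  obtain ⟨j, hj⟩ := hB (χ ⟨(y : Ω), hP y.2⟩)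
  exact orderOf_eq_one_iff.1 (Nat.eq_one_of_dvd_coprimes (hcop.pow_right j)
    (orderOf_dvd_of_pow_eq_one h1) (orderOf_dvd_of_pow_eq_one hj))

/-- The hyperfocal part of Tate's theorem. -/
theorem hyperfocal_eq_of_focal_eq (hS : IsPGroup p S) (hF : F.IsSaturated p) {H : FusionSystem S}
    (hH : H.IsSaturated p) (hHF : H.IsSubsystemOf F) (hfoc : F.focalSubgroup = H.focalSubgroup) :
    F.hyperfocalSubgroup p = H.hyperfocalSubgroup p := by
  classical
  set T := F.hyperfocalSubgroup p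
  set U := H.hyperfocalSubgroup p
  have hTS : T ≤ S := hyperfocal_le
  have hautle : ∀ P : Subgroup Ω, P ≤ S → H.autGroup P ≤ F.autGroup P := fun P hP α hα =>
    (mem_autGroup hP).2 (hHF P ((mem_autGroup hP).1 hα))
  have hUT : U ≤ T := hyperfocal_le_of_coprime fun P hP α hα hc x =>
    Subgroup.subset_closure ⟨P, ⟨α, hautle P hP hα⟩, x, hP,
      Subgroup.subset_closure (show Nat.Coprime (orderOf (⟨α, hautle P hP hα⟩ : F.autGroup P)) p by
        rwa [← Subgroup.orderOf_coe]), rfl⟩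
  have hTn : ∀ s ∈ S, ∀ x ∈ T, s * x * s⁻¹ ∈ T := fun s hs x hx => hyperfocal_conj hS hs hx
  have hUn : ∀ s ∈ S, ∀ x ∈ U, s * x * s⁻¹ ∈ U := fun s hs x hx => hyperfocal_conj hS hs hx
  let T' : Subgroup S := T.subgroupOf S
  let U' : Subgroup S := U.subgroupOf S
  have : T'.Normal := ⟨fun x hx s => hTn s s.2 x hx⟩
  have : U'.Normal := ⟨fun x hx s => hUn s s.2 x hx⟩
  let K : Subgroup S := ⁅T', (⊤ : Subgroup S)⁆ ⊔ U'
  have : K.Normal := inferInstance
  have hcen : ∀ t : S, (t : Ω) ∈ T → QuotientGroup.mk' K t ∈ Subgroup.center (S ⧸ K) := by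
    intro t ht
    refine Subgroup.mem_center_iff.2 fun g => ?_
    obtain ⟨g, rfl⟩ := QuotientGroup.mk'_surjective K g
    rw [← map_mul, ← map_mul]
    refine QuotientGroup.eq.2 (Subgroup.mem_sup_left ?_)
    have := Subgroup.commutator_mem_commutator (T'.inv_mem ht) (Subgroup.mem_top g⁻¹)
    simpa [commutatorElement_def, mul_assoc] using this
  obtain ⟨m, β, hm, hβ⟩ := exists_correction hS hF hTn le_rfl K hcen
  let _ : CommGroup (Subgroup.center (S ⧸ K)) :=
    { (inferInstance : Group (Subgroup.center (S ⧸ K))) with mul_comm := fun a b => Subtype.ext (Subgroup.mem_center_iff.1 b.2 a) }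
  have hZp : IsPGroup p (Subgroup.center (S ⧸ K)) := (hS.to_quotient K).to_subgroup _
  have hβU : ∀ u : S, (u : Ω) ∈ U → β u = 1 := by
    have : U ≤ (β.ker).map S.subtype := hyperfocal_le_of_coprime fun P hP α hα hc x =>
      ⟨⟨_, S.mul_mem (S.inv_mem (hP x.2)) (hP (α x).2)⟩,
        displacement_eq_one (F := H) hP hα hc hZp β (fun Q γ hQP hγ hQc a b ha hb => by
          have hgen : ∀ q ∈ Q, q ∈ U := fun q hq => (Subgroup.closure_le U).2 (by
            rintro _ ⟨z, rfl⟩
            exact Subgroup.subset_closure ⟨P, ⟨α, hα⟩, z, hP,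
              Subgroup.subset_closure (show Nat.Coprime (orderOf (⟨α, hα⟩ : H.autGroup P)) p by
                rwa [← Subgroup.orderOf_coe]), rfl⟩) (hQc q hq)
          have h1 := hβ Q (fun q hq => hUT (hgen q hq)) (hQP.trans hP) γ (hautle Q (hQP.trans hP) hγ) a b ha hb
          have hπ : ∀ s : S, (s : Ω) ∈ Q → QuotientGroup.mk' K s = 1 := fun s hs =>
            (QuotientGroup.eq_one_iff _).2 (Subgroup.mem_sup_right (show s ∈ U' from hgen _ hs))
          rw [hπ a ha, hπ b (hb ▸ autFn_mem γ ha)] at h1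
          simp only [one_pow, mul_one] at h1
          exact Subtype.ext h1) x, rfl⟩
    intro u hu
    obtain ⟨v, hv, hvu⟩ := this hu
    rw [← show v = u from Subtype.ext hvu]
    exact hv
  have hβT : ∀ t : S, (t : Ω) ∈ T → β t = 1 := by
    have hle : T ≤ (β.ker).map S.subtype := by
      refine le_trans ?_ (sup_le (fun u hu => ?_) (?_ : ⁅S, S⁆ ≤ (β.ker).map S.subtype))
        (b := U ⊔ ⁅S, S⁆)
      · rw [← focal_eq_hyperfocal_sup hS hH, ← hfoc, focal_eq_hyperfocal_sup hS hF]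
        exact le_sup_left
      · exact ⟨⟨u, hyperfocal_le hu⟩, hβU _ hu, rfl⟩
      · rw [← Subgroup.map_subtype_commutator S]
        exact Subgroup.map_mono (Abelianization.commutator_subset_ker β)
    intro t ht
    obtain ⟨v, hv, hvt⟩ := hle ht
    rw [← show v = t from Subtype.ext hvt]
    exact hv
  have hTK : T ≤ K.map S.subtype := hyperfocal_le_of_coprime fun P hP α hα hc x => by
    have hgenT : ∀ z : P, (z : Ω)⁻¹ * ((α z : P) : Ω) ∈ T := fun z =>
      Subgroup.subset_closure ⟨P, ⟨α, hα⟩, z, hP,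
        Subgroup.subset_closure (show Nat.Coprime (orderOf (⟨α, hα⟩ : F.autGroup P)) p by
          rwa [← Subgroup.orderOf_coe]), rfl⟩
    -- powers of the projection, on the subgroup generated by the displacements
    set Q₀ : Subgroup Ω := Subgroup.closure (Set.range fun z : P => (z : Ω)⁻¹ * ((α z : P) : Ω))
    have hQ₀T : Q₀ ≤ T := (Subgroup.closure_le _).2 (by rintro _ ⟨z, rfl⟩; exact hgenT z)
    have hQ₀P : Q₀ ≤ P := (Subgroup.closure_le _).2 (by
      rintro _ ⟨z, rfl⟩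
      exact P.mul_mem (P.inv_mem z.2) (α z).2)
    set y : S := ⟨(x : Ω)⁻¹ * ((α x : P) : Ω), S.mul_mem (S.inv_mem (hP x.2)) (hP (α x).2)⟩
    refine ⟨y, ?_, rfl⟩
    rw [SetLike.mem_coe, ← QuotientGroup.eq_one_iff]
    set z : Subgroup.center (S ⧸ K) := ⟨QuotientGroup.mk' K y, hcen y (hgenT x)⟩
    have hzm : z ^ m = 1 := by
      have key : ∀ k : ℕ, QuotientGroup.mk' K ⟨(((α ^ k) (x⁻¹ * α x) : P) : Ω), hP ((α ^ k) _).2⟩ ^ m =
          QuotientGroup.mk' K y ^ m := by
        have hαf := (mem_autGroup_iff_fn hP).1 hα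
        have hinv : ∀ q ∈ Q₀, autFn α q ∈ Q₀ := by
          intro q hq
          induction hq using Subgroup.closure_induction with
          | mem q hq =>
            obtain ⟨w, rfl⟩ := hq
            show autFn α ((w⁻¹ * α w : P) : Ω) ∈ Q₀
            rw [autFn_coe, map_mul, map_inv]
            exact Subgroup.subset_closure ⟨α w, rfl⟩
          | one => rw [hαf.map_one]; exact Q₀.one_mem
          | mul u v hu hv ihu ihv => rw [hαf.map_mul (hQ₀P hu) (hQ₀P hv)]; exact Q₀.mul_mem ihu ihv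
          | inv u hu ih => rw [hαf.map_inv (hQ₀P hu)]; exact Q₀.inv_mem ih
        haveI := finite_of_le_base (hQ₀P.trans hP)
        obtain ⟨γ, hγ, hγf⟩ := exists_aut_of_fn (hαf.mono hQ₀P) ((hαf.mono hQ₀P).img_eq_self hinv)
        intro k
        induction k with
        | zero => rfl
        | succ k ih =>
          rw [← ih]
          have hq : (((α ^ k) (x⁻¹ * α x) : P) : Ω) ∈ Q₀ := by
            clear ih
            induction k with
            | zero => exact Subgroup.subset_closure ⟨x, rfl⟩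
            | succ k ih => rw [pow_succ', MulAut.mul_apply, ← autFn_coe]; exact hinv _ ih
          set a : S := ⟨(((α ^ k) (x⁻¹ * α x) : P) : Ω), hP ((α ^ k) _).2⟩
          set b : S := ⟨(((α ^ (k + 1)) (x⁻¹ * α x) : P) : Ω), hP ((α ^ (k + 1)) _).2⟩
          have hb : (b : Ω) = autFn γ a := by
            show _ = autFn γ (((α ^ k) (x⁻¹ * α x) : P) : Ω)
            rw [show autFn γ (((α ^ k) (x⁻¹ * α x) : P) : Ω) = autFn α (((α ^ k) (x⁻¹ * α x) : P) : Ω) from
              (autFn_coe γ ⟨_, hq⟩).trans (hγf _), autFn_coe]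
            show (((α ^ (k + 1)) (x⁻¹ * α x) : P) : Ω) = _
            rw [pow_succ', MulAut.mul_apply]
          have h1 := hβ Q₀ hQ₀T (hQ₀P.trans hP) γ hγ a b hq hb
          rw [hβT a (hQ₀T hq), hβT b (hb ▸ hQ₀T (autFn_mem γ hq)), Subgroup.coe_one, one_mul, one_mul] at h1
          exact h1
      have hprod : ∀ k : ℕ, QuotientGroup.mk' K ⟨(((α ^ k) x : P) : Ω), hP ((α ^ k) x).2⟩ ^ m =
          QuotientGroup.mk' K ⟨(x : Ω), hP x.2⟩ ^ m * (QuotientGroup.mk' K y ^ m) ^ k := by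
        intro k
        induction k with
        | zero => simp
        | succ k ih =>
          have e : (⟨(((α ^ (k + 1)) x : P) : Ω), hP ((α ^ (k + 1)) x).2⟩ : S) =
              ⟨(((α ^ k) x : P) : Ω), hP ((α ^ k) x).2⟩ *
                ⟨(((α ^ k) (x⁻¹ * α x) : P) : Ω), hP ((α ^ k) _).2⟩ := by
            refine Subtype.ext ?_
            show (((α ^ (k + 1)) x : P) : Ω) = (((α ^ k) x * (α ^ k) (x⁻¹ * α x) : P) : Ω)
            rw [map_mul, map_inv, mul_inv_cancel_left, pow_succ, MulAut.mul_apply]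
          have hmem : (((α ^ k) (x⁻¹ * α x) : P) : Ω) ∈ T := by
            have hgen := hgenT ((α ^ k) x)
            rw [map_mul, map_inv, Subgroup.coe_mul, Subgroup.coe_inv]
            rw [← MulAut.mul_apply, ← pow_succ, pow_succ', MulAut.mul_apply]
            exact hgen
          rw [e, map_mul, Commute.mul_pow (Subgroup.mem_center_iff.1 (hcen _ hmem) _ : Commute _ _), ih,
            key k, pow_succ, mul_assoc]
      have h2 := hprod (orderOf α)
      simp only [pow_orderOf_eq_one, MulAut.one_apply, left_eq_mul] at h2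
      obtain ⟨j, hj⟩ := hZp z
      have hzo : (z ^ m) ^ orderOf α = 1 := Subtype.ext (by simpa [z] using h2)
      exact orderOf_eq_one_iff.1 (Nat.eq_one_of_dvd_coprimes (hc.pow_right j)
        (orderOf_dvd_of_pow_eq_one hzo) (orderOf_dvd_of_pow_eq_one (show (z ^ m) ^ p ^ j = 1 by
          rw [← pow_mul, mul_comm, pow_mul, hj, one_pow])))
    obtain ⟨j, hj⟩ := hZp z
    have := orderOf_eq_one_iff.1 (Nat.eq_one_of_dvd_coprimes
      ((((Fact.out : p.Prime).coprime_iff_not_dvd).2 hm).pow_left j)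
      (orderOf_dvd_of_pow_eq_one hj) (orderOf_dvd_of_pow_eq_one hzm))
    exact congrArg Subtype.val this
  refine le_antisymm ?_ hUT
  have : Group.IsNilpotent S := hS.isNilpotent
  have hle : T' ≤ U' := CfsgLib.Fusion.Basic.le_of_le_commutator_sup fun t ht => by
    obtain ⟨k, hk, hkt⟩ := hTK ht
    exact (show k = t from Subtype.ext hkt) ▸ hk
  exact fun t ht => hle (show (⟨t, hTS ht⟩ : S) ∈ T' from ht)

end CfsgLib.Fsys
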