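import Cfsg.Agent.Lib.FusionSystem.PearlMaxClass
import Cfsg.Agent.Lib.FusionSystem.SmallEssential

/-! Small essential subgroups that are not pearls; extension along normalizer towers. -/

set_option autoImplicit false
set_option linter.unusedSectionVars false

open Cfsg Cfsg.FusionSystem
open scoped commutatorElement

namespace CfsgLib.Fsys

variable {Ω : Type*} [Group Ω] {S : Subgroup Ω} [Finite S] {F : FusionSystem S} {p : ℕ} [hp : Fact p.Prime]
  (hS : IsPGroup p S) (hF : F.IsSaturated p)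
include hS hF

/-- A small essential subgroup that is not a pearl is elementary abelian of order `p ^ 3`. -/
theorem cube_elementary (hp2 : p ≠ 2) {E : Subgroup Ω} (hE : F.IsEssential p E)
    (hsmall : Nat.card E < p ^ 4)
    (hnp : ¬ ((Nat.card E = p ^ 2 ∧ IsElementaryAbelian p E) ∨
      (Nat.card E = p ^ 3 ∧ IsExtraspecial p E ∧ Monoid.exponent E = p))) :
    Nat.card E = p ^ 3 ∧ (∀ a ∈ E, ∀ b ∈ E, a * b = b * a) ∧ ∀ a ∈ E, a ^ p = 1 := by
  haveI := finite_of_le_base hE.1.1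
  have hEp : IsPGroup p E := hS.to_le hE.1.1
  set Φ := frattini ↥E with hΦ
  have hidx : p ^ 2 ≤ Φ.index := SmallEssential.frattini_index hS hF hE
  obtain ⟨m, hm⟩ := IsPGroup.iff_card.1 hEp
  have hm3 : m ≤ 3 := by
    rw [hm] at hsmall
    have := (Nat.pow_lt_pow_iff_right hp.out.one_lt).1 hsmall
    omega
  have hmul := Subgroup.card_mul_index Φ
  have hpow : ∀ v : E, v ^ p ∈ Φ := CfsgLib.PGroup.Frattini.pow_mem_frattini hEp
  have hcomm : ∀ a b : E, ⁅a, b⁆ ∈ Φ := fun a b => CfsgLib.PGroup.Frattini.commutatorElement_mem_frattini hEp a b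
  have hbot : Φ = ⊥ → (∀ a ∈ E, ∀ b ∈ E, a * b = b * a) ∧ ∀ a ∈ E, a ^ p = 1 := by
    intro e
    refine ⟨fun a ha b hb => ?_, fun a ha => ?_⟩
    · have := hcomm ⟨a, ha⟩ ⟨b, hb⟩
      rw [e, Subgroup.mem_bot, commutatorElement_eq_one_iff_mul_comm] at this
      exact congrArg Subtype.val this
    · have := hpow ⟨a, ha⟩
      rw [e, Subgroup.mem_bot] at this
      simpa using congrArg Subtype.val this
  have hle : Φ.index ≤ Nat.card E := by
    rw [← hmul]
    exact Nat.le_mul_of_pos_left _ Nat.card_pos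
  have hm2 : 2 ≤ m := (Nat.pow_le_pow_iff_right hp.out.one_lt).1 (hidx.trans (hle.trans hm.le))
  obtain ⟨a, ha⟩ := IsPGroup.iff_card.1 (hEp.to_subgroup Φ)
  obtain ⟨b, hb⟩ := hEp.index Φ
  rw [hb] at hidx
  have hb2 : 2 ≤ b := (Nat.pow_le_pow_iff_right hp.out.one_lt).1 hidx
  rw [ha, hb, hm, ← pow_add] at hmul
  have hab : a + b = m := Nat.pow_right_injective hp.out.two_le hmul
  rcases Nat.eq_zero_or_pos a with rfl | ha0
  · have e : Φ = ⊥ := Subgroup.card_eq_one.1 (by rw [ha, pow_zero])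
    obtain ⟨h1, h2⟩ := hbot e
    rcases Nat.eq_or_lt_of_le hm3 with rfl | hlt
    · exact ⟨hm, h1, h2⟩
    · obtain rfl : m = 2 := by omega
      exact absurd (Or.inl ⟨hm, ⟨⟨fun x y => Subtype.ext (h1 x x.2 y y.2)⟩⟩, h2⟩) hnp
  · obtain rfl : a = 1 := by omega
    obtain rfl : m = 3 := by omega
    rw [pow_one] at ha
    have hmul' : ∀ u v : E, (u * v) ^ p = u ^ p * v ^ p := by
      by_cases hc : IsMulCommutative E
      · exact fun u v => (show Commute u v from hc.is_comm.comm u v).mul_pow p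
      · exact (pow_mul_of_cube hp2 hm hc).2
    let φ : E →* E := MonoidHom.mk' (fun u => u ^ p) hmul'
    have hker : p ^ 2 ≤ Nat.card φ.ker := by
      have h := Subgroup.card_eq_card_quotient_mul_card_subgroup φ.ker
      rw [hm, Nat.card_congr (QuotientGroup.quotientKerEquivRange φ).toEquiv] at h
      have h1 : Nat.card φ.range ≤ p := by
        refine le_trans (Subgroup.card_le_of_le ?_) ha.le
        rintro _ ⟨u, rfl⟩
        exact hpow u
      have h2 : p * p ^ 2 ≤ p * Nat.card φ.ker := by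
        rw [← pow_succ', h]
        exact Nat.mul_le_mul_right _ h1
      exact Nat.le_of_mul_le_mul_left h2 hp.out.pos
    by_cases htop : φ.ker = ⊤
    · have hexp : ∀ u : E, u ^ p = 1 := fun u => MonoidHom.mem_ker.1 (htop ▸ Subgroup.mem_top u : u ∈ φ.ker)
      have hexp' : ∀ x ∈ E, x ^ p = 1 := fun x hx => congrArg Subtype.val (hexp ⟨x, hx⟩)
      by_cases hc : IsMulCommutative E
      · exact ⟨hm, fun x hx y hy => congrArg Subtype.val (hc.is_comm.comm ⟨x, hx⟩ ⟨y, hy⟩), hexp'⟩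
      · refine absurd (Or.inr ⟨hm, ?_, ?_⟩) hnp
        · have hZ := card_center_le_of_cube hm hc
          have hne : commutator E ≠ ⊥ := fun e => hc ⟨⟨fun x y => by
            have := Subgroup.commutator_mem_commutator (Subgroup.mem_top x) (Subgroup.mem_top y)
            rw [← commutator_def, e, Subgroup.mem_bot] at this
            exact commutatorElement_eq_one_iff_mul_comm.1 this⟩⟩
          have hquot : Nat.card (E ⧸ Subgroup.center E) = p ^ 2 := by
            have h := Subgroup.card_eq_card_quotient_mul_card_subgroup (Subgroup.center E)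
            rw [hm, hZ, show p ^ 3 = p ^ 2 * p by ring] at h
            exact (Nat.eq_of_mul_eq_mul_right hp.out.pos h).symm
          have hle1 : commutator E ≤ Φ := by
            rw [commutator_def, Subgroup.commutator_le]
            exact fun x _ y _ => hcomm x y
          have hle2 : commutator E ≤ Subgroup.center E := by
            haveI : IsMulCommutative (E ⧸ Subgroup.center E) := IsPGroup.isMulCommutative_of_card_eq_prime_sq hquot
            rw [commutator_def, Subgroup.commutator_le]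
            intro x _ y _
            rw [← QuotientGroup.eq_one_iff, ← QuotientGroup.mk'_apply, map_commutatorElement,
              commutatorElement_eq_one_iff_mul_comm]
            exact (IsPGroup.isMulCommutative_of_card_eq_prime_sq hquot).is_comm.comm _ _
          have hc1 : p ≤ Nat.card (commutator E) := by
            obtain ⟨k, hk⟩ := IsPGroup.iff_card.1 (hEp.to_subgroup (commutator E))
            rcases Nat.eq_zero_or_pos k with rfl | hk0
            · exact absurd (Subgroup.card_eq_one.1 (by rw [hk, pow_zero])) hne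
            · rw [hk]
              exact Nat.le_self_pow (by omega) p
          have e1 := Subgroup.eq_of_le_of_card_ge hle1 (ha.le.trans hc1)
          have e2 := Subgroup.eq_of_le_of_card_ge hle2 (hZ.le.trans hc1)
          exact ⟨⟨hEp, e1.symm.trans e2, e2⟩, hZ⟩
        · refine ((Nat.dvd_prime hp.out).1 (Monoid.exponent_dvd_of_forall_pow_eq_one hexp)).resolve_left fun e => ?_
          haveI := Monoid.exp_eq_one_iff.1 e
          rw [Nat.card_of_subsingleton (1 : E)] at hm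
          exact absurd hm (Nat.one_lt_pow (by omega) hp.out.one_lt).ne
    · exfalso
      refine SmallEssential.false_of_line hS hF hE (by rw [hb]; exact Nat.pow_le_pow_right hp.out.pos (by omega))
        φ.ker (fun α _ v hv => ?_) htop fun hle => ?_
      · rw [MonoidHom.mem_ker] at hv ⊢
        show α v ^ p = 1
        rw [← map_pow, show v ^ p = 1 from hv, map_one]
      · have := hker.trans ((Subgroup.card_le_of_le hle).trans ha.le)
        have h1 : p ^ 1 < p ^ 2 := Nat.pow_lt_pow_right hp.out.one_lt (by omega)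
        rw [pow_one] at h1
        omega

/-- A map stabilized by a normalized chain extends to the normalizer. -/
theorem extend_chain {M : Subgroup Ω} (hM : F.IsFullyNormalized M) {f : Ω → Ω} (hf : Fn F M f)
    (hfM : ∀ x ∈ M, f x ∈ M) (D : ℕ → Subgroup Ω) (m : ℕ) (h0 : D 0 = M) (hm : D m = ⊥) (hle : ∀ k, D k ≤ M)
    (hinv : ∀ k, k ≤ m → ∀ x ∈ D k, f x ∈ D k)
    (hstep : ∀ y ∈ normalizerIn S M, ∀ k, k < m → ∀ x ∈ D k, x⁻¹ * (y * x * y⁻¹) ∈ D (k + 1))
    (hanti : ∀ k, k < m → D (k + 1) ≤ D k) :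
    ∃ g : Ω → Ω, Fn F (normalizerIn S M) g ∧ (∀ y ∈ normalizerIn S M, g y ∈ normalizerIn S M) ∧
      ∀ x ∈ M, g x = f x := by
  haveI := finite_of_le_base hM.1
  obtain ⟨α, hα, hαf⟩ := exists_aut_of_fn hf (hf.img_eq_self hfM)
  let St : Subgroup (MulAut M) :=
    { carrier := {a | ∀ k, k < m → ∀ x : M, (x : Ω) ∈ D k → (x : Ω)⁻¹ * (a x : Ω) ∈ D (k + 1)}
      one_mem' := fun k _ x _ => by simp
      mul_mem' := fun {a b} ha hb k hk x hx => by
        have h1 := hb k hk x hx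
        have hbx : ((b x : M) : Ω) ∈ D k := by
          have := (D k).mul_mem hx (hanti k hk h1)
          rwa [mul_inv_cancel_left] at this
        have h2 := (D (k + 1)).mul_mem h1 (ha k hk (b x) hbx)
        rwa [mul_assoc, mul_inv_cancel_left] at h2
      inv_mem' := fun {a} ha k hk x hx => by
        have hiter : ∀ j : ℕ, ∀ x : M, (x : Ω) ∈ D k → (x : Ω)⁻¹ * ((a ^ j) x : Ω) ∈ D (k + 1) := fun j => by
          induction j with
          | zero => intro x _; simp
          | succ j ih =>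
            intro x hx
            rw [pow_succ, MulAut.mul_apply]
            have h1 := ha k hk x hx
            have hax : ((a x : M) : Ω) ∈ D k := by
              have := (D k).mul_mem hx (hanti k hk h1)
              rwa [mul_inv_cancel_left] at this
            have h2 := (D (k + 1)).mul_mem h1 (ih (a x) hax)
            rwa [mul_assoc, mul_inv_cancel_left] at h2
        rw [inv_eq_of_mul_eq_one_left (by rw [← pow_succ, Nat.sub_add_cancel (orderOf_pos a), pow_orderOf_eq_one] :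
          a ^ (orderOf a - 1) * a = 1)]
        exact hiter _ x hx }
  have hMp : IsPGroup p M := hS.to_le hM.1
  have hStp : IsPGroup p St := isPGroup_of_forall_coprime fun a ha => by
    have hco : (orderOf (a : MulAut M)).Coprime p := by rwa [Subgroup.orderOf_coe]
    have hfix : ∀ j, j ≤ m → ∀ x : M, (x : Ω) ∈ D (m - j) → (a : MulAut M) x = x := by
      intro j
      induction j with
      | zero =>
        intro _ x hx
        rw [Nat.sub_zero, hm, Subgroup.mem_bot] at hx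
        rw [show x = 1 from Subtype.ext hx, map_one]
      | succ j ih =>
        intro hj x hx
        refine fixed_of_fixed_shift hMp hco (ih (by omega) _ ?_)
        have := a.2 (m - (j + 1)) (by omega) x hx
        rwa [show m - (j + 1) + 1 = m - j by omega] at this
    refine Subtype.ext (MulEquiv.ext fun x => ?_)
    exact hfix m le_rfl x (by rw [Nat.sub_self, h0]; exact x.2)
  have hStS : autInducedBy S M ≤ St := fun c hc k hk x hx => by
    obtain ⟨y, hy, hyc⟩ := mem_autInducedBy.1 hc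
    rw [hyc x]
    exact hstep y ⟨hy, mem_normalizer_of_autEq hyc⟩ k hk x hx
  obtain ⟨-, R, hR⟩ := (fullyNormalized_good hS hF hM).1
  have hP0 : IsPGroup p (St.subgroupOf (F.autGroup M)) :=
    hStp.comap_of_injective _ (Subgroup.subtype_injective _)
  have hmax : St.subgroupOf (F.autGroup M) = (R : Subgroup (F.autGroup M)) :=
    R.3 hP0 (hR.le.trans fun a ha => hStS ha)
  have hconj : ∀ c ∈ autInducedBy S M, α * c * α⁻¹ ∈ autInducedBy S M := fun c hc => by
    have hcA : α * c * α⁻¹ ∈ F.autGroup M :=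
      mul_mem (mul_mem hα (autInducedBy_le_autGroup hM.1 hc)) (inv_mem hα)
    have hmem : α * c * α⁻¹ ∈ St := fun k hk x hx => by
      haveI : Finite (D k) := finite_of_le_base ((hle k).trans hM.1)
      have hpre : ((α⁻¹ x : M) : Ω) ∈ D k := by
        let g : D k → D k := fun d => ⟨f d, hinv k hk.le d d.2⟩
        have hg : Function.Injective g := fun d e hde =>
          Subtype.ext (hf.inj (hle k d.2) (hle k e.2) (congrArg Subtype.val hde))
        obtain ⟨d, hd⟩ := Finite.surjective_of_injective hg ⟨(x : Ω), hx⟩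
        have : α⁻¹ x = ⟨d, hle k d.2⟩ := α.injective (Subtype.ext (by
          rw [MulAut.apply_inv_self, hαf]
          exact (congrArg Subtype.val hd).symm))
        rw [this]
        exact d.2
      have h1 := hStS hc k hk (α⁻¹ x) hpre
      have h2 := hinv (k + 1) hk _ h1
      have e : ((α * c * α⁻¹) x : M) = α (c (α⁻¹ x)) := rfl
      rw [hf.map_mul (M.inv_mem (α⁻¹ x).2) (c (α⁻¹ x)).2, hf.map_inv (α⁻¹ x).2, ← hαf, ← hαf,
        MulAut.apply_inv_self] at h2
      exact h2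
    have : (⟨_, hcA⟩ : F.autGroup M) ∈ St.subgroupOf (F.autGroup M) := hmem
    rw [hmax, hR] at this
    exact this
  obtain ⟨N, g, hg, hMN, hN, hge⟩ :=
    receptive_extend (fullyNormalized_receptive hS hF hM) hf (hf.img_eq_self hfM)
  have hle' : normalizerIn S M ≤ N := fun y hy => by
    refine (hN y).2 ⟨hy.1, hy.2, ?_⟩
    obtain ⟨h, hh, he⟩ := mem_autInducedBy.1 (hconj _ (conjAut_mem_autInducedBy hy.2 hy.1))
    refine ⟨h, hh, fun x hx => ?_⟩
    have := he (α ⟨x, hx⟩)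
    rw [MulAut.mul_apply, MulAut.mul_apply, MulAut.inv_apply_self, hαf, hαf, conjAut_coe] at this
    exact this
  exact ⟨g, hg.mono hle', fun y hy => hg.map_normalizer hMN
    ((img_congr hge).trans (hf.img_eq_self hfM)) (hle' hy) hy.2, hge⟩

omit hF hS in
/-- Lines through the core: a map cannot move a normal subgroup onto a non-normal fully normalized one. -/
theorem map_mem_of_line {M A B D : Subgroup Ω} (hMS : M ≤ S) (hA : F.IsFullyNormalized A)
    (hAlt : Nat.card (normalizerIn S A) < Nat.card S) (hBn : ∀ s ∈ S, ∀ b ∈ B, s * b * s⁻¹ ∈ B)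
    (hBM : B ≤ M) (hDA : D ≤ A) (hDB : D ≤ B) (hcard : Nat.card B ≤ Nat.card A)
    (hDn : ∀ x ∈ M, ∀ d ∈ D, x * d * x⁻¹ ∈ D) {a y : Ω} (ha : a ∈ A) (haM : a ∈ M) (hap : a ^ p = 1)
    (hM : M ≤ Subgroup.zpowers a ⊔ B) (hy : y ∈ S)
    (hyD : ∀ d ∈ D, y * d * y⁻¹ ∈ D) (hb0 : ⁅y, a⁆ ∈ B) (hB : B ≤ Subgroup.zpowers ⁅y, a⁆ ⊔ D)
    (hyB : ∀ b ∈ B, ⁅y, b⁆ ∈ D) (hab : ∀ b ∈ B, ⁅a, b⁆ ∈ D) (hA' : A ≤ Subgroup.zpowers a ⊔ D)
    {f : Ω → Ω} (hf : Fn F M f) (hfM : ∀ x ∈ M, f x ∈ M) (hfD : ∀ d ∈ D, f d ∈ D) :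
    ∀ b ∈ B, f b ∈ B := by
  by_contra hne
  push Not at hne
  obtain ⟨b₁, hb₁, hb₁'⟩ := hne
  haveI := finite_of_le_base hMS
  have hBS : B ≤ S := hBM.trans hMS
  haveI := finite_of_le_base (hDB.trans hBS)
  have hfD' : img f D = D := (hf.mono (hDB.trans hBM)).img_eq_self hfD
  set X := img f B with hX
  have hXM : X ≤ M := img_le fun b hb => hfM b (hBM hb)
  have hDX : D ≤ X := hfD'.ge.trans (img_mono hDB)
  let D' := D.subgroupOf M
  haveI : D'.Normal := ⟨fun d hd x => hDn x x.2 d hd⟩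
  let π := QuotientGroup.mk' D'
  have haab : ∀ b (hb : b ∈ B), π ⟨b, hBM hb⟩ * π ⟨a, haM⟩ = π ⟨a, haM⟩ * π ⟨b, hBM hb⟩ := fun b hb => by
    symm
    rw [← commutatorElement_eq_one_iff_mul_comm, ← map_commutatorElement, QuotientGroup.mk'_apply,
      QuotientGroup.eq_one_iff]
    exact hab b hb
  -- a point of the image off `B`
  have hxM := hfM b₁ (hBM hb₁)
  let K : Subgroup M :=
    { carrier := {x | ∃ (k : ℤ) (b : Ω) (hb : b ∈ B), π x = π ⟨a, haM⟩ ^ k * π ⟨b, hBM hb⟩}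
      one_mem' := ⟨0, 1, B.one_mem, by rw [map_one, zpow_zero, one_mul]; exact (map_one π).symm⟩
      mul_mem' := by
        rintro x x' ⟨k, b, hb, e⟩ ⟨k', b', hb', e'⟩
        refine ⟨k + k', b * b', B.mul_mem hb hb', ?_⟩
        rw [map_mul, e, e', show (⟨b * b', hBM (B.mul_mem hb hb')⟩ : M) = ⟨b, hBM hb⟩ * ⟨b', hBM hb'⟩ from rfl,
          map_mul, zpow_add]
        simp only [mul_assoc]
        congr 1
        rw [← mul_assoc, ((show Commute (π ⟨b, hBM hb⟩) (π ⟨a, haM⟩) from haab b hb).zpow_right k').eq, mul_assoc]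
      inv_mem' := by
        rintro x ⟨k, b, hb, e⟩
        refine ⟨-k, b⁻¹, B.inv_mem hb, ?_⟩
        rw [map_inv, e, mul_inv_rev, zpow_neg, show (⟨b⁻¹, hBM (B.inv_mem hb)⟩ : M) = (⟨b, hBM hb⟩ : M)⁻¹ from rfl,
          map_inv]
        exact (((show Commute (π ⟨b, hBM hb⟩) (π ⟨a, haM⟩) from haab b hb).zpow_right k).inv_inv).eq }
  have hK : ∀ (x : Ω) (hx : x ∈ M), (⟨x, hx⟩ : M) ∈ K := by
    intro x hx
    have hle : Subgroup.zpowers a ⊔ B ≤ K.map M.subtype := sup_le
      (Subgroup.zpowers_le.2 ⟨⟨a, haM⟩, ⟨1, 1, B.one_mem,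
        by rw [show (⟨1, hBM B.one_mem⟩ : M) = 1 from rfl, map_one, mul_one, zpow_one]⟩, rfl⟩)
      fun b hb => ⟨⟨b, hBM hb⟩, ⟨0, b, hb, by rw [zpow_zero, one_mul]⟩, rfl⟩
    obtain ⟨z, hz, hze⟩ := hle (hM hx)
    rwa [show (⟨x, hx⟩ : M) = z from Subtype.ext hze.symm]
  obtain ⟨k, b, hb, hke⟩ := hK _ hxM
  have hk : ¬ (p : ℤ) ∣ k := by
    rintro ⟨c, rfl⟩
    refine hb₁' ?_
    rw [zpow_mul, zpow_natCast, ← map_pow, show (⟨a, haM⟩ : M) ^ p = 1 from Subtype.ext hap, map_one, one_zpow,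
      one_mul] at hke
    have h0 : (⟨b, hBM hb⟩ : M)⁻¹ * ⟨f b₁, hxM⟩ ∈ D' := QuotientGroup.eq.1 hke.symm
    have h1 := B.mul_mem hb (hDB (Subgroup.mem_subgroupOf.1 h0))
    simp only [Subgroup.coe_mul, Subgroup.coe_inv, mul_inv_cancel_left] at h1
    exact h1
  have hpi : Int.gcd k (p : ℤ) = 1 := by
    rw [Int.gcd_comm]
    exact hp.out.coprime_iff_not_dvd.2 fun hd => hk (Int.natCast_dvd.2 hd)
  obtain ⟨c, e, hce⟩ := Int.isCoprime_iff_gcd_eq_one.2 hpi
  have hpack : π (⟨f b₁, hxM⟩ ^ c) = π ⟨a, haM⟩ * π ⟨b, hBM hb⟩ ^ c := by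
    rw [map_zpow, hke, ((show Commute (π ⟨b, hBM hb⟩) (π ⟨a, haM⟩) from haab b hb).zpow_right k).symm.mul_zpow,
      ← zpow_mul]
    congr 1
    have hap' : π ⟨a, haM⟩ ^ (p : ℤ) = 1 := by
      rw [zpow_natCast, ← map_pow, show (⟨a, haM⟩ : M) ^ p = 1 from Subtype.ext hap, map_one]
    conv_rhs => rw [← zpow_one (π ⟨a, haM⟩), ← hce, zpow_add, mul_comm e, zpow_mul _ (p : ℤ), hap', one_zpow, mul_one, mul_comm c]
  have hb0M : ⁅y, a⁆ ∈ M := hBM hb0
  let J : Subgroup M :=
    { carrier := {x | ∃ j : ℤ, π x = π ⟨⁅y, a⁆, hb0M⟩ ^ j}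
      one_mem' := ⟨0, by simp⟩
      mul_mem' := by rintro x x' ⟨j, e⟩ ⟨j', e'⟩; exact ⟨j + j', by rw [map_mul, e, e', zpow_add]⟩
      inv_mem' := by rintro x ⟨j, e⟩; exact ⟨-j, by rw [map_inv, e, zpow_neg]⟩ }
  have hJ : ∀ (x : Ω) (hx : x ∈ B), (⟨x, hBM hx⟩ : M) ∈ J := by
    intro x hx
    have hle : Subgroup.zpowers ⁅y, a⁆ ⊔ D ≤ J.map M.subtype := sup_le
      (Subgroup.zpowers_le.2 ⟨⟨_, hb0M⟩, ⟨1, (zpow_one _).symm⟩, rfl⟩)
      fun d hd => ⟨⟨d, hBM (hDB hd)⟩, ⟨0, by rw [zpow_zero]; exact (QuotientGroup.eq_one_iff _).2 hd⟩, rfl⟩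
    obtain ⟨z, hz, hze⟩ := hle (hB hx)
    rwa [show (⟨x, hBM hx⟩ : M) = z from Subtype.ext hze.symm]
  obtain ⟨j, hj⟩ := hJ (b ^ c) (B.zpow_mem hb c)
  obtain ⟨m, hmj⟩ : ∃ m : ℕ, π ⟨⁅y, a⁆, hb0M⟩ ^ j = π ⟨⁅y, a⁆, hb0M⟩ ^ m := by
    obtain ⟨m, hm⟩ := mem_powers_iff_mem_zpowers.2 (Subgroup.zpow_mem _ (Subgroup.mem_zpowers (π ⟨⁅y, a⁆, hb0M⟩)) j)
    exact ⟨m, hm.symm⟩
  have horb : ∀ r : ℕ, ∃ hr : y ^ r * a * (y ^ r)⁻¹ ∈ M,
      π ⟨_, hr⟩ = π ⟨a, haM⟩ * π ⟨⁅y, a⁆, hb0M⟩ ^ r := by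
    intro r
    induction r with
    | zero => exact ⟨by simpa using haM, by simp⟩
    | succ r ih =>
      obtain ⟨hr, he⟩ := ih
      have hd : ((⟨a, haM⟩ : M) * ⟨⁅y, a⁆, hb0M⟩ ^ r)⁻¹ * ⟨_, hr⟩ ∈ D' := by
        refine QuotientGroup.eq.1 ?_
        show π _ = π _
        rw [map_mul, map_pow, he]
      set d := ((a * ⁅y, a⁆ ^ r)⁻¹ * (y ^ r * a * (y ^ r)⁻¹)) with hdd
      have hd' : d ∈ D := by
        have := hd
        rw [Subgroup.mem_subgroupOf] at this
        simpa [hdd] using this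
      have e1 : y ^ (r + 1) * a * (y ^ (r + 1))⁻¹ =
          ⁅y, a⁆ * a * (⁅y, ⁅y, a⁆⁆ * ⁅y, a⁆) ^ r * (y * d * y⁻¹) := by
        rw [show ⁅y, a⁆ * a = y * a * y⁻¹ by simp [commutatorElement_def],
          show ⁅y, ⁅y, a⁆⁆ * ⁅y, a⁆ = y * ⁅y, a⁆ * y⁻¹ by simp [commutatorElement_def, mul_assoc],
          conj_pow, hdd, pow_succ']
        group
      have hy1 : ⁅y, ⁅y, a⁆⁆ ∈ D := hyB _ hb0
      let c0 : M := ⟨⁅y, a⁆, hb0M⟩
      let c1 : M := ⟨⁅y, ⁅y, a⁆⁆, hBM (hDB hy1)⟩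
      let d1 : M := ⟨y * d * y⁻¹, hBM (hDB (hyD d hd'))⟩
      have hr' : y ^ (r + 1) * a * (y ^ (r + 1))⁻¹ ∈ M := by
        rw [e1]
        exact M.mul_mem (M.mul_mem (M.mul_mem hb0M haM) (M.pow_mem (M.mul_mem c1.2 hb0M) r)) d1.2
      refine ⟨hr', ?_⟩
      have e2 : (⟨_, hr'⟩ : M) = c0 * ⟨a, haM⟩ * (c1 * c0) ^ r * d1 :=
        Subtype.ext (e1.trans (by simp [c0, c1, d1]))
      rw [e2, map_mul, map_mul, map_mul, map_pow, map_mul, show π c1 = 1 from (QuotientGroup.eq_one_iff _).2 hy1,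
        show π d1 = 1 from (QuotientGroup.eq_one_iff _).2 (hyD d hd'), one_mul, mul_one, haab _ hb0, pow_succ',
        mul_assoc]
  obtain ⟨hr, horb⟩ := horb m
  have hcA : img (fun x => y ^ m * x * (y ^ m)⁻¹) A ≤ X := by
    refine img_le fun x hx => ?_
    have hle : Subgroup.zpowers a ⊔ D ≤ X.comap (MulAut.conj (y ^ m)).toMonoidHom := by
      refine sup_le (Subgroup.zpowers_le.2 ?_) fun d hd => ?_
      · have hxc : (f b₁) ^ c ∈ X := X.zpow_mem (mem_img_of_mem hb₁) c
        have he : π (⟨f b₁, hxM⟩ ^ c) = π ⟨_, hr⟩ := by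
          rw [hpack, horb, ← hmj, ← hj, ← map_zpow]
          rfl
        have h0 : ((⟨f b₁, hxM⟩ : M) ^ c)⁻¹ * ⟨_, hr⟩ ∈ D' := QuotientGroup.eq.1 he
        have := X.mul_mem hxc (hDX (Subgroup.mem_subgroupOf.1 h0))
        simp only [Subgroup.coe_mul, Subgroup.coe_inv, SubgroupClass.coe_zpow, mul_inv_cancel_left] at this
        exact this
      · have hpd : ∀ r : ℕ, y ^ r * d * (y ^ r)⁻¹ ∈ D := fun r => by
          induction r with
          | zero => simpa using hd
          | succ r ih =>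
            rw [show y ^ (r + 1) * d * (y ^ (r + 1))⁻¹ = y * (y ^ r * d * (y ^ r)⁻¹) * y⁻¹ by rw [pow_succ']; group]
            exact hyD _ ih
        exact hDX (hpd m)
    exact hle (hA' hx)
  have hc := fn_conj (F := F) hA.1 (S.pow_mem hy m)
  have heq : img (fun x => y ^ m * x * (y ^ m)⁻¹) A = X :=
    eq_of_le_of_card (hXM.trans hMS) hcA (by
      rw [(hf.mono hBM).card_img, hc.card_img]
      exact hcard)
  have hconj : F.IsConj A B :=
    isConj_trans (by have := isConj_of_fn hc; rw [heq] at this; exact this) (isConj_symm (isConj_of_fn (hf.mono hBM)))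
  have h1 := hA.2 B hconj
  haveI := finite_of_le_base hBS
  have htop : normalizerIn S B = S := le_antisymm normalizerIn_le fun s hs =>
    ⟨hs, mem_normalizer_of_map_le (hBn s hs)⟩
  rw [htop] at h1
  exact absurd h1 hAlt.not_ge

end CfsgLib.Fsys
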