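import Cfsg.Agent.Lib.FusionSystem.Group
import Cfsg.Agent.Lib.FusionSystem.Normal
import Cfsg.Prelude.Def_FusionComponents
import Cfsg.Agent.Lib.Fusion.Basic
/-
Morphisms of fusion systems, factor systems modulo strongly closed subgroups, hyperfocal subgroups of factor systems.
-/
set_option autoImplicit false

namespace CfsgLib.Fsys

open Cfsg
open Cfsg.FusionSystem (centralizerIn normalizerIn extender imageAlong preimageAlong InducedAlong)
open scoped Pointwise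

variable {Ω : Type*} [Group Ω] {S : Subgroup Ω} {F : FusionSystem S} {P Q R : Subgroup Ω}
variable {Ω' : Type*} [Group Ω'] {S' : Subgroup Ω'} {F' : FusionSystem S'} {α : S →* Ω'}
variable {P' : Subgroup Ω'} {S₀ : Subgroup Ω}

/-! ### Homomorphisms out of `S` as functions -/

/-- The function on `Ω` underlying a homomorphism out of `S`. -/
noncomputable def th (α : S →* Ω') : Ω → Ω' := fun x =>
  letI := Classical.propDecidable (x ∈ S)
  if h : x ∈ S then α ⟨x, h⟩ else 1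

theorem th_apply {x : Ω} (h : x ∈ S) : th α x = α ⟨x, h⟩ := by rw [th, dif_pos h]

@[simp] theorem th_coe (x : S) : th α (x : Ω) = α x := th_apply x.2

theorem th_mul {x y : Ω} (hx : x ∈ S) (hy : y ∈ S) : th α (x * y) = th α x * th α y := by
  rw [th_apply hx, th_apply hy, th_apply (S.mul_mem hx hy)]
  exact α.map_mul ⟨x, hx⟩ ⟨y, hy⟩

theorem th_one : th α 1 = 1 := (th_apply S.one_mem).trans α.map_one

theorem th_inv {x : Ω} (hx : x ∈ S) : th α x⁻¹ = (th α x)⁻¹ := by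
  rw [th_apply hx, th_apply (S.inv_mem hx)]
  exact α.map_inv ⟨x, hx⟩

theorem th_conj {g x : Ω} (hg : g ∈ S) (hx : x ∈ S) :
    th α (g * x * g⁻¹) = th α g * th α x * (th α g)⁻¹ := by
  rw [th_mul (S.mul_mem hg hx) (S.inv_mem hg), th_mul hg hx, th_inv hg]

theorem th_eq_iff {x y : Ω} (hx : x ∈ S) (hy : y ∈ S) :
    th α x = th α y ↔ th α (x * y⁻¹) = 1 := by
  rw [th_mul hx (S.inv_mem hy), th_inv hy, mul_inv_eq_one]

theorem mem_imageAlong {y : Ω'} : y ∈ imageAlong α P ↔ ∃ x ∈ P, x ∈ S ∧ th α x = y := by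
  constructor
  · rintro ⟨x, hx, rfl⟩
    exact ⟨x, hx, x.2, th_coe x⟩
  · rintro ⟨x, hx, hxS, rfl⟩
    exact ⟨⟨x, hxS⟩, hx, (th_apply hxS).symm⟩

theorem th_mem_imageAlong {x : Ω} (hx : x ∈ P) (hxS : x ∈ S) : th α x ∈ imageAlong α P :=
  mem_imageAlong.2 ⟨x, hx, hxS, rfl⟩

theorem mem_preimageAlong {x : Ω} : x ∈ preimageAlong α P' ↔ x ∈ S ∧ th α x ∈ P' := by
  constructor
  · rintro ⟨s, hs, rfl⟩
    exact ⟨s.2, (th_coe (α := α) s).symm ▸ hs⟩
  · rintro ⟨hx, h⟩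
    exact ⟨⟨x, hx⟩, show α ⟨x, hx⟩ ∈ P' from (th_apply (α := α) hx) ▸ h, rfl⟩

theorem preimageAlong_le : preimageAlong α P' ≤ S := fun _ h => (mem_preimageAlong.1 h).1

theorem le_preimageAlong (hP : P ≤ S) : P ≤ preimageAlong α (imageAlong α P) := fun _ hx =>
  mem_preimageAlong.2 ⟨hP hx, th_mem_imageAlong hx (hP hx)⟩

theorem th_mem_range {x : Ω} (hx : x ∈ S) : th α x ∈ α.range := ⟨⟨x, hx⟩, (th_apply hx).symm⟩

theorem imageAlong_preimageAlong (h : P' ≤ α.range) : imageAlong α (preimageAlong α P') = P' := by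
  ext y
  rw [mem_imageAlong]
  constructor
  · rintro ⟨x, hx, -, rfl⟩
    exact (mem_preimageAlong.1 hx).2
  · intro hy
    obtain ⟨s, rfl⟩ := h hy
    exact ⟨s, mem_preimageAlong.2 ⟨s.2, (th_coe (α := α) s).symm ▸ hy⟩, s.2, th_coe s⟩

theorem inducedAlong_iff {φ : P →* Ω} {φ' : P' →* Ω'} {f : Ω → Ω} {f' : Ω' → Ω'}
    (hf : ∀ x : P, φ x = f x) (hf' : ∀ y : P', φ' y = f' y) :
    InducedAlong α φ φ' ↔ P ≤ S ∧ (∀ x ∈ P, f x ∈ S) ∧ (∀ x ∈ P, th α x ∈ P') ∧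
      ∀ x ∈ P, f' (th α x) = th α (f x) := by
  constructor
  · rintro ⟨hP, hφ, hP', h⟩
    refine ⟨hP, fun x hx => hf ⟨x, hx⟩ ▸ hφ ⟨x, hx⟩, fun x hx => (th_apply (α := α) (hP hx)).symm ▸ hP' ⟨x, hx⟩,
      fun x hx => ?_⟩
    rw [th_apply (hP hx), ← hf ⟨x, hx⟩, th_apply (hφ ⟨x, hx⟩)]
    exact (hf' _).symm.trans (h ⟨x, hx⟩)
  · rintro ⟨hP, hφ, hP', h⟩
    refine ⟨hP, fun x => (hf x).symm ▸ hφ x x.2, fun x => th_apply (α := α) (hP x.2) ▸ hP' x x.2,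
      fun x => ?_⟩
    rw [hf']
    refine Eq.trans ?_ ((h x x.2).trans ?_)
    · rw [th_apply (hP x.2)]
    · rw [th_apply (hφ x x.2)]
      simp only [hf]

/-- `f` induces a homomorphism on the image when it preserves the kernel. -/
theorem exists_inducedHom {f : Ω → Ω} (hf : Fn F P f)
    (hk : ∀ x ∈ P, th α x = 1 → th α (f x) = 1) :
    ∃ φ' : imageAlong α P →* Ω', ∀ x ∈ P, ofHom φ' (th α x) = th α (f x) := by
  have hwd : ∀ x ∈ P, ∀ z ∈ P, th α x = th α z → th α (f x) = th α (f z) := fun x hx z hz e => by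
    rw [th_eq_iff (hf.mem hx) (hf.mem hz), ← hf.map_inv hz, ← hf.map_mul hx (P.inv_mem hz)]
    exact hk _ (P.mul_mem hx (P.inv_mem hz)) ((th_eq_iff (hf.le hx) (hf.le hz)).1 e)
  choose r hr hrS hre using fun y : imageAlong α P => mem_imageAlong.1 y.2
  refine ⟨MonoidHom.mk' (fun y => th α (f (r y))) fun a b => ?_, fun x hx => ?_⟩
  · rw [← th_mul (hf.mem (hr a)) (hf.mem (hr b)), ← hf.map_mul (hr a) (hr b)]
    refine hwd _ (hr _) _ (P.mul_mem (hr a) (hr b)) ?_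
    rw [hre, th_mul (hrS a) (hrS b), hre, hre]
    rfl
  · rw [ofHom_apply _ (th_mem_imageAlong hx (hf.le hx))]
    exact hwd _ (hr _) _ hx (hre _)

/-! ### Morphisms -/

theorem morphism_fn (h : F.IsMorphism F' α) {f : Ω → Ω} (hf : Fn F P f) :
    ∃ f' : Ω' → Ω', Fn F' (imageAlong α P) f' ∧ ∀ x ∈ P, f' (th α x) = th α (f x) := by
  obtain ⟨φ, hφ, hφf⟩ := hf
  obtain ⟨φ', hφ', hind⟩ := h.2 P φ hφ
  exact ⟨_, fn_ofHom hφ',
    ((inducedAlong_iff hφf (fun y => (ofHom_coe φ' y).symm)).1 hind).2.2.2⟩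

theorem surjective_fn (h : F.IsSurjectiveMorphism F' α) {f' : Ω' → Ω'} (hf : Fn F' P' f') :
    ∃ f : Ω → Ω, Fn F (preimageAlong α P') f ∧ ∀ x ∈ preimageAlong α P', f' (th α x) = th α (f x) := by
  obtain ⟨φ', hφ', hφf'⟩ := id hf
  obtain ⟨φ, hφ, hind⟩ := h.2.2 P' hf.le φ' hφ'
  exact ⟨_, fn_ofHom hφ, ((inducedAlong_iff (fun x => (ofHom_coe φ x).symm) hφf').1 hind).2.2.2⟩

theorem mem_ker_map {x : Ω} : x ∈ α.ker.map S.subtype ↔ x ∈ S ∧ th α x = 1 := by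
  constructor
  · rintro ⟨s, hs, rfl⟩
    exact ⟨s.2, (th_coe s).trans hs⟩
  · rintro ⟨hx, h⟩
    exact ⟨⟨x, hx⟩, (th_apply hx).symm.trans h, rfl⟩

theorem morphism_kernel_stronglyClosed (h : F.IsMorphism F' α) :
    F.StronglyClosed (α.ker.map S.subtype) := by
  refine stronglyClosed_iff_fn.2 ⟨fun x hx => (mem_ker_map.1 hx).1, fun P f hf x hx hxk => ?_⟩
  obtain ⟨f', hf', he⟩ := morphism_fn h hf
  refine mem_ker_map.2 ⟨hf.mem hx, ?_⟩
  rw [← he x hx, (mem_ker_map.1 hxk).2, hf'.map_one]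

/-- The homomorphism `Aut_F(P) → Aut_{F'}(α P)`. -/
theorem exists_autHom [Finite S'] (h : F.IsMorphism F' α) (hP : P ≤ S)
    (hP' : imageAlong α P = P') :
    ∃ Φ : F.autGroup P →* F'.autGroup P',
      ∀ (a : F.autGroup P), ∀ x ∈ P, autFn (Φ a : MulAut P') (th α x) = th α (autFn (a : MulAut P) x) := by
  subst hP'
  have hex : ∀ a : F.autGroup P, ∃ b : F'.autGroup (imageAlong α P),
      ∀ x ∈ P, autFn (b : MulAut (imageAlong α P)) (th α x) = th α (autFn (a : MulAut P) x) := by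
    intro a
    obtain ⟨f', hf', he⟩ := morphism_fn h ((mem_autGroup_iff_fn hP).1 a.2)
    have hm : ∀ y ∈ imageAlong α P, f' y ∈ imageAlong α P := fun y hy => by
      obtain ⟨x, hx, -, rfl⟩ := mem_imageAlong.1 hy
      rw [he x hx]
      exact th_mem_imageAlong (autFn_mem _ hx) (hP (autFn_mem _ hx))
    obtain ⟨b, hb, hbf⟩ := exists_aut_of_fn hf' (hf'.img_eq_self hm)
    refine ⟨⟨b, hb⟩, fun x hx => ?_⟩
    rw [← he x hx, ← hbf ⟨th α x, th_mem_imageAlong hx (hP hx)⟩]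
    exact autFn_coe b ⟨th α x, th_mem_imageAlong hx (hP hx)⟩
  choose Φ hΦ using hex
  refine ⟨MonoidHom.mk' Φ fun a b => Subtype.ext (mulAut_ext fun y hy => ?_), hΦ⟩
  obtain ⟨x, hx, -, rfl⟩ := mem_imageAlong.1 hy
  rw [hΦ _ x hx, Subgroup.coe_mul, Subgroup.coe_mul, autFn_mul _ _ hy, autFn_mul _ _ hx, hΦ b x hx,
    hΦ a _ (autFn_mem _ hx)]

/-! ### Factor systems -/

section Factor

variable {θ : S →* Ω'} {E : FusionSystem S'}

theorem factor_le (hE : F.IsFactorSystem S₀ θ E) : S₀ ≤ S := hE.1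

theorem factor_range (hE : F.IsFactorSystem S₀ θ E) : θ.range = S' := hE.2.2.1

theorem factor_ker (hE : F.IsFactorSystem S₀ θ E) {x : Ω} (hx : x ∈ S) :
    th θ x = 1 ↔ x ∈ S₀ := by
  rw [th_apply hx]
  exact hE.2.1 ⟨x, hx⟩

theorem factor_ker_map (hE : F.IsFactorSystem S₀ θ E) : θ.ker.map S.subtype = S₀ := by
  ext x
  rw [mem_ker_map]
  exact ⟨fun h => (factor_ker hE h.1).1 h.2, fun h => ⟨hE.1 h, (factor_ker hE (hE.1 h)).2 h⟩⟩

variable (hS₀ : F.StronglyClosed S₀)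
include hS₀

theorem sc_th_one (hker : ∀ x ∈ S, th θ x = 1 ↔ x ∈ S₀) {f : Ω → Ω} (hf : Fn F P f) {x : Ω}
    (hx : x ∈ P) (h : th θ x = 1) : th θ (f x) = 1 :=
  (hker _ (hf.mem hx)).2 ((stronglyClosed_iff_fn.1 hS₀).2 _ _ hf x hx ((hker _ (hf.le hx)).1 h))

theorem factor_fn (hE : F.IsFactorSystem S₀ θ E) {f' : Ω' → Ω'} :
    Fn E P' f' ↔ P' ≤ S' ∧ ∃ f : Ω → Ω, Fn F (preimageAlong θ P') f ∧
      ∀ x ∈ preimageAlong θ P', f' (th θ x) = th θ (f x) := by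
  constructor
  · rintro ⟨φ', hφ', hf'⟩
    obtain ⟨hP', φ, hφ, hind⟩ := (hE.2.2.2 P' φ').1 hφ'
    exact ⟨hP', _, fn_ofHom hφ, ((inducedAlong_iff (fun x => (ofHom_coe φ x).symm) hf').1 hind).2.2.2⟩
  · rintro ⟨hP', f, hf, he⟩
    have hr : P' ≤ θ.range := (factor_range hE).symm ▸ hP'
    obtain ⟨φ', hφ'⟩ := exists_inducedHom hf fun x hx h => sc_th_one hS₀ (fun _ => factor_ker hE) hf hx h
    have e := imageAlong_preimageAlong (α := θ) hr
    let ψ : P' →* Ω' := φ'.comp (MulEquiv.subgroupCongr e.symm).toMonoidHom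
    have hψ : ∀ y : P', ψ y = f' y := fun y => by
      obtain ⟨x, hx, hxS, hxy⟩ := mem_imageAlong.1 (e.ge y.2)
      rw [← hxy, he x hx, ← hφ' x hx, hxy]
      exact (ofHom_apply φ' (e.ge y.2)).symm
    obtain ⟨φ, hφ, hφf⟩ := id hf
    refine ⟨ψ, (hE.2.2.2 P' ψ).2 ⟨hP', φ, hφ, (inducedAlong_iff hφf hψ).2 ⟨hf.le, fun x hx => hf.mem hx,
      fun x hx => (mem_preimageAlong.1 hx).2, he⟩⟩, hψ⟩

end Factor

section Finite

variable [Finite S]

theorem sc_img (h : F.StronglyClosed Q) {f : Ω → Ω} (hQ : Q ≤ P) (hf : Fn F P f) : img f Q = Q :=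
  weaklyClosed_img (weaklyClosed_of_stronglyClosed h) hQ hf

/-- The factor system modulo a strongly closed subgroup. -/
theorem exists_factorSystem (hS₀ : F.StronglyClosed S₀) (θ : S →* Ω')
    (hk : ∀ s : S, θ s = 1 ↔ (s : Ω) ∈ S₀) (hr : θ.range = S') :
    ∃ E : FusionSystem S', F.IsFactorSystem S₀ θ E := by
  subst hr
  have hker : ∀ x ∈ S, th θ x = 1 ↔ x ∈ S₀ := fun x hx => by
    rw [th_apply hx]
    exact hk ⟨x, hx⟩
  have hpre : ∀ {P' : Subgroup Ω'}, S₀ ≤ preimageAlong θ P' := fun {P'} x hx =>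
    mem_preimageAlong.2 ⟨hS₀.1 hx, ((hker x (hS₀.1 hx)).2 hx).symm ▸ P'.one_mem⟩
  have hinv : ∀ {P' : Subgroup Ω'} {f : Ω → Ω}, Fn F (preimageAlong θ P') f →
      ∀ x ∈ preimageAlong θ P', th θ (f x) = 1 → th θ x = 1 := by
    intro P' f hf x hx h
    have h' := (hker _ (hf.mem hx)).1 h
    rw [← sc_img hS₀ hpre hf] at h'
    exact (hker _ (hf.le hx)).2 ((hf.map_mem_iff hpre hx).1 h')
  let H : ∀ P' : Subgroup Ω', Set (P' →* Ω') := fun P' =>
    {φ' | P' ≤ θ.range ∧ ∃ φ ∈ F.Hom (preimageAlong θ P'), InducedAlong θ φ φ'}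
  have hfn : ∀ {P' : Subgroup Ω'} {φ' : P' →* Ω'}, φ' ∈ H P' ↔ P' ≤ θ.range ∧
      ∃ f : Ω → Ω, Fn F (preimageAlong θ P') f ∧
        ∀ x ∈ preimageAlong θ P', ofHom φ' (th θ x) = th θ (f x) := by
    intro P' φ'
    refine and_congr_right fun hP' => ⟨fun ⟨φ, hφ, hind⟩ => ?_, fun ⟨f, hf, he⟩ => ?_⟩
    · exact ⟨_, fn_ofHom hφ, ((inducedAlong_iff (fun x => (ofHom_coe φ x).symm)
        (fun y => (ofHom_coe φ' y).symm)).1 hind).2.2.2⟩
    · obtain ⟨φ, hφ, hφf⟩ := id hf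
      exact ⟨φ, hφ, (inducedAlong_iff hφf (fun y => (ofHom_coe φ' y).symm)).2 ⟨hf.le,
        fun x hx => hf.mem hx, fun x hx => (mem_preimageAlong.1 hx).2, he⟩⟩
  have hrep : ∀ {P' : Subgroup Ω'}, P' ≤ θ.range → ∀ y ∈ P', ∃ x ∈ preimageAlong θ P', th θ x = y := by
    intro P' hP' y hy
    obtain ⟨s, rfl⟩ := hP' hy
    exact ⟨s, mem_preimageAlong.2 ⟨s.2, (th_coe (α := θ) s).symm ▸ hy⟩, th_coe s⟩
  refine ⟨⟨H, ?_, ?_, ?_, ?_, ?_⟩, hS₀.1, hk, rfl, fun P' φ' => Iff.rfl⟩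
  · intro P' φ' h
    obtain ⟨hP', f, hf, he⟩ := hfn.1 h
    refine ⟨hP', fun y => ?_⟩
    obtain ⟨x, hx, hxy⟩ := hrep hP' y y.2
    rw [← ofHom_coe φ' y, ← hxy, he x hx]
    exact th_mem_range (hf.mem hx)
  · intro P' φ' h
    obtain ⟨hP', f, hf, he⟩ := hfn.1 h
    refine (injective_iff_map_eq_one φ').2 fun y hy => Subtype.ext ?_
    obtain ⟨x, hx, hxy⟩ := hrep hP' y y.2
    rw [← ofHom_coe φ' y, ← hxy, he x hx] at hy
    exact hxy.symm.trans (hinv hf x hx hy)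
  · intro P' g hP' hg
    obtain ⟨s, rfl⟩ := hg
    refine hfn.2 ⟨hP', _, fn_conj preimageAlong_le s.2, fun x hx => ?_⟩
    rw [th_conj s.2 (preimageAlong_le hx), th_coe, ofHom_apply _ (mem_preimageAlong.1 hx).2]
    rfl
  · intro P' Q' φ' ψ' hφ hψ hm
    obtain ⟨hP', f, hf, he⟩ := hfn.1 hφ
    obtain ⟨hQ', g, hg, hge⟩ := hfn.1 hψ
    have hfm : ∀ x ∈ preimageAlong θ P', f x ∈ preimageAlong θ Q' := fun x hx => by
      refine mem_preimageAlong.2 ⟨hf.mem hx, ?_⟩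
      rw [← he x hx, ofHom_apply φ' (mem_preimageAlong.1 hx).2]
      exact hm _
    refine hfn.2 ⟨hP', g ∘ f, hf.comp hg hfm, fun x hx => ?_⟩
    have hx' := (mem_preimageAlong.1 hx).2
    rw [ofHom_apply _ hx']
    show ψ' ⟨φ' ⟨th θ x, hx'⟩, hm _⟩ = th θ (g (f x))
    rw [← hge _ (hfm x hx), ← ofHom_coe ψ']
    exact congrArg (ofHom ψ') ((ofHom_apply φ' hx').symm.trans (he x hx))
  · intro P' φ' h
    obtain ⟨hP', f, hf, he⟩ := hfn.1 h
    have hR : φ'.range ≤ θ.range := by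
      rintro _ ⟨y, rfl⟩
      obtain ⟨x, hx, hxy⟩ := hrep hP' y y.2
      rw [← ofHom_coe φ' y, ← hxy, he x hx]
      exact th_mem_range (hf.mem hx)
    have hi : img f (preimageAlong θ P') = preimageAlong θ φ'.range := by
      refine le_antisymm (img_le fun x hx => mem_preimageAlong.2 ⟨hf.mem hx,
        ⟨⟨_, (mem_preimageAlong.1 hx).2⟩, ?_⟩⟩) fun z hz => ?_
      · rw [← ofHom_apply φ' (mem_preimageAlong.1 hx).2, he x hx]
      · obtain ⟨hzS, y, hy⟩ := mem_preimageAlong.1 hz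
        obtain ⟨x, hx, hxy⟩ := hrep hP' y y.2
        have hk' : z * (f x)⁻¹ ∈ S₀ := by
          refine (hker _ (S.mul_mem hzS (S.inv_mem (hf.mem hx)))).1
            ((th_eq_iff hzS (hf.mem hx)).1 ?_)
          rw [← hy, ← ofHom_coe φ' y, ← hxy, he x hx]
        rw [← sc_img hS₀ hpre hf] at hk'
        simpa using (img f (preimageAlong θ P')).mul_mem (img_mono hpre hk') (mem_img_of_mem hx)
    obtain ⟨g, hg, hgf, hgi⟩ := hf.exists_inv
    rw [hi] at hg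
    obtain ⟨ψ', hψ'⟩ := exists_inducedHom (α := θ) hg fun z hz e => sc_th_one hS₀ hker hg hz e
    have e := imageAlong_preimageAlong (α := θ) hR
    refine ⟨ψ'.comp (MulEquiv.subgroupCongr e.symm).toMonoidHom, hfn.2 ⟨hR, g, hg, fun z hz => ?_⟩,
      fun y => ?_⟩
    · rw [ofHom_apply _ (mem_preimageAlong.1 hz).2, ← hψ' z hz,
        ofHom_apply ψ' (th_mem_imageAlong hz (hg.le hz))]
      rfl
    · obtain ⟨x, hx, hxy⟩ := hrep hP' y y.2
      have hfx : f x ∈ preimageAlong θ φ'.range := hi.le (mem_img_of_mem hx)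
      rw [← hxy, ← hgf x hx, ← hψ' _ hfx, ← he x hx, hxy, ofHom_coe]
      exact (ofHom_apply ψ' (e.ge ⟨y, rfl⟩)).symm

/-- The maps congruent modulo `S₀` to a map extending over `S₀`. -/
def modSystem (F : FusionSystem S) (S₀ : Subgroup Ω) (h₀ : F.StronglyClosed S₀) : FusionSystem S where
  Hom P := {φ | φ ∈ F.Hom P ∧ ∃ g, Fn F (P ⊔ S₀) g ∧ ∀ x : P, (φ x)⁻¹ * g x ∈ S₀}
  le_of_mem h := F.le_of_mem h.1
  injective_of_mem h := F.injective_of_mem h.1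
  conj_mem := fun {P s} hP hs => by
    refine ⟨F.conj_mem hP hs, fun x => s * x * s⁻¹, fn_conj (sup_le hP h₀.1) hs, fun x => ?_⟩
    show (s * (x : Ω) * s⁻¹)⁻¹ * (s * (x : Ω) * s⁻¹) ∈ S₀
    rw [inv_mul_cancel]
    exact S₀.one_mem
  comp_mem := fun {P R φ ψ} hφ hψ h => by
    obtain ⟨hφF, g, hg, hgφ⟩ := hφ
    obtain ⟨hψF, k, hk, hkψ⟩ := hψ
    have hg0 : img g S₀ = S₀ := sc_img h₀ le_sup_right hg
    have hk0 : img k S₀ = S₀ := sc_img h₀ le_sup_right hk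
    have hm : ∀ x ∈ P ⊔ S₀, g x ∈ R ⊔ S₀ := fun x hx => by
      have hle : img g (P ⊔ S₀) ≤ R ⊔ S₀ := by
        rw [hg.img_sup, hg0]
        refine sup_le (img_le fun y hy => ?_) le_sup_right
        have := (R ⊔ S₀).mul_mem (Subgroup.mem_sup_left (h ⟨y, hy⟩)) (Subgroup.mem_sup_right (hgφ ⟨y, hy⟩))
        simpa using this
      exact hle (mem_img_of_mem hx)
    refine ⟨F.comp_mem hφF hψF h, k ∘ g, hg.comp hk hm, fun x => ?_⟩
    show (ψ ⟨φ x, h x⟩)⁻¹ * k (g x) ∈ S₀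
    have e : g (x : Ω) = φ x * ((φ x)⁻¹ * g x) := by simp
    rw [e, hk.map_mul (Subgroup.mem_sup_left (h x)) (Subgroup.mem_sup_right (hgφ x)), ← mul_assoc]
    exact S₀.mul_mem (hkψ ⟨φ x, h x⟩) (hk0.le (mem_img_of_mem (hgφ x)))
  inv_mem := fun {P φ} hφ => by
    obtain ⟨hφF, g, hg, hgφ⟩ := hφ
    obtain ⟨ψ, hψ, hψφ⟩ := F.inv_mem hφF
    obtain ⟨g', hg', hg'g, -⟩ := hg.exists_inv
    have hg0 : img g S₀ = S₀ := sc_img h₀ le_sup_right hg
    have hle : φ.range ⊔ S₀ ≤ img g (P ⊔ S₀) := by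
      refine sup_le ?_ (hg0.symm.trans_le (img_mono le_sup_right))
      rintro _ ⟨x, rfl⟩
      have := (img g (P ⊔ S₀)).mul_mem (mem_img_of_mem (Subgroup.mem_sup_left x.2 : (x : Ω) ∈ P ⊔ S₀))
        ((img g (P ⊔ S₀)).inv_mem (img_mono le_sup_right (hg0.ge (hgφ x))))
      simpa using this
    refine ⟨ψ, ⟨hψ, g', hg'.mono hle, ?_⟩, hψφ⟩
    rintro ⟨_, x, rfl⟩
    have hs : ((φ x)⁻¹ * g x)⁻¹ ∈ img g (P ⊔ S₀) := img_mono le_sup_right (hg0.ge (S₀.inv_mem (hgφ x)))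
    have e : φ x = g (x : Ω) * ((φ x)⁻¹ * g x)⁻¹ := by group
    rw [hψφ, show g' (φ x) = (x : Ω) * g' (((φ x)⁻¹ * g x)⁻¹) by
      conv_lhs => rw [e]
      rw [hg'.map_mul (mem_img_of_mem (Subgroup.mem_sup_left x.2)) hs,
        hg'g _ (Subgroup.mem_sup_left x.2)], inv_mul_cancel_left]
    exact (stronglyClosed_iff_fn.1 h₀).2 _ _ hg' _ hs (S₀.inv_mem (hgφ x))

theorem fn_modSystem (h₀ : F.StronglyClosed S₀) {f : Ω → Ω} :
    Fn (modSystem F S₀ h₀) P f ↔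
      Fn F P f ∧ ∃ g, Fn F (P ⊔ S₀) g ∧ ∀ x ∈ P, (f x)⁻¹ * g x ∈ S₀ := by
  constructor
  · rintro ⟨φ, ⟨hφ, g, hg, hgφ⟩, hφf⟩
    exact ⟨⟨φ, hφ, hφf⟩, g, hg, fun x hx => hφf ⟨x, hx⟩ ▸ hgφ ⟨x, hx⟩⟩
  · rintro ⟨⟨φ, hφ, hφf⟩, g, hg, he⟩
    exact ⟨φ, ⟨hφ, g, hg, fun x => (hφf x).symm ▸ he x x.2⟩, hφf⟩

end Finite

/-- A `p`-subgroup of `R ⊔ K` goes into the Sylow subgroup `R` by an element of the normal subgroup `K`. -/
theorem exists_conj_kernel {A : Type*} [Group A] [Finite A] {p : ℕ} [Fact p.Prime] (R : Sylow p A)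
    (K : Subgroup A) [K.Normal] {U : Subgroup A} (hUp : IsPGroup p U) (hU : U ≤ (R : Subgroup A) ⊔ K) :
    ∃ k ∈ K, ∀ u ∈ U, k * u * k⁻¹ ∈ R := by
  have hR : CfsgLib.LocalEven.SylowIn.IsSylowIn p (R : Subgroup A) ((R : Subgroup A) ⊔ K) :=
    ⟨le_sup_left, R.2, fun V _ hV hle => R.3 hV hle⟩
  obtain ⟨l, hl, hlU⟩ := sylow_conjugate_into hR hU hUp
  have hl' : l ∈ ((R : Subgroup A) : Set A) * (K : Set A) := Subgroup.mul_normal (R : Subgroup A) K ▸ hl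
  obtain ⟨r, hr, k, hk, rfl⟩ := hl'
  refine ⟨k, hk, fun u hu => ?_⟩
  have h : (r * k) * u * (r * k)⁻¹ ∈ (R : Subgroup A) := hlU ⟨u, hu, rfl⟩
  have := (R : Subgroup A).mul_mem ((R : Subgroup A).mul_mem ((R : Subgroup A).inv_mem hr) h) hr
  show k * u * k⁻¹ ∈ (R : Subgroup A)
  simpa [mul_assoc] using this

section Saturated

variable [Finite S] {p : ℕ} [Fact p.Prime] (hS : IsPGroup p S) (hF : F.IsSaturated p)
include hS hF

theorem le_modSystem (h₀ : F.StronglyClosed S₀) : F ≤ modSystem F S₀ h₀ := by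
  have hbase : ∀ P : Subgroup Ω, S₀ ≤ P → F.autGroup P ≤ (modSystem F S₀ h₀).autGroup P := by
    intro P h α hα
    by_cases hP : P ≤ S
    · have hαF := (mem_autGroup_iff_fn hP).1 hα
      exact (mem_autGroup_iff_fn hP).2 ((fn_modSystem h₀).2 ⟨hαF, autFn α,
        (sup_eq_left.2 h).symm ▸ hαF, fun x _ => by rw [inv_mul_cancel]; exact S₀.one_mem⟩)
    · have : F.autGroup P = ⊥ := by
        rw [Cfsg.FusionSystem.autGroup, Subgroup.closure_eq_bot_iff]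
        exact fun β hβ => absurd (F.le_of_mem hβ).1 hP
      rw [this, Subgroup.mem_bot] at hα
      exact hα ▸ Subgroup.one_mem _
  refine le_of_automizers hS hF _ (hbase S h₀.1) fun P hPS hP hbig α hα => ?_
  by_cases h : S₀ ≤ P
  · exact hbase P h hα
  have := finite_of_le_base hPS.le
  have hsc := (stronglyClosed_iff_fn.1 h₀).2
  -- the automorphisms acting trivially on `P/(P ∩ S₀)`
  let K : Subgroup (MulAut P) :=
    { carrier := {β | ∀ x : P, (x : Ω)⁻¹ * (β x : P) ∈ S₀}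
      one_mem' := fun x => by simp
      mul_mem' := fun {β γ} hβ hγ x => by
        have := S₀.mul_mem (hγ x) (hβ (γ x))
        simpa [mul_assoc] using this
      inv_mem' := fun {β} hβ x => by
        have := S₀.inv_mem (hβ (β⁻¹ x))
        simpa [MulAut.apply_inv_self] using this }
  have : (K.subgroupOf (F.autGroup P)).Normal := by
    refine ⟨fun k hk a => ?_⟩
    intro x
    obtain ⟨y, rfl⟩ := (a : MulAut P).surjective x
    have hy := hsc _ _ ((mem_autGroup_iff_fn hPS.le).1 a.2) _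
      (P.mul_mem (P.inv_mem y.2) ((k : MulAut P) y).2) (hk y)
    rw [← Subgroup.coe_inv P y, ← Subgroup.coe_mul, autFn_coe, map_mul, map_inv] at hy
    simpa using hy
  obtain ⟨hA, hfc⟩ := fullyNormalized_good hS hF hP
  have hr := fullyCentralized_receptive hS hF hfc
  obtain ⟨-, T, hT⟩ := hA
  -- Frattini argument
  have hTK : ((T : Subgroup (F.autGroup P)) ⊓ K.subgroupOf (F.autGroup P)).map
      (MulAut.conj (⟨α, hα⟩ : F.autGroup P)).toMonoidHom ≤ K.subgroupOf (F.autGroup P) := by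
    rintro _ ⟨y, hy, rfl⟩
    exact Subgroup.Normal.conj_mem inferInstance y hy.2 _
  obtain ⟨k, hk, hkU⟩ := exists_conj_kernel T (K.subgroupOf (F.autGroup P))
    ((T.2.to_le inf_le_left).map _) (hTK.trans le_sup_right)
  let ν : F.autGroup P := k * ⟨α, hα⟩
  obtain ⟨n, hnU, hn, hnP⟩ := exists_mem_normalizer_not_mem hS (sup_le hPS.le h₀.1)
    (lt_of_le_not_ge le_sup_left fun e => h (le_sup_right.trans e) : P < P ⊔ S₀)
  have hnU' : n ∈ ((P : Set Ω) * (S₀ : Set Ω)) :=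
    Subgroup.coe_mul_of_left_le_normalizer_right P S₀ (hPS.le.trans (sc_le_normalizer h₀)) ▸ hnU
  obtain ⟨x, hx, s, hs, rfl⟩ := hnU'
  have hsN : s ∈ normalizerIn S P := by
    have := (normalizerIn S P).mul_mem ((normalizerIn S P).inv_mem (le_normalizerIn hPS.le hx)) hn
    simpa using this
  have hsP : s ∉ P := fun hsP => hnP (P.mul_mem hx hsP)
  have hc : conjAut P hsN.2 ∈ F.autGroup P :=
    autInducedBy_le_autGroup hPS.le (conjAut_mem_autInducedBy hsN.2 hsN.1)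
  have hext : ExtAut F P (ν : MulAut P) := by
    refine extAut_of_receptive hr ν.2 hsN hsP ?_
    have hcK : conjAut P hsN.2 ∈ K := fun y => by
      rw [conjAut_coe]
      have h1 : (y : Ω)⁻¹ * s * ((y : Ω)⁻¹)⁻¹ ∈ S₀ := sc_conj h₀ (S.inv_mem (hPS.le y.2)) hs
      have h2 := S₀.mul_mem h1 (S₀.inv_mem hs)
      simpa [mul_assoc] using h2
    have hmem : (⟨_, hc⟩ : F.autGroup P) ∈
        (T : Subgroup (F.autGroup P)) ⊓ K.subgroupOf (F.autGroup P) :=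
      ⟨hT.symm ▸ conjAut_mem_autInducedBy hsN.2 hsN.1, hcK⟩
    have h3 := hkU _ ⟨_, hmem, rfl⟩
    replace h3 : k * MulAut.conj (⟨α, hα⟩ : F.autGroup P) ⟨_, hc⟩ * k⁻¹ ∈ (T : Subgroup (F.autGroup P)) := h3
    rw [hT] at h3
    simpa [ν, Subgroup.mem_subgroupOf, mul_assoc] using h3
  obtain ⟨N, g, hPN, hg, hgν⟩ := hext
  have hcard : Nat.card P < Nat.card N := by
    have := finite_of_le_base hg.le
    simpa only [SetLike.coe_sort_coe] using Set.Finite.card_lt_card (Set.toFinite (N : Set Ω)) hPN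
  have hν : (ν : MulAut P) ∈ (modSystem F S₀ h₀).autGroup P :=
    (mem_autGroup hPS.le).2 (mem_hom_of_fn ((hbig N g hcard hg).mono hPN.le) fun y => (hgν y).symm)
  have hkE : (k : MulAut P) ∈ (modSystem F S₀ h₀).autGroup P := by
    refine (mem_autGroup_iff_fn hPS.le).2 ((fn_modSystem h₀).2
      ⟨(mem_autGroup_iff_fn hPS.le).1 k.2, id, fn_id (sup_le hPS.le h₀.1), fun y hy => ?_⟩)
    lift y to P using hy
    rw [autFn_coe]
    simpa using S₀.inv_mem (hk y)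
  have := Subgroup.mul_mem _ (Subgroup.inv_mem _ hkE) hν
  simpa [ν, mul_assoc] using this

/-- Every map extends over a strongly closed subgroup, modulo that subgroup. -/
theorem exists_extend_mod (h₀ : F.StronglyClosed S₀) {f : Ω → Ω} (hf : Fn F P f) :
    ∃ g, Fn F (P ⊔ S₀) g ∧ ∀ x ∈ P, (f x)⁻¹ * g x ∈ S₀ := by
  obtain ⟨φ, hφ, hφf⟩ := hf
  exact ((fn_modSystem h₀).1 ⟨φ, le_modSystem hS hF h₀ P hφ, hφf⟩).2

/-- The quotient map onto a factor system is a surjective morphism. -/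
theorem factor_surjectiveMorphism {θ : S →* Ω'} {E : FusionSystem S'} (h₀ : F.StronglyClosed S₀)
    (hE : F.IsFactorSystem S₀ θ E) : F.IsSurjectiveMorphism E θ := by
  have hr := factor_range hE
  refine ⟨⟨fun s => hr ▸ ⟨s, rfl⟩, fun P φ hφ => ?_⟩, hr,
    fun P' _ φ' hφ' => ((hE.2.2.2 P' φ').1 hφ').2⟩
  obtain ⟨g, hg, he⟩ := exists_extend_mod hS hF h₀ (fn_ofHom hφ)
  have hP := (F.le_of_mem hφ).1
  have hle : preimageAlong θ (imageAlong θ P) ≤ P ⊔ S₀ := fun z hz => by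
    obtain ⟨hzS, hz⟩ := mem_preimageAlong.1 hz
    obtain ⟨x, hx, hxS, hxz⟩ := mem_imageAlong.1 hz
    have h1 := (factor_ker hE (S.mul_mem hzS (S.inv_mem hxS))).1 ((th_eq_iff hzS hxS).1 hxz.symm)
    simpa using (P ⊔ S₀).mul_mem (Subgroup.mem_sup_right h1) (Subgroup.mem_sup_left hx)
  obtain ⟨ψ, hψ⟩ := exists_inducedHom (α := θ) (hg.mono le_sup_left) fun x hx h =>
    sc_th_one h₀ (fun _ => factor_ker hE) (hg.mono le_sup_left) hx h
  have hψe : ∀ x ∈ P, ofHom ψ (th θ x) = th θ (ofHom φ x) := fun x hx => by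
    rw [hψ x hx, eq_comm, th_eq_iff ((fn_ofHom hφ).mem hx) (hg.mem (Subgroup.mem_sup_left hx))]
    refine (factor_ker hE (S.mul_mem ((fn_ofHom hφ).mem hx)
      (S.inv_mem (hg.mem (Subgroup.mem_sup_left hx))))).2 ?_
    have h2 := sc_conj h₀ ((fn_ofHom hφ).mem hx) (S₀.inv_mem (he x hx))
    simpa [mul_assoc] using h2
  have hF' : Fn E (imageAlong θ P) (ofHom ψ) := by
    refine (factor_fn h₀ hE).2 ⟨?_, g, hg.mono hle, fun z hz => ?_⟩
    · rintro _ ⟨x, -, rfl⟩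
      exact hr ▸ ⟨x, rfl⟩
    · obtain ⟨hzS, hz'⟩ := mem_preimageAlong.1 hz
      obtain ⟨x, hx, hxS, hxz⟩ := mem_imageAlong.1 hz'
      rw [← hxz, hψ x hx, th_eq_iff (hg.mem (Subgroup.mem_sup_left hx)) (hg.mem (hle hz)),
        ← hg.map_inv (hle hz), ← hg.map_mul (Subgroup.mem_sup_left hx) ((P ⊔ S₀).inv_mem (hle hz))]
      exact sc_th_one h₀ (fun _ => factor_ker hE) hg
        ((P ⊔ S₀).mul_mem (Subgroup.mem_sup_left hx) ((P ⊔ S₀).inv_mem (hle hz)))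
        ((th_eq_iff hxS hzS).1 hxz)
  exact ⟨ψ, mem_hom_iff.2 hF', (inducedAlong_iff (fun x => (ofHom_coe φ x).symm)
    (fun y => (ofHom_coe ψ y).symm)).2 ⟨hP, fun x hx => (fn_ofHom hφ).mem hx,
      fun x hx => th_mem_imageAlong hx (hP hx), hψe⟩⟩

theorem stronglyClosed_sup {T₁ T₂ : Subgroup Ω} (h₁ : F.StronglyClosed T₁) (h₂ : F.StronglyClosed T₂) :
    F.StronglyClosed (T₁ ⊔ T₂) := by
  refine stronglyClosed_iff_fn.2 ⟨sup_le h₁.1 h₂.1, fun P f hf x hx hxT => ?_⟩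
  obtain ⟨g, hg, he⟩ := exists_extend_mod hS hF h₁ hf
  have hxT' : x ∈ ((T₁ : Set Ω) * (T₂ : Set Ω)) :=
    Subgroup.coe_mul_of_right_le_normalizer_left T₁ T₂ (h₂.1.trans (sc_le_normalizer h₁)) ▸ hxT
  obtain ⟨a, ha, b, hb, rfl⟩ := hxT'
  have haU : a ∈ P ⊔ T₁ := Subgroup.mem_sup_right ha
  have hbU : b ∈ P ⊔ T₁ := by
    simpa using (P ⊔ T₁).mul_mem ((P ⊔ T₁).inv_mem haU) (Subgroup.mem_sup_left hx)
  have hgx : g (a * b) ∈ T₁ ⊔ T₂ := by
    rw [hg.map_mul haU hbU]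
    exact (T₁ ⊔ T₂).mul_mem (Subgroup.mem_sup_left ((stronglyClosed_iff_fn.1 h₁).2 _ _ hg a haU ha))
      (Subgroup.mem_sup_right ((stronglyClosed_iff_fn.1 h₂).2 _ _ hg b hbU hb))
  simpa using (T₁ ⊔ T₂).mul_mem hgx ((T₁ ⊔ T₂).inv_mem (Subgroup.mem_sup_left (he _ hx)))

theorem stronglyClosed_sup_centralizer {T : Subgroup Ω} (hT : F.StronglyClosed T) :
    F.StronglyClosed (T ⊔ centralizerIn S T) := by
  refine stronglyClosed_iff_fn.2 ⟨sup_le hT.1 centralizerIn_le, fun P f hf x hx hxT => ?_⟩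
  obtain ⟨g, hg, he⟩ := exists_extend_mod hS hF hT hf
  have hxT' : x ∈ ((T : Set Ω) * (centralizerIn S T : Set Ω)) :=
    Subgroup.coe_mul_of_right_le_normalizer_left T (centralizerIn S T)
      (centralizerIn_le.trans (sc_le_normalizer hT)) ▸ hxT
  obtain ⟨a, ha, b, hb, rfl⟩ := hxT'
  have haU : a ∈ P ⊔ T := Subgroup.mem_sup_right ha
  have hbU : b ∈ P ⊔ T := by
    simpa using (P ⊔ T).mul_mem ((P ⊔ T).inv_mem haU) (Subgroup.mem_sup_left hx)
  have hgx : g (a * b) ∈ T ⊔ centralizerIn S T := by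
    rw [hg.map_mul haU hbU]
    exact Subgroup.mul_mem _ (Subgroup.mem_sup_left ((stronglyClosed_iff_fn.1 hT).2 _ _ hg a haU ha))
      (Subgroup.mem_sup_right (hg.map_centralizer le_sup_right (sc_img hT le_sup_right hg) hbU hb))
  simpa using (T ⊔ centralizerIn S T).mul_mem hgx
    ((T ⊔ centralizerIn S T).inv_mem (Subgroup.mem_sup_left (he _ hx)))

end Saturated

end CfsgLib.Fsys
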