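import Cfsg.Agent.Lib.FusionSystem.CoreLayer
import Cfsg.Agent.Lib.FusionSystem.Product
import Cfsg.Prelude.Def_FusionFitting

/-! The generalized Fitting subsystem contains its centralizer. -/

set_option autoImplicit false

namespace CfsgLib.Fsys.CoreLayer

open Cfsg Cfsg.FusionSystem CfsgLib.Fsys.WNR
open Cfsg.FusionSystem (centralizerIn normalizerIn imageAlong preimageAlong)

universe u

variable {Ω : Type u} [Group Ω] {Q T U : Subgroup Ω} {E : FusionSystem T} {D : FusionSystem U}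

/-- The description of the maps of a central product of an inner system and `E`. -/
structure ProductData (Q : Subgroup Ω) (E : FusionSystem T) (D : FusionSystem U) : Prop where
  left_le : Q ≤ U
  right_le : T ≤ U
  decomp : ∀ z ∈ U, ∃ x ∈ Q, ∃ y ∈ T, x * y = z
  commute : ∀ x ∈ Q, ∀ y ∈ T, x * y = y * x
  elim : ∀ (P : Subgroup Ω) (f : Ω → Ω), Fn D P f → P ≤ U ∧ ∃ (P₂ : Subgroup Ω) (g : Ω) (e : Ω → Ω),
    g ∈ Q ∧ Fn E P₂ e ∧
      (∀ x ∈ Q, ∀ y ∈ T, x * y ∈ P → y ∈ P₂ ∧ f (x * y) = g * x * g⁻¹ * e y)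
  intro : ∀ (P P₂ : Subgroup Ω) (g : Ω) (e : Ω → Ω), P ≤ U → g ∈ Q → Fn E P₂ e →
    (∀ x ∈ Q, ∀ y ∈ T, x * y ∈ P → y ∈ P₂) →
      ∃ f, Fn D P f ∧ ∀ x ∈ Q, ∀ y ∈ T, x * y ∈ P → f (x * y) = g * x * g⁻¹ * e y

theorem productData [Finite Q] [Finite T] (h : IsCentralProductOf (innerFusionSystem Q) E D) :
    ProductData Q E D := by
  classical
  obtain ⟨D₀, hD₀, Z, θ, hZ, -, -, h1, h2, hfac⟩ := h
  rw [eq_prodSystem hD₀] at hfac hZ
  haveI : Finite (Q.prod T) := finite_prod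
  have hsc : (prodSystem (innerFusionSystem Q) E).StronglyClosed Z :=
    stronglyClosed_iff_fn.2 ⟨hfac.1, fun P f hf x hx hxZ => by
      obtain ⟨g, hg, hge, hgZ⟩ := (central_iff_fn.1 (center_central (F := prodSystem (innerFusionSystem Q) E))).2 P f hf
      rw [← hge x hx, hgZ x (hZ hxZ)]
      exact hxZ⟩
  have hmem : ∀ {x y : Ω}, x ∈ Q → y ∈ T → ((x, y) : Ω × Ω) ∈ Q.prod T := fun hx hy => Subgroup.mem_prod.2 ⟨hx, hy⟩
  have hθ : ∀ (x y : Ω) (hm : ((x, y) : Ω × Ω) ∈ Q.prod T), θ ⟨(x, y), hm⟩ = x * y := fun x y hm => by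
    have hx := hmem (Subgroup.mem_prod.1 hm).1 T.one_mem
    have hy := hmem Q.one_mem (Subgroup.mem_prod.1 hm).2
    refine Eq.trans ?_ (congrArg₂ (· * ·) (h1 x hx) (h2 y hy))
    show _ = θ _ * θ _
    rw [← map_mul]
    congr 1
    exact Subtype.ext (by simp)
  have hth : ∀ {x y : Ω}, x ∈ Q → y ∈ T → th θ ((x, y) : Ω × Ω) = x * y := fun hx hy => by
    rw [th_apply (hmem hx hy)]
    exact hθ _ _ _
  have hU : ∀ {z : Ω}, z ∈ U ↔ ∃ x ∈ Q, ∃ y ∈ T, x * y = z := fun {z} => by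
    rw [← factor_range hfac]
    constructor
    · rintro ⟨⟨⟨x, y⟩, hm⟩, rfl⟩
      exact ⟨x, (Subgroup.mem_prod.1 hm).1, y, (Subgroup.mem_prod.1 hm).2, (hθ x y hm).symm⟩
    · rintro ⟨x, hx, y, hy, rfl⟩
      exact ⟨⟨_, hmem hx hy⟩, hθ x y _⟩
  refine ⟨fun x hx => hU.2 ⟨x, hx, 1, one_mem _, mul_one x⟩, fun y hy => hU.2 ⟨1, one_mem _, y, hy, one_mul y⟩,
    fun z hz => hU.1 hz, fun x hx y hy => ?_, fun P f hf => ?_, fun P P₂ g e hP hg he hdom => ?_⟩
  · have h3 : (⟨_, hmem Q.one_mem hy⟩ * ⟨_, hmem hx T.one_mem⟩ : Q.prod T) = ⟨_, hmem hx hy⟩ :=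
      Subtype.ext (by simp)
    have h4 := congrArg θ h3
    rw [map_mul, hθ, hθ, hθ, one_mul, mul_one] at h4
    exact h4.symm
  · obtain ⟨hP, F₀, hF₀, hfe⟩ := (factor_fn hsc hfac).1 hf
    obtain ⟨f₁, f₂, h₁, h₂, hF⟩ := fn_prod_inv hF₀
    obtain ⟨φ, ⟨-, g, hg, hφ⟩, hφf⟩ := id h₁
    refine ⟨hP, _, g, f₂, hg, h₂, fun x hx y hy hxy => ?_⟩
    have hm : ((x, y) : Ω × Ω) ∈ preimageAlong θ P :=
      mem_preimageAlong.2 ⟨hmem hx hy, (hth hx hy).symm ▸ hxy⟩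
    refine ⟨snd_mem hm, ?_⟩
    have h3 := hfe _ hm
    rw [hth hx hy, hF _ hm] at h3
    rw [h3]
    show th θ (f₁ x, f₂ y) = _
    rw [hth (h₁.mem (fst_mem hm)) (h₂.mem (snd_mem hm)), ← hφf ⟨x, fst_mem hm⟩, hφ]
  · have hle : preimageAlong θ P ≤ Q.prod T := preimageAlong_le
    have h₁ : Fn (innerFusionSystem Q) ((preimageAlong θ P).map (MonoidHom.fst Ω Ω)) (fun x => g * x * g⁻¹) :=
      fn_conj (map_fst_le hle) hg
    have h₂ : Fn E ((preimageAlong θ P).map (MonoidHom.snd Ω Ω)) e := he.mono (by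
      rintro _ ⟨⟨x, y⟩, hxy, rfl⟩
      obtain ⟨hm, hP'⟩ := mem_preimageAlong.1 hxy
      rw [hth (Subgroup.mem_prod.1 hm).1 (Subgroup.mem_prod.1 hm).2] at hP'
      exact hdom x (Subgroup.mem_prod.1 hm).1 y (Subgroup.mem_prod.1 hm).2 hP')
    set F₀ : Ω × Ω → Ω × Ω := pairFn (fun x => g * x * g⁻¹) e with hF₀
    have hF : Fn (prodSystem (innerFusionSystem Q) E) (preimageAlong θ P) F₀ := fn_prod hle h₁ h₂
    choose dx hdx dy hdy hd using fun z : U => hU.1 z.2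
    refine ⟨fun z => if hz : z ∈ U then th θ (F₀ (dx ⟨z, hz⟩, dy ⟨z, hz⟩)) else 1, ?_, ?_⟩
    all_goals
      have key : ∀ w ∈ preimageAlong θ P,
          (if hz : th θ w ∈ U then th θ (F₀ (dx ⟨th θ w, hz⟩, dy ⟨th θ w, hz⟩)) else 1) = th θ (F₀ w) := by
        intro w hw
        obtain ⟨hwS, hwP⟩ := mem_preimageAlong.1 hw
        rw [dif_pos (hP hwP)]
        set z : U := ⟨th θ w, hP hwP⟩ with hz
        set v : Ω × Ω := (dx z, dy z) with hv
        have hvS : v ∈ Q.prod T := hmem (hdx z) (hdy z)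
        have hvw : th θ v = th θ w := (hth (hdx z) (hdy z)).trans (hd z)
        have hvP : v ∈ preimageAlong θ P := mem_preimageAlong.2 ⟨hvS, hvw.symm ▸ hwP⟩
        have hq : v * w⁻¹ ∈ Z := (factor_ker hfac ((Q.prod T).mul_mem hvS ((Q.prod T).inv_mem hwS))).1
          (by rw [th_mul hvS ((Q.prod T).inv_mem hwS), th_inv hwS, hvw, mul_inv_cancel])
        have h5 := (factor_ker hfac (hF.mem (mul_mem hvP (inv_mem hw)))).2
          (sc_apply hsc hF (mul_mem hvP (inv_mem hw)) hq)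
        rw [hF.map_mul hvP (inv_mem hw), hF.map_inv hw, th_mul (hF.mem hvP) ((Q.prod T).inv_mem (hF.mem hw)),
          th_inv (hF.mem hw), mul_inv_eq_one] at h5
        exact h5
    · exact (factor_fn hsc hfac).2 ⟨hP, F₀, hF, key⟩
    · intro x hx y hy hxy
      have hm : ((x, y) : Ω × Ω) ∈ preimageAlong θ P :=
        mem_preimageAlong.2 ⟨hmem hx hy, (hth hx hy).symm ▸ hxy⟩
      have h6 := key _ hm
      rw [hth hx hy] at h6
      refine h6.trans ?_
      show th θ (g * x * g⁻¹, e y) = _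
      exact hth (mul_mem (mul_mem hg hx) (inv_mem hg)) (h₂.mem (snd_mem hm))

variable {S : Subgroup Ω} [Finite S] {F : FusionSystem S} {p : ℕ} [Fact p.Prime]

/-- The centre of the generalized Fitting subsystem is the largest subgroup it centralizes. -/
theorem fitting_center (hS : IsPGroup p S) (hF : F.IsSaturated p) (hD : D.IsGeneralizedFittingOf F p) :
    (D.center ≤ centralizerIn S U ∧ ∀ P : Subgroup Ω, D.Hom P ⊆ F.centralizerHom D.center P) ∧
      ∀ Y : Subgroup Ω, Y ≤ centralizerIn S U →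
        (∀ P : Subgroup Ω, D.Hom P ⊆ F.centralizerHom Y P) → Y ≤ D.center := by
  obtain ⟨T, E, hE, hprod⟩ := hD
  have hQ : F.IsNormal F.core := core_normal
  have hEi := hE.1.1.2.2
  have hTS : T ≤ S := hEi.2.1.1
  haveI := finite_of_le_base hTS
  haveI := finite_of_le_base hQ.1
  have hd := productData hprod
  have hUS : U ≤ S := fun z hz => by
    obtain ⟨x, hx, y, hy, rfl⟩ := hd.decomp z hz
    exact S.mul_mem (hQ.1 hx) (hTS hy)
  haveI := finite_of_le_base hUS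
  have hcent : Centralized F E F.core := fun P => layer_centralized hS hF hE hQ P
  have hQT : F.core ≤ centralizerIn S T := fun x hx =>
    mem_centralizerIn.2 ⟨hQ.1 hx, fun y hy => (hd.commute x hx y hy).symm⟩
  have hDF : D.IsSubsystemOf F := by
    intro P φ hφ
    have hf := fn_ofHom hφ
    obtain ⟨hP, P₂, g, e, hg, he, hfe⟩ := hd.elim P _ hf
    obtain ⟨ψ, hψ, hψe, hψQ⟩ := (centralized_iff hEi.1 hQT).1 hcent P₂ e he
    have hPle : P ≤ P₂ ⊔ F.core := fun z hz => by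
      obtain ⟨x, hx, y, hy, rfl⟩ := hd.decomp z (hP hz)
      exact mul_mem (Subgroup.mem_sup_right hx) (Subgroup.mem_sup_left (hfe x hx y hy hz).1)
    refine mem_hom_of_fn ((hψ.comp (fn_conj (F := F) le_rfl (hQ.1 hg)) fun x hx => hψ.mem hx).mono hPle) fun z => ?_
    obtain ⟨x, hx, y, hy, hxy⟩ := hd.decomp z (hP z.2)
    obtain ⟨hy₂, hval⟩ := hfe x hx y hy (hxy.symm ▸ z.2)
    rw [← ofHom_coe φ z, ← hxy, hval]
    show _ = g * ψ (x * y) * g⁻¹
    rw [hψ.map_mul (Subgroup.mem_sup_right hx) (Subgroup.mem_sup_left hy₂), hψQ x hx, hψe y hy₂]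
    have h1 : g * e y = e y * g := hd.commute g hg _ (he.mem hy₂)
    rw [show g * (x * e y) * g⁻¹ = g * x * g⁻¹ * (g * e y * g⁻¹) by group, h1, mul_inv_cancel_right]
  refine ⟨⟨fun z hz => ?_, ?_⟩, fun Y hY hYD => ?_⟩
  · exact mem_centralizerIn.2 ⟨hUS ((center_central (F := D)).1 hz),
      fun y hy => Subgroup.mem_centralizer_iff.1 (D.center_le_centralizer hz) y hy⟩
  · refine fun P => (centralized_iff hDF fun z hz => mem_centralizerIn.2 ⟨hUS ((center_central (F := D)).1 hz),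
      fun y hy => Subgroup.mem_centralizer_iff.1 (D.center_le_centralizer hz) y hy⟩).2 (fun P f hf => ?_) P
    obtain ⟨ψ, hψ, hψf, hψZ⟩ := (central_iff_fn.1 (center_central (F := D))).2 P f hf
    exact ⟨ψ, Fn.of_subsystem hDF hψ, hψf, hψZ⟩
  have hYT : Y ≤ centralizerIn S T := fun y hy =>
    mem_centralizerIn.2 ⟨(mem_centralizerIn.1 (hY hy)).1, fun t ht => (mem_centralizerIn.1 (hY hy)).2 t (hd.right_le ht)⟩
  -- maps of the layer are maps of `D`
  have hED : ∀ (P : Subgroup Ω) (f : Ω → Ω), Fn E P f → ∃ f', Fn D P f' ∧ ∀ x ∈ P, f' x = f x := by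
    intro P f hf
    have hR : E.IsNormal (F.core ⊓ T) := normal_inf hS hQ hEi.2.1 hEi.1 hE.1.1.1
    obtain ⟨e, he, hee, -⟩ := (normal_iff_fn.1 hR).2 P f hf
    have heR : ∀ r ∈ F.core ⊓ T, e r = r := fun r hr => by
      obtain ⟨ψ, -, hψe, hψQ⟩ := (centralized_iff hEi.1 hQT).1 hcent _ e he
      rw [← hψe r (Subgroup.mem_sup_right hr), hψQ r hr.1]
    have hsplit : ∀ x ∈ F.core, ∀ y ∈ T, x * y ∈ P → x ∈ T := fun x _ y hy hxy => by
      have h1 := T.mul_mem (hf.le hxy) (T.inv_mem hy)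
      rwa [mul_inv_cancel_right] at h1
    have hdom : ∀ x ∈ F.core, ∀ y ∈ T, x * y ∈ P → y ∈ P ⊔ (F.core ⊓ T) := fun x hx y hy hxy => by
      have hxR : x ∈ F.core ⊓ T := ⟨hx, hsplit x hx y hy hxy⟩
      rw [show y = x⁻¹ * (x * y) by group]
      exact mul_mem (inv_mem (Subgroup.mem_sup_right hxR)) (Subgroup.mem_sup_left hxy)
    obtain ⟨f', hf', hf'e⟩ := hd.intro P _ 1 e (hf.le.trans hd.right_le) (one_mem _) he hdom
    refine ⟨f', hf', fun z hz => ?_⟩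
    have h1 := hf'e 1 (one_mem _) z (hf.le hz) (by rwa [one_mul])
    rw [one_mul] at h1
    rw [h1, hee z hz]
    simp
  have hEY : Centralized F E Y := (centralized_iff hEi.1 hYT).2 fun P f hf => by
    obtain ⟨f', hf', hf'f⟩ := hED P f hf
    obtain ⟨ψ, hψ, hψf, hψY⟩ := (centralized_iff hDF hY).1 hYD P f' hf'
    exact ⟨ψ, hψ, fun x hx => (hψf x hx).trans (hf'f x hx), hψY⟩
  -- the centralizer of the layer is constrained
  obtain ⟨D', hD', -⟩ := Red.exists_centralizer_normal hS hE.1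
  have hKS : fixedSubgroup p F E ≤ S := (fixedSubgroup_le p).trans centralizerIn_le
  haveI := finite_of_le_base hKS
  have hc : D'.IsConstrained p := by
    rw [Comp.constrained_iff_no_component (hS.to_le hKS) hD'.1.1]
    rintro ⟨V, C, hC⟩
    have hVT : V ≤ T := subsystem_le (hE.2.1 V C ⟨IsSubnormalIn.step hC.1 hD', hC.2⟩)
    have hVK : V ≤ fixedSubgroup p F E := (subnormal_le hC.1).2
    haveI := finite_of_le_base (hVT.trans hTS)
    exact quasisimple_nonabelian (hS.to_le (hVT.trans hTS)) hC.2 ⟨⟨fun a b => Subtype.ext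
      ((mem_centralizerIn.1 (fixedSubgroup_le p (hVK b.2))).2 a (hVT a.2))⟩⟩
  have hYQ : Y ≤ F.core := fun y hy => Comp.centralizer_core_le hS hD'.1 hc (mem_centralizerIn.2
    ⟨le_fixedSubgroup hS hF hEi hYT hEY hy, fun x hx => (mem_centralizerIn.1 (hY hy)).2 x (hd.left_le hx)⟩)
  refine le_center (central_iff_fn.2 ⟨hYQ.trans hd.left_le, fun P f hf => ?_⟩)
  obtain ⟨hP, P₂, g, e, hg, he, hfe⟩ := hd.elim P f hf
  have hPY : P ⊔ Y ≤ U := sup_le hP (hYQ.trans hd.left_le)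
  have hsplit : ∀ z ∈ P ⊔ Y, ∃ u ∈ P, ∃ v ∈ Y, z = u * v := fun z hz =>
    mem_sup_of_commute (fun a ha b hb => (mem_centralizerIn.1 (hY hb)).2 a (hP ha)) hz
  have hdom : ∀ x ∈ F.core, ∀ y ∈ T, x * y ∈ P ⊔ Y → y ∈ P₂ := fun x hx y hy hxy => by
    obtain ⟨u, hu, v, hv, e'⟩ := hsplit _ hxy
    refine (hfe (v⁻¹ * x) (mul_mem (inv_mem (hYQ hv)) hx) y hy ?_).1
    have h1 : u * v = v * u := (mem_centralizerIn.1 (hY hv)).2 u (hP hu)
    rw [mul_assoc, e', h1, inv_mul_cancel_left]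
    exact hu
  obtain ⟨f', hf', hf'e⟩ := hd.intro (P ⊔ Y) P₂ g e hPY hg he hdom
  refine ⟨f', hf', fun z hz => ?_, fun v hv => ?_⟩
  · obtain ⟨x, hx, y, hy, rfl⟩ := hd.decomp z (hP hz)
    rw [hf'e x hx y hy (Subgroup.mem_sup_left hz), (hfe x hx y hy hz).2]
  · have h1 := hf'e v (hYQ hv) 1 (one_mem _) (by rw [mul_one]; exact Subgroup.mem_sup_right hv)
    rw [mul_one, he.map_one, mul_one] at h1
    rw [h1]
    rw [show g * v = v * g from (mem_centralizerIn.1 (hY hv)).2 g (hd.left_le hg), mul_inv_cancel_right]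

end CfsgLib.Fsys.CoreLayer
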