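import Mathlib
import Cfsg.Agent.Lib.FusionSystem.Normal
import Cfsg.Agent.Lib.FusionSystem.SmallElements
import Cfsg.Agent.Lib.Solvable.FrattiniFitting
import Cfsg.Agent.Lib.TwoGroups.CyclicMax
import Cfsg.Agent.Lib.PGroup.OrderPCubeExtra
import Cfsg.Agent.Lib.FusionSystem.MetacyclicNormal
import Cfsg.Agent.Lib.Fusion.MaxClass

/-! A strongly closed generalized extraspecial subgroup is normal, apart from the exceptions. -/

set_option autoImplicit false
set_option linter.style.haveILetI false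
set_option linter.unusedSectionVars false

open Cfsg Cfsg.FusionSystem
open scoped Pointwise commutatorElement

namespace CfsgLib.Fsys

namespace GenES

variable {p : ℕ} [hp : Fact p.Prime]

theorem zpowers_eq_of_common {G : Type*} [Group G] {a b δ : G} (ha : a ^ p = 1) (hb : b ^ p = 1)
    (hδ : δ ≠ 1) (hδa : δ ∈ Subgroup.zpowers a) (hδb : δ ∈ Subgroup.zpowers b) :
    Subgroup.zpowers a = Subgroup.zpowers b := by
  suffices key : ∀ c : G, c ^ p = 1 → δ ∈ Subgroup.zpowers c → Subgroup.zpowers c = Subgroup.zpowers δ from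
    (key a ha hδa).trans (key b hb hδb).symm
  intro c hc hδc
  show Subgroup.zpowers c = Subgroup.zpowers δ
  have hc1 : c ≠ 1 := fun h => hδ (by
    rw [h, Subgroup.zpowers_one_eq_bot, Subgroup.mem_bot] at hδc
    exact hδc)
  have hcard : Nat.card (Subgroup.zpowers c) = p := by rw [Nat.card_zpowers, orderOf_eq_prime hc hc1]
  haveI : Fact (Nat.card (Subgroup.zpowers c)).Prime := ⟨by rw [hcard]; exact hp.out⟩
  refine le_antisymm ?_ (Subgroup.zpowers_le.mpr hδc)
  rcases Subgroup.eq_bot_or_eq_top_of_prime_card ((Subgroup.zpowers δ).subgroupOf (Subgroup.zpowers c)) with h | h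
  · exact absurd (congrArg (fun x : Subgroup.zpowers c => (x : G)) (Subgroup.mem_bot.mp
      (h ▸ Subgroup.mem_zpowers δ : (⟨δ, hδc⟩ : Subgroup.zpowers c) ∈ (⊥ : Subgroup _)))) hδ
  · exact Subgroup.subgroupOf_eq_top.mp h

theorem smul_exists {V : Type*} [AddCommGroup V] [Module (ZMod p) V] {z : V} (hz : z ≠ 0) (D : V →+ V)
    (hD : ∀ x, ∃ k : ZMod p, D x = k • z) : Function.Injective (fun k : ZMod p => k • z) ∧
      ∃ φ : V →ₗ[ZMod p] ZMod p, ∀ x, D x = φ x • z := by
  choose f hf using hD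
  have hinj : Function.Injective fun k : ZMod p => k • z := smul_left_injective _ hz
  refine ⟨hinj, { toFun := f, map_add' := fun x y => hinj ?_, map_smul' := fun c x => hinj ?_ }, hf⟩
  · show f (x + y) • z = (f x + f y) • z
    rw [← hf, add_smul, ← hf, ← hf, map_add]
  · show f (c • x) • z = (c * f x) • z
    rw [← hf, ZMod.map_smul, mul_smul, ← hf]

theorem exists_neg {R : Type*} [CommGroup R] (hRexp : ∀ x : R, x ^ p = 1)
    {zR yR : R} (hzR1 : zR ≠ 1) (hyR1 : yR ≠ 1) {τ σ : MulAut R}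
    (hτsh : ∀ x, x⁻¹ * τ x ∈ Subgroup.zpowers zR) (hσsh : ∀ x, x⁻¹ * σ x ∈ Subgroup.zpowers yR)
    (hτz : τ zR = zR) (hτy : τ yR = zR * yR) (hσy : σ yR = yR) (hσz : σ zR ≠ zR) :
    ∃ k : ℕ, (τ * σ ^ k * τ * (τ * σ ^ k * τ)) zR = zR⁻¹ ∧
      τ * σ ^ k * τ * (τ * σ ^ k * τ) * τ = τ * (τ * σ ^ k * τ * (τ * σ ^ k * τ)) := by
  obtain ⟨inst⟩ : Nonempty (Module (ZMod p) (Additive R)) := ⟨AddCommGroup.zmodModule fun x => by
    apply Additive.toMul.injective
    simp [hRexp x.toMul]⟩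
  let mkA : MulAut R → (Additive R → Additive R) := fun e x => Additive.ofMul (e x.toMul)
  let D : MulAut R → (Additive R →+ Additive R) := fun e =>
    AddMonoidHom.mk' (fun x => mkA e x - x) fun x y => by
      simp only [mkA, toMul_add, map_mul, ofMul_mul]
      abel
  have hD : ∀ (e : MulAut R) (c : R), (∀ x, x⁻¹ * e x ∈ Subgroup.zpowers c) →
      ∀ x, ∃ k : ZMod p, D e x = k • Additive.ofMul c := by
    intro e c he x
    obtain ⟨i, hi⟩ := Subgroup.mem_zpowers_iff.mp (he x.toMul)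
    refine ⟨(i : ZMod p), ?_⟩
    rw [Int.cast_smul_eq_zsmul, ← ofMul_zpow, hi, ofMul_mul, ofMul_inv]
    show mkA e x - x = -x + mkA e x
    abel
  set Z := Additive.ofMul zR
  set Y := Additive.ofMul yR
  have hZ : Z ≠ 0 := fun h => hzR1 (Additive.ofMul.injective h)
  have hY : Y ≠ 0 := fun h => hyR1 (Additive.ofMul.injective h)
  obtain ⟨hinjZ, φ, hφ⟩ := GenES.smul_exists hZ (D τ) (hD τ zR hτsh)
  obtain ⟨hinjY, ψ, hψ⟩ := GenES.smul_exists hY (D σ) (hD σ yR hσsh)
  have hφz : φ Z = 0 := hinjZ (show φ Z • Z = (0 : ZMod p) • Z by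
    rw [zero_smul, ← hφ]
    show Additive.ofMul (τ zR) - Z = 0
    rw [hτz, sub_self])
  have hψy : ψ Y = 0 := hinjY (show ψ Y • Y = (0 : ZMod p) • Y by
    rw [zero_smul, ← hψ]
    show Additive.ofMul (σ yR) - Y = 0
    rw [hσy, sub_self])
  have hφy : φ Y = 1 := hinjZ (show φ Y • Z = (1 : ZMod p) • Z by
    rw [one_smul, ← hφ]
    show Additive.ofMul (τ yR) - Y = Z
    rw [hτy, ofMul_mul, add_sub_cancel_right])
  have hψz : ψ Z ≠ 0 := fun h => hσz (by
    have h1 := hψ Z
    rw [h, zero_smul] at h1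
    exact Additive.ofMul.injective (sub_eq_zero.mp h1))
  set k : ℕ := (-(ψ Z)⁻¹ : ZMod p).val
  have hσk : ∀ (j : ℕ) (x : Additive R), mkA (σ ^ j) x = x + ((j : ZMod p) * ψ x) • Y := by
    intro j
    induction j with
    | zero => intro x; simp [mkA]
    | succ j ih =>
      intro x
      have h1 : mkA σ x = x + ψ x • Y := by rw [← hψ]; exact (add_sub_cancel _ _).symm
      rw [show mkA (σ ^ (j + 1)) x = mkA (σ ^ j) (mkA σ x) by rw [pow_succ]; rfl, ih, h1, map_add, map_smul,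
        hψy, smul_zero, add_zero, add_assoc, ← add_smul]
      push_cast
      congr 2
      ring
  have hword := PGroup.OrderPCubeExtra.transvection_word φ ((k : ZMod p) • ψ) (z := Z) (y := Y)
    (mkA τ) (mkA (σ ^ k)) (fun x => by rw [← hφ]; exact (add_sub_cancel _ _).symm)
    (fun x => by rw [hσk]; simp) hφz (by simp [hψy]) hφy
    (by simp [k, ZMod.natCast_zmod_val, inv_mul_cancel₀ hψz])
  refine ⟨k, Additive.ofMul.injective (hword.1.trans (ofMul_inv zR).symm), MulEquiv.ext fun x => ?_⟩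
  exact Additive.ofMul.injective (hword.2 (Additive.ofMul x))

/-- A bare type of `n` elements. -/
def Carrier (n : ℕ) : Type := Fin n

instance (n : ℕ) : Finite (Carrier n) := inferInstanceAs (Finite (Fin n))

theorem card_carrier (n : ℕ) : Nat.card (Carrier n) = n := Nat.card_fin n

end GenES

theorem mul_pow_prime {G : Type*} [Group G] {p : ℕ} [hp : Fact p.Prime] (hp2 : p ≠ 2) {r t c : G}
    (hc : t * r * t⁻¹ * r⁻¹ = c) (hcr : Commute c r) (hct : Commute c t) (hcp : c ^ p = 1) :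
    (r * t) ^ p = r ^ p * t ^ p := by
  have hconj : ∀ j : ℕ, t ^ j * r = c ^ j * r * t ^ j := by
    intro j
    induction j with
    | zero => simp
    | succ j ihj =>
      rw [pow_succ' t, mul_assoc, ihj, show t * (c ^ j * r * t ^ j) = t * c ^ j * r * t ^ j by group,
        (hct.pow_left j).eq.symm, pow_succ' c, show c ^ j * t * r * t ^ j = c ^ j * (t * r * t⁻¹ * r⁻¹ * r * t) * t ^ j by
          group, hc]
      rw [show c ^ j * (c * r * t) = c * c ^ j * (r * t) by rw [← pow_succ', pow_succ]; group]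
      group
  have hpowrt : ∀ n : ℕ, (r * t) ^ n = r ^ n * c ^ (n.choose 2) * t ^ n := by
    intro n
    induction n with
    | zero => simp
    | succ n ih =>
      calc (r * t) ^ (n + 1) = r ^ n * c ^ n.choose 2 * (t ^ n * r) * t := by rw [pow_succ, ih]; group
        _ = r ^ n * (c ^ n.choose 2 * c ^ n) * r * (t ^ n * t) := by rw [hconj]; group
        _ = r ^ n * (r * (c ^ n.choose 2 * c ^ n)) * (t ^ n * t) := by
          rw [mul_assoc (r ^ n), ((hcr.pow_left _).mul_left (hcr.pow_left n)).eq]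
        _ = r ^ (n + 1) * c ^ ((n + 1).choose 2) * t ^ (n + 1) := by
          rw [← pow_add, Nat.choose_succ_succ' n 1, Nat.choose_one_right, add_comm n (n.choose 2), pow_succ,
            pow_succ]
          simp only [mul_assoc]
  obtain ⟨l, hl⟩ := hp.out.dvd_choose_self (k := 2) two_ne_zero (lt_of_le_of_ne hp.out.two_le (Ne.symm hp2))
  rw [hpowrt, hl, pow_mul, hcp, one_pow, mul_one]

variable {Ω : Type*} [Group Ω] {S P Q : Subgroup Ω} {F : FusionSystem S} {p : ℕ} [hp : Fact p.Prime] [Finite S]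

set_option maxHeartbeats 1000000 in
/-- The structure forced when a generalized extraspecial strongly closed subgroup is outside an essential one:
an elementary abelian subgroup of index `p`, and for odd `p` exponent `p`. -/
theorem genExtraspecial_escape (hS : IsPGroup p S) (hF : F.IsSaturated p) (hP : F.StronglyClosed P)
    (hge : frattini ↥P = commutator ↥P ∧ Nat.card ↥(commutator ↥P) = p) (hQ : F.IsEssential p Q)
    (hPQ : ¬ P ≤ Q) :
    ∃ (R W : Subgroup P) (z y t : P), (∀ r ∈ R, r ^ p = 1) ∧ (∀ r ∈ R, ∀ s ∈ R, r * s = s * r) ∧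
      commutator ↥P = Subgroup.zpowers z ∧ z ∈ R ∧ y ∈ R ∧ t ∉ R ∧ t * y * t⁻¹ * y⁻¹ = z ∧ z ≠ 1 ∧
      (∀ g, g * z = z * g) ∧ (∀ g, g ^ p ∈ Subgroup.zpowers z) ∧ R.index = p ∧ W ≤ R ∧
      (∀ w ∈ W, t * w = w * t) ∧ z ∉ W ∧
      (∀ r ∈ R, ∃ i j : ℤ, r * (y ^ j * z ^ i) ∈ W) ∧
      (p ≠ 2 → t ^ p = 1) := by
  classical
  have hQS := hQ.1.1
  haveI := finite_of_le_base hQS
  haveI := finite_of_le_base hP.1
  have hPp : IsPGroup p P := hS.to_le hP.1
  haveI := hPp.isNilpotent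
  -- the derived subgroup
  obtain ⟨zP, hzgen⟩ : ∃ z : P, Subgroup.zpowers z = commutator ↥P := by
    haveI : IsCyclic (commutator ↥P) := isCyclic_of_prime_card hge.2
    obtain ⟨⟨z, hz⟩, h⟩ := IsCyclic.exists_generator (α := commutator ↥P)
    refine ⟨z, le_antisymm (Subgroup.zpowers_le.mpr hz) fun x hx => ?_⟩
    obtain ⟨i, hi⟩ := Subgroup.mem_zpowers_iff.mp (h ⟨x, hx⟩)
    exact ⟨i, congrArg Subtype.val hi⟩
  set z : Ω := (zP : Ω) with hzdef
  have hzo : orderOf z = p := by rw [hzdef, Subgroup.orderOf_coe, ← Nat.card_zpowers, hzgen, hge.2]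
  have hzp : z ^ p = 1 := hzo ▸ pow_orderOf_eq_one z
  have hz1 : z ≠ 1 := fun h => hp.out.ne_one (by rw [← hzo, h, orderOf_one])
  have hzc : ∀ s ∈ S, s * z = z * s := by
    let Z : Subgroup S := ((commutator ↥P).map P.subtype).subgroupOf S
    have hle : (commutator ↥P).map P.subtype ≤ S := (Subgroup.map_subtype_le _).trans hP.1
    haveI : Z.Normal := ⟨fun a ha s => by
      obtain ⟨c, hc, hca⟩ := ha
      let f : MulAut P :=
        { toFun := fun x => ⟨(s : Ω) * x * (s : Ω)⁻¹, sc_conj hP s.2 x.2⟩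
          invFun := fun x => ⟨(s : Ω)⁻¹ * x * (s : Ω), by simpa using sc_conj hP (S.inv_mem s.2) x.2⟩
          left_inv := fun x => Subtype.ext (by simp [mul_assoc])
          right_inv := fun x => Subtype.ext (by simp [mul_assoc])
          map_mul' := fun x y => Subtype.ext (by simp [mul_assoc]) }
      have hfc : f c ∈ commutator ↥P := by
        rw [← Subgroup.characteristic_iff_map_eq.mp (inferInstance : (commutator ↥P).Characteristic) f]
        exact ⟨c, hc, rfl⟩
      refine ⟨f c, hfc, ?_⟩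
      have hca' : (c : Ω) = ((a : S) : Ω) := hca
      simp [f, hca']⟩
    have hZc : Nat.card Z = p := by
      rw [Nat.card_congr (Subgroup.subgroupOfEquivOfLe hle).toEquiv,
        Subgroup.card_map_of_injective P.subtype_injective, hge.2]
    haveI := hS.isNilpotent
    have hne := CfsgLib.Solvable.FrattiniFitting.inf_center_ne_bot Z (fun h => by
      rw [h, Subgroup.card_bot] at hZc; exact hp.out.ne_one hZc.symm)
    have hle2 : Z ≤ Subgroup.center S := by
      rw [← inf_eq_left]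
      refine Subgroup.eq_of_le_of_card_ge inf_le_left ?_
      rw [hZc]
      rcases (Nat.dvd_prime hp.out).mp (hZc ▸ Subgroup.card_dvd_of_le (inf_le_left : Z ⊓ Subgroup.center S ≤ Z)) with h | h
      · exact absurd ((Subgroup.card_le_one_iff_eq_bot _).mp h.le) hne
      · rw [h]
    intro s hs
    have hzZ : (⟨z, hP.1 zP.2⟩ : S) ∈ Z := ⟨zP, hzgen ▸ Subgroup.mem_zpowers zP, rfl⟩
    exact congrArg Subtype.val (Subgroup.mem_center_iff.mp (hle2 hzZ) ⟨s, hs⟩)
  have hzQ : z ∈ Q := centralizer_le_of_centric hQ.1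
    ⟨hP.1 zP.2, Subgroup.mem_centralizer_iff.mpr fun q hq => hzc q (hQS hq)⟩
  have hcm : ∀ u x : Ω, u ∈ P → x ∈ P → u * x * u⁻¹ * x⁻¹ ∈ Subgroup.zpowers z := fun u x hu hx => by
    have h : ⁅(⟨u, hu⟩ : P), (⟨x, hx⟩ : P)⁆ ∈ Subgroup.zpowers zP := hzgen.symm ▸
      Subgroup.commutator_mem_commutator (Subgroup.mem_top _) (Subgroup.mem_top _)
    obtain ⟨i, hi⟩ := Subgroup.mem_zpowers_iff.mp h
    exact ⟨i, by simpa [commutatorElement_def] using congrArg Subtype.val hi⟩
  have hpw : ∀ x ∈ P, x ^ p ∈ Subgroup.zpowers z := fun x hx => by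
    have h : (⟨x, hx⟩ : P) ^ p ∈ Subgroup.zpowers zP := by
      rw [hzgen, ← hge.1]
      exact PGroup.Frattini.pow_mem_frattini hPp _
    obtain ⟨i, hi⟩ := Subgroup.mem_zpowers_iff.mp h
    exact ⟨i, by simpa using congrArg Subtype.val hi⟩
  -- the action on `R = P ∩ Q`
  let R : Subgroup Q := P.subgroupOf Q
  have hRp : IsPGroup p R := (hS.to_le hQS).to_subgroup R
  have hRinv : ∀ a ∈ F.autGroup Q, ∀ x : Q, x ∈ R → a x ∈ R := fun a ha x hx => by
    have := (stronglyClosed_iff_fn.1 hP).2 _ _ ((mem_autGroup_iff_fn hQS).1 ha) x x.2 hx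
    rwa [autFn_coe] at this
  let res : F.autGroup Q →* MulAut R := MonoidHom.mk'
    (fun a =>
      { toFun := fun x => ⟨(a : MulAut Q) x, hRinv _ a.2 _ x.2⟩
        invFun := fun x => ⟨((a⁻¹ : F.autGroup Q) : MulAut Q) x, hRinv _ (a⁻¹).2 _ x.2⟩
        left_inv := fun x => Subtype.ext (MulAut.inv_apply_self Q (a : MulAut Q) _)
        right_inv := fun x => Subtype.ext (MulAut.apply_inv_self Q (a : MulAut Q) _)
        map_mul' := fun x y => Subtype.ext (map_mul (a : MulAut Q) _ _) })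
    fun a b => MulEquiv.ext fun x => rfl
  let zR : R := ⟨⟨z, hzQ⟩, zP.2⟩
  have hzRp : zR ^ p = 1 := Subtype.ext (Subtype.ext hzp)
  have hzR1 : zR ≠ 1 := fun h => hz1 (congrArg (fun x : R => ((x : Q) : Ω)) h)
  have hmemR : ∀ {x : R}, ((x : Q) : Ω) ∈ Subgroup.zpowers z → x ∈ Subgroup.zpowers zR := fun {x} hx => by
    obtain ⟨i, hi⟩ := Subgroup.mem_zpowers_iff.mp hx
    exact ⟨i, Subtype.ext (Subtype.ext (by simpa [zR] using hi))⟩
  let ct : ∀ u, u ∈ P → u ∈ Subgroup.normalizer (Q : Set Ω) → F.autGroup Q := fun u hu huN =>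
    ⟨conjAut Q huN, autInducedBy_le_autGroup hQS (conjAut_mem_autInducedBy huN (hP.1 hu))⟩
  have hctR : ∀ u (hu : u ∈ P) (huN : u ∈ Subgroup.normalizer (Q : Set Ω)) (x : R),
      ((res (ct u hu huN) x : Q) : Ω) = u * ((x : Q) : Ω) * u⁻¹ := fun u hu huN x => rfl
  have hct0 : ∀ u (hu : u ∈ P) (huN : u ∈ Subgroup.normalizer (Q : Set Ω)) (x : Q),
      x⁻¹ * (ct u hu huN : MulAut Q) x ∈ R := fun u hu huN x => by
    show ((x⁻¹ * conjAut Q huN x : Q) : Ω) ∈ P
    rw [Subgroup.coe_mul, Subgroup.coe_inv, conjAut_coe]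
    have := P.mul_mem (sc_conj hP (S.inv_mem (hQS x.2)) hu) (P.inv_mem hu)
    simpa [mul_assoc] using this
  have hshift : ∀ u (hu : u ∈ P) (huN : u ∈ Subgroup.normalizer (Q : Set Ω)) (x : R),
      x⁻¹ * res (ct u hu huN) x ∈ Subgroup.zpowers zR := fun u hu huN x => hmemR (by
    show ((x : Q) : Ω)⁻¹ * (u * ((x : Q) : Ω) * u⁻¹) ∈ Subgroup.zpowers z
    have := hcm _ _ (P.inv_mem x.2) hu
    simpa [mul_assoc] using this)
  have hzfix : ∀ u (hu : u ∈ P) (huN : u ∈ Subgroup.normalizer (Q : Set Ω)), res (ct u hu huN) zR = zR :=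
    fun u hu huN => Subtype.ext (Subtype.ext (by
      rw [hctR u hu huN]; show u * z * u⁻¹ = z
      rw [hzc u (hP.1 hu), mul_inv_cancel_right]))
  -- normal p-subgroups of the range do not see `P`
  have hnorm : ∀ u (hu : u ∈ P) (huN : u ∈ Subgroup.normalizer (Q : Set Ω)), u ∉ Q →
      ∀ B : Subgroup (MulAut R), IsPGroup p B → (∀ g, ∀ b ∈ B, res g * b * (res g)⁻¹ ∈ B) →
      res (ct u hu huN) ∉ B := fun u hu huN huQ B hBp hBn hct => by
    let M : Subgroup (F.autGroup Q) :=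
      { carrier := {a | (∀ x : Q, x⁻¹ * (a : MulAut Q) x ∈ R) ∧ res a ∈ B}
        one_mem' := ⟨fun x => by simp, by rw [map_one]; exact one_mem B⟩
        mul_mem' := fun {a b} ha hb => ⟨fun x => by
          rw [Subgroup.coe_mul, MulAut.mul_apply,
            show x⁻¹ * (a : MulAut Q) ((b : MulAut Q) x) = (x⁻¹ * (b : MulAut Q) x) *
              (((b : MulAut Q) x)⁻¹ * (a : MulAut Q) ((b : MulAut Q) x)) by group]
          exact mul_mem (hb.1 x) (ha.1 _), by rw [map_mul]; exact mul_mem ha.2 hb.2⟩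
        inv_mem' := fun {a} ha => ⟨fun x => by
          have h := inv_mem (ha.1 ((((a⁻¹ : F.autGroup Q)) : MulAut Q) x))
          rw [show (a : MulAut Q) (((a⁻¹ : F.autGroup Q) : MulAut Q) x) = x from MulAut.apply_inv_self Q _ _,
            mul_inv_rev, inv_inv] at h
          exact h, by rw [map_inv]; exact inv_mem ha.2⟩ }
    have hMn : M.Normal := ⟨fun a ha g => ⟨fun x => by
      set y := ((g⁻¹ : F.autGroup Q) : MulAut Q) x
      have hgy : (g : MulAut Q) y = x := MulAut.apply_inv_self Q _ _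
      have := hRinv _ g.2 _ (ha.1 y)
      rw [map_mul, map_inv, hgy] at this
      exact this, by rw [map_mul, map_mul, map_inv]; exact hBn g _ ha.2⟩⟩
    have hMp : IsPGroup p M := isPGroup_of_forall_coprime fun a hcop => by
      have hco : (orderOf ((a : F.autGroup Q) : MulAut Q)).Coprime p := by
        rwa [Subgroup.orderOf_coe, Subgroup.orderOf_coe]
      obtain ⟨k, hk⟩ := hBp ⟨_, a.2.2⟩
      have hk' : res (a : F.autGroup Q) ^ p ^ k = 1 := congrArg Subtype.val hk
      have hd : orderOf (res (a : F.autGroup Q)) ∣ orderOf ((a : F.autGroup Q) : MulAut Q) := by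
        rw [Subgroup.orderOf_coe]; exact orderOf_map_dvd res _
      have hres : res (a : F.autGroup Q) = 1 := orderOf_eq_one_iff.mp
        (Nat.eq_one_of_dvd_coprimes (hco.pow_right k) hd (orderOf_dvd_of_pow_eq_one hk'))
      refine Subtype.ext (Subtype.ext (MulEquiv.ext fun x => ?_))
      have hfix := congrArg (fun α : MulAut R => ((α ⟨_, a.2.1 x⟩ : R) : Q)) hres
      exact fixed_of_fixed_shift (hS.to_le hQS) hco hfix
    refine huQ ?_
    have := (essential_radical hS hQ).2.le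
      ⟨ct u hu huN, CfsgLib.Solvable.Cores.le_pCore (hn := hMn) hMp ⟨hct0 u hu huN, hct⟩, rfl⟩
    exact (conjAut_mem_inn_iff (centralizer_le_of_centric hQ.1) ⟨hP.1 hu, huN⟩ hQS).1 this
  have hne : ∀ u (hu : u ∈ P) (huN : u ∈ Subgroup.normalizer (Q : Set Ω)), u ∉ Q → res (ct u hu huN) ≠ 1 :=
    fun u hu huN huQ h => hnorm u hu huN huQ ⊥ IsPGroup.of_bot (fun g b hb => by
      rw [Subgroup.mem_bot] at hb ⊢; rw [hb, mul_one, mul_inv_cancel]) (Subgroup.mem_bot.mpr h)
  -- stabilisers of short chains are p-groups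
  have hstab : ∀ (V L : Subgroup R) (Y : Subgroup (MulAut R)),
      (∀ b ∈ Y, ∀ x, x⁻¹ * b x ∈ V) → (∀ b ∈ Y, ∀ x ∈ V, x⁻¹ * b x ∈ L) → (∀ b ∈ Y, ∀ x ∈ L, b x = x) →
      IsPGroup p Y := fun V L Y h1 h2 h3 => isPGroup_of_forall_coprime fun a hcop => by
    have hco : (orderOf (a : MulAut R)).Coprime p := by rwa [Subgroup.orderOf_coe]
    have hV : ∀ x ∈ V, (a : MulAut R) x = x := fun x hx =>
      fixed_of_fixed_shift hRp hco (h3 _ a.2 _ (h2 _ a.2 x hx))
    exact Subtype.ext (MulEquiv.ext fun x => fixed_of_fixed_shift hRp hco (hV _ (h1 _ a.2 x)))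
  -- an element of `N_P(Q)` outside `Q`
  obtain ⟨t, htP, htN, htQ⟩ : ∃ t ∈ P, t ∈ Subgroup.normalizer (Q : Set Ω) ∧ t ∉ Q := by
    by_contra hno
    push Not at hno
    exact hPQ (le_of_forall_normalizer hS hQS hP.1 (hQS.trans (sc_le_normalizer hP)) hno)
  -- the centre is moved
  obtain ⟨a0, ha0⟩ : ∃ a : F.autGroup Q, res a zR ∉ Subgroup.zpowers zR := by
    by_contra hno
    push Not at hno
    let B : Subgroup (MulAut R) :=
      { carrier := {b | (∀ x, x⁻¹ * b x ∈ Subgroup.zpowers zR) ∧ b zR = zR}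
        one_mem' := ⟨fun x => by simp, rfl⟩
        mul_mem' := fun {a b} ha hb => ⟨fun x => by
          rw [MulAut.mul_apply, show x⁻¹ * a (b x) = (x⁻¹ * b x) * ((b x)⁻¹ * a (b x)) by group]
          exact mul_mem (hb.1 x) (ha.1 _), by rw [MulAut.mul_apply, hb.2, ha.2]⟩
        inv_mem' := fun {a} ha => ⟨fun x => by
          have h := inv_mem (ha.1 (a⁻¹ x))
          rwa [MulAut.apply_inv_self, mul_inv_rev, inv_inv] at h,
          by rw [← ha.2, MulAut.inv_apply_self, ha.2]⟩ }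
    have hfix : ∀ (b : MulAut R), b zR = zR → ∀ x ∈ Subgroup.zpowers zR, b x = x := fun b hb x hx => by
      obtain ⟨i, rfl⟩ := Subgroup.mem_zpowers_iff.mp hx
      rw [map_zpow, hb]
    refine hnorm t htP htN htQ B (hstab _ ⊥ B (fun b hb => hb.1) (fun b hb x hx => ?_) (fun b _ x hx => ?_))
      (fun g b hb => ⟨fun x => ?_, ?_⟩) ⟨hshift t htP htN, hzfix t htP htN⟩
    · rw [hfix b hb.2 x hx, inv_mul_cancel]; exact one_mem _
    · rw [Subgroup.mem_bot] at hx; rw [hx, map_one]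
    · set y := (res g)⁻¹ x
      have hgy : res g y = x := MulAut.apply_inv_self R _ _
      obtain ⟨i, hi⟩ := Subgroup.mem_zpowers_iff.mp (hb.1 y)
      rw [MulAut.mul_apply, MulAut.mul_apply, ← hgy, ← map_inv, ← map_mul, MulAut.inv_apply_self, ← hi, map_zpow]
      exact Subgroup.zpow_mem _ (hno g) i
    · have h := hno g⁻¹
      rw [map_inv] at h
      rw [MulAut.mul_apply, MulAut.mul_apply, hfix b hb.2 _ h, MulAut.apply_inv_self]
  -- so `R` is elementary abelian
  have hconst : ∀ δ : R, δ ∈ Subgroup.zpowers zR → res a0 δ ∈ Subgroup.zpowers zR → δ = 1 := fun δ h1 h2 => by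
    by_contra hδ
    obtain ⟨i, hi⟩ := Subgroup.mem_zpowers_iff.mp h1
    have h3 : res a0 δ ∈ Subgroup.zpowers (res a0 zR) := ⟨i, by rw [← hi, map_zpow]⟩
    exact ha0 (GenES.zpowers_eq_of_common (by rw [← map_pow, hzRp, map_one]) hzRp
      (fun h => hδ ((res a0).map_eq_one_iff.mp h)) h3 h2 ▸ Subgroup.mem_zpowers _)
  have hcmR : ∀ x y : R, ⁅x, y⁆ ∈ Subgroup.zpowers zR := fun x y => hmemR (by
    simpa [commutatorElement_def] using hcm _ _ x.2 y.2)
  have hRab : ∀ x y : R, x * y = y * x := fun x y => commutatorElement_eq_one_iff_mul_comm.mp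
    (hconst _ (hcmR x y) (by rw [map_commutatorElement]; exact hcmR _ _))
  have hRexp : ∀ x : R, x ^ p = 1 := fun x => hconst _ (hmemR (by simpa using hpw _ x.2))
    (by rw [map_pow]; exact hmemR (by simpa using hpw _ (res a0 x).2))
  -- `R` is self-centralising in `P`
  have hH : ∀ x ∈ P, (∀ r : R, x * ((r : Q) : Ω) = ((r : Q) : Ω) * x) → x ∈ Q := by
    let H : Subgroup Ω := P ⊓ Subgroup.centralizer ((P ⊓ Q : Subgroup Ω) : Set Ω)
    have hHn : Q ≤ Subgroup.normalizer (H : Set Ω) := fun x hx => by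
      have hconj : ∀ y ∈ Q, ∀ h ∈ H, y * h * y⁻¹ ∈ H := fun y hy h hh => by
        refine ⟨sc_conj hP (hQS hy) hh.1, Subgroup.mem_centralizer_iff.mpr fun r hr => ?_⟩
        have h1 : y⁻¹ * r * y ∈ P ⊓ Q :=
          ⟨by simpa using sc_conj hP (S.inv_mem (hQS hy)) hr.1, Q.mul_mem (Q.mul_mem (Q.inv_mem hy) hr.2) hy⟩
        calc r * (y * h * y⁻¹) = y * ((y⁻¹ * r * y) * h) * y⁻¹ := by group
          _ = y * (h * (y⁻¹ * r * y)) * y⁻¹ := by rw [Subgroup.mem_centralizer_iff.mp hh.2 _ h1]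
          _ = y * h * y⁻¹ * r := by group
      rw [Subgroup.mem_normalizer_iff]
      refine fun h => ⟨hconj x hx h, fun hh => ?_⟩
      simpa [mul_assoc] using hconj x⁻¹ (Q.inv_mem hx) _ hh
    have hHQ : H ≤ Q := le_of_forall_normalizer hS hQS (inf_le_left.trans hP.1) hHn fun u hu huN => by
      by_contra huQ
      refine hne u hu.1 huN huQ (MulEquiv.ext fun r => Subtype.ext (Subtype.ext ?_))
      have hcu : ((r : Q) : Ω) * u = u * ((r : Q) : Ω) :=
        Subgroup.mem_centralizer_iff.mp hu.2 _ ⟨r.2, (r : Q).2⟩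
      rw [hctR u hu.1 huN, ← hcu, mul_inv_cancel_right]; rfl
    exact fun x hx hc => hHQ ⟨hx, Subgroup.mem_centralizer_iff.mpr fun r hr => (hc ⟨⟨r, hr.2⟩, hr.1⟩).symm⟩
  -- the image of `Aut_S(Q)` and strong closure
  obtain ⟨⟨-, TS, hTS⟩, -⟩ := fullyNormalized_good hS hF hQ.2.1
  set T : Subgroup (MulAut R) := (TS : Subgroup (F.autGroup Q)).map res with hTdef
  have hSC : ∀ (a : F.autGroup Q) u (hu : u ∈ P) (huN : u ∈ Subgroup.normalizer (Q : Set Ω)),
      res (a * ct u hu huN * a⁻¹) ∈ T →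
      ∃ (b : F.autGroup Q) (v : Ω) (hv : v ∈ P) (hvN : v ∈ Subgroup.normalizer (Q : Set Ω)),
        res b = res a ∧ res (ct v hv hvN) = res (a * ct u hu huN * a⁻¹) ∧
        ∀ (i : ℕ) (h : u ^ i ∈ Q), (((b : MulAut Q) ⟨u ^ i, h⟩ : Q) : Ω) = v ^ i := by
    intro a u hu huN hmem
    set x := a * ct u hu huN * a⁻¹
    let H : Subgroup (F.autGroup Q) := T.comap res
    have hTH : (TS : Subgroup (F.autGroup Q)) ≤ H := Subgroup.map_le_iff_le_comap.mp le_rfl
    have huT : ct u hu huN ∈ (TS : Subgroup (F.autGroup Q)) := by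
      rw [hTS]; exact conjAut_mem_autInducedBy huN (hP.1 hu)
    have hxp : IsPGroup p (Subgroup.zpowers (⟨x, hmem⟩ : H)) := by
      obtain ⟨k, hk⟩ := TS.2 ⟨_, huT⟩
      have hk' : x ^ p ^ k = 1 := by
        have h1 : ct u hu huN ^ p ^ k = 1 := by simpa using congrArg Subtype.val hk
        rw [conj_pow, h1, mul_one, mul_inv_cancel]
      obtain ⟨j, -, hj⟩ := (Nat.dvd_prime_pow hp.out).mp (orderOf_dvd_of_pow_eq_one
        (show (⟨x, hmem⟩ : H) ^ p ^ k = 1 from Subtype.ext (by simpa using hk')))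
      exact IsPGroup.of_card (n := j) (by rw [Nat.card_zpowers, hj])
    obtain ⟨PX, hPX⟩ := hxp.exists_le_sylow
    obtain ⟨h, hh⟩ := MulAction.exists_smul_eq H PX (TS.subtype hTH)
    have hx' : (h : F.autGroup Q) * x * (h : F.autGroup Q)⁻¹ ∈ (TS : Subgroup (F.autGroup Q)) := by
      have h1 : MulAut.conj h (⟨x, hmem⟩ : H) ∈ MulAut.conj h • (PX : Subgroup H) :=
        Subgroup.smul_mem_pointwise_smul _ _ _ (hPX (Subgroup.mem_zpowers _))
      rw [← Sylow.coe_subgroup_smul] at h1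
      rw [hh] at h1
      exact h1
    obtain ⟨s, hs, hsh⟩ := Subgroup.mem_map.mp h.2
    set b := s⁻¹ * (h : F.autGroup Q) * a
    have hb : res b = res a := by
      rw [map_mul, map_mul, map_inv, hsh, inv_mul_cancel, one_mul]
    have hconj : b * ct u hu huN * b⁻¹ ∈ (TS : Subgroup (F.autGroup Q)) := by
      rw [show b * ct u hu huN * b⁻¹ = s⁻¹ * ((h : F.autGroup Q) * x * (h : F.autGroup Q)⁻¹) * s by
        simp only [b, x]; group]
      exact mul_mem (mul_mem (inv_mem hs) hx') hs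
    obtain ⟨N, g, hg, hQN, hN, hge'⟩ := receptive_extend (fullyNormalized_receptive hS hF hQ.2.1)
      ((mem_autGroup_iff_fn hQS).1 b.2) (img_autFn (b : MulAut Q))
    have huNN : u ∈ N := by
      refine (hN u).2 ?_
      rw [hTS] at hconj
      obtain ⟨w, hw, hwx⟩ := mem_autInducedBy.1 (show _ ∈ autInducedBy S Q from hconj)
      refine ⟨hP.1 hu, huN, w, hw, fun y hy => ?_⟩
      lift y to Q using hy
      have h1 : (((b : MulAut Q) (conjAut Q huN y) : Q) : Ω) = w * (((b : MulAut Q) y : Q) : Ω) * w⁻¹ := by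
        rw [← hwx ((b : MulAut Q) y)]
        exact congrArg (fun y' : Q => (((b : MulAut Q) (conjAut Q huN y') : Q) : Ω))
          (MulAut.inv_apply_self Q (b : MulAut Q) y).symm
      rw [← conjAut_coe huN y, autFn_coe, autFn_coe]
      exact h1
    have himg : img g Q = Q := by
      rw [img_congr fun y hy => hge' y hy]
      exact img_autFn (b : MulAut Q)
    have hgP : g u ∈ P := (stronglyClosed_iff_fn.1 hP).2 _ _ hg u huNN hu
    have hgN : g u ∈ Subgroup.normalizer (Q : Set Ω) := (hg.map_normalizer hQN himg huNN huN).2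
    refine ⟨b, g u, hgP, hgN, hb, ?_, fun i hi => ?_⟩
    · have h1 : ct (g u) hgP hgN = b * ct u hu huN * b⁻¹ := by
        refine Subtype.ext (MulEquiv.ext fun y => ?_)
        obtain ⟨w, rfl⟩ := (b : MulAut Q).surjective y
        simp only [Subgroup.coe_mul, MulAut.mul_apply, InvMemClass.coe_inv, MulAut.inv_apply_self]
        apply Subtype.ext
        show ((conjAut Q hgN ((b : MulAut Q) w) : Q) : Ω) = (((b : MulAut Q) (conjAut Q huN w) : Q) : Ω)
        rw [conjAut_coe, ← autFn_coe (b : MulAut Q) w, ← autFn_coe (b : MulAut Q) (conjAut Q huN w),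
          ← hge' _ w.2, ← hge' _ (conjAut Q huN w).2, conjAut_coe, hg.map_conj huNN (hQN w.2)]
      rw [h1, map_mul, map_mul, map_inv, hb]
      simp [x]
    · have hgpow : ∀ j : ℕ, g (u ^ j) = g u ^ j := by
        intro j
        induction j with
        | zero =>
          rw [pow_zero, pow_zero, hge' 1 Q.one_mem, show (1 : Ω) = ((1 : Q) : Ω) from rfl, autFn_coe, map_one]
        | succ j ih => rw [pow_succ, pow_succ, hg.map_mul (N.pow_mem huNN j) huNN, ih]
      rw [← autFn_coe (b : MulAut Q) ⟨u ^ i, hi⟩, ← hge' _ hi, hgpow]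
  -- elements of `P` outside `Q` move every moved image of the centre
  have hTC : ∀ a : F.autGroup Q, res a zR ∉ Subgroup.zpowers zR →
      ∀ u (hu : u ∈ P) (huN : u ∈ Subgroup.normalizer (Q : Set Ω)), u ∉ Q →
      res (ct u hu huN) (res a zR) ≠ res a zR := by
    intro a ha u hu huN huQ hfix
    set τ := res (ct u hu huN) with hτ
    set z' := res a zR with hz'
    set V0 := Subgroup.zpowers zR ⊔ Subgroup.zpowers z'
    set L := Subgroup.zpowers z'
    have hLV : L ≤ V0 := le_sup_right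
    let Y0 : Submonoid (MulAut R) :=
      { carrier := {b | (∀ x, x⁻¹ * b x ∈ V0) ∧ (∀ x ∈ V0, x⁻¹ * b x ∈ L) ∧ ∀ x ∈ L, b x = x}
        one_mem' := ⟨fun x => by simp, fun x _ => by simp, fun x _ => rfl⟩
        mul_mem' := fun {c d} hc hd => ⟨fun x => by
            rw [MulAut.mul_apply, show x⁻¹ * c (d x) = (x⁻¹ * d x) * ((d x)⁻¹ * c (d x)) by group]
            exact mul_mem (hd.1 x) (hc.1 _),
          fun x hx => by
            have hdx : d x ∈ V0 := by
              rw [← mul_inv_cancel_left x (d x)]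
              exact mul_mem hx (hLV (hd.2.1 x hx))
            rw [MulAut.mul_apply, show x⁻¹ * c (d x) = (x⁻¹ * d x) * ((d x)⁻¹ * c (d x)) by group]
            exact mul_mem (hd.2.1 x hx) (hc.2.1 _ hdx),
          fun x hx => by rw [MulAut.mul_apply, hd.2.2 x hx, hc.2.2 x hx]⟩ }
    let Y : Subgroup (MulAut R) :=
      { Y0 with
        inv_mem' := fun {c} hc => by
          rw [show c⁻¹ = c ^ (orderOf c - 1) from inv_eq_of_mul_eq_one_right (by
            rw [← pow_succ', Nat.sub_add_cancel (orderOf_pos c), pow_orderOf_eq_one])]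
          exact pow_mem (show c ∈ Y0 from hc) _ }
    have hYp : IsPGroup p Y := hstab V0 L Y (fun b hb => hb.1) (fun b hb => hb.2.1) (fun b hb => hb.2.2)
    have hτV : ∀ x ∈ V0, τ x = x := by
      intro x hx
      have hle : V0 ≤ MonoidHom.eqLocus τ.toMonoidHom (MonoidHom.id R) :=
        sup_le (Subgroup.zpowers_le.mpr (hzfix u hu huN)) (Subgroup.zpowers_le.mpr hfix)
      exact hle hx
    have hτY : τ ∈ Y := ⟨fun x => Subgroup.mem_sup_left (hshift u hu huN x),
      fun x hx => by rw [hτV x hx, inv_mul_cancel]; exact one_mem _, fun x hx => hτV x (hLV hx)⟩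
    have hσL : ∀ x, x⁻¹ * res (a * ct u hu huN * a⁻¹) x ∈ L := fun x => by
      set y := (res a)⁻¹ x
      have hay : res a y = x := MulAut.apply_inv_self R _ _
      obtain ⟨i, hi⟩ := Subgroup.mem_zpowers_iff.mp (hshift u hu huN y)
      rw [map_mul, map_mul, map_inv, MulAut.mul_apply, MulAut.mul_apply, ← hay, ← map_inv, ← map_mul,
        MulAut.inv_apply_self, ← hi, map_zpow]
      exact Subgroup.zpow_mem _ (Subgroup.mem_zpowers z') i
    have hσY : res (a * ct u hu huN * a⁻¹) ∈ Y := ⟨fun x => hLV (hσL x), fun x _ => hσL x, fun x hx => by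
      obtain ⟨i, rfl⟩ := Subgroup.mem_zpowers_iff.mp hx
      rw [map_zpow, map_mul, map_mul, map_inv, MulAut.mul_apply, MulAut.mul_apply, hz',
        MulAut.inv_apply_self, ← hτ, hzfix u hu huN]⟩
    let T' : Sylow p res.range := TS.mapSurjective res.rangeRestrict_surjective
    have hYr : IsPGroup p (Y.subgroupOf res.range) :=
      hYp.comap_of_injective _ res.range.subtype_injective
    obtain ⟨PX, hPX⟩ := hYr.exists_le_sylow
    obtain ⟨⟨_, g, rfl⟩, hg⟩ := MulAction.exists_smul_eq res.range PX T'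
    have hmemT : ∀ c : F.autGroup Q, res c ∈ Y → res (g * c * g⁻¹) ∈ T := by
      intro c hc
      have h1 : MulAut.conj (⟨res g, g, rfl⟩ : res.range) (⟨res c, c, rfl⟩ : res.range) ∈
          MulAut.conj (⟨res g, g, rfl⟩ : res.range) • (PX : Subgroup res.range) :=
        Subgroup.smul_mem_pointwise_smul _ _ _ (hPX hc)
      rw [← Sylow.coe_subgroup_smul] at h1
      rw [hg, Sylow.coe_mapSurjective] at h1
      obtain ⟨s, hs, hsx⟩ := Subgroup.mem_map.mp h1
      exact ⟨s, hs, by rw [map_mul, map_mul, map_inv]; exact congrArg Subtype.val hsx⟩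
    have hcent : ∀ c : F.autGroup Q, res (c * ct u hu huN * c⁻¹) ∈ T →
        Subgroup.zpowers (res c zR) = Subgroup.zpowers zR := by
      intro c hc
      obtain ⟨-, v, hv, hvN, -, hcv, -⟩ := hSC c u hu huN hc
      obtain ⟨x, hx⟩ : ∃ x, res (ct v hv hvN) x ≠ x := by
        by_contra hall
        push Not at hall
        refine hne u hu huN huQ ?_
        have h1 : res (ct v hv hvN) = 1 := MulEquiv.ext hall
        rwa [hcv, map_mul, map_mul, map_inv, mul_inv_eq_one, mul_eq_left] at h1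
      refine GenES.zpowers_eq_of_common (by rw [← map_pow, hzRp, map_one]) hzRp
        (fun h => hx (inv_mul_eq_one.mp h).symm) ?_ (hshift v hv hvN x)
      rw [hcv]
      set y := (res c)⁻¹ x
      have hcy : res c y = x := MulAut.apply_inv_self R _ _
      obtain ⟨i, hi⟩ := Subgroup.mem_zpowers_iff.mp (hshift u hu huN y)
      rw [map_mul, map_mul, map_inv, MulAut.mul_apply, MulAut.mul_apply, ← hcy, ← map_inv, ← map_mul,
        MulAut.inv_apply_self, ← hi, map_zpow]
      exact Subgroup.zpow_mem _ (Subgroup.mem_zpowers _) i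
    have hga := hcent (g * a) (by
      have := hmemT _ hσY
      rwa [show g * a * ct u hu huN * (g * a)⁻¹ = g * (a * ct u hu huN * a⁻¹) * g⁻¹ by group])
    have hg' := hcent g (hmemT _ hτY)
    apply ha
    have h1 : res (g * a) zR ∈ Subgroup.zpowers (res g zR) := by rw [hg', ← hga]; exact Subgroup.mem_zpowers _
    obtain ⟨i, hi⟩ := Subgroup.mem_zpowers_iff.mp h1
    rw [map_mul, MulAut.mul_apply, ← map_zpow] at hi
    exact ⟨i, (res g).injective hi⟩
  -- `P` normalises `Q`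
  set y0 := res a0 zR with hy0
  have hyQ : ∀ q ∈ Q, q * ((y0 : Q) : Ω) = ((y0 : Q) : Ω) * q := fun q hq => by
    obtain ⟨q', hq'⟩ := (a0 : MulAut Q).surjective ⟨q, hq⟩
    have h1 : q' * (zR : Q) = (zR : Q) * q' := Subtype.ext (hzc q' (hQS q'.2))
    have h2 := congrArg (fun x : Q => (((a0 : MulAut Q) x : Q) : Ω)) h1
    simp only [map_mul, Subgroup.coe_mul, hq'] at h2
    exact h2
  have hPN : P ≤ Subgroup.normalizer (Q : Set Ω) := by
    refine le_trans ?_ (inf_le_right : normalizerIn S Q ≤ _)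
    refine le_of_forall_normalizer hS inf_le_left hP.1 (inf_le_left.trans (sc_le_normalizer hP))
      fun x hx hxN => ⟨hP.1 hx, ?_⟩
    have key : ∀ w ∈ P, w ∈ Subgroup.normalizer (normalizerIn S Q : Set Ω) → ∀ q ∈ Q, w * q * w⁻¹ ∈ Q := by
      intro w hw hwN q hq
      have hqW : q ∈ normalizerIn S Q := le_normalizerIn hQS hq
      set c := w * q * w⁻¹ * q⁻¹ with hc
      have hcP : c ∈ P := by
        rw [hc, show w * q * w⁻¹ * q⁻¹ = w * (q * w⁻¹ * q⁻¹) by group]
        exact P.mul_mem hw (sc_conj hP (hQS hq) (P.inv_mem hw))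
      have hcN : c ∈ Subgroup.normalizer (Q : Set Ω) :=
        (mul_mem ((Subgroup.mem_normalizer_iff.mp hwN q).mp hqW) (inv_mem hqW)).2
      rw [show w * q * w⁻¹ = c * q by rw [hc, inv_mul_cancel_right]]
      refine Q.mul_mem ?_ hq
      by_contra hcQ
      refine hTC a0 ha0 c hcP hcN hcQ (Subtype.ext (Subtype.ext ?_))
      rw [hctR c hcP hcN]
      show c * ((y0 : Q) : Ω) * c⁻¹ = ((y0 : Q) : Ω)
      set y := ((y0 : Q) : Ω)
      have hk := hcm w⁻¹ y (P.inv_mem hw) y0.2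
      obtain ⟨k, hk⟩ := Subgroup.mem_zpowers_iff.mp hk
      have h3 : q * (w⁻¹ * y * w) = w⁻¹ * y * w * q := by
        rw [show w⁻¹ * y * w = z ^ k * y by rw [hk]; group]
        exact ((Commute.zpow_right (hzc q (hQS hq)) k).mul_right (hyQ q hq)).eq
      calc c * y * c⁻¹ = w * q * w⁻¹ * (q⁻¹ * y * q) * w * q⁻¹ * w⁻¹ := by rw [hc]; group
        _ = w * (q * (w⁻¹ * y * w)) * q⁻¹ * w⁻¹ := by
          rw [show q⁻¹ * y * q = y by rw [mul_assoc, ← hyQ q hq, inv_mul_cancel_left]]; group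
        _ = w * (w⁻¹ * y * w * q) * q⁻¹ * w⁻¹ := by rw [h3]
        _ = y := by group
    show x ∈ Subgroup.normalizer (Q : Set Ω)
    rw [Subgroup.mem_normalizer_iff]
    refine fun q => ⟨key x hx hxN q, fun h => ?_⟩
    have := key x⁻¹ (P.inv_mem hx) (inv_mem hxN) _ h
    simpa [mul_assoc] using this
  -- `R` has index `p` in `P`
  let R0 : Subgroup P := Q.subgroupOf P
  let yP : P := ⟨((y0 : Q) : Ω), y0.2⟩
  have hzPc : ∀ g : P, g * zP = zP * g := fun g => Subtype.ext (hzc g (hP.1 g.2))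
  let f : P →* Subgroup.zpowers zP := MonoidHom.mk' (fun g => ⟨g * yP * g⁻¹ * yP⁻¹, by
      rw [hzgen]
      exact Subgroup.commutator_mem_commutator (Subgroup.mem_top g) (Subgroup.mem_top yP)⟩) fun a b =>
    Subtype.ext (by
      have hb : b * yP * b⁻¹ * yP⁻¹ ∈ Subgroup.zpowers zP := by
        rw [hzgen]
        exact Subgroup.commutator_mem_commutator (Subgroup.mem_top b) (Subgroup.mem_top yP)
      obtain ⟨i, hi⟩ := Subgroup.mem_zpowers_iff.mp hb
      show a * b * yP * (a * b)⁻¹ * yP⁻¹ = a * yP * a⁻¹ * yP⁻¹ * (b * yP * b⁻¹ * yP⁻¹)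
      rw [← hi, show a * b * yP * (a * b)⁻¹ * yP⁻¹ =
        a * (b * yP * b⁻¹ * yP⁻¹) * a⁻¹ * (a * yP * a⁻¹ * yP⁻¹) by group, ← hi,
        (Commute.zpow_right (hzPc a) i).eq, mul_inv_cancel_right,
        (Commute.zpow_right (hzPc (a * yP * a⁻¹ * yP⁻¹)) i).eq])
  have hker : f.ker = R0 := by
    ext g
    rw [MonoidHom.mem_ker]
    constructor
    · intro h
      show (g : Ω) ∈ Q
      by_contra hgQ
      refine hTC a0 ha0 g g.2 (hPN g.2) hgQ (Subtype.ext (Subtype.ext ?_))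
      rw [hctR (g : Ω) g.2 (hPN g.2)]
      have h1 : (g : Ω) * (yP : Ω) * (g : Ω)⁻¹ * (yP : Ω)⁻¹ = 1 :=
        congrArg (fun x : Subgroup.zpowers zP => ((x : P) : Ω)) h
      exact mul_inv_eq_one.mp h1
    · intro hgQ
      refine Subtype.ext (Subtype.ext ?_)
      show (g : Ω) * (yP : Ω) * (g : Ω)⁻¹ * (yP : Ω)⁻¹ = 1
      have h1 := congrArg (fun r : R => ((r : Q) : Ω)) (hRab ⟨⟨(g : Ω), hgQ⟩, g.2⟩ y0)
      rw [show (g : Ω) * (yP : Ω) = (yP : Ω) * (g : Ω) from h1]
      group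
  let tP : P := ⟨t, htP⟩
  have hzPcard : Nat.card (Subgroup.zpowers zP) = p := by rw [hzgen, hge.2]
  haveI : Fact (Nat.card (Subgroup.zpowers zP)).Prime := ⟨by rw [hzPcard]; exact hp.out⟩
  have hft : f tP ≠ 1 := fun h => htQ (show tP ∈ R0 from hker ▸ h)
  have hindex : R0.index = p := by
    rw [← hker, Subgroup.index_ker]
    rcases Subgroup.eq_bot_or_eq_top_of_prime_card f.range with h | h
    · exact absurd (Subgroup.mem_bot.mp (h ▸ ⟨tP, rfl⟩ : f tP ∈ (⊥ : Subgroup _))) hft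
    · rw [h, Subgroup.card_top, hzPcard]
  have htN' : tP ∉ R0 := htQ
  -- a suitable element `y`
  obtain ⟨m, hm⟩ := Subgroup.mem_zpowers_iff.mp (mem_zpowers_of_prime_card (G := Subgroup.zpowers zP) hzPcard
    (g' := ⟨zP, Subgroup.mem_zpowers zP⟩) hft)
  set τ := res (ct t htP htN) with hτ
  set yR : R := y0 ^ m with hyR
  let incR : R →* P := MonoidHom.mk' (fun x => ⟨((x : Q) : Ω), x.2⟩) fun x y => rfl
  have hincR : Function.Injective incR := fun x y e =>
    Subtype.ext (Subtype.ext (congrArg (fun w : P => (w : Ω)) e))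
  have hincz : incR zR = zP := rfl
  have hτP : ∀ r : R, incR (τ r) = tP * incR r * tP⁻¹ := fun r => rfl
  have hy : tP * incR yR * tP⁻¹ * (incR yR)⁻¹ = zP := by
    have h1 : (tP * yP * tP⁻¹ * yP⁻¹) ^ m = zP := congrArg Subtype.val hm
    have hc : Commute (tP * yP * tP⁻¹ * yP⁻¹) yP := by
      have hmem : tP * yP * tP⁻¹ * yP⁻¹ ∈ Subgroup.zpowers zP := (f tP).2
      obtain ⟨i, hi⟩ := Subgroup.mem_zpowers_iff.mp hmem
      rw [← hi]
      exact Commute.zpow_left (hzPc yP).symm i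
    rw [hyR, map_zpow, show incR y0 = yP from rfl, ← conj_zpow,
      show tP * yP * tP⁻¹ = (tP * yP * tP⁻¹ * yP⁻¹) * yP by group, hc.mul_zpow, h1, mul_inv_cancel_right]
  have hyR1 : yR ≠ 1 := fun h => hz1 (by
    rw [h, map_one, mul_one, mul_inv_cancel, inv_one, mul_one] at hy
    exact congrArg Subtype.val hy.symm)
  have hy0p : y0 ^ p = 1 := hRexp y0
  have hyy : Subgroup.zpowers y0 = Subgroup.zpowers yR :=
    GenES.zpowers_eq_of_common hy0p (hRexp yR) hyR1 (Subgroup.zpow_mem _ (Subgroup.mem_zpowers y0) m)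
      (Subgroup.mem_zpowers yR)
  -- the second transvection
  set σ := res (a0 * ct t htP htN * a0⁻¹) with hσ
  have hσsh : ∀ x, x⁻¹ * σ x ∈ Subgroup.zpowers yR := fun x => by
    set y := (res a0)⁻¹ x
    have hay : res a0 y = x := MulAut.apply_inv_self R _ _
    obtain ⟨i, hi⟩ := Subgroup.mem_zpowers_iff.mp (hshift t htP htN y)
    rw [hσ, map_mul, map_mul, map_inv, MulAut.mul_apply, MulAut.mul_apply, ← hay, ← map_inv, ← map_mul,
      MulAut.inv_apply_self, ← hi, map_zpow, ← hy0, ← hyy]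
    exact Subgroup.zpow_mem _ (Subgroup.mem_zpowers y0) i
  have hσy : σ yR = yR := by
    rw [hyR, map_zpow, hσ, map_mul, map_mul, map_inv, MulAut.mul_apply, MulAut.mul_apply, hy0,
      MulAut.inv_apply_self, hzfix t htP htN]
  have ha0' : res a0⁻¹ zR ∉ Subgroup.zpowers zR := fun h => by
    apply ha0
    have h1 : res a0⁻¹ zR ≠ 1 := fun e => hzR1 ((res a0⁻¹).map_eq_one_iff.mp e)
    have he := GenES.zpowers_eq_of_common (b := zR) (by rw [← map_pow, hzRp, map_one]) hzRp h1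
      (Subgroup.mem_zpowers _) h
    obtain ⟨i, hi⟩ := Subgroup.mem_zpowers_iff.mp (he ▸ Subgroup.mem_zpowers zR : zR ∈ Subgroup.zpowers (res a0⁻¹ zR))
    refine ⟨i, ?_⟩
    calc zR ^ i = res a0 (res a0⁻¹ zR ^ i) := by rw [map_zpow, map_inv, MulAut.apply_inv_self]
      _ = res a0 zR := by rw [hi]
  have hσz : σ zR ≠ zR := fun h => by
    refine hTC a0⁻¹ ha0' t htP htN htQ ((res a0).injective ?_)
    rw [map_inv, MulAut.apply_inv_self]
    rw [hσ, map_mul, map_mul, map_inv, MulAut.mul_apply, MulAut.mul_apply] at h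
    exact h
  -- the complement
  let WR : Subgroup R := MonoidHom.eqLocus τ.toMonoidHom (MonoidHom.id R) ⊓
    MonoidHom.eqLocus σ.toMonoidHom (MonoidHom.id R)
  refine ⟨R0, WR.map incR, zP, incR yR, tP, ?_, ?_, hzgen.symm, hzQ, (yR : Q).2, htN', hy,
    fun h => hz1 (congrArg Subtype.val h), hzPc, ?_, hindex, ?_, ?_, ?_, ?_, ?_⟩
  · intro r hr
    exact (map_pow incR ⟨⟨(r : Ω), hr⟩, r.2⟩ p).symm.trans ((congrArg incR (hRexp _)).trans (map_one incR))
  · intro r hr s hs
    exact congrArg incR (hRab ⟨⟨(r : Ω), hr⟩, r.2⟩ ⟨⟨(s : Ω), hs⟩, s.2⟩)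
  · intro g
    rw [hzgen, ← hge.1]
    exact PGroup.Frattini.pow_mem_frattini hPp g
  · rintro _ ⟨w, -, rfl⟩
    exact (w : Q).2
  · rintro _ ⟨w, hw, rfl⟩
    have h := congrArg incR (show τ w = w from hw.1)
    rw [hτP] at h
    exact mul_inv_eq_iff_eq_mul.mp h
  · rintro ⟨w, hw, hwz⟩
    exact hσz (hincR (hwz.trans hincz.symm) ▸ hw.2)
  · intro r hr
    obtain ⟨r', rfl⟩ : ∃ r' : R, incR r' = r := ⟨⟨⟨(r : Ω), hr⟩, r.2⟩, rfl⟩
    obtain ⟨k, hk⟩ := Subgroup.mem_zpowers_iff.mp (hshift t htP htN r')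
    have hτy : τ yR = zR * yR := hincR (by
      rw [hτP, map_mul, hincz]
      exact mul_inv_eq_iff_eq_mul.mp hy)
    have hτz : τ zR = zR := hzfix t htP htN
    have hτr : τ r' = r' * zR ^ k := by rw [hk, mul_inv_cancel_left]
    set s := r' * yR ^ (-k)
    have hτs : τ s = s := by
      rw [map_mul, map_zpow, hτy, hτr, (show Commute zR yR from hRab _ _).mul_zpow, ← mul_assoc,
        mul_assoc r', ← zpow_add, add_neg_cancel, zpow_zero, mul_one]
    have hδ : zR⁻¹ * σ zR ≠ 1 := fun h => hσz (inv_mul_eq_one.mp h).symm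
    have hδy : Subgroup.zpowers (zR⁻¹ * σ zR) = Subgroup.zpowers yR :=
      GenES.zpowers_eq_of_common (hRexp _) (hRexp yR) hδ (Subgroup.mem_zpowers _) (hσsh zR)
    obtain ⟨l, hl⟩ := Subgroup.mem_zpowers_iff.mp (hδy.ge (hσsh s))
    refine ⟨-l, -k, r' * (yR ^ (-k) * zR ^ (-l)), ⟨?_, ?_⟩, by simp only [map_mul, map_zpow, hincz]⟩
    · show τ (r' * (yR ^ (-k) * zR ^ (-l))) = r' * (yR ^ (-k) * zR ^ (-l))
      rw [← mul_assoc, map_mul, map_zpow, hτz, hτs]
    · show σ (r' * (yR ^ (-k) * zR ^ (-l))) = r' * (yR ^ (-k) * zR ^ (-l))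
      rw [← mul_assoc, map_mul, map_zpow]
      rw [show σ s = s * (zR⁻¹ * σ zR) ^ l by rw [hl, mul_inv_cancel_left]]
      rw [(show Commute zR⁻¹ (σ zR) from hRab _ _).mul_zpow]
      group
      rfl
  · intro hp2
    obtain ⟨k, hkz, hkτ⟩ := @GenES.exists_neg p hp R { (inferInstance : Group R) with mul_comm := hRab } hRexp zR yR hzR1 hyR1 τ σ (hshift t htP htN) hσsh (hzfix t htP htN)
      (hincR (by rw [hτP, map_mul, hincz]; exact mul_inv_eq_iff_eq_mul.mp hy) : τ yR = zR * yR) hσy hσz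
    set a1 := ct t htP htN * (a0 * ct t htP htN * a0⁻¹) ^ k * ct t htP htN *
      (ct t htP htN * (a0 * ct t htP htN * a0⁻¹) ^ k * ct t htP htN)
    have hι : res a1 = τ * σ ^ k * τ * (τ * σ ^ k * τ) := by
      simp only [a1, map_mul, map_pow, hσ, hτ]
    have hιz : res a1 zR = zR⁻¹ := by rw [hι]; exact hkz
    have hιτ : res (a1 * ct t htP htN * a1⁻¹) = τ := by
      rw [map_mul, map_mul, map_inv, mul_inv_eq_iff_eq_mul, hι, ← hτ]; exact hkτ
    obtain ⟨b, v, hv, hvN, hb, hcv, hpow⟩ := hSC a1 t htP htN (by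
      rw [hιτ]; exact ⟨ct t htP htN, by rw [hTS]; exact conjAut_mem_autInducedBy htN (hP.1 htP), rfl⟩)
    rw [hιτ] at hcv
    -- `v` lies in the coset `Rt`
    have hr : v * t⁻¹ ∈ Q := hH _ (P.mul_mem hv (P.inv_mem htP)) fun r => by
      obtain ⟨r', hr'⟩ := τ.surjective r
      have h1 : v * ((r' : Q) : Ω) * v⁻¹ = t * ((r' : Q) : Ω) * t⁻¹ :=
        congrArg (fun e : MulAut R => ((e r' : Q) : Ω)) hcv
      rw [← hr', hctR t htP htN, show v * t⁻¹ * (t * ((r' : Q) : Ω) * t⁻¹) = v * ((r' : Q) : Ω) * v⁻¹ * (v * t⁻¹) by group, h1]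
    set r := v * t⁻¹ with hrdef
    set c := t * r * t⁻¹ * r⁻¹
    have hrP : r ∈ P := P.mul_mem hv (P.inv_mem htP)
    obtain ⟨i, hi⟩ := Subgroup.mem_zpowers_iff.mp (hcm t r htP hrP)
    have hcc : ∀ g ∈ P, Commute c g := fun g hg => by
      show Commute (t * r * t⁻¹ * r⁻¹) g
      rw [← hi]
      exact Commute.zpow_left (hzc g (hP.1 hg)).symm i
    have hvp : v ^ p = t ^ p := by
      have hr1 : r ^ p = 1 := by
        simpa using congrArg (fun w : R => ((w : Q) : Ω)) (hRexp ⟨⟨r, hr⟩, hrP⟩)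
      have hcp : c ^ p = 1 := by
        show (t * r * t⁻¹ * r⁻¹) ^ p = 1
        rw [← hi, ← zpow_natCast, ← zpow_mul, mul_comm, zpow_mul, zpow_natCast, hzp, one_zpow]
      rw [show v = r * t by rw [hrdef, inv_mul_cancel_right],
        mul_pow_prime hp2 (c := c) rfl (hcc r hrP) (hcc t htP) hcp, hr1, one_mul]
    have htpQ : t ^ p ∈ Q := Subgroup.zpowers_le.mpr hzQ (hpw t htP)
    have hb' := hpow p htpQ
    rw [hvp] at hb'
    set x : R := ⟨⟨t ^ p, htpQ⟩, P.pow_mem htP p⟩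
    have hx1 : res b x = x := Subtype.ext (Subtype.ext hb')
    obtain ⟨j, hj⟩ := Subgroup.mem_zpowers_iff.mp (hmemR (x := x) (hpw t htP))
    have hx2 : res b x = x⁻¹ := by rw [hb, ← hj, map_zpow, hιz, inv_zpow]
    rw [hx1] at hx2
    have hx3 : x = 1 := by
      have h2 : x ^ 2 = 1 := by rw [pow_two]; nth_rewrite 2 [hx2]; rw [mul_inv_cancel]
      obtain ⟨l, hl⟩ := hp.out.odd_of_ne_two hp2
      have h3 := hRexp x
      rwa [hl, pow_succ, pow_mul, h2, one_pow, one_mul] at h3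
    exact Subtype.ext (congrArg (fun w : R => ((w : Q) : Ω)) hx3)

theorem normal_of_genExtraspecial (hS : IsPGroup p S) (hF : F.IsSaturated p) (hP : F.StronglyClosed P)
    (hge : frattini ↥P = commutator ↥P ∧ Nat.card ↥(commutator ↥P) = p)
    (h2 : p = 2 → ¬ ∃ (A : Type) (_ : CommGroup A), (∀ a : A, a ^ 2 = 1) ∧ Nonempty (↥P ≃* DihedralGroup 4 × A))
    (hodd : p ≠ 2 → ¬ ∃ (E : Type) (_ : Group E) (A : Type) (_ : CommGroup A), Cfsg.IsExtraspecial p E ∧
      Nat.card E = p ^ 3 ∧ Monoid.exponent E = p ∧ (∀ a : A, a ^ p = 1) ∧ Nonempty (↥P ≃* E × A)) :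
    F.IsNormal P := by
  classical
  suffices key : ∀ Q, F.IsEssential p Q → P ≤ Q by
    refine normal_of_generators hS hF hP.1 (sc_le_normalizer hP) fun Q hQ => ⟨?_, fun α hα x hx => ?_⟩
    · rcases hQ with rfl | hQ
      · exact hP.1
      · exact key Q hQ
    · rcases hQ with rfl | hQ
      · exact (stronglyClosed_iff_fn.1 hP).2 _ _ ((mem_autGroup_iff_fn le_rfl).1 hα) x (hP.1 hx) hx
      · exact (stronglyClosed_iff_fn.1 hP).2 _ _ ((mem_autGroup_iff_fn hQ.1.1).1 hα) x (key Q hQ hx) hx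
  intro Q hQ
  by_contra hPQ
  haveI := finite_of_le_base hP.1
  have hPp : IsPGroup p P := hS.to_le hP.1
  obtain ⟨R, W, z, y, t, hRexp, hRab, hcomm, hzR, hyR, htR, hty, hz1, hzc, hpw, hindex, hWR, htW, hzW, hdec, hpodd⟩ :=
    genExtraspecial_escape hS hF hP hge hQ hPQ
  have hzp : z ^ p = 1 := hRexp z hzR
  have hzo : orderOf z = p := orderOf_eq_prime hzp hz1
  have hcm : ∀ g h : P, g * h * g⁻¹ * h⁻¹ ∈ Subgroup.zpowers z := fun g h => by
    rw [← hcomm]; exact Subgroup.commutator_mem_commutator (Subgroup.mem_top g) (Subgroup.mem_top h)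
  have htzy : t * y = z * y * t := by rw [← hty]; group
  -- the subgroups
  set Fk := Subgroup.zpowers z ⊔ Subgroup.zpowers y with hFk
  have hzF : z ∈ Fk := Subgroup.mem_sup_left (Subgroup.mem_zpowers z)
  have hyF : y ∈ Fk := Subgroup.mem_sup_right (Subgroup.mem_zpowers y)
  haveI hzn : (Subgroup.zpowers z).Normal := hcomm ▸ (inferInstance : (commutator ↥P).Normal)
  haveI hFn : Fk.Normal := ⟨fun a ha g => by
    have h1 : g * a * g⁻¹ * a⁻¹ ∈ Fk := Subgroup.mem_sup_left (hcm g a)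
    simpa using mul_mem h1 ha⟩
  have hFR : Fk ≤ R := sup_le (Subgroup.zpowers_le.mpr hzR) (Subgroup.zpowers_le.mpr hyR)
  set E := Subgroup.zpowers t ⊔ Fk with hE
  have htE : t ∈ E := Subgroup.mem_sup_left (Subgroup.mem_zpowers t)
  have hRE : R ⊔ E = ⊤ := by
    have hd := Subgroup.index_dvd_of_le (le_sup_left : R ≤ R ⊔ E)
    rw [hindex] at hd
    rcases (Nat.dvd_prime hp.out).mp hd with h | h
    · exact Subgroup.index_eq_one.mp h
    · exfalso
      have hc := R.card_mul_index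
      rw [hindex, ← (R ⊔ E).card_mul_index, h] at hc
      exact htR ((Subgroup.eq_of_le_of_card_ge (le_sup_left : R ≤ R ⊔ E)
        (Nat.eq_of_mul_eq_mul_right hp.out.pos hc).ge).ge (Subgroup.mem_sup_right htE))
  have hEW : E ⊔ W = ⊤ := by
    refine top_unique (hRE.ge.trans (sup_le (fun r hr => ?_) le_sup_left))
    obtain ⟨i, j, hij⟩ := hdec r hr
    have h := mul_mem (Subgroup.mem_sup_right hij : _ ∈ E ⊔ W)
      (inv_mem (Subgroup.mem_sup_left (Subgroup.mem_sup_right
        (mul_mem (Fk.zpow_mem hyF j) (Fk.zpow_mem hzF i))) : y ^ j * z ^ i ∈ E ⊔ W))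
    rwa [mul_inv_cancel_right] at h
  have hEWc : ∀ e ∈ E, ∀ w ∈ W, e * w = w * e := by
    have hle : E ≤ Subgroup.centralizer (W : Set P) := by
      refine sup_le (Subgroup.zpowers_le.mpr ?_) (fun f hf => ?_)
      · exact Subgroup.mem_centralizer_iff.mpr fun w hw => (htW w hw).symm
      · exact Subgroup.mem_centralizer_iff.mpr fun w hw => hRab w (hWR hw) f (hFR hf)
    exact fun e he w hw => (Subgroup.mem_centralizer_iff.mp (hle he) w hw).symm
  have hdvd : ∀ (a : P) (i : ℤ), a ^ p = 1 → a ≠ 1 → a ^ i = 1 → (p : ℤ) ∣ i := fun a i hap ha hai => by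
    have := orderOf_dvd_iff_zpow_eq_one.mpr hai
    rwa [orderOf_eq_prime hap ha] at this
  have hERF : E ⊓ R ≤ Fk := by
    rintro e ⟨he, heR⟩
    obtain ⟨_, ⟨i, rfl⟩, f, hf, rfl⟩ := Subgroup.mem_sup_of_normal_right.mp he
    refine Fk.mul_mem ?_ hf
    have hti : t ^ i ∈ R := by
      have := R.mul_mem heR (R.inv_mem (hFR hf))
      rwa [mul_inv_cancel_right] at this
    have hpi : (p : ℤ) ∣ i := by
      by_contra hnd
      refine htR ?_
      obtain ⟨u, v, huv⟩ := Int.isCoprime_iff_gcd_eq_one.mpr (show Int.gcd i (p : ℤ) = 1 by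
        rw [Int.gcd, Int.natAbs_natCast, Nat.coprime_comm.mp ((hp.out.coprime_iff_not_dvd).mpr fun h =>
          hnd (Int.ofNat_dvd_left.mpr h))])
      have htp : t ^ (p : ℤ) ∈ R := by
        rw [zpow_natCast]; exact Subgroup.zpowers_le.mpr hzR (hpw t)
      have := R.mul_mem (R.zpow_mem hti u) (R.zpow_mem htp v)
      rwa [← zpow_mul, ← zpow_mul, ← zpow_add, mul_comm i u, mul_comm (p : ℤ) v, huv, zpow_one] at this
    obtain ⟨q, rfl⟩ := hpi
    show t ^ ((p : ℤ) * q) ∈ Fk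
    rw [zpow_mul, zpow_natCast]
    exact Fk.zpow_mem (Subgroup.mem_sup_left (hpw t)) q
  have hEWd : E ⊓ W = ⊥ := by
    rw [eq_bot_iff]
    rintro e ⟨he, heW⟩
    obtain ⟨_, ⟨a, rfl⟩, _, ⟨b, rfl⟩, rfl⟩ := Subgroup.mem_sup_of_normal_left.mp (hERF ⟨he, hWR heW⟩)
    simp only at heW ⊢
    have hb : y ^ b = 1 := by
      have h1 := htW _ heW
      have h2 : t * y ^ b * t⁻¹ = z ^ b * y ^ b := by
        rw [← conj_zpow, show t * y * t⁻¹ = z * y by rw [← hty]; group, (show Commute z y from (hzc y).symm).mul_zpow]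
      have h3 : t * z ^ a = z ^ a * t := (Commute.zpow_right (hzc t) a).eq
      have h4 : z ^ b = 1 := by
        have e1 : t * (z ^ a * y ^ b) * t⁻¹ = z ^ a * (z ^ b * y ^ b) := by
          rw [← h2, ← mul_assoc t, h3]; group
        rw [h1, mul_inv_cancel_right] at e1
        simpa using (mul_left_cancel e1).symm
      obtain ⟨q, rfl⟩ := hdvd z b hzp hz1 h4
      rw [zpow_mul, zpow_natCast, hRexp y hyR, one_zpow]
    rw [hb, mul_one] at heW ⊢
    rw [Subgroup.mem_bot]
    by_contra hza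
    refine hzW (Subgroup.zpowers_le.mpr heW ?_)
    rw [GenES.zpowers_eq_of_common (p := p) (δ := z ^ a) (a := z ^ a) (b := z)
      (by rw [← zpow_natCast, ← zpow_mul, mul_comm, zpow_mul, zpow_natCast, hzp, one_zpow]) hzp hza
      (Subgroup.mem_zpowers _) ⟨a, rfl⟩]
    exact Subgroup.mem_zpowers z
  have hy1 : y ≠ 1 := fun h => hz1 (by rw [← hty, h]; group)
  have hyp := hRexp y hyR
  -- orders
  have hFc : Nat.card Fk = p ^ 2 := by
    refine le_antisymm ?_ ?_
    · have hsurj : Function.Surjective (fun x : Subgroup.zpowers z × Subgroup.zpowers y =>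
          (⟨(x.1 : P) * x.2, mul_mem (Subgroup.mem_sup_left x.1.2) (Subgroup.mem_sup_right x.2.2)⟩ : Fk)) := by
        rintro ⟨f, hf⟩
        obtain ⟨a, ha, b, hb, rfl⟩ := Subgroup.mem_sup_of_normal_left.mp hf
        exact ⟨(⟨a, ha⟩, ⟨b, hb⟩), rfl⟩
      refine (Nat.card_le_card_of_surjective _ hsurj).trans ?_
      rw [Nat.card_prod, Nat.card_zpowers, Nat.card_zpowers, hzo, orderOf_eq_prime hyp hy1, sq]
    · have hlt : Subgroup.zpowers z < Fk := lt_of_le_of_ne le_sup_left fun h => by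
        obtain ⟨a, ha⟩ := Subgroup.mem_zpowers_iff.mp (h.ge hyF)
        apply hz1
        rw [← hty, ← ha, (Commute.zpow_right (hzc t) a).eq, mul_inv_cancel_right, mul_inv_cancel]
      have h1 := CfsgLib.Fusion.MaxClass.card_mul_le_of_lt hPp hlt
      rwa [Nat.card_zpowers, hzo, ← sq] at h1
  have hEc : Nat.card E = p ^ 3 := by
    have hRn : R.Normal := by
      refine ⟨fun r hr g => ?_⟩
      have h := R.mul_mem (Subgroup.zpowers_le.mpr hzR (hcm g r)) hr
      rwa [inv_mul_cancel_right] at h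
    have hrel : R.relIndex E = p := by
      rcases (Nat.dvd_prime hp.out).mp (hindex ▸ Subgroup.relIndex_dvd_index_of_normal R E) with h | h
      · exact absurd (Subgroup.relIndex_eq_one.mp h htE) htR
      · exact h
    have hFE : R ⊓ E = Fk := le_antisymm (by rw [inf_comm]; exact hERF) (le_inf hFR le_sup_right)
    have h1 := Subgroup.relIndex_mul_relIndex ⊥ Fk E bot_le le_sup_right
    rw [Subgroup.relIndex_bot_left, Subgroup.relIndex_bot_left, hFc, ← hFE, Subgroup.inf_relIndex_right, hrel] at h1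
    rw [← h1]; ring
  obtain ⟨iso⟩ := PGroup.OrderPCubeExtra.prod_iso E W hEWc hEWd hEW
  letI : CommGroup W := { (inferInstance : Group W) with mul_comm := fun a b => Subtype.ext (hRab a (hWR a.2) b (hWR b.2)) }
  have hWexp : ∀ w : W, w ^ p = 1 := fun w => Subtype.ext (by simpa using hRexp w (hWR w.2))
  let eW : W ≃ GenES.Carrier (Nat.card W) := Finite.equivFin W
  letI := eW.symm.commGroup
  let isoW : W ≃* GenES.Carrier (Nat.card W) := (Equiv.mulEquiv eW.symm).symm
  have hAexp : ∀ a : GenES.Carrier (Nat.card W), a ^ p = 1 := fun a =>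
    isoW.symm.injective (by rw [map_pow, map_one]; exact hWexp _)
  have hyE : y ∈ E := Subgroup.mem_sup_right hyF
  by_cases hp2 : p = 2
  · subst hp2
    refine h2 rfl ⟨GenES.Carrier (Nat.card W), inferInstance, hAexp, ?_⟩
    have hz2 : z * z = 1 := by rw [← pow_two]; exact hzp
    have hy2 : y * y = 1 := by rw [← pow_two]; exact hyp
    have ht2 : t * t = 1 ∨ t * t = z := by
      obtain ⟨i, hi⟩ := Subgroup.mem_zpowers_iff.mp (hpw t)
      rw [← zpow_mod_orderOf z i, hzo, pow_two] at hi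
      rcases (show i % ((2 : ℕ) : ℤ) = 0 ∨ i % ((2 : ℕ) : ℤ) = 1 by omega) with h | h <;> rw [h] at hi
      · exact Or.inl (by rw [← hi, zpow_zero])
      · exact Or.inr (by rw [← hi, zpow_one])
    obtain ⟨a, b, ha, hb, ha2, hb2, hba⟩ : ∃ a b : P, a ∈ E ∧ b ∈ E ∧ a * a = z ∧ b * b = 1 ∧ b * a * b⁻¹ = a⁻¹ := by
      rcases ht2 with h | h
      · refine ⟨t * y, t, mul_mem htE hyE, htE, ?_, h, ?_⟩
        · calc t * y * (t * y) = z * y * t * (t * y) := by rw [← htzy]
            _ = z * y * (t * t) * y := by group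
            _ = z := by rw [h, mul_one, mul_assoc, hy2, mul_one]
        · rw [mul_inv_rev, inv_eq_of_mul_eq_one_right h, inv_eq_of_mul_eq_one_right hy2, ← mul_assoc t t y, h, one_mul]
      · refine ⟨t, y, htE, hyE, h, hy2, ?_⟩
        have h1 : y * t = z * (t * y) := by rw [htzy, ← mul_assoc, ← mul_assoc, hz2, one_mul]
        rw [h1, show z * (t * y) * y⁻¹ = z * t by group, eq_inv_iff_mul_eq_one, mul_assoc, h, hz2]
    have hao : orderOf (⟨a, ha⟩ : E) = 4 := by
      rw [← Subgroup.orderOf_coe]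
      have := orderOf_eq_prime_pow (p := 2) (n := 1) (x := a) (by rwa [pow_one, pow_two, ha2])
        (by rw [show 2 ^ (1 + 1) = 2 + 2 from rfl, pow_add, pow_two, ha2, hz2])
      simpa using this
    obtain ⟨d⟩ := TwoGroups.CyclicMax.dihedral_iso (a := (⟨a, ha⟩ : E)) (b := ⟨b, hb⟩) hao
      (by rw [hEc]; norm_num)
      (fun h => by
        obtain ⟨i, hi⟩ := Subgroup.mem_zpowers_iff.mp h
        have hi' : a ^ i = b := congrArg Subtype.val hi
        rw [← hi', (Commute.zpow_self a i).eq, mul_inv_cancel_right] at hba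
        have := eq_inv_iff_mul_eq_one.mp hba
        rw [ha2] at this
        exact hz1 this)
      (Subtype.ext hb2) (Subtype.ext hba)
    exact ⟨iso.trans (d.prodCongr isoW)⟩
  · have htp : t ^ p = 1 := hpodd hp2
    let Ω1 : Subgroup P :=
      { carrier := {g | g ^ p = 1}
        one_mem' := one_pow p
        mul_mem' := fun {g h} (hg : g ^ p = 1) (hh : h ^ p = 1) => show (g * h) ^ p = 1 by
          obtain ⟨i, hi⟩ := Subgroup.mem_zpowers_iff.mp (hcm h g)
          have hc : ∀ x : P, Commute (z ^ i) x := fun x => Commute.zpow_left (hzc x).symm i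
          rw [mul_pow_prime hp2 (c := z ^ i) hi.symm (hc g) (hc h)
            (by rw [← zpow_natCast, ← zpow_mul, mul_comm, zpow_mul, zpow_natCast, hzp, one_zpow]), hg, hh, one_mul]
        inv_mem' := fun {g} (hg : g ^ p = 1) => show g⁻¹ ^ p = 1 by rw [inv_pow, hg, inv_one] }
    have hE1 : E ≤ Ω1 := sup_le (Subgroup.zpowers_le.mpr htp) (fun f hf => hRexp f (hFR hf))
    let eE : E ≃ GenES.Carrier (Nat.card E) := Finite.equivFin E
    letI := eE.symm.group
    let isoE : E ≃* GenES.Carrier (Nat.card E) := (Equiv.mulEquiv eE.symm).symm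
    have hcE : Nat.card (GenES.Carrier (Nat.card E)) = p ^ 3 := by rw [GenES.card_carrier, hEc]
    have hna : ∃ u v : GenES.Carrier (Nat.card E), u * v ≠ v * u := by
      refine ⟨isoE ⟨t, htE⟩, isoE ⟨y, hyE⟩, fun h => hz1 ?_⟩
      rw [← map_mul, ← map_mul] at h
      have h' : t * y = y * t := congrArg Subtype.val (isoE.injective h)
      rw [← hty, h', mul_inv_cancel_right, mul_inv_cancel]
    refine hodd hp2 ⟨GenES.Carrier (Nat.card E), inferInstance, GenES.Carrier (Nat.card W), inferInstance,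
      PGroup.OrderPCubeExtra.isExtraspecial_of_card hcE hna, hcE, ?_, hAexp, ⟨iso.trans (isoE.prodCongr isoW)⟩⟩
    rw [← Monoid.exponent_eq_of_mulEquiv isoE]
    rcases (Nat.dvd_prime hp.out).mp (Monoid.exponent_dvd_of_forall_pow_eq_one (G := E)
      fun g => Subtype.ext (by rw [Subgroup.coe_pow]; exact hE1 g.2)) with h | h
    · exfalso
      have h1 := Monoid.pow_exponent_eq_one (⟨y, hyE⟩ : E)
      rw [h, pow_one] at h1
      exact hy1 (congrArg Subtype.val h1)
    · exact h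

end CfsgLib.Fsys
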