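import Cfsg.Agent.Lib.FusionSystem.ThompsonAbelian
import Cfsg.Agent.Lib.FusionSystem.CenterFunctor
import Cfsg.Agent.Lib.Involution.BaerSuzuki
import Cfsg.Agent.Lib.KGroups.Functor.OrbitProd

/-!
Glauberman's theorem in constrained groups: an element of `Z(T)` fixed by `N(J(T))` is central when `p` is odd
or `S₄` is not involved.

Proof: if not, take the norm over the cosets of the centralizer `M` of the element. The orbits of the subgroup
generated by the least offenders contribute nothing, and this subgroup fixes no coset but `M`.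
-/

set_option autoImplicit false
set_option linter.style.haveILetI false

open scoped commutatorElement Pointwise

namespace CfsgLib.Fsys.Glauberman

open CfsgLib.Fusion.ReplacementEA (wt)
open CfsgLib.Solvable.Basic
open CfsgLib.Fsys.ThompsonA (act_congr fix_iff)

universe u

variable {G : Type*} [Group G] [Finite G]

/-- An involutory transvection outside every normal `2`-subgroup gives a section `S₄`. -/
theorem sfour_of_transvection {W : Subgroup G} [W.Normal] (hW : Cfsg.IsElementaryAbelian 2 W) {d : G}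
    (hd : d ∉ Subgroup.centralizer (W : Set G)) (hd2 : d * d ∈ Subgroup.centralizer (W : Set G))
    (hidx : Nat.card W ≤ 2 * Nat.card (W ⊓ Subgroup.centralizer {d} : Subgroup G))
    (hO : ∀ N : Subgroup (G ⧸ Subgroup.centralizer (W : Set G)), N.Normal → IsPGroup 2 N →
      QuotientGroup.mk' (Subgroup.centralizer (W : Set G)) d ∉ N) :
    Cfsg.Involves (Equiv.Perm (Fin 4)) G := by
  classical
  haveI : Fact (Nat.Prime 2) := ⟨Nat.prime_two⟩
  set CW := Subgroup.centralizer (W : Set G) with hCW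
  haveI : CW.Normal := inferInstanceAs (Subgroup.centralizer (W : Set G)).Normal
  have hWc : ∀ x ∈ W, ∀ y ∈ W, x * y = y * x := isMulCommutative_subgroup_iff.mp hW.1
  have hW2 : ∀ w ∈ W, w * w = 1 := fun w hw => by rw [← pow_two]; exact hW.2 w hw
  have hWp : IsPGroup 2 W := fun w => ⟨1, Subtype.ext (by simpa using hW.2 _ w.2)⟩
  set π := QuotientGroup.mk' CW with hπ
  have hπ1 : ∀ x, π x = 1 ↔ x ∈ CW := fun x => QuotientGroup.eq_one_iff x
  have ht : orderOf (π d) = 2 := orderOf_eq_prime (by rw [← map_pow, hπ1, pow_two]; exact hd2)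
    fun h => hd ((hπ1 d).mp h)
  obtain ⟨y, hy1, hyo, hyd⟩ := Involution.BaerSuzuki.exists_inverted_odd (π d) ht hO
  obtain ⟨r, hr, m, hm⟩ := Nat.exists_prime_and_dvd (orderOf_eq_one_iff.not.mpr hy1)
  have hm0 : 0 < m := Nat.pos_of_ne_zero fun h0 => (orderOf_pos y).ne' (by rw [hm, h0, mul_zero])
  have hro : orderOf (y ^ m) = r := by
    rw [orderOf_pow' _ hm0.ne', hm, Nat.gcd_eq_right (dvd_mul_left m r), Nat.mul_div_cancel _ hm0]
  have hr2 : r ≠ 2 := fun h => by
    rw [hm, h] at hyo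
    exact Nat.not_even_iff_odd.mpr hyo (even_two_mul m)
  obtain ⟨g, hg⟩ := QuotientGroup.mk'_surjective CW (y ^ m)
  have hgo : orderOf (π g) = r := by rw [hπ, hg, hro]
  have hgd : π d * π g * (π d)⁻¹ = (π g)⁻¹ := by
    rw [hπ, hg, ← conj_pow, hyd, inv_pow]
  obtain ⟨k, hk⟩ : Odd r := hr.odd_of_ne_two hr2
  have hgr : π (g ^ r) = 1 := by rw [map_pow, ← hgo]; exact pow_orderOf_eq_one _
  have hd1 : (π d)⁻¹ = π d := inv_eq_of_mul_eq_one_right (by rw [← map_mul, hπ1]; exact hd2)
  set s := g ^ (k + 1) with hs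
  have hsg : π s * π s = π g := by
    rw [← map_mul, hs, ← pow_add, show k + 1 + (k + 1) = r + 1 by omega, pow_succ, map_mul, hgr, one_mul]
  have hsd : π d * π s * (π d)⁻¹ = (π s)⁻¹ := by rw [hs, map_pow, ← conj_pow, hgd, inv_pow]
  have hWconj : ∀ x w : G, w ∈ W → x * w * x⁻¹ ∈ W := fun x w hw => Subgroup.Normal.conj_mem inferInstance w hw x
  set F₁ := W ⊓ Subgroup.centralizer {d} with hF₁
  set F₂ := F₁.map (MulAut.conj s⁻¹).toMonoidHom with hF₂
  have hF₂W : F₂ ≤ W := by
    rintro _ ⟨u, hu, rfl⟩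
    exact hWconj s⁻¹ u hu.1
  have hfix : ∀ x ∈ F₁, d * x * d⁻¹ = x := fun x hx =>
    fix_iff.mpr (Subgroup.mem_centralizer_singleton_iff.mp hx.2).symm
  have hfixg : ∀ u ∈ F₁ ⊓ F₂, g * u * g⁻¹ = u := by
    rintro u ⟨hu1, v, hv, rfl⟩
    simp only [MulEquiv.coe_toMonoidHom, MulAut.conj_apply, inv_inv] at hu1 ⊢
    have e : π g⁻¹ = π (s⁻¹ * d * s * d) := by
      rw [map_inv, map_mul, map_mul, map_mul, map_inv, ← hsg]
      calc (π s * π s)⁻¹ = (π s)⁻¹ * (π d * π s * (π d)⁻¹) := by rw [hsd, mul_inv_rev]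
        _ = _ := by rw [hd1]; group
    have h1 : g⁻¹ * (s⁻¹ * v * s) * g = s⁻¹ * v * s := by
      calc g⁻¹ * (s⁻¹ * v * s) * g = g⁻¹ * (s⁻¹ * v * s) * (g⁻¹)⁻¹ := by rw [inv_inv]
        _ = s⁻¹ * d * s * d * (s⁻¹ * v * s) * (s⁻¹ * d * s * d)⁻¹ := act_congr e hu1.1
        _ = s⁻¹ * d * (s * (d * (s⁻¹ * v * s) * d⁻¹) * s⁻¹) * d⁻¹ * s := by group
        _ = s⁻¹ * (d * v * d⁻¹) * s := by rw [hfix _ hu1]; group
        _ = _ := by rw [hfix v hv]
    conv_lhs => rw [← h1]
    group
  have hW4 : Nat.card W ≤ 4 * Nat.card (F₁ ⊓ F₂ : Subgroup G) := by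
    have hc := Fusion.Thompson.card_sup_mul_card_inf (N := F₁) (K := F₂)
      (le_trans (fun x hx => Subgroup.mem_centralizer_iff.mpr fun y hy => hWc y hy.1 x (hF₂W hx))
        (Subgroup.centralizer_le_normalizer _))
    have hle : Nat.card (F₁ ⊔ F₂ : Subgroup G) ≤ Nat.card W := Subgroup.card_le_of_le (sup_le inf_le_left hF₂W)
    have hF₂c : Nat.card F₂ = Nat.card F₁ := Subgroup.card_map_of_injective (MulAut.conj s⁻¹).injective
    rw [hF₂c] at hc
    refine Nat.le_of_mul_le_mul_left ?_ (Nat.card_pos (α := W))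
    calc Nat.card W * Nat.card W ≤ (2 * Nat.card F₁) * (2 * Nat.card F₁) := Nat.mul_le_mul hidx hidx
      _ = 4 * (Nat.card F₁ * Nat.card F₁) := by ring
      _ = 4 * (Nat.card (F₁ ⊔ F₂ : Subgroup G) * Nat.card (F₁ ⊓ F₂ : Subgroup G)) := by rw [hc]
      _ ≤ 4 * (Nat.card W * Nat.card (F₁ ⊓ F₂ : Subgroup G)) := Nat.mul_le_mul_left _ (Nat.mul_le_mul_right _ hle)
      _ = _ := by ring
  let f : W →* G :=
    { toFun := fun w => g * w * g⁻¹ * (w : G)⁻¹
      map_one' := by simp
      map_mul' := fun v w => by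
        simp only [Subgroup.coe_mul, mul_inv_rev]
        have hm : g * (w : G) * g⁻¹ * (w : G)⁻¹ ∈ W := W.mul_mem (hWconj g w w.2) (W.inv_mem w.2)
        calc g * ((v : G) * w) * g⁻¹ * ((w : G)⁻¹ * (v : G)⁻¹)
            = g * v * g⁻¹ * ((g * w * g⁻¹ * (w : G)⁻¹) * (v : G)⁻¹) := by group
          _ = g * v * g⁻¹ * ((v : G)⁻¹ * (g * w * g⁻¹ * (w : G)⁻¹)) := by rw [hWc _ hm _ (W.inv_mem v.2)]
          _ = _ := by group }
  have hfW : ∀ w : W, f w ∈ W := fun w => W.mul_mem (hWconj g w w.2) (W.inv_mem w.2)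
  have hfree : ∀ w : W, g * f w * g⁻¹ = f w → f w = 1 := by
    intro w hfw
    have key : ∀ i : ℕ, g ^ i * (w : G) * (g ^ i)⁻¹ = f w ^ i * w := by
      intro i
      induction i with
      | zero => simp
      | succ i ih =>
        calc g ^ (i + 1) * (w : G) * (g ^ (i + 1))⁻¹ = g * (g ^ i * w * (g ^ i)⁻¹) * g⁻¹ := by
              rw [pow_succ']; group
          _ = (g * f w ^ i * g⁻¹) * (g * w * g⁻¹) := by rw [ih]; group
          _ = f w ^ i * (f w * w) := by
              rw [← conj_pow, hfw]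
              congr 1
              show g * (w : G) * g⁻¹ = g * w * g⁻¹ * (w : G)⁻¹ * w
              group
          _ = _ := by rw [pow_succ, mul_assoc]
    have h := key r
    rw [fix_iff.mpr (Subgroup.mem_centralizer_iff.mp ((hπ1 _).mp hgr) w w.2).symm, eq_comm, mul_eq_right] at h
    rwa [hk, pow_succ, pow_mul, pow_two, hW2 _ (hfW w), one_pow, one_mul] at h
  obtain ⟨u₀, hu₀⟩ : ∃ u : W, f u ≠ 1 := by
    by_contra hall
    push Not at hall
    have : π g = 1 := (hπ1 g).mpr (Subgroup.mem_centralizer_iff.mpr fun w hw =>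
      (fix_iff.mp (mul_inv_eq_one.mp (hall ⟨w, hw⟩))).symm)
    rw [this, orderOf_one] at hgo
    exact hr.ne_one hgo.symm
  have hR4 : Nat.card f.range ≤ 4 := by
    have h1 : (F₁ ⊓ F₂ : Subgroup G).subgroupOf W ≤ f.ker := fun x hx =>
      mul_inv_eq_one.mpr (hfixg _ (Subgroup.mem_subgroupOf.mp hx))
    have h2 := Subgroup.card_le_of_le h1
    rw [Nat.card_congr (Subgroup.subgroupOfEquivOfLe (inf_le_left.trans inf_le_left)).toEquiv] at h2
    have h3 := f.ker.card_mul_index
    rw [Subgroup.index_ker] at h3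
    refine Nat.le_of_mul_le_mul_left ?_ (Nat.card_pos (α := f.ker))
    calc Nat.card f.ker * Nat.card f.range = Nat.card W := h3
      _ ≤ 4 * Nat.card (F₁ ⊓ F₂ : Subgroup G) := hW4
      _ ≤ 4 * Nat.card f.ker := Nat.mul_le_mul_left _ h2
      _ = _ := Nat.mul_comm _ _
  have hr3 : r = 3 := by
    set v := f u₀ with hv
    have hmem : ∀ i : ℕ, g ^ i * v * (g ^ i)⁻¹ ∈ f.range := by
      intro i
      refine ⟨⟨g ^ i * (u₀ : G) * (g ^ i)⁻¹, hWconj _ _ u₀.2⟩, ?_⟩
      show g * (g ^ i * (u₀ : G) * (g ^ i)⁻¹) * g⁻¹ * (g ^ i * (u₀ : G) * (g ^ i)⁻¹)⁻¹ =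
        g ^ i * (g * (u₀ : G) * g⁻¹ * (u₀ : G)⁻¹) * (g ^ i)⁻¹
      group
    let Φ : Option (Fin r) → f.range := fun o => match o with
      | none => 1
      | some i => ⟨_, hmem i⟩
    have hinj : Function.Injective Φ := by
      have hne : ∀ i : ℕ, g ^ i * v * (g ^ i)⁻¹ ≠ 1 := fun i h => hu₀ (conj_eq_one_iff.mp h)
      have hdist : ∀ i j : ℕ, i < j → j < r → g ^ i * v * (g ^ i)⁻¹ ≠ g ^ j * v * (g ^ j)⁻¹ := by
        intro i j hij hjr h
        refine hu₀ (hfree u₀ ?_)
        have hk' : g ^ (j - i) * v * (g ^ (j - i))⁻¹ = v := by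
          rw [show g ^ j = g ^ i * g ^ (j - i) by rw [← pow_add]; congr 1; omega] at h
          have h' : g ^ i * v * (g ^ i)⁻¹ = g ^ i * (g ^ (j - i) * v * (g ^ (j - i))⁻¹) * (g ^ i)⁻¹ := by
            rw [h]; group
          exact (mul_left_cancel (mul_right_cancel h')).symm
        have hcop : (j - i).Coprime (orderOf (π g)) := by
          rw [hgo]
          exact ((hr.coprime_iff_not_dvd).mpr (Nat.not_dvd_of_pos_of_lt (by omega) (by omega))).symm
        obtain ⟨l, hl⟩ := exists_pow_eq_self_of_coprime hcop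
        have hfixm : g ^ ((j - i) * l) ∈ Subgroup.centralizer {v} := by
          rw [pow_mul]
          exact pow_mem (Subgroup.mem_centralizer_singleton_iff.mpr (fix_iff.mp hk')) l
        calc g * v * g⁻¹ = g ^ ((j - i) * l) * v * (g ^ ((j - i) * l))⁻¹ :=
              act_congr (by show π g = π (g ^ ((j - i) * l)); rw [map_pow, pow_mul, hl]) (hfW u₀)
          _ = v := fix_iff.mpr (Subgroup.mem_centralizer_singleton_iff.mp hfixm)
      rintro (_ | i) (_ | j) h
      · rfl
      · exact absurd (congrArg Subtype.val h).symm (hne j)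
      · exact absurd (congrArg Subtype.val h) (hne i)
      · rcases lt_trichotomy (i : ℕ) j with h' | h' | h'
        · exact absurd (congrArg Subtype.val h) (hdist i j h' j.2)
        · rw [Fin.ext h']
        · exact absurd (congrArg Subtype.val h).symm (hdist j i h' i.2)
    have hc := Nat.card_le_card_of_injective Φ hinj
    rw [Finite.card_option, Nat.card_fin] at hc
    have := hr.two_le
    omega
  -- the symmetric group of degree three
  refine Cfsg.Agent.S2759.result.mpr ⟨W, hWp, ?_⟩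
  have hN : ∀ x : G, x ∈ Subgroup.normalizer (W : Set G) := fun x => by
    rw [Subgroup.normalizer_eq_top]; trivial
  set N := Subgroup.normalizer (W : Set G)
  set C' := (Subgroup.centralizer (W : Set G)).subgroupOf N
  haveI : C'.Normal := by infer_instance
  have hq : ∀ a : N, π (a : G) = 1 → QuotientGroup.mk' C' a = 1 := fun a ha =>
    (QuotientGroup.eq_one_iff a).mpr ((hπ1 _).mp ha)
  set x : N ⧸ C' := QuotientGroup.mk' C' ⟨d, hN d⟩ with hx
  set y' : N ⧸ C' := QuotientGroup.mk' C' ⟨g, hN g⟩ with hy'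
  have hxo : ∃ l : ℕ, orderOf x = 2 ^ l := by
    have h : x ^ 2 = 1 := by
      rw [hx, ← map_pow]
      exact hq _ (by rw [SubgroupClass.coe_pow, hπ1, pow_two]; exact hd2)
    obtain ⟨l, -, hl⟩ := (Nat.dvd_prime_pow Nat.prime_two).mp
      (by rw [pow_one]; exact orderOf_dvd_of_pow_eq_one h : orderOf x ∣ 2 ^ 1)
    exact ⟨l, hl⟩
  have hy'1 : y' ≠ 1 := by
    intro h
    have h1 := Subgroup.mem_subgroupOf.mp ((QuotientGroup.eq_one_iff (N := C') _).mp h)
    rw [(hπ1 g).mpr h1, orderOf_one] at hgo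
    exact hr.ne_one hgo.symm
  have hy3 : y' ^ 3 = 1 := by
    rw [hy', ← map_pow]
    exact hq _ (by rw [SubgroupClass.coe_pow, ← hr3]; exact hgr)
  haveI : Fact (Nat.Prime 3) := ⟨Nat.prime_three⟩
  have hxy : x * y' * x⁻¹ = y'⁻¹ := by
    rw [← mul_eq_one_iff_eq_inv, hx, hy', ← map_inv, ← map_mul, ← map_mul, ← map_mul]
    exact hq _ (by
      simp only [Subgroup.coe_mul, Subgroup.coe_inv, map_mul, map_inv]
      rw [hgd, inv_mul_cancel])
  have hdi := LocalEven.InvolvesDihedral.involves_of_inverted (p := 3) (by norm_num) hxo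
    ⟨1, by rw [pow_one]; exact orderOf_eq_prime hy3 hy'1⟩ hy'1 hxy
  obtain ⟨e⟩ := Cfsg.Agent.S2759.perm_three_equiv
  exact Cfsg.Agent.S2759.involves_congr e.symm hdi

open MulAction in
/-- The product of an equivariant family over the points moved by a `p`-group vanishes when every element fixed by
a maximal subgroup has trivial norm to the whole group. -/
theorem prod_moved_eq_one {p : ℕ} [Fact p.Prime] {K : Type*} [Group K] [Finite K] (hK : IsPGroup p K) {Ω : Type*}
    [MulAction K Ω] [Fintype Ω] {A : Type*} [CommGroup A] (φ : K →* MulAut A) (f : Ω → A)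
    (hf : ∀ (k : K) (q : Ω), f (k • q) = φ k (f q))
    (hkey : ∀ L : Subgroup K, L.Normal → L.index = p → ∀ a : A, (∀ l ∈ L, φ l a = a) →
      ∃ x ∉ L, ∏ i ∈ Finset.range p, φ (x ^ i) a = 1)
    (s : Finset Ω) (hfix : ∀ q ∈ s, q ∉ fixedPoints K Ω) (hinv : ∀ (k : K), ∀ q ∈ s, k • q ∈ s) :
    ∏ q ∈ s, f q = 1 := by
  classical
  induction s using Finset.strongInduction with
  | _ s ih =>
  rcases s.eq_empty_or_nonempty with rfl | ⟨q, hq⟩
  · simp
  have hne : stabilizer K q ≠ ⊤ := fun e => hfix q hq fun k => by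
    rw [← mem_stabilizer_iff, e]; trivial
  obtain ⟨L, hHL, hLn, hLp⟩ := KGroups.Functor.OrbitProd.exists_index_eq hK hne
  have := Fintype.ofFinite K
  let O0 : Finset Ω := Finset.univ.image (fun l : L => (l : K) • q)
  have hfix0 : ∀ l ∈ L, φ l (∏ r ∈ O0, f r) = ∏ r ∈ O0, f r := by
    intro l hl
    rw [map_prod]
    refine Finset.prod_bij' (fun r _ => l • r) (fun r _ => l⁻¹ • r) ?_ ?_ ?_ ?_ ?_
    · intro r hr
      obtain ⟨m, -, rfl⟩ := Finset.mem_image.mp hr
      exact Finset.mem_image.mpr ⟨⟨l, hl⟩ * m, Finset.mem_univ _, mul_smul _ _ _⟩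
    · intro r hr
      obtain ⟨m, -, rfl⟩ := Finset.mem_image.mp hr
      exact Finset.mem_image.mpr ⟨⟨l, hl⟩⁻¹ * m, Finset.mem_univ _, mul_smul _ _ _⟩
    · intro r _; exact inv_smul_smul l r
    · intro r _; exact smul_inv_smul l r
    · intro r _; exact (hf l r).symm
  obtain ⟨x, hxL, hx⟩ := hkey L hLn hLp _ hfix0
  have hord : orderOf (QuotientGroup.mk' L x) = p := by
    refine orderOf_eq_prime ?_ fun e => hxL ((QuotientGroup.eq_one_iff x).mp e)
    rw [← hLp, Subgroup.index_eq_card]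
    exact pow_card_eq_one'
  have hmem : ∀ i : ℕ, x ^ i ∈ L → p ∣ i := by
    intro i hi
    rw [← hord, orderOf_dvd_iff_pow_eq_one, ← map_pow]
    exact (QuotientGroup.eq_one_iff _).mpr hi
  let O : Finset Ω := (Finset.range p ×ˢ O0).image (fun z => x ^ z.1 • z.2)
  have hOinj : Set.InjOn (fun z : ℕ × Ω => x ^ z.1 • z.2) ↑(Finset.range p ×ˢ O0) := by
    rintro ⟨i, r⟩ hir ⟨j, t⟩ hjt heq
    obtain ⟨hi, hr⟩ := Finset.mem_product.mp hir
    obtain ⟨hj, ht⟩ := Finset.mem_product.mp hjt
    obtain ⟨l, -, rfl⟩ := Finset.mem_image.mp hr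
    obtain ⟨m, -, rfl⟩ := Finset.mem_image.mp ht
    simp only at heq
    have h2 : ((x ^ j * m)⁻¹ * (x ^ i * l)) ∈ stabilizer K q := by
      rw [mem_stabilizer_iff, mul_smul, inv_smul_eq_iff, mul_smul, heq, mul_smul]
    have h3 : (x ^ j)⁻¹ * x ^ i ∈ L := by
      have := L.mul_mem (L.mul_mem m.2 (hHL h2)) (L.inv_mem l.2)
      simpa [mul_assoc] using this
    have hi' := Finset.mem_range.mp hi
    have hj' := Finset.mem_range.mp hj
    have hij : i = j := by
      rcases le_total j i with hle | hle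
      · obtain ⟨c, hc⟩ := Nat.exists_eq_add_of_le hle
        rw [hc, pow_add, inv_mul_cancel_left] at h3
        have := Nat.eq_zero_of_dvd_of_lt (hmem c h3) (by omega)
        omega
      · obtain ⟨c, hc⟩ := Nat.exists_eq_add_of_le hle
        rw [hc, pow_add, mul_inv_rev, mul_assoc, inv_mul_cancel, mul_one] at h3
        have := Nat.eq_zero_of_dvd_of_lt (hmem c (inv_mem_iff.mp h3)) (by omega)
        omega
    subst hij
    exact Prod.ext rfl (smul_left_cancel _ heq)
  have hOk : ∀ k : K, ∀ r ∈ O, k • r ∈ O := by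
    intro k r hr
    obtain ⟨⟨i, t⟩, hit, rfl⟩ := Finset.mem_image.mp hr
    obtain ⟨-, ht⟩ := Finset.mem_product.mp hit
    obtain ⟨l, -, rfl⟩ := Finset.mem_image.mp ht
    have hgen : Subgroup.zpowers (QuotientGroup.mk' L x) = ⊤ :=
      zpowers_eq_top_of_prime_card (by rw [← Subgroup.index_eq_card, hLp])
        fun e => hxL ((QuotientGroup.eq_one_iff x).mp e)
    obtain ⟨j, hj⟩ : ∃ j : ℕ, (QuotientGroup.mk' L x) ^ j = QuotientGroup.mk' L (k * x ^ i * l) :=
      mem_powers_iff_mem_zpowers.mpr (hgen ▸ Subgroup.mem_top _)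
    have hl : (x ^ (j % p))⁻¹ * (k * x ^ i * l) ∈ L := by
      rw [← QuotientGroup.eq_one_iff]
      show QuotientGroup.mk' L ((x ^ (j % p))⁻¹ * (k * x ^ i * l)) = 1
      rw [map_mul, map_inv, ← hj, map_pow, ← pow_eq_pow_mod j (hord ▸ pow_orderOf_eq_one _), inv_mul_cancel]
    refine Finset.mem_image.mpr ⟨(j % p, ((x ^ (j % p))⁻¹ * (k * x ^ i * l)) • q), Finset.mem_product.mpr
      ⟨Finset.mem_range.mpr (Nat.mod_lt _ (Fact.out : p.Prime).pos),
        Finset.mem_image.mpr ⟨⟨_, hl⟩, Finset.mem_univ _, rfl⟩⟩, ?_⟩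
    show x ^ (j % p) • ((x ^ (j % p))⁻¹ * (k * x ^ i * l)) • q = k • x ^ i • (l : K) • q
    rw [← mul_smul, mul_inv_cancel_left, mul_smul, mul_smul]
  have hOs : O ⊆ s := by
    intro r hr
    obtain ⟨⟨i, t⟩, hit, rfl⟩ := Finset.mem_image.mp hr
    obtain ⟨l, -, rfl⟩ := Finset.mem_image.mp (Finset.mem_product.mp hit).2
    exact hinv _ _ (hinv _ _ hq)
  have hqO : q ∈ O := Finset.mem_image.mpr ⟨(0, q), Finset.mem_product.mpr
    ⟨Finset.mem_range.mpr (Fact.out : p.Prime).pos, Finset.mem_image.mpr ⟨1, Finset.mem_univ _, one_smul _ q⟩⟩,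
    by simp⟩
  have hprod : ∏ r ∈ O, f r = 1 := by
    rw [Finset.prod_image hOinj, Finset.prod_product]
    refine Eq.trans (Finset.prod_congr rfl fun i _ => ?_) hx
    rw [map_prod]
    exact Finset.prod_congr rfl fun r _ => hf _ r
  rw [← Finset.prod_sdiff hOs, hprod, mul_one]
  refine ih (s \ O) (Finset.sdiff_ssubset hOs ⟨q, hqO⟩) (fun r hr => hfix r (Finset.mem_sdiff.mp hr).1) fun k r hr => ?_
  obtain ⟨hr1, hr2⟩ := Finset.mem_sdiff.mp hr
  refine Finset.mem_sdiff.mpr ⟨hinv k r hr1, fun hkr => hr2 ?_⟩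
  simpa using hOk k⁻¹ _ hkr

/-- An offender none of whose proper subgroups acting nontrivially is as good. -/
def IsLeastOffender (W D : Subgroup G) : Prop :=
  ¬ D ≤ Subgroup.centralizer (W : Set G) ∧ (∀ B ≤ D, wt W B ≤ wt W D) ∧
    ∀ B ≤ D, B ≠ D → ¬ B ≤ Subgroup.centralizer (W : Set G) → wt W B < wt W D

theorem wt_map_conj {W : Subgroup G} [W.Normal] (g : G) (B : Subgroup G) :
    wt W (B.map (MulAut.conj g).toMonoidHom) = wt W B := by
  have hW : W.map (MulAut.conj g).toMonoidHom = W :=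
    Subgroup.mem_normalizer_iff_map_conj_eq.mp (by rw [Subgroup.normalizer_eq_top]; trivial)
  have e : W ⊓ Subgroup.centralizer ((B.map (MulAut.conj g).toMonoidHom : Subgroup G) : Set G) =
      (W ⊓ Subgroup.centralizer (B : Set G)).map (MulAut.conj g).toMonoidHom := by
    rw [Subgroup.map_inf _ _ _ (MulAut.conj g).injective, hW, LocalEven.SylowIn.centralizer_map_conj]
  rw [wt, wt, e, Subgroup.card_map_of_injective (MulAut.conj g).injective,
    Subgroup.card_map_of_injective (MulAut.conj g).injective]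

theorem IsLeastOffender.map_conj {W D : Subgroup G} [W.Normal] (h : IsLeastOffender W D) (g : G) :
    IsLeastOffender W (D.map (MulAut.conj g).toMonoidHom) := by
  have hC : (Subgroup.centralizer (W : Set G)).Normal := inferInstance
  have hback : ∀ B : Subgroup G, (B.map (MulAut.conj g⁻¹).toMonoidHom).map (MulAut.conj g).toMonoidHom = B := fun B => by
    rw [Subgroup.map_map]; ext y; simp [Subgroup.mem_map, mul_assoc]
  have hle : ∀ B : Subgroup G, B ≤ Subgroup.centralizer (W : Set G) →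
      ∀ a : G, B.map (MulAut.conj a).toMonoidHom ≤ Subgroup.centralizer (W : Set G) := by
    rintro B hB a _ ⟨b, hb, rfl⟩
    exact hC.conj_mem b (hB hb) a
  have hfor : ∀ B ≤ D.map (MulAut.conj g).toMonoidHom, B.map (MulAut.conj g⁻¹).toMonoidHom ≤ D := by
    rintro B hB _ ⟨b, hb, rfl⟩
    obtain ⟨x, hx, rfl⟩ := hB hb
    simpa [mul_assoc] using hx
  refine ⟨fun hd => h.1 ?_, fun B hB => ?_, fun B hB hne hn => ?_⟩
  · intro x hx
    have := hle _ hd g⁻¹ (Subgroup.mem_map_of_mem (MulAut.conj g⁻¹).toMonoidHom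
      (Subgroup.mem_map_of_mem (MulAut.conj g).toMonoidHom hx))
    simpa [mul_assoc] using this
  · rw [wt_map_conj, ← hback B, wt_map_conj]
    exact h.2.1 _ (hfor B hB)
  · rw [wt_map_conj, ← hback B, wt_map_conj]
    refine h.2.2 _ (hfor B hB) (fun e => hne (by rw [← e, hback])) fun hd => hn ?_
    rw [← hback B]
    exact hle _ hd g

open Finset in
theorem center_aux {p : ℕ} [Fact p.Prime] : ∀ (n : ℕ) (L : Type u) [Group L] [Finite L], Nat.card L = n →
    (p ≠ 2 ∨ ¬ Cfsg.Involves (Equiv.Perm (Fin 4)) L) → ∀ T : Sylow p L,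
    Subgroup.centralizer ((Cfsg.pCore p L : Subgroup L) : Set L) ≤ Cfsg.pCore p L →
    ∀ z ∈ (T : Subgroup L) ⊓ Subgroup.centralizer ((T : Subgroup L) : Set L),
      Subgroup.normalizer (Cfsg.thompsonSubgroupAOf (T : Subgroup L) : Set L) ≤ Subgroup.centralizer {z} →
      z ∈ Subgroup.center L := by
  intro n
  induction n using Nat.strong_induction_on with | _ n ih => ?_
  intro L _ _ hn hs T hc z hz hNJ
  subst hn
  classical
  have hpp : p.Prime := Fact.out
  by_contra hcen
  set M := Subgroup.centralizer ({z} : Set L) with hM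
  have hMtop : M ≠ ⊤ := fun h => hcen (Subgroup.mem_center_iff.mpr fun g =>
    Subgroup.mem_centralizer_singleton_iff.mp (h.ge (Subgroup.mem_top g)))
  set O := Cfsg.pCore p L with hO
  haveI hOn : O.Normal := LocalEven.SylowIn.pCore_normal L p
  have hOp : IsPGroup p O := LocalEven.SylowIn.isPGroup_pCore L p
  have hOT : O ≤ (T : Subgroup L) := hOp.le_sylow_of_normal T
  have hTM : (T : Subgroup L) ≤ M := fun t ht =>
    Subgroup.mem_centralizer_singleton_iff.mpr (Subgroup.mem_centralizer_iff.mp hz.2 t ht)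
  -- proper overgroups of `T` fix `z`
  have hproper : ∀ H : Subgroup L, (T : Subgroup L) ≤ H → H ≠ ⊤ → H ≤ M := by
    intro H hTH hH
    have hOM : O.subgroupOf H ≤ Cfsg.pCore p H :=
      LocalEven.SylowIn.le_pCore (hN := inferInstance) hOp.comap_subtype
    have hcH : Subgroup.centralizer ((Cfsg.pCore p H : Subgroup H) : Set H) ≤ Cfsg.pCore p H := fun m hm =>
      hOM (hc (Subgroup.mem_centralizer_iff.2 fun y hy =>
        congrArg Subtype.val (Subgroup.mem_centralizer_iff.1 hm ⟨y, hTH (hOT hy)⟩ (hOM hy))))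
    have hTs : ((T.subtype hTH : Sylow p H) : Subgroup H).map H.subtype = (T : Subgroup L) := by
      rw [Sylow.coe_subtype, Subgroup.map_subgroupOf_eq_of_le hTH]
    have hzH := ih _ (lt_of_le_of_ne (Subgroup.card_le_card_group H) fun e => hH (Subgroup.eq_top_of_card_eq H e))
      H rfl (hs.imp_right fun h h' => h (involves_of_injective H.subtype_injective h')) (T.subtype hTH) hcH
      ⟨z, hTH hz.1⟩ ⟨by rw [Sylow.coe_subtype]; exact hz.1, Subgroup.mem_centralizer_iff.mpr fun t ht =>
        Subtype.ext (Subgroup.mem_centralizer_iff.mp hz.2 t (by rwa [Sylow.coe_subtype] at ht))⟩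
      (fun m hm => Subgroup.mem_centralizer_singleton_iff.mpr (Subtype.ext (Subgroup.mem_centralizer_singleton_iff.mp
        (hNJ (by
          have h := Subgroup.le_normalizer_map H.subtype ⟨m, hm, rfl⟩
          rwa [← ThompsonA.thompsonA_map H.subtype _ (H.subtype_injective.comp (Subgroup.subtype_injective _)),
            hTs] at h)))))
    intro m hm
    exact Subgroup.mem_centralizer_singleton_iff.mpr
      (congrArg Subtype.val (Subgroup.mem_center_iff.mp hzH ⟨m, hm⟩))
  set V := O ⊓ Subgroup.centralizer (O : Set L) with hV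
  haveI hVn : V.Normal := inferInstanceAs (O ⊓ Subgroup.centralizer (O : Set L)).Normal
  have hVc : ∀ a ∈ V, ∀ b ∈ V, a * b = b * a := fun a ha b hb => Subgroup.mem_centralizer_iff.mp hb.2 a ha.1
  have hzV : z ∈ V :=
    ⟨hc (Subgroup.centralizer_le hOT hz.2), Subgroup.centralizer_le hOT hz.2⟩
  -- `z ^ p` is central
  have hzp : z ^ p ∈ Subgroup.center L := by
    refine center_of_witness (W := fun Q _ => jA Q) jA_map 1
      (fun L _ _ T _ hn => witness_of_quadratic T (exists_quadratic_of_jA T hn)) L T hc _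
      (Subgroup.subset_closure ⟨z, hz, by rw [pow_one]⟩) fun g hg => ?_
    exact Subgroup.mem_centralizer_singleton_iff.mpr
      ((Commute.pow_right (Subgroup.mem_centralizer_singleton_iff.mp (hNJ hg)) p).eq)
  let W : Subgroup L :=
    { carrier := {x | x ∈ V ∧ x ^ p = 1}
      one_mem' := ⟨one_mem _, one_pow p⟩
      mul_mem' := fun {a b} ha hb => ⟨mul_mem ha.1 hb.1, by
        rw [(show Commute a b from hVc a ha.1 b hb.1).mul_pow, ha.2, hb.2, one_mul]⟩
      inv_mem' := fun {a} ha => ⟨inv_mem ha.1, by rw [inv_pow, ha.2, inv_one]⟩ }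
  haveI hWn : W.Normal := ⟨fun x hx g => ⟨hVn.conj_mem x hx.1 g, by
    rw [conj_pow, hx.2, mul_one, mul_inv_cancel]⟩⟩
  have hWV : W ≤ V := fun x hx => hx.1
  have hWEA : Cfsg.IsElementaryAbelian p W :=
    ⟨isMulCommutative_subgroup_iff.mpr fun a ha b hb => hVc a ha.1 b hb.1, fun a ha => ha.2⟩
  have hWp : IsPGroup p W := Fusion.Thompson.isPGroup_isEA hWEA
  set CW := Subgroup.centralizer (W : Set L) with hCW
  haveI hCWn : CW.Normal := inferInstanceAs (Subgroup.centralizer (W : Set L)).Normal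
  have hOCW : O ≤ CW := fun x hx => Subgroup.mem_centralizer_iff.mpr fun w hw =>
    (Subgroup.mem_centralizer_iff.mp hw.1.2 x hx).symm
  have hE : ∀ g : L, g * z * g⁻¹ * z⁻¹ ∈ W := fun g => by
    refine ⟨V.mul_mem (hVn.conj_mem z hzV g) (V.inv_mem hzV), ?_⟩
    rw [(show Commute (g * z * g⁻¹) z⁻¹ from hVc _ (hVn.conj_mem z hzV g) _ (V.inv_mem hzV)).mul_pow, conj_pow,
      Subgroup.mem_center_iff.mp hzp g, mul_inv_cancel_right, inv_pow, mul_inv_cancel]
  -- `C(W)` fixes `z`
  have hCWM : CW ≤ M := by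
    let ψ : CW →* L := MonoidHom.mk' (fun x => (x : L) * z * (x : L)⁻¹ * z⁻¹) fun a b => by
      have hb := Subgroup.mem_centralizer_iff.mp a.2 _ (hE (b : L))
      have hab := hVc _ (hE (b : L)).1 _ (hE (a : L)).1
      simp only [Subgroup.coe_mul, mul_inv_rev]
      calc (a : L) * b * z * ((b : L)⁻¹ * (a : L)⁻¹) * z⁻¹
          = ((a : L) * ((b : L) * z * (b : L)⁻¹ * z⁻¹)) * (a : L)⁻¹ * ((a : L) * z * (a : L)⁻¹ * z⁻¹) := by group
        _ = ((b : L) * z * (b : L)⁻¹ * z⁻¹) * ((a : L) * z * (a : L)⁻¹ * z⁻¹) := by rw [← hb]; group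
        _ = _ := hab
    have hle : (T : Subgroup L).subgroupOf CW ≤ ψ.ker := fun x hx => by
      show (x : L) * z * (x : L)⁻¹ * z⁻¹ = 1
      rw [Subgroup.mem_centralizer_iff.mp hz.2 _ (Subgroup.mem_subgroupOf.mp hx), mul_inv_cancel_right, mul_inv_cancel]
    have hdvd : ψ.ker.index ∣ (T : Subgroup L).relIndex CW := Subgroup.index_dvd_of_le hle
    obtain ⟨i, hi⟩ := IsPGroup.iff_card.mp (hWp.to_le (show ψ.range ≤ W by rintro _ ⟨x, rfl⟩; exact hE x))
    rw [Subgroup.index_ker, hi] at hdvd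
    have hndvd : ¬ p ∣ (T : Subgroup L).relIndex CW := by
      have h := Fusion.Basic.not_dvd_relIndex_of_normal T CW
      rwa [Subgroup.inf_relIndex_right] at h
    have hi0 : i = 0 := by
      by_contra h0
      exact hndvd ((dvd_pow_self p h0).trans hdvd)
    rw [hi0, pow_zero, Subgroup.card_eq_one] at hi
    intro x hx
    have h : ψ ⟨x, hx⟩ ∈ ψ.range := ⟨_, rfl⟩
    rw [hi, Subgroup.mem_bot] at h
    exact Subgroup.mem_centralizer_singleton_iff.mpr (mul_inv_eq_iff_eq_mul.mp (mul_inv_eq_one.mp h))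
  set π := QuotientGroup.mk' CW with hπ
  -- normal subgroups inducing `p`-groups on `W` meet `T` in `O`
  have hsmall : ∀ N : Subgroup L, N.Normal → IsPGroup p (N.map π) → (T : Subgroup L) ⊓ N ≤ O := by
    intro N hNn hNp
    set X := (T : Subgroup L) ⊓ N with hX
    by_contra hXO
    have hTX : (T : Subgroup L) ≤ Subgroup.normalizer (X : Set L) := by
      refine le_trans (le_inf Subgroup.le_normalizer ?_) Subgroup.inf_normalizer_le_normalizer_inf
      rw [Subgroup.normalizer_eq_top]; exact le_top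
    have hXtop : Subgroup.normalizer (X : Set L) ≠ ⊤ := fun h => hXO
      (LocalEven.SylowIn.le_pCore (hN := Subgroup.normalizer_eq_top_iff.1 h) (T.isPGroup'.to_le inf_le_left))
    have hXM := hproper _ hTX hXtop
    obtain ⟨Q, hQ⟩ : ∃ Q : Sylow p N, (Q : Subgroup N) = (T : Subgroup L).subgroupOf N := by
      refine ⟨(T.isPGroup'.comap_subtype (K := N)).toSylow ?_, rfl⟩
      have h := Fusion.Basic.not_dvd_relIndex_of_normal T N
      rwa [Subgroup.inf_relIndex_right] at h
    have hNM : N ≤ M := by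
      intro x hx
      have htop := (Q.mapSurjective (π.subgroupMap_surjective N)).3 (hNp.to_subgroup ⊤) le_top
      have hm : π.subgroupMap N ⟨x, hx⟩ ∈
          ((Q.mapSurjective (π.subgroupMap_surjective N) : Sylow p (N.map π)) : Subgroup (N.map π)) :=
        htop ▸ Subgroup.mem_top _
      rw [Sylow.coe_mapSurjective, hQ] at hm
      obtain ⟨t, ht, hte⟩ := hm
      have htT : (t : L) ∈ (T : Subgroup L) := Subgroup.mem_subgroupOf.mp ht
      have h1 : (t : L)⁻¹ * x ∈ CW := QuotientGroup.eq.mp (congrArg Subtype.val hte)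
      simpa using M.mul_mem (hTM htT) (hCWM h1)
    refine hMtop (top_le_iff.mp ?_)
    have h := Sylow.normalizer_sup_eq_top Q
    rw [hQ, ← Subgroup.inf_subgroupOf_right, Subgroup.map_subgroupOf_eq_of_le inf_le_right] at h
    rw [← h]
    exact sup_le hXM hNM
  have hTCW : (T : Subgroup L) ⊓ CW ≤ O := hsmall CW hCWn (by
    rw [(Subgroup.map_eq_bot_iff _).mpr (by rw [QuotientGroup.ker_mk'])]
    exact IsPGroup.of_bot)
  -- least offenders exist
  obtain ⟨D₀, hD₀T, hD₀⟩ : ∃ D : Subgroup L, D ≤ (T : Subgroup L) ∧ IsLeastOffender W D := by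
    obtain ⟨A₀, hA₀, hA₀O⟩ : ∃ A₀ ∈ Cfsg.maxAbelianSubgroups (T : Subgroup L),
        ¬ A₀.map (T : Subgroup L).subtype ≤ O := by
      by_contra hall
      push Not at hall
      have hTp : ∀ u ∈ (T : Subgroup L), u ^ Nat.card (T : Subgroup L) = 1 := Fusion.ZJBridge.sylow_pow_card T
      have hJO : Cfsg.thompsonSubgroupAOf (T : Subgroup L) ≤ O :=
        Subgroup.map_le_iff_le_comap.mpr (sSup_le fun A hA => Subgroup.map_le_iff_le_comap.mp (hall A hA))
      refine hMtop (top_le_iff.mp (le_trans ?_ hNJ))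
      rw [Fusion.ZJBridge.thompsonAOf_eq_J hTp] at hJO ⊢
      rw [← Fusion.ZJGeneral.J_eq_of_le hOT hJO, ← Fusion.ZJBridge.thompsonAOf_eq_J fun u hu => hTp u (hOT hu)]
      exact (show (⊤ : Subgroup L) ≤ Subgroup.normalizer (O : Set L) by rw [Subgroup.normalizer_eq_top]).trans
        (ThompsonA.normalizer_le_thompsonA O)
    set A := A₀.map (T : Subgroup L).subtype with hAdef
    have hAT : A ≤ (T : Subgroup L) := Subgroup.map_subtype_le _
    haveI hAab : IsMulCommutative A := by haveI := hA₀.1; infer_instance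
    have hAc := isMulCommutative_subgroup_iff.mp hAab
    have hAne : ¬ A ≤ CW := fun h => hA₀O ((le_inf hAT h).trans hTCW)
    have hwt : wt W (A ⊓ CW) ≤ wt W A := by
      set B := A ⊓ CW with hB
      have hBW : ∀ b ∈ B, ∀ w ∈ W, b * w = w * b := fun b hb w hw =>
        (Subgroup.mem_centralizer_iff.mp hb.2 w hw).symm
      have hab : IsMulCommutative (W ⊔ B : Subgroup L) := by
        rw [← Subgroup.closure_eq B, ← Subgroup.closure_eq W, ← Subgroup.closure_union]
        refine Subgroup.isMulCommutative_closure ?_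
        rintro y (hy | hy) w (hw | hw)
        · exact isMulCommutative_subgroup_iff.mp hWEA.1 y hy w hw
        · exact (hBW w hw y hy).symm
        · exact hBW y hy w hw
        · exact hAc y hy.1 w hw.1
      have hle : W ⊔ B ≤ (T : Subgroup L) := sup_le ((hWV.trans inf_le_left).trans hOT) (inf_le_left.trans hAT)
      have hmax := hA₀.2 ((W ⊔ B).subgroupOf T) (by haveI := hab; infer_instance)
      rw [Nat.card_congr (Subgroup.subgroupOfEquivOfLe hle).toEquiv,
        ← Subgroup.card_map_of_injective (f := (T : Subgroup L).subtype) (K := A₀) (Subgroup.subtype_injective _),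
        ← hAdef] at hmax
      have hc' := Fusion.Thompson.card_sup_mul_card_inf (N := W) (K := B)
        (by rw [Subgroup.normalizer_eq_top]; exact le_top)
      have hWB : W ⊓ Subgroup.centralizer (B : Set L) = W :=
        inf_eq_left.mpr fun w hw => Subgroup.mem_centralizer_iff.mpr fun b hb => hBW b hb w hw
      have hWi : W ⊓ B ≤ W ⊓ Subgroup.centralizer (A : Set L) :=
        inf_le_inf_left _ (inf_le_left.trans A.le_centralizer)
      show Nat.card B * Nat.card (W ⊓ Subgroup.centralizer (B : Set L) : Subgroup L) ≤ _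
      rw [hWB, mul_comm (Nat.card B), ← hc']
      exact Nat.mul_le_mul hmax (Subgroup.card_le_of_le hWi)
    obtain ⟨B₁, hB₁A, hB₁⟩ := Set.exists_max_image {B : Subgroup L | B ≤ A} (fun B => wt W B)
      (Set.toFinite _) ⟨A, le_refl A⟩
    obtain ⟨B₀, hB₀⟩ : ∃ B : Subgroup L, B ≤ A ∧ ¬ B ≤ CW ∧ wt W B = wt W B₁ := by
      rcases (hB₁ A (le_refl A)).lt_or_eq with h | h
      · refine ⟨B₁, hB₁A, fun hle => ?_, rfl⟩
        refine absurd h (not_lt.mpr (le_trans ?_ hwt))
        have e : ∀ B : Subgroup L, B ≤ CW → W ⊓ Subgroup.centralizer (B : Set L) = W := fun B hB =>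
          inf_eq_left.mpr (Subgroup.le_centralizer_iff.mp hB)
        rw [wt, wt, e _ hle, e _ inf_le_right]
        exact Nat.mul_le_mul_right _ (Subgroup.card_le_of_le (le_inf hB₁A hle))
      · exact ⟨A, le_rfl, hAne, h⟩
    obtain ⟨D, -, ⟨hDA, hDne, hDwt⟩, hDmin⟩ := Finite.exists_le_minimal
      (p := fun B : Subgroup L => B ≤ A ∧ ¬ B ≤ CW ∧ wt W B = wt W B₁) (a := B₀) hB₀
    refine ⟨D, hDA.trans hAT, hDne, fun B hB => hDwt ▸ hB₁ B (hB.trans hDA), fun B hB hne hBn => ?_⟩
    refine lt_of_le_of_ne (hDwt ▸ hB₁ B (hB.trans hDA)) fun e => hne (le_antisymm hB ?_)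
    exact hDmin ⟨hB.trans hDA, hBn, e.trans hDwt⟩ hB
  -- the subgroup they generate
  set P := sSup {D : Subgroup L | D ≤ (T : Subgroup L) ∧ IsLeastOffender W D} with hP
  have hPT : P ≤ (T : Subgroup L) := sSup_le fun D hD => hD.1
  have hPclosed : ∀ g : L, P.map (MulAut.conj g).toMonoidHom ≤ (T : Subgroup L) →
      g ∈ Subgroup.normalizer (P : Set L) := by
    intro g hg
    have hle : P.map (MulAut.conj g).toMonoidHom ≤ P := by
      rw [Subgroup.map_le_iff_le_comap]
      refine sSup_le fun D hD => ?_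
      rw [← Subgroup.map_le_iff_le_comap]
      exact le_sSup (s := {D : Subgroup L | D ≤ (T : Subgroup L) ∧ IsLeastOffender W D})
        ⟨(Subgroup.map_mono (le_sSup hD)).trans hg, hD.2.map_conj g⟩
    exact Subgroup.mem_normalizer_iff_map_conj_eq.mpr (Subgroup.eq_of_le_of_card_ge hle
      (Subgroup.card_map_of_injective (MulAut.conj g).injective).ge)
  have hTP : (T : Subgroup L) ≤ Subgroup.normalizer (P : Set L) := fun t ht => hPclosed t (by
    rintro _ ⟨x, hx, rfl⟩
    exact Subgroup.mul_mem _ (Subgroup.mul_mem _ ht (hPT hx)) (Subgroup.inv_mem _ ht))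
  have hNPM : Subgroup.normalizer (P : Set L) ≤ M := hproper _ hTP fun h => hD₀.1
    ((le_sSup (s := {D : Subgroup L | D ≤ (T : Subgroup L) ∧ IsLeastOffender W D}) ⟨hD₀T, hD₀⟩).trans
      ((LocalEven.SylowIn.le_pCore (hN := Subgroup.normalizer_eq_top_iff.1 h) (T.isPGroup'.to_le hPT)).trans hOCW))
  -- the norm
  letI : CommGroup W :=
    { (inferInstance : Group W) with
      mul_comm := fun x y => Subtype.ext (hVc _ x.2.1 _ y.2.1) }
  letI : CommGroup V :=
    { (inferInstance : Group V) with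
      mul_comm := fun x y => Subtype.ext (hVc _ x.2 _ y.2) }
  haveI : Fintype (L ⧸ M) := Fintype.ofFinite _
  let e : L ⧸ M → W := fun q => ⟨q.out * z * q.out⁻¹ * z⁻¹, hE q.out⟩
  have he : ∀ g : L, ((e (g : L ⧸ M) : W) : L) = g * z * g⁻¹ * z⁻¹ := fun g => by
    obtain ⟨m, hm⟩ := QuotientGroup.mk_out_eq_mul M g
    show (g : L ⧸ M).out * z * (g : L ⧸ M).out⁻¹ * z⁻¹ = _
    rw [hm, mul_inv_rev]
    calc g * m * z * ((m : L)⁻¹ * g⁻¹) * z⁻¹ = g * ((m : L) * z) * (m : L)⁻¹ * g⁻¹ * z⁻¹ := by group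
      _ = g * (z * m) * (m : L)⁻¹ * g⁻¹ * z⁻¹ := by rw [Subgroup.mem_centralizer_singleton_iff.mp m.2]
      _ = _ := by group
  let φ : P →* MulAut W := (MulAut.conjNormal (H := W)).comp P.subtype
  have hequi : ∀ (k : P) (q : L ⧸ M), e (k • q) = φ k (e q) := by
    intro k q
    induction q using QuotientGroup.induction_on with
    | H g =>
      refine Subtype.ext ?_
      show ((e (((k : L) * g : L) : L ⧸ M) : W) : L) = (k : L) * (e (g : L ⧸ M) : W) * (k : L)⁻¹
      rw [he, he]
      have hkz : z⁻¹ = (k : L) * z⁻¹ * (k : L)⁻¹ := by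
        have h : Commute (k : L) z := Subgroup.mem_centralizer_singleton_iff.mp (hTM (hPT k.2))
        rw [h.inv_right.eq, mul_inv_cancel_right]
      nth_rewrite 1 [hkz]
      group
  have hfixed : ∀ q : L ⧸ M, q ∈ MulAction.fixedPoints P (L ⧸ M) → e q = 1 := by
    intro q hq
    induction q using QuotientGroup.induction_on with
    | H g =>
      have hgM : g ∈ M := by
        set P' := P.map (MulAut.conj g⁻¹).toMonoidHom with hP'
        have hP'M : P' ≤ M := by
          rintro _ ⟨k, hk, rfl⟩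
          have h := QuotientGroup.eq.mp (hq ⟨k⁻¹, P.inv_mem hk⟩)
          simpa [mul_assoc] using h
        have hP'p : IsPGroup p P' := (T.isPGroup'.to_le hPT).map _
        obtain ⟨R, hR⟩ := (hP'p.comap_subtype (K := M)).exists_le_sylow
        obtain ⟨m, hm⟩ := MulAction.exists_smul_eq M R (T.subtype hTM)
        have hconj : P.map (MulAut.conj ((m : L) * g⁻¹)).toMonoidHom ≤ (T : Subgroup L) := by
          rintro _ ⟨k, hk, rfl⟩
          have hk' : g⁻¹ * k * g ∈ M := by
            simpa using hP'M (Subgroup.mem_map_of_mem (MulAut.conj g⁻¹).toMonoidHom hk)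
          have h1 : (⟨g⁻¹ * k * g, hk'⟩ : M) ∈ (R : Subgroup M) :=
            hR (Subgroup.mem_subgroupOf.mpr (by
              show g⁻¹ * k * g ∈ P'
              exact ⟨k, hk, by simp⟩))
          have h2 := Subgroup.smul_mem_pointwise_smul _ (MulAut.conj m) (R : Subgroup M) h1
          rw [← Sylow.coe_subgroup_smul, hm, Sylow.coe_subtype, Subgroup.mem_subgroupOf] at h2
          show (m : L) * g⁻¹ * k * ((m : L) * g⁻¹)⁻¹ ∈ (T : Subgroup L)
          simpa [mul_assoc] using h2
        have h3 := hNPM (hPclosed _ hconj)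
        simpa using M.mul_mem (M.inv_mem m.2) h3
      refine Subtype.ext ?_
      rw [he, Subgroup.mem_centralizer_singleton_iff.mp hgM]
      simp
  have hkey : ∀ K : Subgroup P, K.Normal → K.index = p → ∀ a : W, (∀ l ∈ K, φ l a = a) →
      ∃ x ∉ K, ∏ i ∈ Finset.range p, φ (x ^ i) a = 1 := by
    intro K hKn hKp a ha
    set K' := K.map P.subtype with hK'
    obtain ⟨D, hDT, hD, hDK⟩ : ∃ D, D ≤ (T : Subgroup L) ∧ IsLeastOffender W D ∧ ¬ D ≤ K' := by
      by_contra hall
      push Not at hall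
      have hPK : P ≤ K' := sSup_le fun D hD => hall D hD.1 hD.2
      have : K = ⊤ := top_le_iff.mp fun x _ => by
        obtain ⟨y, hy, hye⟩ := hPK x.2
        exact Subtype.ext hye ▸ hy
      rw [this, Subgroup.index_top] at hKp
      exact hpp.ne_one hKp.symm
    have hDP : D ≤ P := le_sSup (s := {D : Subgroup L | D ≤ (T : Subgroup L) ∧ IsLeastOffender W D}) ⟨hDT, hD⟩
    set B := D ⊓ K' with hB
    have hDB : Nat.card D ≤ p * Nat.card B := by
      have h1 : K'.relIndex D ≤ p := by
        refine (Subgroup.relIndex_le_of_le_right hDP Subgroup.index_ne_zero_of_finite).trans (le_of_eq ?_)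
        rw [← hKp, hK', Subgroup.relIndex, Subgroup.subgroupOf,
          Subgroup.comap_map_eq_self_of_injective P.subtype_injective]
      have h2 := Subgroup.relIndex_mul_relIndex (⊥ : Subgroup L) B D bot_le inf_le_left
      rw [Subgroup.relIndex_bot_left, Subgroup.relIndex_bot_left] at h2
      rw [hB, Subgroup.inf_relIndex_left] at h2
      rw [← h2, Nat.mul_comm p]
      exact Nat.mul_le_mul_left _ h1
    set U := W ⊓ Subgroup.centralizer (B : Set L) with hU
    set C := W ⊓ Subgroup.centralizer (D : Set L) with hC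
    have haU : (a : L) ∈ U := ⟨a.2, Subgroup.mem_centralizer_iff.mpr fun b hb => by
      obtain ⟨k, hk, rfl⟩ := hb.2
      exact fix_iff.mp (congrArg Subtype.val (ha k hk))⟩
    have hCU : C ≤ U := inf_le_inf_left _ (Subgroup.centralizer_le inf_le_left)
    have hap : a ^ p = 1 := Subtype.ext (by rw [SubgroupClass.coe_pow]; exact a.2.2)
    by_cases hBC : B ≤ CW
    swap
    · have hne : B ≠ D := fun h => hDK (inf_eq_left.mp h)
      have hlt := hD.2.2 B inf_le_left hne hBC
      have hUC : U = C := by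
        have h1 : Nat.card U < p * Nat.card C := by
          refine Nat.lt_of_mul_lt_mul_left (a := Nat.card B) ?_
          calc Nat.card B * Nat.card U < Nat.card D * Nat.card C := hlt
            _ ≤ p * Nat.card B * Nat.card C := Nat.mul_le_mul_right _ hDB
            _ = _ := by ring
        obtain ⟨i, hi⟩ := IsPGroup.iff_card.mp (hWp.to_le (inf_le_left : U ≤ W))
        obtain ⟨j, hj⟩ := IsPGroup.iff_card.mp (hWp.to_le (inf_le_left : C ≤ W))
        refine (Subgroup.eq_of_le_of_card_ge hCU ?_).symm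
        rw [hi, hj] at h1
        rw [hi, hj]
        rw [← pow_succ'] at h1
        exact Nat.pow_le_pow_right hpp.pos (Nat.lt_succ_iff.mp ((Nat.pow_lt_pow_iff_right hpp.one_lt).mp h1))
      obtain ⟨d, hdD, hdK⟩ := SetLike.not_le_iff_exists.mp hDK
      refine ⟨⟨d, hDP hdD⟩, fun h => hdK (Subgroup.mem_map_of_mem _ h), ?_⟩
      rw [Finset.prod_congr rfl (fun i _ => (?_ : φ (⟨d, hDP hdD⟩ ^ i) a = a)), Finset.prod_const, Finset.card_range]
      · exact hap
      · refine Subtype.ext ?_
        show d ^ i * (a : L) * (d ^ i)⁻¹ = a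
        exact fix_iff.mpr (Subgroup.mem_centralizer_iff.mp (hUC.le haU).2 _ (D.pow_mem hdD i))
    · have hWC : Nat.card W ≤ p * Nat.card C := by
        have h := hD.2.1 B inf_le_left
        have hUW : U = W := inf_eq_left.mpr (Subgroup.le_centralizer_iff.mp hBC)
        rw [wt, wt, ← hU, ← hC, hUW] at h
        refine Nat.le_of_mul_le_mul_left ?_ (Nat.card_pos (α := B))
        calc Nat.card B * Nat.card W ≤ Nat.card D * Nat.card C := h
          _ ≤ p * Nat.card B * Nat.card C := Nat.mul_le_mul_right _ hDB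
          _ = _ := by ring
      obtain ⟨d, hdD, hdC⟩ := SetLike.not_le_iff_exists.mp hD.1
      have hdK : d ∉ K' := fun h => hdC (hBC ⟨hdD, h⟩)
      refine ⟨⟨d, hDP hdD⟩, fun h => hdK (Subgroup.mem_map_of_mem _ h), ?_⟩
      by_cases hp2 : p = 2
      · exfalso
        subst hp2
        refine (hs.resolve_left fun h => h rfl) (sfour_of_transvection hWEA hdC ?_ ?_ ?_)
        · have h : (⟨d, hDP hdD⟩ : P) * ⟨d, hDP hdD⟩ ∈ K := Subgroup.mul_self_mem_of_index_two hKp _
          exact hBC ⟨D.mul_mem hdD hdD, Subgroup.mem_map_of_mem P.subtype h⟩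
        · refine hWC.trans (Nat.mul_le_mul_left _ (Subgroup.card_le_of_le (inf_le_inf_left _ ?_)))
          exact Subgroup.centralizer_le (by simpa using hdD)
        · intro N hN hNp hd
          haveI := hN
          refine hdC (hOCW (hsmall (N.comap π) inferInstance ?_ ⟨hDT hdD, hd⟩))
          exact hNp.to_le (Subgroup.map_comap_le _ _)
      · let f : W →* W := MonoidHom.mk' (fun w => φ ⟨d, hDP hdD⟩ w * w⁻¹) fun v w => by
          rw [map_mul, mul_inv]; ac_rfl
        set R := f.range.map W.subtype with hR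
        have hRW : R ≤ W := Subgroup.map_subtype_le _
        have hRp : Nat.card R ≤ p := by
          rw [hR, Subgroup.card_map_of_injective W.subtype_injective]
          have h1 : C.subgroupOf W ≤ f.ker := fun w hw => by
            refine mul_inv_eq_one.mpr (Subtype.ext ?_)
            exact fix_iff.mpr (Subgroup.mem_centralizer_iff.mp (Subgroup.mem_subgroupOf.mp hw).2 d hdD)
          have h2 := Subgroup.card_le_of_le h1
          rw [Nat.card_congr (Subgroup.subgroupOfEquivOfLe inf_le_left).toEquiv] at h2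
          have h3 := f.ker.card_mul_index
          rw [Subgroup.index_ker] at h3
          refine Nat.le_of_mul_le_mul_left ?_ (Nat.card_pos (α := f.ker))
          calc Nat.card f.ker * Nat.card f.range = Nat.card W := h3
            _ ≤ p * Nat.card C := hWC
            _ ≤ p * Nat.card f.ker := Nat.mul_le_mul_left _ h2
            _ = _ := Nat.mul_comm _ _
        have hdR : Subgroup.zpowers d ≤ Subgroup.normalizer (R : Set L) := by
          rw [Subgroup.zpowers_le]
          refine Subgroup.mem_normalizer_fintype ?_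
          rintro _ ⟨_, ⟨w, rfl⟩, rfl⟩
          refine ⟨f (φ ⟨d, hDP hdD⟩ w), ⟨_, rfl⟩, ?_⟩
          show d * (d * (w : L) * d⁻¹) * d⁻¹ * (d * (w : L) * d⁻¹)⁻¹ = d * (d * w * d⁻¹ * (w : L)⁻¹) * d⁻¹
          group
        have hRfix : ∀ y ∈ R, d * y * d⁻¹ = y := by
          intro y hy
          by_cases hR1 : R = ⊥
          · rw [hR1, Subgroup.mem_bot] at hy; simp [hy]
          obtain ⟨y₀, hy₀, hy₀1⟩ := LocalEven.Large.exists_fixed
            ((T.isPGroup'.to_le (Subgroup.zpowers_le.mpr (hDT hdD)))) (hWp.to_le hRW) hR1 hdR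
          obtain ⟨i, hi⟩ := IsPGroup.iff_card.mp (hWp.to_le hRW)
          have hRC : R ⊓ Subgroup.centralizer ((Subgroup.zpowers d : Subgroup L) : Set L) = R := by
            refine Subgroup.eq_of_le_of_card_ge inf_le_left ?_
            obtain ⟨j, hj⟩ := IsPGroup.iff_card.mp
              (hWp.to_le (inf_le_left.trans hRW : R ⊓ Subgroup.centralizer ((Subgroup.zpowers d : Subgroup L) : Set L) ≤ W))
            have hj0 : j ≠ 0 := fun h0 => hy₀1 (by
              rw [h0, pow_zero, Subgroup.card_eq_one] at hj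
              rw [hj, Subgroup.mem_bot] at hy₀
              exact hy₀)
            rw [hj]
            exact hRp.trans (Nat.le_self_pow hj0 p)
          exact fix_iff.mpr (Subgroup.mem_centralizer_iff.mp (hRC.ge hy).2 d (Subgroup.mem_zpowers d))
        set c := f a with hc'
        have hcR : (c : L) ∈ R := ⟨c, ⟨a, rfl⟩, rfl⟩
        have hfc : φ ⟨d, hDP hdD⟩ c = c := Subtype.ext (hRfix _ hcR)
        have hiter : ∀ i : ℕ, φ (⟨d, hDP hdD⟩ ^ i) a = c ^ i * a := by
          intro i
          induction i with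
          | zero => simp
          | succ i ih2 =>
            rw [pow_succ', map_mul, MulAut.mul_apply, ih2, map_mul, map_pow, hfc, pow_succ, mul_assoc]
            congr 1
            show φ ⟨d, hDP hdD⟩ a = φ ⟨d, hDP hdD⟩ a * a⁻¹ * a
            rw [inv_mul_cancel_right]
        have hcp : c ^ p = 1 := Subtype.ext (by rw [SubgroupClass.coe_pow]; exact c.2.2)
        rw [Finset.prod_congr rfl (fun i _ => hiter i), Finset.prod_mul_distrib, Finset.prod_const, Finset.card_range,
          hap, mul_one, Finset.prod_pow_eq_pow_sum, Finset.sum_range_id]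
        obtain ⟨k, hk⟩ := hpp.odd_of_ne_two hp2
        rw [show p * (p - 1) / 2 = p * k by
          rw [show p - 1 = k * 2 by omega, ← mul_assoc, Nat.mul_div_cancel _ (by norm_num)], pow_mul, hcp, one_pow]
  have hmoved : ∏ q ∈ Finset.univ.filter (fun q : L ⧸ M => q ∉ MulAction.fixedPoints P (L ⧸ M)), e q = 1 := by
    refine prod_moved_eq_one (T.isPGroup'.to_le hPT) φ e hequi hkey _ (fun q hq => (Finset.mem_filter.mp hq).2)
      fun k q hq => Finset.mem_filter.mpr ⟨Finset.mem_univ _, fun hfx => (Finset.mem_filter.mp hq).2 ?_⟩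
    intro l
    have h1 := hfx (k * l * k⁻¹)
    rw [← mul_smul, inv_mul_cancel_right, mul_smul] at h1
    exact smul_left_cancel k h1
  have htot : ∏ q : L ⧸ M, e q = 1 := by
    rw [← Finset.prod_filter_mul_prod_filter_not Finset.univ (fun q : L ⧸ M => q ∈ MulAction.fixedPoints P (L ⧸ M)) e,
      hmoved, mul_one]
    exact Finset.prod_eq_one fun q hq => hfixed q (Finset.mem_filter.mp hq).2
  let F : L ⧸ M → V := fun q => ⟨q.out * z * q.out⁻¹, hVn.conj_mem z hzV _⟩
  have hF : ∀ g : L, ((F (g : L ⧸ M) : V) : L) = g * z * g⁻¹ := fun g =>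
    (mul_left_inj z⁻¹).mp (he g)
  have hFe : ∀ q : L ⧸ M, F q = Subgroup.inclusion hWV (e q) * ⟨z, hzV⟩ := fun q =>
    Subtype.ext (show q.out * z * q.out⁻¹ = q.out * z * q.out⁻¹ * z⁻¹ * z by group)
  have hFprod : ∏ q : L ⧸ M, F q = ⟨z, hzV⟩ ^ M.index := by
    rw [Finset.prod_congr rfl (fun q _ => hFe q), Finset.prod_mul_distrib, ← map_prod, htot, map_one, one_mul,
      Finset.prod_const, Finset.card_univ, Subgroup.index_eq_card, Nat.card_eq_fintype_card]
  have hzn : z ^ M.index ∈ Subgroup.center L := by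
    refine Subgroup.mem_center_iff.mpr fun g => fix_iff.mp ?_
    have h1 : MulAut.conjNormal (H := V) g (∏ q : L ⧸ M, F q) = ∏ q : L ⧸ M, F q := by
      rw [map_prod]
      refine Fintype.prod_equiv (MulAction.toPerm g) _ _ fun q => ?_
      induction q using QuotientGroup.induction_on with
      | H x =>
        refine Subtype.ext ?_
        show g * ((F (x : L ⧸ M) : V) : L) * g⁻¹ = ((F ((g * x : L) : L ⧸ M) : V) : L)
        rw [hF, hF]; group
    rw [hFprod] at h1
    exact congrArg Subtype.val h1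
  have hcop : (M.index).Coprime p := ((hpp.coprime_iff_not_dvd).mpr fun h =>
    T.not_dvd_index (h.trans (Subgroup.index_dvd_of_le hTM))).symm
  refine hcen ?_
  have h := Nat.gcd_eq_gcd_ab M.index p
  rw [hcop.gcd_eq_one, Nat.cast_one] at h
  rw [← zpow_one z, h, zpow_add, zpow_mul, zpow_mul, zpow_natCast, zpow_natCast]
  exact mul_mem (Subgroup.zpow_mem _ hzn _) (Subgroup.zpow_mem _ hzp _)

/-- **Glauberman's theorem**: in a constrained group, `Z(T) ∩ Z(N(J(T)))` is central. -/
theorem center_of_jA {p : ℕ} [Fact p.Prime] (L : Type u) [Group L] [Finite L]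
    (hs : p ≠ 2 ∨ ¬ Cfsg.Involves (Equiv.Perm (Fin 4)) L) (T : Sylow p L)
    (hc : Subgroup.centralizer ((Cfsg.pCore p L : Subgroup L) : Set L) ≤ Cfsg.pCore p L) :
    ∀ z ∈ zPow p 0 (T : Subgroup L),
      Subgroup.normalizer (wOf (fun Q _ => jA Q) (T : Subgroup L) : Set L) ≤ Subgroup.centralizer {z} →
      z ∈ Subgroup.center L := fun z hz hN => center_aux _ L rfl hs T hc z (zPow_le 0 _ hz) hN

end CfsgLib.Fsys.Glauberman
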