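import Cfsg.Agent.Lib.FusionSystem.ThompsonCriterion
import Cfsg.Agent.Lib.FusionSystem.GlaubermanCenter
/-
Glauberman's theorem for saturated systems: `Z(N_F(J(S))) = Z(F)` for `p` odd or `S₄`-free systems.
-/
set_option autoImplicit false

namespace CfsgLib.Fsys

open Cfsg
open Cfsg.FusionSystem (centralizerIn normalizerIn)

universe u

variable {Ω : Type u} [Group Ω] {S : Subgroup Ω} [Finite S] {F : FusionSystem S} {p : ℕ} [Fact p.Prime]

theorem zPow_zero : zPow p 0 S = S ⊓ Subgroup.centralizer (S : Set Ω) := by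
  refine le_antisymm (zPow_le 0 S) fun x hx => Subgroup.subset_closure ⟨x, hx, ?_⟩
  rw [pow_zero, pow_one]

/-- Glauberman's theorem for saturated systems. -/
theorem normalizer_center_eq (hS : IsPGroup p S) (hF : F.IsSaturated p) (hfree : SFour p F)
    (N : FusionSystem (normalizerIn S (thompsonSubgroupAOf S)))
    (hN : F.IsNormalizerSystem (thompsonSubgroupAOf S) N) : N.center = F.center := by
  have hn : normalizerIn S (thompsonSubgroupAOf S) = S := normalizerIn_wOf (W := fun Q _ => jA Q) jA_map hS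
  refine le_antisymm ?_ (center_le_normalizer_center (Subgroup.map_subtype_le _) hn N hN)
  have := finite_of_le_base (normalizerIn_le : normalizerIn S (thompsonSubgroupAOf S) ≤ S)
  have hle : N.center ≤ zPow p 0 S := by
    rw [zPow_zero]
    have h := center_le_center (normalizerIn S (thompsonSubgroupAOf S)) N
    exact h.trans (le_of_eq (congrArg (fun T : Subgroup Ω => T ⊓ Subgroup.centralizer (T : Set Ω)) hn))
  refine le_center (central_of_wOf_class (W := fun Q _ => jA Q) 0 jA_ne_bot jA_map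
    (fun {Ω} _ {S} F => SFour p F) (fun L _ => p ≠ 2 ∨ ¬ Involves (Equiv.Perm (Fin 4)) L)
    (fun h hι hT => h.not_involves hι hT) (fun h hle hsub => h.of_subsystem hle hsub)
    (fun h hS hF _ hQ _ _ _ _ hE hEs => h.factor hS hF hQ hE hEs)
    (fun L _ _ T hg hc => Glauberman.center_of_jA L hg T hc) hS hF hfree hle fun P f hf hWP hZP hfW z hz => ?_)
  have hfN : Fn N P f := (fn_normalizerSystem hN).2 ⟨hf.le.trans hn.ge, fun x hx => hn.ge (hf.mem hx), f,
    by rwa [sup_eq_left.2 (show thompsonSubgroupAOf S ≤ P from hWP)], fun x _ => rfl, hfW⟩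
  obtain ⟨g, -, hge, hgz⟩ := (central_iff_fn.1 (center_central (F := N))).2 P f hfN
  exact (hge z (hZP hz)).symm.trans (hgz z hz)

/-- The `p`-th powers in `Z(S) ∩ Z(N_F(J(S)))` are central. -/
theorem pow_inf_normalizer_center_le (hS : IsPGroup p S) (hF : F.IsSaturated p)
    (N : FusionSystem (normalizerIn S (thompsonSubgroupAOf S)))
    (hN : F.IsNormalizerSystem (thompsonSubgroupAOf S) N) : zPow p 1 S ⊓ N.center ≤ F.center :=
  zPow_inf_center_le (W := fun Q _ => jA Q) 1 jA_ne_bot jA_map
    (center_of_witness (W := fun Q _ => jA Q) jA_map 1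
      fun _ _ _ T _ hn => witness_of_quadratic T (exists_quadratic_of_jA T hn)) hS hF rfl N hN

end CfsgLib.Fsys

namespace CfsgLib.Fsys

open Cfsg
open Cfsg.FusionSystem (centralizerIn normalizerIn)

universe u

variable {G : Type u} [Group G] [Finite G] {p : ℕ} [Fact p.Prime]

theorem group_realized (S : Subgroup G) : (groupFusionSystem S).IsRealizedBy S.subtype := by
  refine ⟨S.subtype_injective, fun P hP φ hφ => ⟨fun h => ?_, fun ⟨g, hg⟩ => ⟨hP, hφ, g, fun x => hg x⟩⟩⟩
  obtain ⟨-, -, g, hg⟩ := h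
  exact ⟨g, fun x => hg x⟩

theorem autS3Free_group (T : Sylow 2 G) (h : ¬ Involves (Equiv.Perm (Fin 4)) G) :
    AutS3Free (groupFusionSystem (T : Subgroup G)) := by
  intro P hP h3
  have hle : (groupFusionSystem (T : Subgroup G)).autGroup P ≤ (normHom P.subtype P.subtype_injective).range := by
    intro α hα
    obtain ⟨-, g, hg⟩ := fn_group_iff.1 ((mem_autGroup_iff_fn hP).1 hα) |>.imp_right fun h => h.2
    have key : ∀ x : P, g * (x : G) * g⁻¹ = (α x : P) := fun x => (hg x x.2).symm.trans (autFn_coe α x)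
    have hgn : g ∈ Subgroup.normalizer (P.subtype.range : Set G) := Subgroup.mem_normalizer_fintype (by
      rintro _ ⟨x, rfl⟩
      exact ⟨α x, (key x).symm⟩)
    refine ⟨⟨g, hgn⟩, MulEquiv.ext fun x => P.subtype_injective ?_⟩
    rw [normHom_apply]
    exact key x
  haveI : Fact (Nat.Prime 2) := ⟨Nat.prime_two⟩
  exact h (Cfsg.Agent.S2759.result.mpr ⟨P.subtype.range, by rw [Subgroup.range_subtype]; exact T.2.to_le hP,
    (involves_normHom_iff _ _).2 (involves_of_injective (Subgroup.inclusion_injective hle) h3)⟩)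

/-- Glauberman: a central element of `N(J(S))` in `S` is weakly closed. -/
theorem weakly_closed_of_center (S : Sylow p G) {x : G} (hxS : x ∈ (S : Subgroup G))
    (hxN : ∀ g ∈ Subgroup.normalizer (thompsonSubgroupAOf (S : Subgroup G) : Set G), g * x = x * g)
    (h : p ≠ 2 ∨ (∃ z ∈ (S : Subgroup G) ⊓ Subgroup.centralizer ((S : Subgroup G) : Set G), z ^ p = x) ∨
      ¬ Involves (Equiv.Perm (Fin 4)) G) : ∀ g : G, g * x * g⁻¹ ∈ (S : Subgroup G) → g * x * g⁻¹ = x := by
  have hS : IsPGroup p (S : Subgroup G) := S.isPGroup'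
  have hF : (groupFusionSystem (S : Subgroup G)).IsSaturated p := group_isSaturated S
  have hn : normalizerIn (S : Subgroup G) (thompsonSubgroupAOf (S : Subgroup G)) = S :=
    normalizerIn_wOf (W := fun Q _ => jA Q) jA_map hS
  obtain ⟨N, hN⟩ := exists_normalizerSystem (groupFusionSystem (S : Subgroup G))
    (Subgroup.map_subtype_le _ : thompsonSubgroupAOf (S : Subgroup G) ≤ S)
  have hxc : x ∈ N.center := by
    refine le_center (Q := Subgroup.zpowers x) (central_iff_fn.2 ⟨Subgroup.zpowers_le.2 (hn.ge hxS), fun P f hf => ?_⟩)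
      (Subgroup.mem_zpowers x)
    obtain ⟨hP, -, g', hg', hge, hgi⟩ := (fn_normalizerSystem hN).1 hf
    obtain ⟨-, hmem, g, hg⟩ := fn_group_iff.1 hg'
    have hgN : g ∈ Subgroup.normalizer (thompsonSubgroupAOf (S : Subgroup G) : Set G) :=
      mem_normalizer_of_map_le fun y hy => by
        rw [← hg y (Subgroup.mem_sup_right hy)]
        exact hgi.le (mem_img_of_mem hy)
    have hgx : ∀ y ∈ Subgroup.zpowers x, g * y * g⁻¹ = y := by
      rintro _ ⟨i, rfl⟩
      rw [← conj_zpow, mul_inv_eq_iff_eq_mul.2 (hxN g hgN)]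
    have hgS : ∀ y ∈ P ⊔ Subgroup.zpowers x, g * y * g⁻¹ ∈
        normalizerIn (S : Subgroup G) (thompsonSubgroupAOf (S : Subgroup G)) := by
      rw [hn]
      refine fun y hy => (sup_le ?_ ?_ : P ⊔ Subgroup.zpowers x ≤ (S : Subgroup G).comap (MulAut.conj g).toMonoidHom) hy
      · intro z hz
        show g * z * g⁻¹ ∈ (S : Subgroup G)
        rw [← hg z (Subgroup.mem_sup_left hz)]
        exact hmem z (Subgroup.mem_sup_left hz)
      · intro z hz
        show g * z * g⁻¹ ∈ (S : Subgroup G)
        rw [hgx z hz]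
        exact Subgroup.zpowers_le.2 hxS hz
    have hxle : P ⊔ Subgroup.zpowers x ≤ normalizerIn (S : Subgroup G) (thompsonSubgroupAOf (S : Subgroup G)) :=
      sup_le hP (Subgroup.zpowers_le.2 (hn.ge hxS))
    have hall : ∀ y ∈ P ⊔ Subgroup.zpowers x ⊔ thompsonSubgroupAOf (S : Subgroup G), g * y * g⁻¹ ∈ (S : Subgroup G) := by
      refine fun y hy => (sup_le (fun z hz => ?_) (fun z hz => ?_) :
        P ⊔ Subgroup.zpowers x ⊔ thompsonSubgroupAOf (S : Subgroup G) ≤ (S : Subgroup G).comap (MulAut.conj g).toMonoidHom) hy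
      · exact (hgS z hz).1
      · show g * z * g⁻¹ ∈ (S : Subgroup G)
        exact Subgroup.map_subtype_le _ ((Subgroup.mem_normalizer_iff.1 hgN z).1 hz)
    refine ⟨fun y => g * y * g⁻¹, (fn_normalizerSystem hN).2 ⟨hxle, hgS, fun y => g * y * g⁻¹,
      fn_group_conj (sup_le (hxle.trans normalizerIn_le) (Subgroup.map_subtype_le _)) g hall, fun y _ => rfl,
      (fn_group_conj (sup_le (hxle.trans normalizerIn_le) (Subgroup.map_subtype_le _)) g hall).mono le_sup_right
        |>.img_eq_self fun y hy => (Subgroup.mem_normalizer_iff.1 hgN y).1 hy⟩, fun y hy => ?_, hgx⟩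
    show g * y * g⁻¹ = f y
    rw [← hg y (Subgroup.mem_sup_left hy), hge y hy]
  have hxF : x ∈ (groupFusionSystem (S : Subgroup G)).center := by
    rcases h with hp | ⟨z, hz, rfl⟩ | h4
    · exact (normalizer_center_eq hS hF (Or.inl hp) N hN).le hxc
    · exact pow_inf_normalizer_center_le hS hF N hN ⟨Subgroup.subset_closure ⟨z, hz, by rw [pow_one]⟩, hxc⟩
    · refine (normalizer_center_eq hS hF ?_ N hN).le hxc
      by_cases hp : p = 2
      · subst hp
        exact Or.inr (autS3Free_group S h4)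
      · exact Or.inl hp
  intro g hg
  have hf : Fn (groupFusionSystem (S : Subgroup G)) (Subgroup.zpowers x) (fun y => g * y * g⁻¹) := by
    refine fn_group_conj (Subgroup.zpowers_le.2 hxS) g ?_
    rintro _ ⟨i, rfl⟩
    rw [← conj_zpow]
    exact Subgroup.zpow_mem _ hg i
  obtain ⟨φ, hφ, hφe, hφz⟩ := (central_iff_fn.1 (center_central (F := groupFusionSystem (S : Subgroup G)))).2 _ _ hf
  exact (hφe x (Subgroup.mem_zpowers x)).symm.trans (hφz x hxF)

end CfsgLib.Fsys
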