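import Cfsg.Agent.Lib.FusionSystem.SubnormalConstrained
import Cfsg.Agent.Lib.FusionSystem.FactorSaturated
import Cfsg.Agent.Lib.FusionSystem.Models

/-! Constrained fusion systems of subnormal subgroups and of central quotients. -/

set_option autoImplicit false

open Cfsg Cfsg.FusionSystem

namespace CfsgLib.Fsys

open CfsgLib.LocalEven.SylowIn

section Group

variable {G : Type*} [Group G] [Finite G] {p : ℕ} [Fact p.Prime]

theorem subnormal_constrained (S : Sylow p G) (hF : (groupFusionSystem (S : Subgroup G)).IsConstrained p)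
    {H : Subgroup G} (hH : H.IsSubnormal) : IsSylowIn p ((S : Subgroup G) ⊓ H) H ∧
      (fusionSystemOfSubgroup H ((S : Subgroup G) ⊓ H) inf_le_right).IsConstrained p := by
  induction hH with
  | top =>
    have hT : IsSylowIn p ((S : Subgroup G) ⊓ ⊤) ⊤ := isSylowIn_inter_normal (H := (⊤ : Subgroup G)) S
    refine ⟨hT, constrained_of_stronglyClosed S.2 hF (fun P φ hφ => ?_)
      (stronglyClosed_iff_fn.2 ⟨inf_le_left, fun P f hf x hx _ => ⟨hf.mem hx, trivial⟩⟩)
      (subgroupSystem_saturated hT)⟩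
    obtain ⟨hP, hφT, g, -, hg⟩ := hφ
    exact ⟨hP.trans inf_le_left, fun x => (hφT x).1, g, hg⟩
  | step H K hle hK hn ih =>
    obtain ⟨hTK, hcK⟩ := ih
    have hKn : K ≤ Subgroup.normalizer (H : Set G) :=
      (Subgroup.normal_subgroupOf_iff_le_normalizer hle).1 hn
    have e : (S : Subgroup G) ⊓ K ⊓ H = (S : Subgroup G) ⊓ H := by rw [inf_assoc, inf_eq_right.2 hle]
    have hT : IsSylowIn p ((S : Subgroup G) ⊓ H) H := e ▸ isSylowIn_inf hTK hle hKn
    have hTle : (S : Subgroup G) ⊓ H ≤ (S : Subgroup G) ⊓ K := inf_le_inf_left _ hle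
    refine ⟨hT, constrained_of_stronglyClosed (S.2.to_le inf_le_left) hcK (fun P φ hφ => ?_) ?_
      (subgroupSystem_saturated hT)⟩
    · obtain ⟨hP, hφT, g, hg, hφg⟩ := hφ
      exact ⟨hP.trans hTle, fun x => hTle (hφT x), g, hle hg, hφg⟩
    · refine stronglyClosed_iff_fn.2 ⟨hTle, fun P f hf x hx hxT => ⟨(hf.mem hx).1, ?_⟩⟩
      obtain ⟨-, -, g, hg, hfg⟩ := (fn_subgroupSystem _).1 hf
      rw [hfg x hx]
      exact (Subgroup.mem_normalizer_iff.1 (hKn hg) x).1 hxT.2

/-- The system of a subgroup read inside that subgroup. -/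
theorem constrained_subgroupOf {S H : Subgroup G} (hT : IsSylowIn p (S ⊓ H) H)
    (h : (fusionSystemOfSubgroup H (S ⊓ H) inf_le_right).IsConstrained p) :
    (groupFusionSystem (S.subgroupOf H)).IsConstrained p := by
  obtain ⟨R, hR⟩ := (exists_sylow_iff hT.1).2 hT
  rw [Subgroup.inf_subgroupOf_right] at hR
  obtain ⟨-, Q, hQ, hc⟩ := h
  have hQn : (groupFusionSystem (S.subgroupOf H)).IsNormal (Q.subgroupOf H) := by
    refine normal_iff_fn.2 ⟨fun x hx => (hQ.1 hx).1, fun P f hf => ?_⟩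
    obtain ⟨hP, hfS, g, hg⟩ := fn_group_iff.1 hf
    have hfn : Fn (fusionSystemOfSubgroup H (S ⊓ H) inf_le_right) (P.map H.subtype)
        (fun x => (g : G) * x * (g : G)⁻¹) := by
      refine (fn_subgroupSystem _).2 ⟨?_, ?_, g, g.2, fun x _ => rfl⟩
      · rintro _ ⟨x, hx, rfl⟩
        exact ⟨hP hx, x.2⟩
      · rintro _ ⟨x, hx, rfl⟩
        have := hfS x hx
        rw [hg x hx] at this
        exact ⟨this, (g * x * g⁻¹).2⟩
    obtain ⟨g', hg', he, hi⟩ := (normal_iff_fn.1 hQ).2 _ _ hfn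
    obtain ⟨hle, hm, k, hk, hgk⟩ := (fn_subgroupSystem _).1 hg'
    let k' : H := ⟨k, hk⟩
    have hsup : (P ⊔ Q.subgroupOf H).map H.subtype ≤ P.map H.subtype ⊔ Q := by
      rw [Subgroup.map_sup]
      exact sup_le_sup_left (Subgroup.map_subgroupOf_eq_of_le (hQ.1.trans inf_le_right)).le _
    have hfn' : Fn (groupFusionSystem (S.subgroupOf H)) (P ⊔ Q.subgroupOf H) (fun x => k' * x * k'⁻¹) := by
      refine fn_group_conj (sup_le hP fun x hx => (hQ.1 hx).1) k' fun x hx => ?_
      have hx' := hsup ⟨x, hx, rfl⟩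
      have := hm _ hx'
      rw [hgk _ hx'] at this
      exact this.1
    refine ⟨_, hfn', fun x hx => ?_, (hfn'.mono le_sup_right).img_eq_self fun x hx => ?_⟩
    · have hx' : (x : G) ∈ P.map H.subtype ⊔ Q := Subgroup.mem_sup_left ⟨x, hx, rfl⟩
      rw [hg x hx]
      exact Subtype.ext ((hgk _ hx').symm.trans (he _ ⟨x, hx, rfl⟩))
    · have hx' : (x : G) ∈ P.map H.subtype ⊔ Q := Subgroup.mem_sup_right hx
      have hmem := hi.le (mem_img_of_mem hx)
      rw [Subgroup.subtype_apply, hgk _ hx'] at hmem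
      exact hmem
  refine ⟨hR ▸ group_isSaturated R, _, hQn, normal_centric hQn fun t ht => ?_⟩
  obtain ⟨htS, htc⟩ := mem_centralizerIn.1 ht
  have := finite_of_le_base (S := S ⊓ H) hQ.1
  refine centralizer_le_of_centric hc (mem_centralizerIn.2 ⟨⟨htS, t.2⟩, fun q hq => ?_⟩)
  exact congrArg Subtype.val (htc ⟨q, (hQ.1 hq).2⟩ hq)

end Group

variable {Ω : Type*} [Group Ω] {S S₀ : Subgroup Ω} {F : FusionSystem S} {p : ℕ} [Fact p.Prime] [Finite S]

/-- The factor system of a constrained system modulo a subgroup fixed by every map is constrained. -/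
theorem factor_constrained_of_central (hS : IsPGroup p S) (hF : F.IsConstrained p) {Ω' : Type*} [Group Ω']
    {S' : Subgroup Ω'} {θ : S →* Ω'} {E : FusionSystem S'} (hE : F.IsFactorSystem S₀ θ E)
    (hfix : ∀ P f, Fn F P f → ∀ x ∈ P, x ∈ S₀ → f x = x) : E.IsConstrained p := by
  have hS₀ : S₀ ≤ S := hE.1
  have hsc : F.StronglyClosed S₀ := stronglyClosed_iff_fn.2 ⟨hS₀, fun P f hf x hx hx0 =>
    (hfix P f hf x hx hx0).symm ▸ hx0⟩
  have hsur := factor_surjectiveMorphism hS hF.1 hsc hE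
  have := finite_target hsur
  have hQ : F.IsNormal F.core := core_normal
  have hc := core_centric hF
  have hcen : ∀ {z : Ω}, z ∈ S₀ → ∀ {s : Ω}, s ∈ S → s * z = z * s := fun {z} hz {s} hs => by
    have := hfix S _ (fn_conj le_rfl hs) z (hS₀ hz) hz
    exact mul_inv_eq_iff_eq_mul.1 this
  have hS₀Q : S₀ ≤ F.core := fun z hz => centralizer_le_of_centric hc
    (mem_centralizerIn.2 ⟨hS₀ hz, fun q hq => hcen hz (hQ.1 hq)⟩)
  have hQ' := normal_image hsur hQ
  refine ⟨surjectiveMorphism_saturated hS hF.1 hsur, _, hQ', normal_centric hQ' fun t' ht' => ?_⟩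
  obtain ⟨htS, htc⟩ := mem_centralizerIn.1 ht'
  obtain ⟨⟨t, ht⟩, hte⟩ := (factor_range hE).ge htS
  have hth : th θ t = t' := (th_apply ht).trans hte
  subst hth
  suffices htQ : t ∈ F.core from th_mem_imageAlong htQ ht
  have := finite_of_le_base hQ.1
  let A : Subgroup (F.autGroup F.core) :=
    { carrier := {a | ∀ q ∈ F.core, q⁻¹ * aFn a q ∈ S₀}
      one_mem' := fun q hq => by rw [aFn_one hq, inv_mul_cancel]; exact S₀.one_mem
      mul_mem' := fun {a b} ha hb q hq => by
        rw [aFn_mul _ _ hq]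
        have := S₀.mul_mem (hb q hq) (ha _ (aFn_mem b hq))
        rwa [mul_assoc, mul_inv_cancel_left] at this
      inv_mem' := fun {a} ha q hq => by
        have h1 := ha _ (aFn_mem a⁻¹ hq)
        rw [← aFn_mul _ _ hq, mul_inv_cancel, aFn_one hq] at h1
        simpa using S₀.inv_mem h1 }
  have hAn : A.Normal := ⟨fun a ha g q hq => by
    have hy := aFn_mem g⁻¹ hq
    have h0 := ha _ hy
    have hf := fn_aFn hQ.1 g
    have h1 := hfix _ _ hf _ (F.core.mul_mem (F.core.inv_mem hy) (aFn_mem a hy)) h0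
    rw [hf.map_mul (F.core.inv_mem hy) (aFn_mem a hy), hf.map_inv hy, ← aFn_mul _ _ hq, mul_inv_cancel,
      aFn_one hq] at h1
    rw [aFn_mul _ _ hq, aFn_mul _ _ hy, h1]
    exact h0⟩
  have hA : IsPGroup p A := fun a => by
    have hquad : QuadAut (((a : F.autGroup F.core)) : MulAut F.core) := quadAut_iff.2 fun x => by
      set α : MulAut F.core := ((a : F.autGroup F.core) : MulAut F.core)
      have hmem := a.2 x x.2
      rw [show aFn (a : F.autGroup F.core) (x : Ω) = ((α x : F.core) : Ω) from autFn_coe α x] at hmem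
      exact Subtype.ext ((autFn_coe α _).symm.trans
        (hfix _ _ (fn_aFn hQ.1 _) _ (x⁻¹ * α x).2 hmem))
    obtain ⟨k, hk⟩ := quadAut_pgroup (hS.to_le hQ.1) hquad ⟨_, Subgroup.mem_zpowers _⟩
    exact ⟨k, Subtype.ext (Subtype.ext (by simpa [Subtype.ext_iff] using hk))⟩
  refine mem_core_of_normal_pGroup hS hF A hA (t := ⟨t, ht⟩) fun q hq => ?_
  have hqS := hQ.1 hq
  rw [aFn_normalConj hQ _ hq]
  refine (factor_ker hE (S.mul_mem (S.inv_mem hqS) (S.mul_mem (S.mul_mem ht hqS) (S.inv_mem ht)))).1 ?_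
  rw [th_mul (S.inv_mem hqS) (S.mul_mem (S.mul_mem ht hqS) (S.inv_mem ht)), th_conj ht hqS, th_inv hqS,
    ← htc _ (th_mem_imageAlong hq hqS)]
  group

section Quotient

variable {G : Type*} [Group G] [Finite G]

/-- The fusion system of a central quotient of a constrained group system is constrained. -/
theorem quotient_constrained (S : Sylow p G) (hF : (groupFusionSystem (S : Subgroup G)).IsConstrained p)
    (Z : Subgroup G) [Z.Normal] (hZ : Z ≤ Subgroup.center G) :
    (groupFusionSystem ((S : Subgroup G).map (QuotientGroup.mk' Z))).IsConstrained p := by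
  refine factor_constrained_of_central S.2 hF (group_factorSystem S Z) fun P f hf x hx hxZ => ?_
  obtain ⟨-, -, g, hg⟩ := fn_group_iff.1 hf
  rw [hg x hx, Subgroup.mem_center_iff.1 (hZ hxZ.2) g, mul_inv_cancel_right]

end Quotient

end CfsgLib.Fsys
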