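import Cfsg.Agent.Lib.FusionSystem.Normal
import Cfsg.Agent.Lib.FusionSystem.Generation
import Cfsg.Agent.Lib.FusionSystem.Saturated
import Cfsg.Agent.Lib.FusionSystem.ModelTheorem
import Mathlib

/-!
Saturated systems over a Heisenberg-like `p`-group (commutators are central, centralizers of non-central elements
are commutative, commutation with a non-central element is onto the centre) with a nontrivial normal subgroup
are constrained.
-/

set_option autoImplicit false

namespace CfsgLib.Fsys.HeisCore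

open Cfsg
open Cfsg.FusionSystem (centralizerIn normalizerIn)

universe u

variable {Ω : Type u} [Group Ω]

/-- The three properties used. -/
structure Heis (S : Subgroup Ω) : Prop where
  comm : ∀ x ∈ S, ∀ y ∈ S, x * y * x⁻¹ * y⁻¹ ∈ centralizerIn S S
  cent : ∀ e ∈ S, e ∉ centralizerIn S S → ∀ x ∈ S, ∀ y ∈ S, Commute x e → Commute y e → Commute x y
  onto : ∀ e ∈ S, e ∉ centralizerIn S S → ∀ w ∈ centralizerIn S S, ∃ s ∈ S, s * e * s⁻¹ = e * w

/-- The algebraic core: a Sylow subgroup stabilizing `1 ≤ Z ≤ E`, whose elements reach every displacement of an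
element outside `Z`, is normal once a nontrivial element of `Z` never leaves `Z`. -/
theorem sylow_normal {P : Subgroup Ω} [Finite P] {p : ℕ} [Fact p.Prime] (hP : IsPGroup p P)
    (X : Subgroup (MulAut P)) (T : Sylow p X) (Z : Subgroup P)
    (hfix : ∀ t ∈ (T : Subgroup X), ∀ z ∈ Z, (t : MulAut P) z = z)
    (hmove : ∀ t ∈ (T : Subgroup X), ∀ e : P, e⁻¹ * (t : MulAut P) e ∈ Z)
    (honto : ∀ e : P, e ∉ Z → ∀ w ∈ Z, ∃ t ∈ (T : Subgroup X), (t : MulAut P) e = e * w)
    (w₀ : P) (hw₀ : w₀ ≠ 1) (hin : ∀ g : X, (g : MulAut P) w₀ ∈ Z) :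
    (T : Subgroup X).Normal := by
  have key : ∀ (t : X) (v w : P), v ∈ Z → w ∈ Z → (t : MulAut P) w = w → (t : MulAut P) v = v * w → w = 1 := by
    intro t v w hv hw htw htv
    let L : Subgroup X :=
      { carrier := {g | (g : MulAut P) w = w ∧ v⁻¹ * (g : MulAut P) v ∈ Subgroup.zpowers w}
        one_mem' := ⟨rfl, by simp⟩
        mul_mem' := fun {a b} ha hb => ⟨by
          show (a : MulAut P) ((b : MulAut P) w) = w
          rw [hb.1, ha.1], by
          show v⁻¹ * (a : MulAut P) ((b : MulAut P) v) ∈ Subgroup.zpowers w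
          obtain ⟨j, hj⟩ := hb.2
          have hbv : (b : MulAut P) v = v * w ^ j := by
            have hj' : w ^ j = v⁻¹ * (b : MulAut P) v := hj
            rw [hj', mul_inv_cancel_left]
          rw [hbv, map_mul, map_zpow, ha.1, ← mul_assoc]
          exact mul_mem ha.2 (zpow_mem (Subgroup.mem_zpowers w) j)⟩
        inv_mem' := fun {a} ha => by
          have h1 : (a⁻¹ : X).1 w = w := by
            conv_lhs => rw [← ha.1]
            exact (a : MulAut P).symm_apply_apply w
          refine ⟨h1, ?_⟩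
          obtain ⟨j, hj⟩ := ha.2
          have hj' : w ^ j = v⁻¹ * (a : MulAut P) v := hj
          have h2 : (a⁻¹ : X).1 ((a : MulAut P) v) = v := (a : MulAut P).symm_apply_apply v
          rw [show (a : MulAut P) v = v * w ^ j by rw [hj', mul_inv_cancel_left], map_mul, map_zpow, h1] at h2
          refine ⟨-j, ?_⟩
          show w ^ (-j) = v⁻¹ * (a⁻¹ : X).1 v
          rw [eq_inv_mul_iff_mul_eq, zpow_neg]
          exact (eq_mul_inv_of_mul_eq h2).symm }
    let φ : L →* P :=
      { toFun := fun g => v⁻¹ * ((g : X) : MulAut P) v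
        map_one' := by simp
        map_mul' := fun a b => by
          obtain ⟨j, hj⟩ := b.2.2
          have hj' : w ^ j = v⁻¹ * ((b : X) : MulAut P) v := hj
          show v⁻¹ * ((a : X) : MulAut P) (((b : X) : MulAut P) v) = _
          rw [← hj', show ((b : X) : MulAut P) v = v * w ^ j by rw [hj', mul_inv_cancel_left], map_mul, map_zpow,
            a.2.1, mul_assoc] }
    have hTL : (T : Subgroup X) ≤ L := fun g hg => ⟨hfix g hg w hw, by rw [hfix g hg v hv]; simp⟩
    have hker : (T : Subgroup X).subgroupOf L ≤ φ.ker := fun g hg => by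
      show v⁻¹ * ((g : X) : MulAut P) v = 1
      rw [hfix g.1 hg v hv, inv_mul_cancel]
    have hdvd : φ.ker.index ∣ (T : Subgroup X).index :=
      (Subgroup.index_dvd_of_le hker).trans (Subgroup.relIndex_dvd_index_of_le hTL)
    obtain ⟨k, hk⟩ := IsPGroup.iff_card.1 (hP.to_subgroup φ.range)
    have hk' : φ.ker.index = p ^ k := (Subgroup.index_ker φ).trans hk
    have hk0 : k = 0 := by
      by_contra hne
      exact T.not_dvd_index ((dvd_pow_self p hne).trans (hk' ▸ hdvd))
    have hbot : φ.range = ⊥ := Subgroup.card_eq_one.1 (by rw [hk, hk0, pow_zero])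
    have ht : t ∈ L := ⟨htw, by rw [htv, inv_mul_cancel_left]; exact Subgroup.mem_zpowers w⟩
    have h1 : φ ⟨t, ht⟩ = 1 := by
      rw [← Subgroup.mem_bot, ← hbot]
      exact ⟨_, rfl⟩
    have h2 : v⁻¹ * (t : MulAut P) v = 1 := h1
    rwa [htv, inv_mul_cancel_left] at h2
  have hZ : ∀ g : X, ∀ z ∈ Z, (g : MulAut P) z ∈ Z := by
    intro g z hz
    by_contra hgz
    obtain ⟨t, htT, ht⟩ := honto _ hgz w₀ (by simpa using hin 1)
    have hw₀Z : w₀ ∈ Z := by simpa using hin 1
    have h := key (g⁻¹ * t * g) z ((g⁻¹ : X).1 w₀) hz (hin g⁻¹) ?_ ?_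
    · exact hw₀ ((g⁻¹ : X).1.map_eq_one_iff.1 h)
    · show (g⁻¹ : X).1 ((t : MulAut P) ((g : MulAut P) ((g : MulAut P).symm w₀))) = _
      rw [(g : MulAut P).apply_symm_apply, hfix t htT w₀ hw₀Z]
    · show (g⁻¹ : X).1 ((t : MulAut P) ((g : MulAut P) z)) = _
      rw [ht, map_mul]
      congr 1
      exact (g : MulAut P).symm_apply_apply z
  let St : Subgroup X :=
    { carrier := {g | (∀ z ∈ Z, (g : MulAut P) z = z) ∧ ∀ e : P, e⁻¹ * (g : MulAut P) e ∈ Z}
      one_mem' := ⟨fun z _ => rfl, fun e => by simp⟩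
      mul_mem' := fun {a b} ha hb => ⟨fun z hz => by
        show (a : MulAut P) ((b : MulAut P) z) = z
        rw [hb.1 z hz, ha.1 z hz], fun e => by
        show e⁻¹ * (a : MulAut P) ((b : MulAut P) e) ∈ Z
        have := mul_mem (hb.2 e) (ha.2 ((b : MulAut P) e))
        rwa [mul_assoc, mul_inv_cancel_left] at this⟩
      inv_mem' := fun {a} ha => ⟨fun z hz => by
        conv_lhs => rw [← ha.1 z hz]
        exact (a : MulAut P).symm_apply_apply z, fun e => by
        have := inv_mem (ha.2 ((a⁻¹ : X).1 e))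
        rw [mul_inv_rev, inv_inv, show (a : MulAut P) ((a⁻¹ : X).1 e) = e from
          (a : MulAut P).apply_symm_apply e] at this
        exact this⟩ }
  have hSt : IsPGroup p St := by
    intro g
    obtain ⟨n, hn⟩ := IsPGroup.iff_card.1 hP
    refine ⟨n, Subtype.ext (Subtype.ext (MulEquiv.ext fun e => ?_))⟩
    have hpow : ∀ i : ℕ, (((g : X) : MulAut P) ^ i) e = e * (e⁻¹ * ((g : X) : MulAut P) e) ^ i := by
      intro i
      induction i with
      | zero => simp
      | succ i ih =>
        rw [pow_succ', MulAut.mul_apply, ih, map_mul, map_pow, g.2.1 _ (g.2.2 e), pow_succ', ← mul_assoc e,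
          mul_inv_cancel_left]
    show (((g : X) : MulAut P) ^ p ^ n) e = e
    rw [hpow, ← hn, pow_card_eq_one', mul_one]
  have hTSt : (T : Subgroup X) ≤ St := fun g hg => ⟨hfix g hg, hmove g hg⟩
  have hTeq : St = (T : Subgroup X) := T.3 hSt hTSt
  refine ⟨fun t ht g => hTeq ▸ ⟨fun z hz => ?_, fun e => ?_⟩⟩
  · show (g : MulAut P) ((t : MulAut P) ((g⁻¹ : X).1 z)) = z
    rw [hfix t ht _ (hZ g⁻¹ z hz)]
    exact (g : MulAut P).apply_symm_apply z
  · show e⁻¹ * (g : MulAut P) ((t : MulAut P) ((g⁻¹ : X).1 e)) ∈ Z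
    have h := hZ g _ (hmove t ht ((g⁻¹ : X).1 e))
    rw [map_mul, map_inv, show (g : MulAut P) ((g⁻¹ : X).1 e) = e from
      (g : MulAut P).apply_symm_apply e] at h
    exact h

variable {S : Subgroup Ω} {F : FusionSystem S} [Finite S] {p : ℕ} [Fact p.Prime]
  (hS : IsPGroup p S) (hF : F.IsSaturated p) (hH : Heis S)
include hS hF hH

omit hF in
/-- An essential subgroup is commutative. -/
theorem essential_comm {E : Subgroup Ω} (hE : F.IsEssential p E) (hlt : E < S) :
    ∀ x ∈ E, ∀ y ∈ E, Commute x y := by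
  by_contra hne
  push Not at hne
  obtain ⟨e₁, he₁, e₂, he₂, hnc⟩ := hne
  have hES : E ≤ S := hlt.le
  have hCZ : centralizerIn S E ≤ centralizerIn S S := fun x hx => by
    by_contra hxZ
    exact hnc (hH.cent x hx.1 hxZ e₁ (hES he₁) e₂ (hES he₂)
      ((mem_centralizerIn.1 hx).2 e₁ he₁) ((mem_centralizerIn.1 hx).2 e₂ he₂))
  have hZE : centralizerIn S S ≤ E := fun x hx => centralizer_le_of_centric hE.1
    (mem_centralizerIn.2 ⟨hx.1, fun y hy => (mem_centralizerIn.1 hx).2 y (hES hy)⟩)
  obtain ⟨t, htN, htE⟩ := SetLike.exists_of_lt (lt_normalizerIn hS hlt)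
  refine htE (mem_of_series hS hE.1 (essential_radical hS hE)
    (fun i => if i = 0 then ⊥ else if i = 1 then centralizerIn S S else E) 2 rfl rfl ?_ ?_ htN ?_)
  · intro i _
    show (if i = 0 then ⊥ else if i = 1 then centralizerIn S S else E) ≤ E
    split_ifs
    · exact bot_le
    · exact hZE
    · exact le_rfl
  · intro i _ α hα x hx
    have hf := (mem_autGroup_iff_fn hES).1 hα
    show autFn α x ∈ (if i = 0 then ⊥ else if i = 1 then centralizerIn S S else E)
    replace hx : x ∈ (if i = 0 then ⊥ else if i = 1 then centralizerIn S S else E) := hx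
    split_ifs at hx ⊢ with h0 h1
    · rw [Subgroup.mem_bot] at hx ⊢
      subst hx
      exact hf.map_one
    · refine hCZ (mem_centralizerIn.2 ⟨hES (autFn_mem α (hZE hx)), fun y hy => ?_⟩)
      have hy' : autFn α⁻¹ y ∈ E := autFn_mem _ hy
      have h := congrArg (autFn α) ((mem_centralizerIn.1 hx).2 _ (hES hy'))
      rwa [hf.map_mul hy' (hZE hx), hf.map_mul (hZE hx) hy', autFn_apply_inv α hy] at h
    · exact autFn_mem α hx
  · intro i hi x hx
    match i, hi with
    | 0, _ =>
      replace hx : x ∈ centralizerIn S S := hx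
      show x⁻¹ * (t * x * t⁻¹) ∈ (⊥ : Subgroup Ω)
      rw [Subgroup.mem_bot, (mem_centralizerIn.1 hx).2 t htN.1, mul_inv_cancel_right, inv_mul_cancel]
    | 1, _ =>
      replace hx : x ∈ E := hx
      show x⁻¹ * (t * x * t⁻¹) ∈ centralizerIn S S
      have := hH.comm x⁻¹ (S.inv_mem (hES hx)) t htN.1
      rwa [inv_inv, mul_assoc (x⁻¹ * t), mul_assoc, ← mul_assoc t] at this

/-- An essential subgroup is the centralizer of any of its non-central elements, and has one. -/
theorem essential_eq {E : Subgroup Ω} (hE : F.IsEssential p E) :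
    (∃ e ∈ E, e ∉ centralizerIn S S) ∧
      ∀ e ∈ E, e ∉ centralizerIn S S → ∀ x, x ∈ E ↔ x ∈ S ∧ Commute x e := by
  have hlt : E < S := essential_lt hS hF hE
  have hES : E ≤ S := hlt.le
  have hc := essential_comm hS hH hE hlt
  refine ⟨?_, fun e he heZ x => ⟨fun hx => ⟨hES hx, hc x hx e he⟩, fun hx => ?_⟩⟩
  · by_contra hne
    push Not at hne
    refine hlt.not_ge fun x hx => centralizer_le_of_centric hE.1 (mem_centralizerIn.2 ⟨hx, fun y hy => ?_⟩)
    exact ((mem_centralizerIn.1 (hne y hy)).2 x hx).symm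
  · exact centralizer_le_of_centric hE.1 (mem_centralizerIn.2
      ⟨hx.1, fun y hy => hH.cent e (hES he) heZ y (hES hy) x hx.1 (hc y hy e he) hx.2⟩)

/-- An essential subgroup is normalized by `S`. -/
theorem essential_normal {E : Subgroup Ω} (hE : F.IsEssential p E) :
    S ≤ Subgroup.normalizer (E : Set Ω) := by
  obtain ⟨⟨e, he, heZ⟩, hiff⟩ := essential_eq hS hF hH hE
  have := finite_of_le_base hE.1.1
  intro s hs
  refine mem_normalizer_of_map_le fun x hx => (hiff e he heZ _).2 ⟨S.mul_mem (S.mul_mem hs (hE.1.1 hx))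
    (S.inv_mem hs), ?_⟩
  have hxS := hE.1.1 hx
  have hz := (mem_centralizerIn.1 (hH.comm s hs x hxS)).2 e (hE.1.1 he)
  have hxe := ((hiff e he heZ x).1 hx).2
  have hze : Commute (s * x * s⁻¹ * x⁻¹) e := hz.symm
  have := hze.mul_left hxe
  rwa [inv_mul_cancel_right] at this

/-- A nontrivial normal subgroup is not central when there is an essential subgroup. -/
theorem no_essential_of_le_center {Q : Subgroup Ω} (hQ : F.IsNormal Q) (hQ1 : Q ≠ ⊥)
    (hQZ : Q ≤ centralizerIn S S) (E : Subgroup Ω) : ¬ F.IsEssential p E := by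
  intro hE
  have hlt : E < S := essential_lt hS hF hE
  have hES : E ≤ S := hlt.le
  have := finite_of_le_base hES
  have hN := essential_normal hS hF hH hE
  have hZE : centralizerIn S S ≤ E := fun x hx => centralizer_le_of_centric hE.1
    (mem_centralizerIn.2 ⟨hx.1, fun y hy => (mem_centralizerIn.1 hx).2 y (hES hy)⟩)
  obtain ⟨w, hwQ, hw1⟩ := Q.bot_or_exists_ne_one.resolve_left hQ1
  obtain ⟨-, R, hR⟩ := (fullyNormalized_good hS hF hE.2.1).1
  have hmemR : ∀ a : F.autGroup E, a ∈ (R : Subgroup (F.autGroup E)) ↔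
      ∃ g ∈ S, ∀ x : E, (((a : MulAut E) x : E) : Ω) = g * (x : Ω) * g⁻¹ := by
    intro a
    rw [hR]
    exact mem_autInducedBy
  let Z : Subgroup E := (centralizerIn S S).subgroupOf E
  have hQsc := stronglyClosed_iff_fn.1 (normal_stronglyClosed hQ)
  have hn : (R : Subgroup (F.autGroup E)).Normal := by
    refine sylow_normal (hS.to_le hES) (F.autGroup E) R Z ?_ ?_ ?_ ⟨w, hZE (hQZ hwQ)⟩
      (fun h => hw1 (congrArg Subtype.val h)) ?_
    · intro a ha z hz
      obtain ⟨g, hg, hga⟩ := (hmemR a).1 ha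
      refine Subtype.ext ?_
      rw [hga, (mem_centralizerIn.1 (Subgroup.mem_subgroupOf.1 hz)).2 g hg, mul_inv_cancel_right]
    · intro a ha e
      obtain ⟨g, hg, hga⟩ := (hmemR a).1 ha
      refine Subgroup.mem_subgroupOf.2 ?_
      rw [Subgroup.coe_mul, Subgroup.coe_inv, hga]
      have := hH.comm (e : Ω)⁻¹ (S.inv_mem (hES e.2)) g hg
      rwa [inv_inv, mul_assoc ((e : Ω)⁻¹ * g), mul_assoc, ← mul_assoc g] at this
    · intro e he z hz
      obtain ⟨s, hs, hse⟩ := hH.onto e (hES e.2) (fun h => he (Subgroup.mem_subgroupOf.2 h)) z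
        (Subgroup.mem_subgroupOf.1 hz)
      refine ⟨⟨conjAut E (hN hs), autInducedBy_le_autGroup hES (conjAut_mem_autInducedBy (hN hs) hs)⟩,
        (hmemR _).2 ⟨s, hs, fun x => conjAut_coe (hN hs) x⟩, Subtype.ext ?_⟩
      rw [Subgroup.coe_mul, ← hse]
      exact conjAut_coe (hN hs) e
    · intro a
      refine Subgroup.mem_subgroupOf.2 (hQZ ?_)
      have h := hQsc.2 _ _ ((mem_autGroup_iff_fn hES).1 a.2) w (hZE (hQZ hwQ)) hwQ
      rwa [show w = ((⟨w, hZE (hQZ hwQ)⟩ : E) : Ω) from rfl, autFn_coe] at h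
  obtain ⟨t, htN, htE⟩ := SetLike.exists_of_lt (lt_normalizerIn hS hlt)
  refine htE ((conjAut_mem_inn_iff (centralizer_le_of_centric hE.1) htN hES).1
    ((essential_radical hS hE).2.le ⟨⟨conjAut E htN.2,
      autInducedBy_le_autGroup hES (conjAut_mem_autInducedBy htN.2 htN.1)⟩, ?_, rfl⟩))
  exact CfsgLib.Solvable.Cores.le_pCore (hn := hn) R.2
    ((hmemR _).2 ⟨t, htN.1, fun x => conjAut_coe htN.2 x⟩)

/-- A nontrivial normal subgroup forces the system to be constrained. -/
theorem constrained_of_core_ne_bot (hcore : F.core ≠ ⊥) : F.IsConstrained p := by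
  refine ⟨hF, ?_⟩
  by_cases hex : ∃ E, F.IsEssential p E
  swap
  · refine ⟨S, normal_of_generators hS hF le_rfl Subgroup.le_normalizer fun P hP => ?_, le_rfl, fun Q hQ => ?_⟩
    · rcases hP with rfl | hP
      · exact ⟨le_rfl, fun α _ x hx => autFn_mem α hx⟩
      · exact absurd ⟨P, hP⟩ hex
    · rw [eq_of_le_of_card (B := S) le_rfl (isConj_le_right hQ) (isConj_card hQ).ge]
      exact inf_le_left
  obtain ⟨E, hE⟩ := hex
  have hQ : F.IsNormal F.core := core_normal
  have hQZ : ¬ F.core ≤ centralizerIn S S := fun h => no_essential_of_le_center hS hF hH hQ hcore h E hE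
  obtain ⟨e, heQ, heZ⟩ := SetLike.not_le_iff_exists.1 hQZ
  have hle : ∀ P, F.IsEssential p P → F.core ≤ P := fun P hP =>
    normal_le_centricRadical hS hQ hP.1 (essential_radical hS hP)
  have hEq : ∀ P, F.IsEssential p P → P = E := fun P hP => by
    ext x
    rw [(essential_eq hS hF hH hP).2 e (hle P hP heQ) heZ x, (essential_eq hS hF hH hE).2 e (hle E hE heQ) heZ x]
  have hES : E ≤ S := hE.1.1
  refine ⟨E, normal_of_generators hS hF hES (essential_normal hS hF hH hE) fun P hP => ?_, hE.1⟩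
  rcases hP with rfl | hP
  swap
  · rw [hEq P hP]
    exact ⟨le_rfl, fun α _ x hx => autFn_mem α hx⟩
  refine ⟨hES, fun α hα x hx => ?_⟩
  have hf := (mem_autGroup_iff_fn le_rfl).1 hα
  have heS := core_le_base (F := F) heQ
  have he' : autFn α e ∈ F.core :=
    (stronglyClosed_iff_fn.1 (normal_stronglyClosed hQ)).2 _ _ hf e heS heQ
  have heZ' : autFn α e ∉ centralizerIn P P := by
    intro h
    refine heZ (mem_centralizerIn.2 ⟨heS, fun y hy => hf.inj (P.mul_mem hy heS) (P.mul_mem heS hy) ?_⟩)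
    rw [hf.map_mul hy heS, hf.map_mul heS hy]
    exact (mem_centralizerIn.1 h).2 _ (autFn_mem α hy)
  refine ((essential_eq hS hF hH hE).2 _ (hle E hE he') heZ' _).2 ⟨autFn_mem α (hES hx), ?_⟩
  have hxe := ((essential_eq hS hF hH hE).2 e (hle E hE heQ) heZ x).1 hx
  show autFn α x * autFn α e = autFn α e * autFn α x
  rw [← hf.map_mul (hES hx) heS, ← hf.map_mul heS (hES hx), hxe.2.eq]

/-- A nontrivial normal subgroup forces the system to be realizable. -/
theorem realizable_of_core_ne_bot (hcore : F.core ≠ ⊥) : F.IsRealizable p := by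
  obtain ⟨G, hG, ι, hfin, hr, hT, -⟩ := exists_model hS (constrained_of_core_ne_bot hS hF hH hcore)
  exact ⟨G, hG, hfin, ι, hr, hT⟩

end CfsgLib.Fsys.HeisCore
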