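import Cfsg.Agent.Lib.FusionSystem.HeisenbergCore
import Cfsg.Agent.Lib.PGroup.FusionPSL
import Mathlib

/-!
A Sylow subgroup of `SL₃` in defining characteristic is Heisenberg-like.
-/

set_option autoImplicit false

namespace CfsgLib.Fsys.HeisCore

open Cfsg
open Cfsg.FusionSystem (centralizerIn)
open CfsgLib.PGroup.UnitriangularSL

variable {K : Type*} [Field K] [Fintype K]

local notation "SL3" => Matrix.SpecialLinearGroup (Fin 3) K

theorem entries {A B : SL3} (hA : A ∈ U K 3) (hB : B ∈ U K 3) :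
    (A * B : SL3).1 0 1 = A.1 0 1 + B.1 0 1 ∧ (A * B : SL3).1 1 2 = A.1 1 2 + B.1 1 2 ∧
      (A * B : SL3).1 0 2 = A.1 0 2 + B.1 0 2 + A.1 0 1 * B.1 1 2 := by
  refine ⟨U_entry_mul hA hB rfl, U_entry_mul hA hB rfl, ?_⟩
  rw [Matrix.SpecialLinearGroup.coe_mul, Matrix.mul_apply, Fin.sum_univ_three, U_diag hA, U_diag hB]
  ring1

theorem U_ext {A B : SL3} (hA : A ∈ U K 3) (hB : B ∈ U K 3) (h01 : A.1 0 1 = B.1 0 1)
    (h12 : A.1 1 2 = B.1 1 2) (h02 : A.1 0 2 = B.1 0 2) : A = B := by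
  refine Subtype.ext (Matrix.ext fun a b => ?_)
  fin_cases a <;> fin_cases b <;>
    first
    | exact h01
    | exact h12
    | exact h02
    | exact (U_diag hA _).trans (U_diag hB _).symm
    | exact (U_below hA (by decide)).trans (U_below hB (by decide)).symm

theorem commute_iff {A B : SL3} (hA : A ∈ U K 3) (hB : B ∈ U K 3) :
    Commute A B ↔ A.1 0 1 * B.1 1 2 = B.1 0 1 * A.1 1 2 := by
  obtain ⟨h1, h2, h3⟩ := entries hA hB
  obtain ⟨k1, k2, k3⟩ := entries hB hA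
  constructor
  · intro h
    have h4 := congrArg (fun M : SL3 => M.1 0 2) h.eq
    simp only [h3, k3] at h4
    linear_combination h4
  · intro h
    refine U_ext (mul_mem hA hB) (mul_mem hB hA) (by rw [h1, k1, add_comm]) (by rw [h2, k2, add_comm]) ?_
    rw [h3, k3, h]
    ring1

theorem central_iff {A : SL3} (hA : A ∈ U K 3) :
    (∀ B ∈ U K 3, Commute A B) ↔ A.1 0 1 = 0 ∧ A.1 1 2 = 0 := by
  refine ⟨fun h => ⟨?_, ?_⟩, fun h B hB => (commute_iff hA hB).2 (by rw [h.1, h.2, zero_mul, mul_zero])⟩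
  · have hX : (X (show (1 : Fin 3) ≠ 2 by decide) (1 : K)) ∈ U K 3 := X_mem_U (by decide) 1
    have := (commute_iff hA hX).1 (h _ hX)
    simpa [X_coe, Matrix.one_apply, Matrix.single_apply] using this
  · have hX : (X (show (0 : Fin 3) ≠ 1 by decide) (1 : K)) ∈ U K 3 := X_mem_U (by decide) 1
    have := (commute_iff hA hX).1 (h _ hX)
    simpa [X_coe, Matrix.one_apply, Matrix.single_apply] using this.symm

theorem comm_entries {A B : SL3} (hA : A ∈ U K 3) (hB : B ∈ U K 3) :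
    (A * B * A⁻¹ * B⁻¹ : SL3).1 0 1 = 0 ∧ (A * B * A⁻¹ * B⁻¹ : SL3).1 1 2 = 0 := by
  have hinv : ∀ {C : SL3}, C ∈ U K 3 → (C⁻¹ : SL3).1 0 1 = -C.1 0 1 ∧ (C⁻¹ : SL3).1 1 2 = -C.1 1 2 := by
    intro C hC
    obtain ⟨h1, h2, -⟩ := entries hC (inv_mem hC)
    rw [mul_inv_cancel] at h1 h2
    have e1 : (1 : SL3).1 0 1 = 0 := by simp
    have e2 : (1 : SL3).1 1 2 = 0 := by simp
    rw [e1] at h1
    rw [e2] at h2
    exact ⟨by linear_combination -h1, by linear_combination -h2⟩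
  obtain ⟨a1, a2, -⟩ := entries hA hB
  obtain ⟨b1, b2, -⟩ := entries (mul_mem hA hB) (inv_mem hA)
  obtain ⟨c1, c2, -⟩ := entries (mul_mem (mul_mem hA hB) (inv_mem hA)) (inv_mem hB)
  rw [c1, c2, b1, b2, a1, a2, (hinv hA).1, (hinv hA).2, (hinv hB).1, (hinv hB).2]
  exact ⟨by ring1, by ring1⟩

theorem U_cent {E A B : SL3} (hE : E ∈ U K 3) (hA : A ∈ U K 3) (hB : B ∈ U K 3)
    (hne : ¬ (E.1 0 1 = 0 ∧ E.1 1 2 = 0)) (hAE : Commute A E) (hBE : Commute B E) : Commute A B := by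
  rw [commute_iff hA hE] at hAE
  rw [commute_iff hB hE] at hBE
  rw [commute_iff hA hB]
  rcases not_and_or.1 hne with h | h
  · refine mul_left_cancel₀ h ?_
    linear_combination B.1 0 1 * hAE - A.1 0 1 * hBE
  · refine mul_left_cancel₀ h ?_
    linear_combination B.1 1 2 * hAE - A.1 1 2 * hBE

theorem U_onto {E W : SL3} (hE : E ∈ U K 3) (hW : W ∈ U K 3) (hW0 : W.1 0 1 = 0 ∧ W.1 1 2 = 0)
    (hne : ¬ (E.1 0 1 = 0 ∧ E.1 1 2 = 0)) : ∃ A ∈ U K 3, A * E * A⁻¹ = E * W := by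
  have main : ∀ A ∈ U K 3, A.1 0 1 * E.1 1 2 - E.1 0 1 * A.1 1 2 = W.1 0 2 → A * E * A⁻¹ = E * W := by
    intro A hA h
    rw [mul_inv_eq_iff_eq_mul]
    obtain ⟨a1, a2, a3⟩ := entries hA hE
    obtain ⟨b1, b2, b3⟩ := entries hE hW
    obtain ⟨c1, c2, c3⟩ := entries (mul_mem hE hW) hA
    refine U_ext (mul_mem hA hE) (mul_mem (mul_mem hE hW) hA) ?_ ?_ ?_
    · rw [a1, c1, b1, hW0.1]; ring1
    · rw [a2, c2, b2, hW0.2]; ring1
    · rw [a3, c3, b1, b3, hW0.1, hW0.2]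
      linear_combination h
  by_cases h : E.1 1 2 = 0
  · have h1 : E.1 0 1 ≠ 0 := fun e => hne ⟨e, h⟩
    refine ⟨_, X_mem_U (show (1 : Fin 3) < 2 by decide) (-(W.1 0 2 / E.1 0 1)), main _ (X_mem_U (by decide) _) ?_⟩
    simp [X_coe, Matrix.one_apply, Matrix.single_apply]
    field_simp
  · refine ⟨_, X_mem_U (show (0 : Fin 3) < 1 by decide) (W.1 0 2 / E.1 1 2), main _ (X_mem_U (by decide) _) ?_⟩
    simp [X_coe, Matrix.one_apply, Matrix.single_apply]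
    field_simp

theorem heis_of_sylow {Ω : Type*} [Group Ω] {S : Subgroup Ω} (p : ℕ) [Fact p.Prime] [CharP K p]
    (T : Sylow p SL3) (e : ↥S ≃* ↥(T : Subgroup SL3)) : Heis S := by
  obtain ⟨P, hP⟩ := CfsgLib.PGroup.FusionPSL.exists_sylow (F := K) (n := 3) (p := p)
    (π := MonoidHom.id SL3) Function.surjective_id
  rw [Subgroup.map_id] at hP
  let f : ↥S ≃* ↥(U K 3) := e.trans ((Sylow.equiv T P).trans (MulEquiv.subgroupCongr hP))
  have hC : ∀ x : ↥S, (x : Ω) ∈ centralizerIn S S ↔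
      ((f x : SL3).1 0 1 = 0 ∧ (f x : SL3).1 1 2 = 0) := by
    intro x
    rw [← central_iff (f x).2]
    constructor
    · intro h B hB
      have h1 : f.symm ⟨B, hB⟩ * x = x * f.symm ⟨B, hB⟩ :=
        Subtype.ext ((mem_centralizerIn.1 h).2 _ (f.symm ⟨B, hB⟩).2)
      have h2 := congrArg (fun y : ↥S => (f y : SL3)) h1
      simp at h2
      exact h2.symm
    · refine fun h => mem_centralizerIn.2 ⟨x.2, fun y hy => ?_⟩
      have h1 := (h _ (f ⟨y, hy⟩).2).eq.symm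
      have h2 : f (⟨y, hy⟩ * x) = f (x * ⟨y, hy⟩) := by rw [map_mul, map_mul]; exact Subtype.ext h1
      exact congrArg Subtype.val (f.injective h2)
  have hcomm : ∀ x y : ↥S, Commute (x : Ω) y ↔ Commute (f x : SL3) (f y) := by
    intro x y
    constructor
    · intro h
      exact (((show Commute x y from Subtype.ext h).map f.toMonoidHom).map (U K 3).subtype)
    · intro h
      have h2 : Commute (f x) (f y) := Subtype.ext h
      have h3 := h2.map f.symm.toMonoidHom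
      simp only [MulEquiv.coe_toMonoidHom, MulEquiv.symm_apply_apply] at h3
      exact h3.map S.subtype
  refine ⟨fun x hx y hy => ?_, fun a ha haZ x hx y hy hxa hya => ?_, fun a ha haZ w hw => ?_⟩
  · refine (hC (⟨x, hx⟩ * ⟨y, hy⟩ * ⟨x, hx⟩⁻¹ * ⟨y, hy⟩⁻¹)).2 ?_
    simp only [map_mul, map_inv, Subgroup.coe_mul, Subgroup.coe_inv]
    exact comm_entries (f ⟨x, hx⟩).2 (f ⟨y, hy⟩).2
  · exact (hcomm ⟨x, hx⟩ ⟨y, hy⟩).2 (U_cent (f ⟨a, ha⟩).2 (f ⟨x, hx⟩).2 (f ⟨y, hy⟩).2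
      (fun h => haZ ((hC ⟨a, ha⟩).2 h)) ((hcomm ⟨x, hx⟩ ⟨a, ha⟩).1 hxa) ((hcomm ⟨y, hy⟩ ⟨a, ha⟩).1 hya))
  · have hwS : w ∈ S := (mem_centralizerIn.1 hw).1
    obtain ⟨A, hA, hAE⟩ := U_onto (f ⟨a, ha⟩).2 (f ⟨w, hwS⟩).2 ((hC ⟨w, hwS⟩).1 hw)
      (fun h => haZ ((hC ⟨a, ha⟩).2 h))
    refine ⟨_, (f.symm ⟨A, hA⟩).2, ?_⟩
    have h2 : f (f.symm ⟨A, hA⟩ * ⟨a, ha⟩ * (f.symm ⟨A, hA⟩)⁻¹) = f (⟨a, ha⟩ * ⟨w, hwS⟩) := by
      refine Subtype.ext ?_
      simp only [map_mul, map_inv, MulEquiv.apply_symm_apply, Subgroup.coe_mul, Subgroup.coe_inv]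
      exact hAE
    exact congrArg Subtype.val (f.injective h2)

end CfsgLib.Fsys.HeisCore
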