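import Cfsg.Agent.Lib.FusionSystem.Inner
import Cfsg.Agent.Lib.FusionSystem.Models
import Cfsg.Agent.Lib.FusionSystem.ModelTheorem
import Cfsg.Agent.Lib.FusionSystem.FactorSaturated
import Cfsg.Agent.Lib.FusionSystem.Hyperfocal
import Cfsg.Agent.Lib.Fusion.Tate
import Cfsg.Agent.Lib.Solvable.Cores

/-! A system with a normal subgroup between the derived and Frattini subgroups and inner top automorphisms is inner. -/

set_option autoImplicit false

namespace CfsgLib.Fsys

open Cfsg
open Cfsg.FusionSystem (centralizerIn normalizerIn imageAlong preimageAlong)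
open scoped Pointwise commutatorElement

variable {Ω : Type*} [Group Ω] {S : Subgroup Ω} [Finite S] {F : FusionSystem S} {Q : Subgroup Ω}
variable {p : ℕ} [Fact p.Prime]

/-- Modulo a normal subgroup with abelian quotient, all maps are trivial if those of the top group are. -/
theorem move_mem_of_quotient_abelian (hS : IsPGroup p S) (hF : F.IsSaturated p) (hQ : F.StronglyClosed Q)
    (h1 : (commutator S).map S.subtype ≤ Q)
    (hAut : ∀ g, Fn F S g → ∃ s ∈ S, ∀ x ∈ S, g x = s * x * s⁻¹)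
    {P : Subgroup Ω} {f : Ω → Ω} (hf : Fn F P f) {x : Ω} (hx : x ∈ P) : x⁻¹ * f x ∈ Q := by
  let Q' : Subgroup S := Q.subgroupOf S
  have : Q'.Normal := ⟨fun y hy s => sc_conj hQ s.2 hy⟩
  let θ : S →* S ⧸ Q' := QuotientGroup.mk' Q'
  have hθ : ∀ s : S, θ s = 1 ↔ (s : Ω) ∈ Q := fun s => QuotientGroup.eq_one_iff s
  obtain ⟨E, hE⟩ := exists_factorSystem (F := F) hQ θ hθ (S' := ⊤)
    (MonoidHom.range_eq_top.2 (QuotientGroup.mk'_surjective _))
  have hsur := factor_surjectiveMorphism hS hF hQ hE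
  have hsat := surjectiveMorphism_saturated hS hF hsur
  have hab : ∀ a b : S, θ a * θ b = θ b * θ a := fun a b => by
    rw [← map_mul, ← map_mul]
    refine QuotientGroup.eq.2 (h1 ⟨_, Subgroup.commutator_mem_commutator (Subgroup.mem_top b⁻¹)
      (Subgroup.mem_top a⁻¹), ?_⟩)
    simp [commutatorElement_def, mul_assoc]
  have habT : ∀ u ∈ (⊤ : Subgroup (S ⧸ Q')), ∀ v ∈ (⊤ : Subgroup (S ⧸ Q')), u * v = v * u := fun u _ v _ => by
    obtain ⟨a, rfl⟩ := QuotientGroup.mk'_surjective Q' u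
    obtain ⟨b, rfl⟩ := QuotientGroup.mk'_surjective Q' v
    exact hab a b
  obtain ⟨f', hf', he⟩ := morphism_fn hsur.1 hf
  obtain ⟨a, ha, hext⟩ := exists_top_extension ((hS.to_quotient Q').to_subgroup ⊤) hsat habT hf'
  obtain ⟨g, hg, hge⟩ := surjective_fn hsur ((mem_autGroup_iff_fn le_rfl).1 ha)
  have hSpre : S ≤ preimageAlong θ ⊤ := fun y hy => mem_preimageAlong.2 ⟨hy, trivial⟩
  obtain ⟨s, hs, hgs⟩ := hAut g (hg.mono hSpre)
  have hxS := hf.le hx
  have h : th θ (f x) = th θ x := by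
    rw [← he x hx, hext _ (th_mem_imageAlong hx hxS), hge x (hSpre hxS), hgs x hxS,
      th_conj hs hxS, habT _ trivial _ trivial, inv_mul_cancel_left]
  refine (hθ ⟨x⁻¹ * f x, S.mul_mem (S.inv_mem hxS) (hf.mem hx)⟩).1 ?_
  rw [← th_apply, th_mul (S.inv_mem hxS) (hf.mem hx), th_inv hxS, h, inv_mul_cancel]

/-- If moreover the subgroup lies in the Frattini subgroup, the system is inner. -/
theorem inner_of_normal_le_frattini (hS : IsPGroup p S) (hF : F.IsSaturated p) (hQ : F.IsNormal Q)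
    (h1 : (commutator S).map S.subtype ≤ Q) (h2 : Q ≤ (frattini S).map S.subtype)
    (hAut : ∀ g, Fn F S g → ∃ s ∈ S, ∀ x ∈ S, g x = s * x * s⁻¹)
    {P : Subgroup Ω} {φ : P →* Ω} (hφ : φ ∈ F.Hom P) :
    φ ∈ (innerFusionSystem S).Hom P := by
  have hsc := normal_stronglyClosed hQ
  set C := centralizerIn S Q with hC
  set X := Q ⊔ C with hX
  have hXsc : F.StronglyClosed X := stronglyClosed_sup_centralizer hS hF hsc
  have hXS : X ≤ S := hXsc.1
  -- `X` is normal
  have hnorm : F.IsNormal X := by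
    obtain ⟨D, n, hD0, hDn, hDmono, hDsc, hDcomm⟩ := normal_series hS hQ
    refine normal_of_series hS hF hXsc (fun i => if i ≤ n then D i else X) (n + 1) (by simpa using hD0)
      (by simp) (fun i _ => ?_) (fun i hi => ?_)
    · split_ifs with h
      exacts [hDsc i h, hXsc]
    · rcases eq_or_lt_of_le (Nat.lt_succ_iff.1 hi) with rfl | hlt
      · simp only [le_refl, if_true, hDn, show ¬ (i + 1 ≤ i) by omega, if_false]
        refine le_trans ?_ h1
        rw [commutator_def, Subgroup.map_commutator, ← MonoidHom.range_eq_map, Subgroup.range_subtype]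
        exact Subgroup.commutator_mono hXS hXS
      · rw [if_pos (Nat.succ_le_of_lt hlt), if_pos hlt.le]
        have hDQ : D (i + 1) ≤ Q := hDn ▸ hDmono (Nat.succ_le_of_lt hlt)
        rw [Subgroup.commutator_le]
        intro a ha b hb
        have ha' : a ∈ (Q : Set Ω) * (C : Set Ω) := by
          rw [← Subgroup.coe_mul_of_right_le_normalizer_left Q C
            ((inf_le_left : C ≤ S).trans (sc_le_normalizer hsc))]
          exact ha
        obtain ⟨q, hq, c, hc, rfl⟩ := ha'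
        have hbQ := hDQ hb
        have e : ⁅q * c, b⁆ = ⁅q, b⁆ := by
          have hcb : b * c = c * b := Subgroup.mem_centralizer_iff.1 hc.2 b hbQ
          calc ⁅q * c, b⁆ = q * (c * b) * c⁻¹ * q⁻¹ * b⁻¹ := by
                simp [commutatorElement_def, mul_assoc]
            _ = ⁅q, b⁆ := by rw [← hcb]; simp [commutatorElement_def, mul_assoc]
        rw [e]
        exact hDcomm i hlt (Subgroup.commutator_mem_commutator hq hb)
  have hcen : F.IsCentric X := normal_centric hnorm fun z hz =>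
    Subgroup.mem_sup_right ⟨hz.1, Subgroup.centralizer_le (fun y hy => Subgroup.mem_sup_left hy) hz.2⟩
  obtain ⟨L, _, ι, hLfin, hι, ⟨T, hT⟩, hcL⟩ := exists_model hS ⟨hF, X, hnorm, hcen⟩
  obtain ⟨α, hα, hαs⟩ := exists_realization_morphism hι hT
  -- conjugates in the model differ by elements of the image of `Q`
  have hmove : ∀ a b : S, ∀ g : L, ι b = g * ι a * g⁻¹ → (a : Ω)⁻¹ * b ∈ Q := by
    intro a b g hab
    have haT : ι a ∈ (T : Subgroup L) := hT ▸ ⟨a, rfl⟩
    have hφT : ∀ y : Subgroup.zpowers (ι a), g * (y : L) * g⁻¹ ∈ (T : Subgroup L) := by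
      rintro ⟨_, k, rfl⟩
      show g * ι a ^ k * g⁻¹ ∈ (T : Subgroup L)
      rw [← conj_zpow, ← hab, ← map_zpow, hT]
      exact ⟨_, rfl⟩
    have hfn : Fn (groupFusionSystem (T : Subgroup L)) (Subgroup.zpowers (ι a)) (fun y => g * y * g⁻¹) :=
      ⟨conjHom _ g, ⟨Subgroup.zpowers_le.2 haT, hφT, g, fun _ => rfl⟩, fun _ => rfl⟩
    obtain ⟨f', hf', he⟩ := morphism_fn hαs.1 hfn
    have := move_mem_of_quotient_abelian hS hF hsc h1 hAut hf'
      (th_mem_imageAlong (α := α) (Subgroup.mem_zpowers (ι a)) haT)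
    rwa [he _ (Subgroup.mem_zpowers _), ← hab, hα, hα] at this
  -- Tate
  have hfrat : ((T : Subgroup L) ⊓ pResidual p L) ≤ (frattini T).map (T : Subgroup L).subtype := by
    have hsub : (Q.subgroupOf S).map ι ≤ (frattini T).map (T : Subgroup L).subtype := by
      let e : S ≃* T := (MonoidHom.ofInjective hι.1).trans (MulEquiv.subgroupCongr hT.symm)
      rintro _ ⟨s, hs, rfl⟩
      obtain ⟨s', hs', hss'⟩ := h2 hs
      rw [show s' = s from Subtype.ext hss'] at hs'
      refine ⟨e s, frattini_le_comap_frattini_of_surjective (φ := e.toMonoidHom) e.surjective hs', ?_⟩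
      simp [e, MonoidHom.ofInjective_apply]
    rw [← group_hyperfocal_eq]
    refine le_trans ?_ hsub
    refine (Subgroup.closure_le _).2 ?_
    rintro _ ⟨R, β, x, hR, -, rfl⟩
    obtain ⟨a, ha⟩ : (x : L) ∈ ι.range := hT ▸ hR x.2
    obtain ⟨b, hb⟩ : (((β : MulAut R) x : R) : L) ∈ ι.range := hT ▸ hR ((β : MulAut R) x).2
    obtain ⟨ψ, ⟨-, -, g, hg⟩, hψ⟩ := (mem_autGroup_iff_fn hR).1 β.2
    have hab : ι b = g * ι a * g⁻¹ := by
      rw [hb, ← autFn_coe (β : MulAut R) x, ← hψ x, hg x, ha]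
    refine ⟨a⁻¹ * b, hmove a b g hab, ?_⟩
    rw [map_mul, map_inv, ha, hb]
  obtain ⟨P₀, M, hMn, hM⟩ := CfsgLib.Fusion.Tate.npc_of_inf_pResidual_le_frattini T hfrat
  have hMO : M ⊓ pCore p L = ⊥ := by
    have hle : pCore p L ≤ (P₀ : Subgroup L) := CfsgLib.Solvable.Cores.pCore_le_sylow P₀
    exact le_bot_iff.1 ((inf_le_inf_left M hle).trans hM.disjoint.eq_bot.le)
  have hMbot : M = ⊥ := by
    have hMC : M ≤ Subgroup.centralizer (pCore p L : Set L) := by
      rw [← Subgroup.commutator_eq_bot_iff_le_centralizer, eq_bot_iff, ← hMO]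
      exact Subgroup.commutator_le_inf _ _
    exact le_bot_iff.1 ((le_inf le_rfl (hMC.trans hcL)).trans hMO.le)
  have htop : ι.range = ⊤ := by
    rw [← hT]
    have hP₀ : (P₀ : Subgroup L) = ⊤ := by
      simpa [hMbot, Subgroup.isComplement'_bot_left] using hM
    refine Subgroup.eq_top_of_card_eq _ ?_
    rw [Sylow.card_eq_multiplicity T, ← Sylow.card_eq_multiplicity P₀, hP₀, Subgroup.card_top]
  obtain ⟨hP, hφS⟩ := F.le_of_mem hφ
  obtain ⟨g, hg⟩ := (hι.2 P hP φ hφS).1 hφ
  obtain ⟨s, rfl⟩ : g ∈ ι.range := htop ▸ Subgroup.mem_top g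
  refine ⟨hP, s, s.2, fun x => ?_⟩
  have := hg x
  rw [← map_mul, ← map_inv, ← map_mul] at this
  exact congrArg Subtype.val (hι.1 this)

end CfsgLib.Fsys
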