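import Cfsg.Agent.Lib.FusionSystem.KNormalizer
/-
If `Q` is fully `K`-normalized in a saturated fusion system then `N_F^K(Q)` is saturated.
-/
set_option autoImplicit false

namespace CfsgLib.Fsys

open Cfsg
open Cfsg.FusionSystem (centralizerIn normalizerIn extender)
open scoped Pointwise

variable {Ω : Type*} [Group Ω] {S : Subgroup Ω} {F : FusionSystem S} {P Q R : Subgroup Ω}
  {K : Subgroup (MulAut Q)}

/-- `Q` is fully `K`-normalized, in the form used below: every map out of `Q` is, after a map defined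
on the corresponding `K`-normalizer of its image, an element of `K`. -/
def KGood (F : FusionSystem S) (Q : Subgroup Ω) (K : Subgroup (MulAut Q)) : Prop :=
  ∀ u : Ω → Ω, Fn F Q u → ∃ (M : Subgroup Ω) (h : Ω → Ω), Fn F M h ∧ img u Q ≤ M ∧
    (∀ s ∈ S, (∃ κ ∈ K, ∀ x : Q, s * u x * s⁻¹ = u (κ x : Q)) → s ∈ M) ∧ Ind K (h ∘ u)

theorem Ind.exists_preimage {g : Ω → Ω} (h : Ind K g) (q : Q) :
    ∃ q' : Q, g q' = q := by
  obtain ⟨κ, -, he⟩ := h
  exact ⟨κ⁻¹ q, by rw [he, MulAut.apply_inv_self]⟩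

theorem map_mem_kN {M : Subgroup Ω} {k : Ω → Ω} (hk : Fn F M k) (hQ : Q ≤ M) (hi : Ind K k)
    {n : Ω} (hn : n ∈ M) (hnT : n ∈ kN S Q K) : k n ∈ kN S Q K := by
  refine ⟨hk.mem hn, ?_⟩
  obtain ⟨κ, hκ, hκe⟩ := hi
  obtain ⟨μ, hμ, hμe⟩ := hnT.2
  refine ⟨κ * μ * κ⁻¹, K.mul_mem (K.mul_mem hκ hμ) (K.inv_mem hκ), fun x => ?_⟩
  obtain ⟨y, rfl⟩ := κ.surjective x
  have h : n * (y : Ω) * n⁻¹ = (μ y : Q) := hμe y
  have e := hk.map_conj hn (hQ y.2)
  rw [h, hκe, hκe] at e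
  simp only [MulAut.mul_apply, MulAut.inv_apply_self]
  exact e.symm

theorem mem_base_of_preserves {M : Subgroup Ω} (hP : ∀ x ∈ P, x ∈ M) (hQ : Q ≤ M) : P ⊔ Q ≤ M :=
  sup_le hP hQ

/-- The automorphisms of `P ⊔ Q` in `F` that preserve `P` and induce an element of `K` on `Q`. -/
def stab (F : FusionSystem S) (P Q : Subgroup Ω) (K : Subgroup (MulAut Q)) :
    Subgroup (MulAut ↥(P ⊔ Q)) where
  carrier := {α | α ∈ F.autGroup (P ⊔ Q) ∧ (∀ x ∈ P, autFn α x ∈ P) ∧
    (∀ x ∈ P, autFn α⁻¹ x ∈ P) ∧ Ind K (autFn α)}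
  one_mem' := by
    refine ⟨Subgroup.one_mem _, fun x hx => ?_, fun x hx => ?_, ind_id.congr fun x hx => ?_⟩
    · rwa [show x = ((⟨x, Subgroup.mem_sup_left hx⟩ : ↥(P ⊔ Q)) : Ω) from rfl, autFn_coe]
    · rw [inv_one, show x = ((⟨x, Subgroup.mem_sup_left hx⟩ : ↥(P ⊔ Q)) : Ω) from rfl, autFn_coe]
      exact hx
    · rw [show x = ((⟨x, Subgroup.mem_sup_right hx⟩ : ↥(P ⊔ Q)) : Ω) from rfl, autFn_coe]
      rfl
  mul_mem' := fun {a b} ha hb => by
    refine ⟨Subgroup.mul_mem _ ha.1 hb.1, fun x hx => ?_, fun x hx => ?_,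
      (hb.2.2.2.comp ha.2.2.2).congr fun x hx => (autFn_mul a b (Subgroup.mem_sup_right hx)).symm⟩
    · rw [autFn_mul a b (Subgroup.mem_sup_left hx)]
      exact ha.2.1 _ (hb.2.1 x hx)
    · rw [mul_inv_rev, autFn_mul _ _ (Subgroup.mem_sup_left hx)]
      exact hb.2.2.1 _ (ha.2.2.1 x hx)
  inv_mem' := fun {a} ha =>
    ⟨Subgroup.inv_mem _ ha.1, ha.2.2.1, by rw [inv_inv]; exact ha.2.1,
      ha.2.2.2.inv fun x hx => autFn_inv_apply a (Subgroup.mem_sup_right hx)⟩

variable [Finite S]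

theorem mem_stab_of (hR : P ⊔ Q ≤ S) {α : MulAut ↥(P ⊔ Q)} (h1 : α ∈ F.autGroup (P ⊔ Q))
    (h2 : ∀ x ∈ P, autFn α x ∈ P) (h3 : Ind K (autFn α)) : α ∈ stab F P Q K := by
  refine ⟨h1, h2, fun x hx => ?_, h3⟩
  have hf := (mem_autGroup_iff_fn hR).1 h1
  obtain ⟨y, hy, rfl⟩ :=
    (hf.mono le_sup_left).mem_img.1 (((hf.mono le_sup_left).img_eq_self h2).ge hx)
  rwa [autFn_inv_apply α (Subgroup.mem_sup_left hy)]

/-- Restriction of an element of the stabilizer to `P`. -/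
noncomputable def resP : stab F P Q K →* MulAut P where
  toFun a :=
    { toFun := fun x => ⟨autFn a.1 x, a.2.2.1 x x.2⟩
      invFun := fun x => ⟨autFn a.1⁻¹ x, a.2.2.2.1 x x.2⟩
      left_inv := fun x => Subtype.ext (autFn_inv_apply a.1 (Subgroup.mem_sup_left x.2))
      right_inv := fun x => Subtype.ext (autFn_apply_inv a.1 (Subgroup.mem_sup_left x.2))
      map_mul' := fun x y => Subtype.ext <| by
        show autFn a.1 ((x : Ω) * y) = autFn a.1 x * autFn a.1 y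
        rw [show (x : Ω) * y = (((⟨x, Subgroup.mem_sup_left x.2⟩ : ↥(P ⊔ Q)) * ⟨y, Subgroup.mem_sup_left y.2⟩ :
          ↥(P ⊔ Q)) : Ω) from rfl, autFn_coe, map_mul, Subgroup.coe_mul, ← autFn_coe, ← autFn_coe] }
  map_one' := MulEquiv.ext fun x => Subtype.ext <| by
    show autFn (1 : MulAut ↥(P ⊔ Q)) (x : Ω) = x
    rw [show (x : Ω) = ((⟨x, Subgroup.mem_sup_left x.2⟩ : ↥(P ⊔ Q)) : Ω) from rfl, autFn_coe]
    rfl
  map_mul' a b := MulEquiv.ext fun x => Subtype.ext (autFn_mul a.1 b.1 (Subgroup.mem_sup_left x.2))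

omit [Finite S] in
theorem resP_coe (a : stab F P Q K) (x : P) : ((resP a x : P) : Ω) = autFn a.1 x := rfl

omit [Finite S] in
theorem conjAut_mem_stab (hR : P ⊔ Q ≤ S) {t : Ω} (ht : t ∈ kN S Q K)
    (htP : t ∈ Subgroup.normalizer (P : Set Ω)) :
    ∃ a : stab F P Q K, (a : MulAut ↥(P ⊔ Q)) ∈ autInducedBy S (P ⊔ Q) ∧
      ∀ x ∈ P ⊔ Q, autFn (a : MulAut ↥(P ⊔ Q)) x = t * x * t⁻¹ := by
  have hQn := (kN_le_normalizerIn ht).2
  have h : ∀ s, s ∈ Subgroup.normalizer (P : Set Ω) → s ∈ Subgroup.normalizer (Q : Set Ω) →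
      ∀ x ∈ P ⊔ Q, s * x * s⁻¹ ∈ P ⊔ Q := by
    intro s hsP hsQ x hx
    have : (P ⊔ Q).map (MulAut.conj s).toMonoidHom ≤ P ⊔ Q := by
      rw [Subgroup.map_sup]
      refine sup_le_sup ?_ ?_
      · rintro _ ⟨y, hy, rfl⟩
        exact (mem_normalizer_iff'.1 hsP).1 y hy
      · rintro _ ⟨y, hy, rfl⟩
        exact (mem_normalizer_iff'.1 hsQ).1 y hy
    exact this ⟨x, hx, rfl⟩
  have hn : t ∈ Subgroup.normalizer ((P ⊔ Q : Subgroup Ω) : Set Ω) :=
    mem_normalizer_iff'.2 ⟨h t htP hQn,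
      by simpa using h t⁻¹ (Subgroup.inv_mem _ htP) (Subgroup.inv_mem _ hQn)⟩
  have hval : ∀ x ∈ P ⊔ Q, autFn (conjAut (P ⊔ Q) hn) x = t * x * t⁻¹ := fun x hx => by
    lift x to ↥(P ⊔ Q) using hx
    rw [autFn_coe, conjAut_coe]
  have hinv : ∀ x ∈ P ⊔ Q, autFn (conjAut (P ⊔ Q) hn)⁻¹ x = t⁻¹ * x * t := fun x hx => by
    lift x to ↥(P ⊔ Q) using hx
    rw [autFn_coe]
    have e := conjAut_coe hn ((conjAut (P ⊔ Q) hn)⁻¹ x)
    rw [MulAut.apply_inv_self] at e
    rw [e]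
    group
  refine ⟨⟨_, autInducedBy_le_autGroup hR (conjAut_mem_autInducedBy hn ht.1), fun x hx => ?_,
    fun x hx => ?_, ht.2.congr fun x hx => (hval x (Subgroup.mem_sup_right hx)).symm⟩,
    conjAut_mem_autInducedBy hn ht.1, hval⟩
  · rw [hval x (Subgroup.mem_sup_left hx)]
    exact (mem_normalizer_iff'.1 htP).1 x hx
  · rw [hinv x (Subgroup.mem_sup_left hx)]
    exact (mem_normalizer_iff'.1 htP).2 x hx

variable {p : ℕ} [Fact p.Prime]

omit [Finite S] in
theorem exists_kN_of_mem (hPT : P ≤ kN S Q K) (hQ : Q ≤ S) {a : stab F P Q K}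
    (ha : (a : MulAut ↥(P ⊔ Q)) ∈ autInducedBy S (P ⊔ Q)) :
    ∃ t, t ∈ kN S Q K ∧ t ∈ Subgroup.normalizer (P : Set Ω) ∧
      ∀ x ∈ P ⊔ Q, autFn (a : MulAut ↥(P ⊔ Q)) x = t * x * t⁻¹ := by
  obtain ⟨s, hs, hse⟩ := mem_autInducedBy.1 ha
  have hval : ∀ x ∈ P ⊔ Q, autFn (a : MulAut ↥(P ⊔ Q)) x = s * x * s⁻¹ := fun x hx => by
    lift x to ↥(P ⊔ Q) using hx
    rw [autFn_coe, hse]
  refine ⟨s, ⟨hs, a.2.2.2.2.congr fun x hx => hval x (Subgroup.mem_sup_right hx)⟩, ?_, hval⟩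
  exact mem_normalizer_of_autEq (α := resP a) fun x => (resP_coe a x).trans (hval _ (Subgroup.mem_sup_left x.2))

section

variable (hS : IsPGroup p S) (hF : F.IsSaturated p) (hQS : Q ≤ S) (hPT : P ≤ kN S Q K)
  (hW : Nat.card ((autInducedBy S (P ⊔ Q)).subgroupOf (stab F P Q K)) =
    p ^ (Nat.card (stab F P Q K)).factorization p)
include hS hQS hPT

theorem kSystem_fullyAutomized
    (hW : Nat.card ((autInducedBy S (P ⊔ Q)).subgroupOf (stab F P Q K)) =
      p ^ (Nat.card (stab F P Q K)).factorization p) :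
    (kSystem F Q hQS K).IsFullyAutomized p P := by
  have hR : P ⊔ Q ≤ S := sup_le (hPT.trans kN_le) hQS
  have := finite_of_le_base hR
  have := finite_of_le_base (hPT.trans kN_le)
  have hrange : (resP (F := F) (P := P) (Q := Q) (K := K)).range = (kSystem F Q hQS K).autGroup P := by
    ext α
    rw [mem_autGroup_iff_fn hPT, fn_kSystem]
    constructor
    · rintro ⟨a, rfl⟩
      refine ⟨hPT, fun x hx => hPT (autFn_mem _ hx), autFn a.1, (mem_autGroup_iff_fn hR).1 a.2.1,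
        fun x hx => ?_, a.2.2.2.2⟩
      exact (autFn_coe (resP a) ⟨x, hx⟩).symm
    · rintro ⟨-, -, g, hg, hge, hgQ⟩
      have hi : img g (P ⊔ Q) = P ⊔ Q := by
        rw [hg.img_sup, hgQ.img_eq, img_congr hge, img_autFn]
      obtain ⟨β, hβ, hβe⟩ := exists_aut_of_fn hg hi
      have hval : ∀ x ∈ P ⊔ Q, autFn β x = g x := fun x hx => by
        lift x to ↥(P ⊔ Q) using hx
        rw [autFn_coe, hβe]
      have hbm : β ∈ stab F P Q K := mem_stab_of hR hβ
        (fun x hx => by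
          rw [hval x (Subgroup.mem_sup_left hx), hge x hx]
          exact autFn_mem _ hx)
        (hgQ.congr fun x hx => (hval x (Subgroup.mem_sup_right hx)).symm)
      refine ⟨⟨β, hbm⟩, MulEquiv.ext fun x => Subtype.ext ?_⟩
      rw [resP_coe, hval _ (Subgroup.mem_sup_left x.2), hge _ x.2, autFn_coe]
  have himg : ((autInducedBy S (P ⊔ Q)).subgroupOf (stab F P Q K)).map resP =
      autInducedBy (kN S Q K) P := by
    ext α
    rw [mem_autInducedBy]
    constructor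
    · rintro ⟨a, ha, rfl⟩
      obtain ⟨t, htT, -, he⟩ := exists_kN_of_mem hPT hQS ha
      exact ⟨t, htT, fun x => (resP_coe a x).trans (he _ (Subgroup.mem_sup_left x.2))⟩
    · rintro ⟨t, htT, he⟩
      obtain ⟨a, ha, hae⟩ := conjAut_mem_stab (F := F) hR htT (mem_normalizer_of_autEq he)
      refine ⟨a, ha, MulEquiv.ext fun x => Subtype.ext ?_⟩
      rw [resP_coe, hae _ (Subgroup.mem_sup_left x.2), he]
  refine ⟨hPT, ?_⟩
  rw [← hrange, ← himg]
  refine ⟨(Sylow.ofCard _ hW).mapSurjective (MonoidHom.rangeRestrict_surjective _), ?_⟩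
  refine Subgroup.map_injective (Subgroup.subtype_injective _) ?_
  rw [Subgroup.map_subgroupOf_eq_of_le (Subgroup.map_le_range _ _)]
  show (((autInducedBy S (P ⊔ Q)).subgroupOf (stab F P Q K)).map resP.rangeRestrict).map
    (Subgroup.subtype _) = _
  rw [Subgroup.map_map, MonoidHom.subtype_comp_rangeRestrict]

theorem kSystem_receptive (hr : F.IsReceptive (P ⊔ Q))
    (hW : Nat.card ((autInducedBy S (P ⊔ Q)).subgroupOf (stab F P Q K)) =
      p ^ (Nat.card (stab F P Q K)).factorization p) :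
    (kSystem F Q hQS K).IsReceptive P := by
  have hR : P ⊔ Q ≤ S := hr.1
  have := finite_of_le_base hR
  have : Finite (kN S Q K) := finite_of_le_base kN_le
  refine receptive_of_extend hPT fun X f hf hfi => ?_
  obtain ⟨hXT, -, g, hg, hge, hgQ⟩ := fn_kSystem.1 hf
  have hgi : img g (X ⊔ Q) = P ⊔ Q := by rw [hg.img_sup, hgQ.img_eq, img_congr hge, hfi]
  let N₀ : Subgroup Ω := Subgroup.closure {n | InExt (kN S Q K) X f n}
  have hN₀ : N₀ ≤ S := (Subgroup.closure_le _).2 fun n hn => hn.1.1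
  have hnorm : N₀ ≤ Subgroup.normalizer ((X ⊔ Q : Subgroup Ω) : Set Ω) := by
    refine (Subgroup.closure_le _).2 fun n hn => ?_
    have := finite_of_le_base hg.le
    refine mem_normalizer_of_map_le fun x hx => ?_
    have h1 : (X ⊔ Q).map (MulAut.conj n).toMonoidHom ≤ X ⊔ Q := by
      rw [Subgroup.map_sup]
      refine sup_le_sup ?_ ?_
      · rintro _ ⟨y, hy, rfl⟩
        exact (mem_normalizer_iff'.1 hn.2.1).1 y hy
      · rintro _ ⟨y, hy, rfl⟩
        exact hn.1.2.mem hy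
    exact h1 ⟨x, hx, rfl⟩
  obtain ⟨e, he, hmap⟩ := exists_transport hg.le hg hgi
  let Λ : Subgroup (MulAut ↥(P ⊔ Q)) :=
    (N₀.subgroupOf _).map ((MulAut.congr e).toMonoidHom.comp (X ⊔ Q).normalizerMonoidHom)
  have hΛp : IsPGroup p Λ := ((hS.to_le hN₀).comap_subtype).map _
  let M' : Subgroup (stab F P Q K) :=
    (autInducedBy S (P ⊔ Q)).subgroupOf (stab F P Q K) ⊔ resP.ker
  have hΛ : Λ ≤ M'.map (stab F P Q K).subtype := by
    rw [Subgroup.map_le_iff_le_comap]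
    intro n hn
    have key : N₀.subgroupOf (Subgroup.normalizer ((X ⊔ Q : Subgroup Ω) : Set Ω)) ≤
        (M'.map (stab F P Q K).subtype).comap
          ((MulAut.congr e).toMonoidHom.comp (X ⊔ Q).normalizerMonoidHom) := by
      intro m hm
      have hclos : ∀ z ∈ N₀, ∀ hz : z ∈ Subgroup.normalizer ((X ⊔ Q : Subgroup Ω) : Set Ω),
          MulAut.congr e (conjAut (X ⊔ Q) hz) ∈ M'.map (stab F P Q K).subtype := by
        intro z hz
        induction hz using Subgroup.closure_induction with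
        | mem z hz =>
          intro hzN
          obtain ⟨hzT, hzX, t, ht, htx⟩ := hz
          have htP : t ∈ Subgroup.normalizer (P : Set Ω) := by
            have := finite_of_le_base (hPT.trans kN_le)
            refine mem_normalizer_of_map_le fun y hy => ?_
            obtain ⟨x, hx, rfl⟩ := hf.mem_img.1 (hfi.ge hy)
            rw [← htx x hx]
            exact hfi.le (mem_img_of_mem ((mem_normalizer_iff'.1 hzX).1 x hx))
          obtain ⟨a, ha, hae⟩ := conjAut_mem_stab (F := F) hR ht htP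
          have hcoe : ∀ x : ↥(X ⊔ Q),
              autFn (MulAut.congr e (conjAut (X ⊔ Q) hzN)) (g x) = g (z * x * z⁻¹) := fun x => by
            rw [← he, autFn_coe, show z * (x : Ω) * z⁻¹ = ((conjAut (X ⊔ Q) hzN x) : Ω) from rfl, ← he]
            simp [MulAut.congr]
          have hbaut : MulAut.congr e (conjAut (X ⊔ Q) hzN) ∈ F.autGroup (P ⊔ Q) :=
            hmap ▸ ⟨_, autInducedBy_le_autGroup hg.le (conjAut_mem_autInducedBy hzN hzT.1), rfl⟩
          have hbP : ∀ y ∈ P, autFn (MulAut.congr e (conjAut (X ⊔ Q) hzN)) y = t * y * t⁻¹ := by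
            intro y hy
            obtain ⟨x, hx, rfl⟩ := hf.mem_img.1 (hfi.ge hy)
            rw [← htx x hx, ← hge x hx, hcoe ⟨x, Subgroup.mem_sup_left hx⟩,
              hge _ ((mem_normalizer_iff'.1 hzX).1 x hx)]
          have hbQ : Ind K (autFn (MulAut.congr e (conjAut (X ⊔ Q) hzN))) := by
            obtain ⟨κ, hκ, hκe⟩ := id hgQ
            obtain ⟨μ, hμ, hμe⟩ := hzT.2
            refine ⟨κ * μ * κ⁻¹, K.mul_mem (K.mul_mem hκ hμ) (K.inv_mem hκ), fun y => ?_⟩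
            obtain ⟨x, rfl⟩ := κ.surjective y
            rw [← hκe x, hcoe ⟨x, Subgroup.mem_sup_right x.2⟩]
            show g (z * (x : Ω) * z⁻¹) = _
            rw [show z * (x : Ω) * z⁻¹ = (μ x : Q) from hμe x, hκe]
            simp
          have hb : MulAut.congr e (conjAut (X ⊔ Q) hzN) ∈ stab F P Q K :=
            mem_stab_of hR hbaut
              (fun y hy => (hbP y hy).symm ▸ (mem_normalizer_iff'.1 htP).1 y hy) hbQ
          refine ⟨⟨_, hb⟩, ?_, rfl⟩
          have hk : a⁻¹ * ⟨_, hb⟩ ∈ (resP (F := F) (P := P) (Q := Q) (K := K)).ker := by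
            rw [MonoidHom.mem_ker, map_mul, map_inv, inv_mul_eq_one]
            refine MulEquiv.ext fun y => Subtype.ext ?_
            rw [resP_coe, resP_coe, hae _ (Subgroup.mem_sup_left y.2), hbP _ y.2]
          have := M'.mul_mem (Subgroup.mem_sup_left (T := resP.ker) ha) (Subgroup.mem_sup_right hk)
          simpa using this
        | one =>
          intro h1
          rw [show conjAut (X ⊔ Q) h1 = 1 from MulEquiv.ext fun x => Subtype.ext (by simp), map_one]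
          exact Subgroup.one_mem _
        | mul a b hasub hbsub iha ihb =>
          intro hab
          rw [show conjAut (X ⊔ Q) hab = conjAut (X ⊔ Q) (hnorm hasub) * conjAut (X ⊔ Q) (hnorm hbsub)
            from map_mul (X ⊔ Q).normalizerMonoidHom ⟨a, hnorm hasub⟩ ⟨b, hnorm hbsub⟩, map_mul]
          exact Subgroup.mul_mem _ (iha _) (ihb _)
        | inv a hasub iha =>
          intro hai
          rw [show conjAut (X ⊔ Q) hai = (conjAut (X ⊔ Q) (hnorm hasub))⁻¹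
            from map_inv (X ⊔ Q).normalizerMonoidHom ⟨a, hnorm hasub⟩, map_inv]
          exact Subgroup.inv_mem _ (iha _)
      exact hclos (m : Ω) hm m.2
    exact key hn
  let W := (autInducedBy S (P ⊔ Q)).subgroupOf (stab F P Q K)
  let Ws : Sylow p (stab F P Q K) := Sylow.ofCard W hW
  have hΛp' : IsPGroup p ((Λ.subgroupOf (stab F P Q K)).subgroupOf M') :=
    (hΛp.comap_of_injective _ (Subgroup.subtype_injective _)).comap_of_injective _
      (Subgroup.subtype_injective _)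
  obtain ⟨U, hU⟩ := hΛp'.exists_le_sylow
  obtain ⟨m, hm⟩ := MulAction.exists_smul_eq M' U (Ws.subtype (show (Ws : Subgroup _) ≤ M' from le_sup_left))
  have hmem : (m : stab F P Q K) ∈
      (((W : Subgroup (stab F P Q K)) : Set (stab F P Q K)) * ((resP.ker : Subgroup (stab F P Q K)) : Set (stab F P Q K))) := by
    rw [← Subgroup.mul_normal]
    exact m.2
  obtain ⟨w, hw, c, hc, hwc⟩ := hmem
  let b : MulAut ↥(P ⊔ Q) := (c : MulAut ↥(P ⊔ Q))
  have hbP : ∀ x ∈ P, autFn b x = x := fun x hx => by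
    have := resP_coe c ⟨x, hx⟩
    rw [show resP c = 1 from hc] at this
    exact this.symm
  have hconj : ∀ τ ∈ Λ, b * τ * b⁻¹ ∈ autInducedBy S (P ⊔ Q) := by
    intro τ hτ
    obtain ⟨τ', hτ', rfl⟩ := hΛ hτ
    have h1 : MulAut.conj m ⟨τ', hτ'⟩ ∈ ((Ws.subtype (show (Ws : Subgroup _) ≤ M' from le_sup_left)) : Subgroup M') := by
      rw [← hm]
      exact ⟨_, hU hτ, rfl⟩
    have h2 : (m : stab F P Q K) * τ' * (m : stab F P Q K)⁻¹ ∈ W := h1
    rw [← hwc] at h2
    have h3 := W.mul_mem (W.mul_mem (W.inv_mem hw) h2) hw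
    have h4 : c * τ' * c⁻¹ ∈ W := by simpa [mul_assoc] using h3
    exact h4
  have hbc : Fn F (X ⊔ Q) (autFn b ∘ g) :=
    hg.comp ((mem_autGroup_iff_fn hR).1 c.2.1) fun x hx => hgi.le (mem_img_of_mem hx)
  have hbi : img (autFn b ∘ g) (X ⊔ Q) = P ⊔ Q := by rw [hg.img_comp, hgi, img_autFn]
  obtain ⟨M, k, hk, hXM, hM, hke⟩ := receptive_extend hr hbc hbi
  have hNM : N₀ ≤ M := fun n hn => by
    refine (hM n).2 ⟨hN₀ hn, hnorm hn, ?_⟩
    have hτ : MulAut.congr e (conjAut (X ⊔ Q) (hnorm hn)) ∈ Λ := ⟨⟨n, hnorm hn⟩, hn, rfl⟩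
    obtain ⟨s, hs, hse⟩ := mem_autInducedBy.1 (hconj _ hτ)
    refine ⟨s, hs, fun x hx => ?_⟩
    lift x to ↥(X ⊔ Q) using hx
    have h := hse (b (e x))
    simp only [MulAut.mul_apply, MulAut.inv_apply_self] at h
    show autFn b (g (n * (x : Ω) * n⁻¹)) = s * autFn b (g x) * s⁻¹
    rw [← conjAut_coe (hnorm hn) x, ← he, ← he, autFn_coe, autFn_coe, ← h]
    simp [MulAut.congr]
  have hkQ : Ind K k := (hgQ.comp c.2.2.2.2).congr fun x hx => (hke x (Subgroup.mem_sup_right hx)).symm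
  refine ⟨k, fun N hN => fn_kSystem.2 ⟨fun x hx => (hN x hx).1, fun x hx => ?_, k, ?_, fun x _ => rfl, hkQ⟩,
    fun x hx => ?_⟩
  · exact map_mem_kN hk (le_sup_right.trans hXM) hkQ (hNM (Subgroup.subset_closure (hN x hx))) (hN x hx).1
  · exact hk.mono (sup_le (fun x hx => hNM (Subgroup.subset_closure (hN x hx))) (le_sup_right.trans hXM))
  · rw [hke x (Subgroup.mem_sup_left hx)]
    show autFn b (g x) = f x
    rw [hge x hx]
    exact hbP _ (hfi.le (mem_img_of_mem hx))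

include hF in
omit hPT in
theorem kSystem_exists_good (hgood : KGood F Q K) (hPT : P ≤ kN S Q K) :
    ∃ P', (kSystem F Q hQS K).IsConj P P' ∧
      (kSystem F Q hQS K).IsFullyAutomized p P' ∧ (kSystem F Q hQS K).IsReceptive P' := by
  have hR : P ⊔ Q ≤ S := sup_le (hPT.trans kN_le) hQS
  have := finite_of_le_base hR
  obtain ⟨R₁, hR₁, hA, hr⟩ := hF _ hR
  have := finite_of_le_base hA.1
  obtain ⟨u₀, hu₀, hu₀i⟩ := isConj_iff.1 hR₁
  obtain ⟨e, he, hmap⟩ := exists_transport hR hu₀ hu₀i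
  obtain ⟨U⟩ := (Sylow.nonempty : Nonempty (Sylow p (stab F P Q K)))
  have hUle : ((U : Subgroup (stab F P Q K)).map (stab F P Q K).subtype).map (MulAut.congr e).toMonoidHom ≤
      F.autGroup R₁ := by
    rw [← hmap]
    refine Subgroup.map_mono ?_
    rintro _ ⟨a, -, rfl⟩
    exact a.2.1
  obtain ⟨γ, hγ, hγU⟩ := exists_conj_into hS hA hUle ((U.2.map _).map _)
  let u := autFn γ ∘ u₀
  have hu : Fn F (P ⊔ Q) u :=
    hu₀.comp ((mem_autGroup_iff_fn hA.1).1 hγ) fun x hx => hu₀i.le (mem_img_of_mem hx)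
  have hui : img u (P ⊔ Q) = R₁ := by rw [hu₀.img_comp, hu₀i, img_autFn]
  obtain ⟨M, h, hh, hQM, hMs, hhQ⟩ := hgood u (hu.mono le_sup_right)
  have hPM : ∀ x ∈ P, u x ∈ M := fun x hx => by
    obtain ⟨κ, hκ, hκe⟩ := (hPT hx).2
    refine hMs _ (hu.mem (Subgroup.mem_sup_left hx)) ⟨κ, hκ, fun y => ?_⟩
    rw [← hu.map_conj (Subgroup.mem_sup_left hx) (Subgroup.mem_sup_right y.2)]
    exact congrArg u (hκe y)
  have hR₁M : R₁ ≤ M := by
    rw [← hui, hu.img_sup]
    exact sup_le (img_le hPM) hQM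
  let θ := h ∘ u
  have hθ : Fn F (P ⊔ Q) θ := hu.comp hh fun x hx => hR₁M (hui.le (mem_img_of_mem hx))
  have hθQ : Ind K θ := hhQ
  have hP'T : img θ P ≤ kN S Q K := img_le fun x hx =>
    map_mem_kN hθ le_sup_right hθQ (Subgroup.mem_sup_left hx) (hPT hx)
  have hθi : img θ (P ⊔ Q) = img θ P ⊔ Q := by rw [hθ.img_sup, hθQ.img_eq]
  have hR'S : img θ P ⊔ Q ≤ S := hθi ▸ hθ.img_le_base
  have hcM : centralizerIn S R₁ ≤ M := fun z hz => by
    refine hMs z hz.1 ⟨1, K.one_mem, fun y => ?_⟩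
    rw [MulAut.one_apply, ← (mem_centralizerIn.1 hz).2 (u y)
      (hui.le (mem_img_of_mem (Subgroup.mem_sup_right y.2))), mul_inv_cancel_right]
  have hhi : img h R₁ = img θ P ⊔ Q := by rw [← hui, ← hu.img_comp, hθi]
  have hrec : F.IsReceptive (img θ P ⊔ Q) := by
    refine fullyCentralized_receptive hS hF ⟨hR'S, fun Y hY => ?_⟩
    have hconj : F.IsConj R₁ (img θ P ⊔ Q) := isConj_iff.2 ⟨h, hh.mono hR₁M, hhi⟩
    refine ((receptive_fullyCentralized hr).2 Y (isConj_trans hconj hY)).trans ?_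
    exact card_le_of_map_le centralizerIn_le (hh.mono hcM) fun z hz =>
      hh.map_centralizer hR₁M hhi (hcM hz) hz
  obtain ⟨e', he', hmap'⟩ := exists_transport hR hθ hθi
  have hcong : ∀ (a : MulAut ↥(P ⊔ Q)) (x : ↥(P ⊔ Q)),
      autFn (MulAut.congr e' a) (θ x) = θ (autFn a x) := fun a x => by
    rw [← he', autFn_coe, autFn_coe, ← he']
    simp [MulAut.congr]
  have hstab : (stab F P Q K).map (MulAut.congr e').toMonoidHom = stab F (img θ P) Q K := by
    ext β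
    constructor
    · rintro ⟨a, ha, rfl⟩
      refine mem_stab_of hR'S (hmap' ▸ ⟨a, ha.1, rfl⟩) (fun y hy => ?_) ?_
      · obtain ⟨x, hx, rfl⟩ := (hθ.mono le_sup_left).mem_img.1 hy
        exact (hcong a ⟨x, Subgroup.mem_sup_left hx⟩).symm ▸ mem_img_of_mem (ha.2.1 x hx)
      · obtain ⟨κ, hκ, hκe⟩ := id hθQ
        obtain ⟨μ, hμ, hμe⟩ := ha.2.2.2
        refine ⟨κ * μ * κ⁻¹, K.mul_mem (K.mul_mem hκ hμ) (K.inv_mem hκ), fun y => ?_⟩
        obtain ⟨x, rfl⟩ := κ.surjective y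
        rw [← hκe x]
        refine (hcong a ⟨x, Subgroup.mem_sup_right x.2⟩).trans ?_
        rw [hμe, hκe]
        simp
    · intro hβ
      obtain ⟨a, ha, rfl⟩ := hmap'.ge hβ.1
      refine ⟨a, mem_stab_of hR ha (fun x hx => ?_) ?_, rfl⟩
      · have := hβ.2.1 (θ x) (mem_img_of_mem hx)
        rw [show autFn ((MulAut.congr e').toMonoidHom a) (θ x) = θ (autFn a x) from
          hcong a ⟨x, Subgroup.mem_sup_left hx⟩] at this
        exact (hθ.map_mem_iff le_sup_left (autFn_mem a (Subgroup.mem_sup_left hx))).1 this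
      · obtain ⟨κ, hκ, hκe⟩ := id hθQ
        obtain ⟨μ, hμ, hμe⟩ := hβ.2.2.2
        refine ⟨κ⁻¹ * μ * κ, K.mul_mem (K.mul_mem (K.inv_mem hκ) hμ) hκ, fun x => ?_⟩
        refine hθ.inj (autFn_mem a (Subgroup.mem_sup_right x.2))
          (Subgroup.mem_sup_right ((κ⁻¹ * μ * κ) x).2) ?_
        rw [← hcong a ⟨x, Subgroup.mem_sup_right x.2⟩, hκe x, hκe]
        show autFn ((MulAut.congr e').toMonoidHom a) ((κ x : Q) : Ω) = _
        rw [hμe]
        simp
  refine ⟨img θ P, isConj_iff.2 ⟨θ, fn_kSystem.2 ⟨hPT, fun x hx => hP'T (mem_img_of_mem hx),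
    θ, hθ, fun x _ => rfl, hθQ⟩, rfl⟩, ?_⟩
  have := finite_of_le_base hR'S
  have hW : Nat.card ((autInducedBy S (img θ P ⊔ Q)).subgroupOf (stab F (img θ P) Q K)) =
      p ^ (Nat.card (stab F (img θ P) Q K)).factorization p := by
    let U' : Subgroup (MulAut ↥(img θ P ⊔ Q)) :=
      ((U : Subgroup (stab F P Q K)).map (stab F P Q K).subtype).map (MulAut.congr e').toMonoidHom
    have hU'le : U'.subgroupOf (stab F (img θ P) Q K) ≤
        (autInducedBy S (img θ P ⊔ Q)).subgroupOf (stab F (img θ P) Q K) := by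
      rintro ⟨β, hβ⟩ ⟨_, ⟨a, ha, rfl⟩, hab⟩
      obtain ⟨s, hs, hse⟩ := mem_autInducedBy.1 (hγU _ ⟨_, ⟨a, ha, rfl⟩, rfl⟩)
      have hsx : ∀ x ∈ P ⊔ Q, u (autFn a.1 x) = s * u x * s⁻¹ := fun x hx => by
        lift x to ↥(P ⊔ Q) using hx
        have h := hse (γ (e x))
        simp only [MulAut.mul_apply, MulAut.inv_apply_self] at h
        show autFn γ (u₀ (autFn a.1 x)) = s * autFn γ (u₀ x) * s⁻¹
        rw [autFn_coe, ← he, ← he, autFn_coe, autFn_coe, ← h]
        simp [MulAut.congr]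
      obtain ⟨μ, hμ, hμe⟩ := a.2.2.2.2
      have hsM : s ∈ M := hMs s hs ⟨μ, hμ, fun y => by
        rw [← hsx _ (Subgroup.mem_sup_right y.2), hμe]⟩
      refine mem_autInducedBy.2 ⟨h s, hh.mem hsM, fun y => ?_⟩
      obtain ⟨x, rfl⟩ := e'.surjective y
      show ((β (e' x) : ↥(img θ P ⊔ Q)) : Ω) = h s * ((e' x : ↥(img θ P ⊔ Q)) : Ω) * (h s)⁻¹
      rw [← show (MulAut.congr e').toMonoidHom (a : MulAut ↥(P ⊔ Q)) = β from hab, he']
      have h1 : (((MulAut.congr e' (a : MulAut ↥(P ⊔ Q))) (e' x) : ↥(img θ P ⊔ Q)) : Ω) =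
          θ (autFn a.1 x) := by
        rw [← autFn_coe, he', hcong]
      refine h1.trans ?_
      show h (u (autFn a.1 x)) = h s * h (u x) * (h s)⁻¹
      rw [hsx _ x.2, hh.map_conj hsM (hR₁M (hui.le (mem_img_of_mem x.2)))]
    have hW' : IsPGroup p ((autInducedBy S (img θ P ⊔ Q)).subgroupOf (stab F (img θ P) Q K)) :=
      (isPGroup_autInducedBy hS).comap_of_injective _ (Subgroup.subtype_injective _)
    have hcard : Nat.card (stab F (img θ P) Q K) = Nat.card (stab F P Q K) := by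
      rw [← hstab, Subgroup.card_map_of_injective (MulEquiv.injective _)]
    have hU'card : Nat.card (U'.subgroupOf (stab F (img θ P) Q K)) =
        p ^ (Nat.card (stab F (img θ P) Q K)).factorization p := by
      rw [Nat.card_congr (Subgroup.subgroupOfEquivOfLe (hstab ▸ Subgroup.map_mono (Subgroup.map_subtype_le _))).toEquiv,
        hcard, Subgroup.card_map_of_injective (MulEquiv.injective _),
        Subgroup.card_map_of_injective (Subgroup.subtype_injective _)]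
      exact U.card_eq_multiplicity
    obtain ⟨V, hV⟩ := hW'.exists_le_sylow
    refine le_antisymm ?_ (hU'card ▸ Subgroup.card_le_of_le hU'le)
    exact (Subgroup.card_le_of_le hV).trans_eq V.card_eq_multiplicity
  exact ⟨kSystem_fullyAutomized hS hQS hP'T hW, kSystem_receptive hS hQS hP'T hrec hW⟩

end

theorem kSystem_isSaturated (hS : IsPGroup p S) (hF : F.IsSaturated p) (hQS : Q ≤ S)
    (hgood : KGood F Q K) : (kSystem F Q hQS K).IsSaturated p :=
  fun _ hP => kSystem_exists_good hS hF hQS hgood hP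

theorem kGood_top (hS : IsPGroup p S) (hF : F.IsSaturated p) (hQ : F.IsFullyNormalized Q) :
    KGood F Q ⊤ := by
  intro u hu
  obtain ⟨u', hu', hu'u, hu'i⟩ := hu.exists_inv
  obtain ⟨γ, g, -, hg, -, hgi, -⟩ := exists_normalizer_map_of_fn hS (fullyNormalized_good hS hF hQ).1
    (fullyNormalized_receptive hS hF hQ) hu' hu'i
  have hle : img u Q ≤ normalizerIn S (img u Q) := le_normalizerIn hu.img_le_base
  refine ⟨_, g, hg, hle, ?_, ?_⟩
  · rintro s hs ⟨κ, -, hκ⟩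
    have := finite_of_le_base hu.img_le_base
    refine ⟨hs, mem_normalizer_of_map_le fun y hy => ?_⟩
    obtain ⟨x, hx, rfl⟩ := hu.mem_img.1 hy
    exact (hκ ⟨x, hx⟩).symm ▸ mem_img_of_mem (κ ⟨x, hx⟩).2
  · exact (ind_top_iff (hu.comp hg fun x hx => hle (mem_img_of_mem hx)) le_rfl).2 (hu.img_comp.trans hgi)

theorem kGood_bot (hS : IsPGroup p S) (hF : F.IsSaturated p) (hQ : F.IsFullyCentralized Q) :
    KGood F Q ⊥ := by
  intro u hu
  obtain ⟨u', hu', hu'u, hu'i⟩ := hu.exists_inv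
  obtain ⟨N, g, hg, hle, hN, hge⟩ := receptive_extend (fullyCentralized_receptive hS hF hQ) hu' hu'i
  refine ⟨N, g, hg, hle, ?_, ind_bot_iff.2 fun x hx => ?_⟩
  · rintro s hs ⟨κ, hκ, hκe⟩
    rw [Subgroup.mem_bot] at hκ
    subst hκ
    refine (hN s).2 (inExt_of_commute (mem_centralizerIn.2 ⟨hs, fun y hy => ?_⟩))
    obtain ⟨x, hx, rfl⟩ := hu.mem_img.1 hy
    have := hκe ⟨x, hx⟩
    rw [MulAut.one_apply, mul_inv_eq_iff_eq_mul] at this
    exact this.symm
  · exact (hge _ (mem_img_of_mem hx)).trans (hu'u x hx)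

end CfsgLib.Fsys
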