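import Cfsg.Agent.Lib.FusionSystem.Saturated
import Cfsg.Agent.Lib.FusionSystem.Alperin

/-! In maximal class, a map moving `Z(S)` inside `Z₂(S)` gives an essential centraliser. -/

set_option autoImplicit false

open Cfsg Cfsg.FusionSystem

namespace CfsgLib.Fsys

section Abstract

variable {G : Type*} [Group G] [Finite G] {p : ℕ} [Fact p.Prime]

/-- The orders of the first two terms of the upper central series in maximal class. -/
theorem card_upperCentral_maxClass (hG : IsPGroup p G) {n : ℕ} (hn : Nat.card G = p ^ n) (h4 : 4 ≤ n)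
    (hmax : (⊤ : Subgroup G).lowerCentralSeries (n - 2) ≠ ⊥) :
    Nat.card (Subgroup.center G) = p ∧ Nat.card (Subgroup.upperCentralSeries G 2) = p ^ 2 := by
  have hp := (Fact.out : p.Prime)
  have := hG.isNilpotent
  have hclass : n - 2 < Group.nilpotencyClass G := by
    by_contra h
    exact hmax (Subgroup.lowerCentralSeries_eq_bot_iff_nilpotencyClass_le.2 (not_lt.1 h))
  let Z := Subgroup.upperCentralSeries G
  have hne : ∀ i, i ≤ n - 2 → Z i ≠ ⊤ := fun i hi h => by
    have := Subgroup.upperCentralSeries_eq_top_iff_nilpotencyClass_le.1 h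
    omega
  have hlt : ∀ i, i ≤ n - 2 → p * Nat.card (Z i) ≤ Nat.card (Z (i + 1)) := by
    intro i hi
    have hne' : Subgroup.center (G ⧸ Z i) ≠ ⊥ := by
      have : Nontrivial (G ⧸ Z i) := QuotientGroup.nontrivial_iff.2 (hne i hi)
      have := (hG.to_quotient (Z i)).center_nontrivial
      exact (Subgroup.nontrivial_iff_ne_bot _).1 this
    have hle : Z i ≤ Z (i + 1) := Subgroup.upperCentralSeries_mono G (Nat.le_succ i)
    obtain ⟨a, ha⟩ := IsPGroup.iff_card.1 (hG.to_subgroup (Z i))
    obtain ⟨b, hb⟩ := IsPGroup.iff_card.1 (hG.to_subgroup (Z (i + 1)))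
    rw [ha, hb, ← pow_succ']
    refine Nat.pow_le_pow_right hp.pos ?_
    by_contra hba
    have he : Z i = Z (i + 1) := Subgroup.eq_of_le_of_card_ge hle
      (by rw [ha, hb]; exact Nat.pow_le_pow_right hp.pos (by omega))
    refine hne' (eq_bot_iff.2 fun x hx => ?_)
    obtain ⟨g, rfl⟩ := QuotientGroup.mk_surjective x
    have hg : g ∈ Z (i + 1) := by
      show g ∈ Subgroup.upperCentralSeriesStep (Z i)
      rw [Subgroup.upperCentralSeriesStep_eq_comap_center]
      exact hx
    rw [← he] at hg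
    exact (QuotientGroup.eq_one_iff g).2 hg
  have htop : p ^ 2 * Nat.card (Z (n - 2)) ≤ p ^ n := by
    obtain ⟨b, hb⟩ := IsPGroup.iff_card.1 (hG.to_quotient (Z (n - 2)))
    have h2 : 2 ≤ b := by
      by_contra h2
      have hcyc : IsCyclic (G ⧸ Z (n - 2)) := by
        rcases (show b = 0 ∨ b = 1 by omega) with rfl | rfl
        · have := (Nat.card_eq_one_iff_unique.1 (by simpa using hb)).1
          infer_instance
        · exact isCyclic_of_prime_card (p := p) (by simpa using hb)
      let f : G ⧸ Z (n - 3) →* G ⧸ Z (n - 2) := QuotientGroup.map _ _ (MonoidHom.id G)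
        (Subgroup.upperCentralSeries_mono G (by omega))
      have hker : f.ker ≤ Subgroup.center (G ⧸ Z (n - 3)) := by
        intro x hx
        obtain ⟨g, rfl⟩ := QuotientGroup.mk_surjective x
        have hg : g ∈ Z (n - 3 + 1) := by
          rw [show n - 3 + 1 = n - 2 by omega]
          exact (QuotientGroup.eq_one_iff g).1 hx
        change g ∈ Subgroup.upperCentralSeriesStep (Z (n - 3)) at hg
        rwa [Subgroup.upperCentralSeriesStep_eq_comap_center] at hg
      have hab : ∀ a b : G ⧸ Z (n - 3), a * b = b * a := (f.isMulCommutative_of_isCyclic_of_ker_le_center hker).is_comm.comm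
      refine hne (n - 2) le_rfl (eq_top_iff.2 fun g _ => ?_)
      rw [show n - 2 = n - 3 + 1 by omega]
      show g ∈ Subgroup.upperCentralSeriesStep (Z (n - 3))
      rw [Subgroup.upperCentralSeriesStep_eq_comap_center]
      exact Subgroup.mem_center_iff.2 fun b => hab b _
    rw [← hn, Subgroup.card_eq_card_quotient_mul_card_subgroup (Z (n - 2)), hb]
    exact Nat.mul_le_mul_right _ (Nat.pow_le_pow_right hp.pos h2)
  have hup : ∀ j i, i + j ≤ n - 2 → p ^ j * Nat.card (Z i) ≤ Nat.card (Z (i + j)) := by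
    intro j
    induction j with
    | zero => intro i _; simp
    | succ j ih =>
      intro i hi
      calc p ^ (j + 1) * Nat.card (Z i) = p * (p ^ j * Nat.card (Z i)) := by ring
        _ ≤ p * Nat.card (Z (i + j)) := Nat.mul_le_mul_left _ (ih i (by omega))
        _ ≤ Nat.card (Z (i + j + 1)) := hlt _ (by omega)
  have hcard : ∀ i, i ≤ n - 2 → Nat.card (Z i) = p ^ i := by
    intro i hi
    refine le_antisymm ?_ ?_
    · have h1 := hup (n - 2 - i) i (by omega)
      rw [show i + (n - 2 - i) = n - 2 by omega] at h1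
      have h2 := le_trans (Nat.mul_le_mul_left (p ^ 2) h1) htop
      rw [← mul_assoc, ← pow_add] at h2
      refine Nat.le_of_mul_le_mul_left ?_ (pow_pos hp.pos (2 + (n - 2 - i)))
      rwa [← pow_add, show 2 + (n - 2 - i) + i = n by omega]
    · have h1 := hup i 0 (by omega)
      rw [show Z 0 = ⊥ from Subgroup.upperCentralSeries_zero G, Subgroup.card_bot, mul_one, zero_add] at h1
      exact h1
  refine ⟨?_, hcard 2 (by omega)⟩
  rw [← Subgroup.upperCentralSeries_one]
  exact (hcard 1 (by omega)).trans (pow_one p)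

end Abstract

variable {Ω : Type*} [Group Ω] {S : Subgroup Ω} {F : FusionSystem S} {p : ℕ} [Fact p.Prime] [Finite S]

theorem essential_of_moves_center (hS : IsPGroup p S) (hF : F.IsSaturated p) {n : ℕ} (hn : Nat.card S = p ^ n)
    (h4 : 4 ≤ n) (hmax : Subgroup.lowerCentralSeries S (n - 2) ≠ ⊥) {f : Ω → Ω}
    (hf : Fn F ((Subgroup.upperCentralSeries S 2).map S.subtype) f)
    (hi : img f ((Subgroup.upperCentralSeries S 2).map S.subtype) = (Subgroup.upperCentralSeries S 2).map S.subtype)
    {z : Ω} (hz₂ : z ∈ (Subgroup.upperCentralSeries S 2).map S.subtype)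
    (hz : z ∈ (Subgroup.center S).map S.subtype) (hzf : f z ∉ (Subgroup.center S).map S.subtype) :
    F.IsEssential p (S ⊓ Subgroup.centralizer ((Subgroup.upperCentralSeries S 2).map S.subtype : Set Ω)) := by
  classical
  have hp := (Fact.out : p.Prime)
  set Z₂ := (Subgroup.upperCentralSeries S 2).map S.subtype with hZ₂
  set P := centralizerIn S Z₂ with hP
  show F.IsEssential p P
  have hmax' : (⊤ : Subgroup S).lowerCentralSeries (n - 2) ≠ ⊥ := by
    intro h
    refine hmax ?_
    have := congrArg (Subgroup.map S.subtype) h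
    rw [Subgroup.map_bot] at this
    rw [← this, Subgroup.map_lowerCentralSeries, ← MonoidHom.range_eq_map, Subgroup.range_subtype]
  obtain ⟨hc1, hc2⟩ := card_upperCentral_maxClass hS hn h4 hmax'
  have hZ₂S : Z₂ ≤ S := Subgroup.map_subtype_le _
  have := finite_of_le_base hZ₂S
  have hcard₂ : Nat.card Z₂ = p ^ 2 := by
    rw [hZ₂, Subgroup.card_map_of_injective S.subtype_injective, hc2]
  have hab : ∀ a ∈ Z₂, ∀ b ∈ Z₂, a * b = b * a := fun a ha b hb =>
    congrArg Subtype.val ((IsPGroup.isMulCommutative_of_card_eq_prime_sq hcard₂).1.1 ⟨a, ha⟩ ⟨b, hb⟩)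
  have hnormal : (Subgroup.upperCentralSeries S 2).Normal := inferInstance
  have hconj : ∀ s : S, ∀ x ∈ Z₂, (s : Ω) * x * (s : Ω)⁻¹ ∈ Z₂ := by
    intro s x hx
    obtain ⟨y, hy, rfl⟩ := Subgroup.mem_map.1 hx
    refine Subgroup.mem_map.2 ⟨s * y * s⁻¹, hnormal.conj_mem y hy s, ?_⟩
    rw [map_mul, map_mul, map_inv]
    rfl
  have hnorm : S ≤ Subgroup.normalizer (Z₂ : Set Ω) := fun s hs =>
    mem_normalizer_of_map_le (P := Z₂) (hconj ⟨s, hs⟩)
  have hZfn : F.IsFullyNormalized Z₂ := ⟨hZ₂S, fun Q _ => by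
    rw [show normalizerIn S Z₂ = S from inf_eq_left.2 hnorm]
    exact Subgroup.card_le_of_le normalizerIn_le⟩
  -- an element of `Z₂` outside the centre
  obtain ⟨w, hw, hwc⟩ : ∃ w : S, w ∈ Subgroup.upperCentralSeries S 2 ∧ w ∉ Subgroup.center S := by
    by_contra hall
    push_neg at hall
    have := Subgroup.card_le_of_le (H := Subgroup.upperCentralSeries S 2) (K := Subgroup.center S) hall
    rw [hc1, hc2] at this
    nlinarith [hp.one_lt]
  have hwZ : (w : Ω) ∈ Z₂ := ⟨w, hw, rfl⟩
  have hcomm : ∀ s : S, s * w * s⁻¹ * w⁻¹ ∈ Subgroup.center S := fun s => by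
    have h1 := (Subgroup.mem_upperCentralSeries_succ_iff (n := 1)).1 hw s
    rw [Subgroup.upperCentralSeries_one] at h1
    have h2 := (Subgroup.center S).inv_mem h1
    simpa [commutatorElement_def, mul_assoc] using h2
  let θ : S →* Subgroup.center S := MonoidHom.mk' (fun s => ⟨_, hcomm s⟩) fun a b => Subtype.ext (by
    show a * b * w * (a * b)⁻¹ * w⁻¹ = a * w * a⁻¹ * w⁻¹ * (b * w * b⁻¹ * w⁻¹)
    have hb := Subgroup.mem_center_iff.1 (hcomm b)
    calc a * b * w * (a * b)⁻¹ * w⁻¹ = a * (b * w * b⁻¹ * w⁻¹) * (w * a⁻¹ * w⁻¹) := by group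
      _ = (b * w * b⁻¹ * w⁻¹) * a * (w * a⁻¹ * w⁻¹) := by rw [hb a]
      _ = (b * w * b⁻¹ * w⁻¹) * (a * w * a⁻¹ * w⁻¹) := by group
      _ = a * w * a⁻¹ * w⁻¹ * (b * w * b⁻¹ * w⁻¹) := (hb _).symm)
  have hPS : P ≤ S := centralizerIn_le
  have hsup : ∀ s : Ω, s ∈ S → s * (w : Ω) = w * s → s ∈ P := by
    intro s hs hsw
    refine mem_centralizerIn.2 ⟨hs, fun x hx => ?_⟩
    -- the centraliser of `s` in `Z₂` contains the centre and `w`
    let A : Subgroup S := Subgroup.upperCentralSeries S 2 ⊓ Subgroup.centralizer {(⟨s, hs⟩ : S)}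
    have hlt : Subgroup.center S < A := by
      refine lt_of_le_of_ne (le_inf ?_ (Subgroup.center_le_centralizer _)) fun e => hwc (e.ge ⟨hw, ?_⟩)
      · rw [← Subgroup.upperCentralSeries_one]
        exact Subgroup.upperCentralSeries_mono S one_le_two
      · exact Subgroup.mem_centralizer_iff.2 fun y hy => by
          rw [Set.mem_singleton_iff.1 hy]
          exact Subtype.ext hsw
    have hA : A = Subgroup.upperCentralSeries S 2 := by
      refine Subgroup.eq_of_le_of_card_ge inf_le_left ?_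
      obtain ⟨k, hk⟩ := IsPGroup.iff_card.1 (hS.to_subgroup A)
      have h1 : Nat.card (Subgroup.center S) < Nat.card A := by
        simpa only [SetLike.coe_sort_coe] using Set.Finite.card_lt_card (Set.toFinite (A : Set S)) hlt
      rw [hc1, hk] at h1
      rw [hk, hc2]
      refine Nat.pow_le_pow_right hp.pos ?_
      by_contra h
      have := Nat.pow_le_pow_right hp.pos (show k ≤ 1 by omega)
      rw [pow_one] at this
      omega
    obtain ⟨y, hy, rfl⟩ := hx
    have := (hA.ge hy).2
    exact congrArg Subtype.val (Subgroup.mem_centralizer_iff.1 this ⟨s, hs⟩ rfl).symm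
  have hker : θ.ker.map S.subtype = P := by
    refine le_antisymm ?_ fun s hs => ⟨⟨s, hs.1⟩, ?_, rfl⟩
    · rintro _ ⟨s, hs, rfl⟩
      have h1 : s * w * s⁻¹ * w⁻¹ = 1 := congrArg Subtype.val (MonoidHom.mem_ker.1 hs)
      exact hsup s s.2 (congrArg Subtype.val (mul_inv_eq_iff_eq_mul.1 (mul_inv_eq_one.1 h1)))
    · refine MonoidHom.mem_ker.2 (Subtype.ext ?_)
      show (⟨s, hs.1⟩ : S) * w * (⟨s, hs.1⟩ : S)⁻¹ * w⁻¹ = 1
      rw [show (⟨s, hs.1⟩ : S) * w = w * ⟨s, hs.1⟩ from Subtype.ext ((mem_centralizerIn.1 hs).2 _ hwZ).symm]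
      group
  have hidx : p * Nat.card P = Nat.card S := by
    rw [← hker, Subgroup.card_map_of_injective S.subtype_injective,
      Subgroup.card_eq_card_quotient_mul_card_subgroup θ.ker,
      Nat.card_congr (QuotientGroup.quotientKerEquivRange θ).toEquiv]
    congr 1
    have hd := Subgroup.card_subgroup_dvd_card θ.range
    rw [hc1] at hd
    rcases hp.eq_one_or_self_of_dvd _ hd with h1 | h1
    · exfalso
      refine hwc (Subgroup.mem_center_iff.2 fun s => ?_)
      have : θ s = 1 := by
        have hb := Subgroup.card_le_one_iff_eq_bot θ.range |>.1 h1.le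
        exact Subgroup.mem_bot.1 (hb ▸ ⟨s, rfl⟩)
      exact mul_inv_eq_iff_eq_mul.1 (mul_inv_eq_one.1 (congrArg Subtype.val this))
    · exact h1.symm
  have hPlt : P < S := lt_of_le_of_ne hPS fun e => by
    rw [e] at hidx
    have : 0 < Nat.card S := Nat.card_pos
    nlinarith [hp.one_lt]
  have hPnorm : normalizerIn S P = S := by
    refine inf_eq_left.2 ?_
    rw [← hker]
    intro s hs
    have := finite_of_le_base (hker.le.trans hPS)
    exact mem_normalizer_of_map_le fun x hx => by
      obtain ⟨y, hy, rfl⟩ := hx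
      exact ⟨⟨s, hs⟩ * y * ⟨s, hs⟩⁻¹, θ.normal_ker.conj_mem y hy _, rfl⟩
  have hPn : F.IsFullyNormalized P :=
    ⟨hPS, fun Q _ => by rw [hPnorm]; exact Subgroup.card_le_of_le normalizerIn_le⟩
  have hZP : Z₂ ≤ P := fun x hx => mem_centralizerIn.2 ⟨hZ₂S hx, fun y hy => hab y hy x hx⟩
  have hc : F.IsCentric P := by
    refine ⟨hPS, fun Q hQ => ?_⟩
    obtain ⟨g, hg, rfl⟩ := isConj_iff.1 hQ
    intro c hc
    by_contra hcQ
    obtain ⟨hcS, hcc⟩ := mem_centralizerIn.1 hc
    have hQS := hg.img_le_base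
    have := finite_of_le_base hQS
    have hsup : img g P ⊔ Subgroup.zpowers c = S := by
      refine eq_of_le_of_card le_rfl (sup_le hQS (Subgroup.zpowers_le.2 hcS)) ?_
      have hle : img g P ⊔ Subgroup.zpowers c ≤ S := sup_le hQS (Subgroup.zpowers_le.2 hcS)
      have := finite_of_le_base hle
      have hlt : img g P < img g P ⊔ Subgroup.zpowers c :=
        lt_of_le_of_ne le_sup_left fun e => hcQ (e.ge (Subgroup.mem_sup_right (Subgroup.mem_zpowers c)))
      obtain ⟨a, ha⟩ := IsPGroup.iff_card.1 (hS.to_le hQS)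
      obtain ⟨b, hb⟩ := IsPGroup.iff_card.1 (hS.to_le hle)
      have h1 : Nat.card (img g P) < Nat.card (img g P ⊔ Subgroup.zpowers c : Subgroup Ω) := by
        simpa only [SetLike.coe_sort_coe] using
          Set.Finite.card_lt_card (Set.toFinite ((img g P ⊔ Subgroup.zpowers c : Subgroup Ω) : Set Ω)) hlt
      rw [ha, hb] at h1
      rw [hb, ← hidx, ← hg.card_img, ha, ← pow_succ']
      exact Nat.pow_le_pow_right hp.pos ((Nat.pow_lt_pow_iff_right hp.one_lt).1 h1)
    have hle : img g Z₂ ≤ (Subgroup.center S).map S.subtype := by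
      refine img_le fun x hx => ⟨⟨g x, hg.mem (hZP hx)⟩, Subgroup.mem_center_iff.2 fun s => Subtype.ext ?_, rfl⟩
      have hs : (s : Ω) ∈ Subgroup.centralizer ({g x} : Set Ω) := by
        refine (show img g P ⊔ Subgroup.zpowers c ≤ _ from sup_le ?_ (Subgroup.zpowers_le.2 ?_)) (hsup.ge s.2)
        · intro y hy
          obtain ⟨v, hv, rfl⟩ := hg.mem_img.1 hy
          refine Subgroup.mem_centralizer_iff.2 fun u hu => ?_
          rw [Set.mem_singleton_iff.1 hu, ← hg.map_mul (hZP hx) hv, ← hg.map_mul hv (hZP hx),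
            (mem_centralizerIn.1 hv).2 x hx]
        · exact Subgroup.mem_centralizer_iff.2 fun u hu => by
            rw [Set.mem_singleton_iff.1 hu]
            exact hcc _ (mem_img_of_mem (hZP hx))
      exact (Subgroup.mem_centralizer_iff.1 hs _ rfl).symm
    have := finite_of_le_base (show (Subgroup.center S).map S.subtype ≤ S from Subgroup.map_subtype_le _)
    have h2 := Subgroup.card_le_of_le hle
    rw [(hg.mono hZP).card_img, hcard₂, Subgroup.card_map_of_injective S.subtype_injective, hc1] at h2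
    nlinarith [hp.one_lt]
  have hzP : z ∈ P := hZP hz₂
  have hz' : ∀ {x : Ω}, x ∈ (Subgroup.center S).map S.subtype → x ∈ P := fun {x} hx => by
    obtain ⟨y, hy, rfl⟩ := hx
    exact hZP ⟨y, Subgroup.upperCentralSeries_mono S one_le_two (by rwa [Subgroup.upperCentralSeries_one]), rfl⟩
  have := finite_of_le_base hPS
  rcases extClosure_eq_or_essential hS hF hPlt hPn with h | h
  · exfalso
    obtain ⟨N, g, hg, hZN, hN, hge⟩ := receptive_extend (fullyNormalized_receptive hS hF hZfn) hf hi
    have hPN : P ≤ N := fun x hx => (hN x).2 (inExt_of_commute hx)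
    have hgP := hg.mono hPN
    have hgi : img g Z₂ = Z₂ := (img_congr hge).trans hi
    have himg : img g P = P := hgP.img_eq_self fun x hx => hgP.map_centralizer hZP hgi hx hx
    obtain ⟨β, hβ, hβg⟩ := exists_aut_of_fn hgP himg
    have hM : ∀ α ∈ extClosure F P, ∀ x ∈ (Subgroup.center S).map S.subtype,
        autFn α x ∈ (Subgroup.center S).map S.subtype ∧ autFn α⁻¹ x ∈ (Subgroup.center S).map S.subtype := by
      intro α hα
      induction hα using Subgroup.closure_induction with
      | mem a ha =>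
        intro x hx
        obtain ⟨N', k, hPN', hk, hka⟩ := ha
        have hN'S : N' = S := by
          refine eq_of_le_of_card le_rfl hk.le ?_
          have := finite_of_le_base hk.le
          obtain ⟨u, hu⟩ := IsPGroup.iff_card.1 (hS.to_le hPS)
          obtain ⟨v, hv⟩ := IsPGroup.iff_card.1 (hS.to_le hk.le)
          have h1 : Nat.card P < Nat.card N' := by
            simpa only [SetLike.coe_sort_coe] using Set.Finite.card_lt_card (Set.toFinite (N' : Set Ω)) hPN'
          rw [hu, hv] at h1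
          rw [hv, ← hidx, hu, ← pow_succ']
          exact Nat.pow_le_pow_right hp.pos ((Nat.pow_lt_pow_iff_right hp.one_lt).1 h1)
        rw [hN'S] at hk
        obtain ⟨b, -, hb⟩ := exists_aut_of_fn hk (hk.img_eq_self fun y hy => hk.mem hy)
        have hbz : ∀ y : S, y ∈ Subgroup.center S → b y ∈ Subgroup.center S ∧ b.symm y ∈ Subgroup.center S :=
          fun y hy => ⟨(Subgroup.characteristic_iff_map_le.1 inferInstance b) ⟨y, hy, rfl⟩,
            (Subgroup.characteristic_iff_map_le.1 inferInstance b.symm) ⟨y, hy, rfl⟩⟩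
        obtain ⟨y, hy, rfl⟩ := hx
        have hxP : (y : Ω) ∈ P := hz' ⟨y, hy, rfl⟩
        rw [Subgroup.subtype_apply]
        refine ⟨?_, ?_⟩
        · refine ⟨b y, (hbz y hy).1, ?_⟩
          show ((b y : S) : Ω) = autFn a (y : Ω)
          rw [hb, autFn_coe a ⟨_, hxP⟩]
          exact hka ⟨_, hxP⟩
        · refine ⟨b.symm y, (hbz y hy).2, ?_⟩
          show ((b.symm y : S) : Ω) = autFn a⁻¹ (y : Ω)
          have h1 : k (autFn a⁻¹ (y : Ω)) = y := by
            rw [hka ⟨_, autFn_mem _ hxP⟩, ← autFn_coe a ⟨_, autFn_mem _ hxP⟩]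
            exact autFn_apply_inv a hxP
          refine hk.inj (b.symm y).2 (hPS (autFn_mem _ hxP)) ?_
          rw [← hb, MulEquiv.apply_symm_apply, h1]
      | one =>
        intro x hx
        have h1 : autFn (1 : MulAut P) x = x := autFn_coe (1 : MulAut P) ⟨x, hz' hx⟩
        rw [inv_one, h1]
        exact ⟨hx, hx⟩
      | mul a b _ _ ha hb =>
        intro x hx
        rw [mul_inv_rev, autFn_mul _ _ (hz' hx), autFn_mul _ _ (hz' hx)]
        exact ⟨(ha _ (hb x hx).1).1, (hb _ (ha x hx).2).2⟩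
      | inv a _ ha =>
        intro x hx
        rw [inv_inv]
        exact ⟨(ha x hx).2, (ha x hx).1⟩
    refine hzf ?_
    have := (hM β (h ▸ hβ) z hz).1
    rwa [autFn_coe β ⟨z, hzP⟩, hβg, hge z hz₂] at this
  · exact h

end CfsgLib.Fsys
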