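import Cfsg.Agent.Lib.FusionSystem.MaxClassEssentialTools

/-! A group of maximal class (`p ≥ 5`) carries no elementary essential subgroup of order `p ^ 3`. -/

set_option autoImplicit false
set_option linter.unusedSectionVars false
set_option maxHeartbeats 800000

open Cfsg Cfsg.FusionSystem
open scoped commutatorElement
open CfsgLib.PGroup.MaxDeg

namespace CfsgLib.Fsys.MaxCube

variable {Ω : Type*} [Group Ω] {S : Subgroup Ω} [Finite S] {p : ℕ} [hpf : Fact p.Prime] {n : ℕ} {F : FusionSystem S}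

/-- The involution together with its eigenvectors. -/
structure Datum (F : FusionSystem S) (p : ℕ) (H : Subgroup S) (f : Ω → Ω) (K : Subgroup S) (g u v w : S) : Prop where
  fn : Fn F (up (Subgroup.normalizer (H : Set S))) f
  maps : ∀ y ∈ up (Subgroup.normalizer (H : Set S)), f y ∈ up (Subgroup.normalizer (H : Set S))
  diff : ∀ y ∈ up (Subgroup.normalizer (H : Set S)), y⁻¹ * f y ∈ up H
  hg : g ∈ Subgroup.normalizer (H : Set S) ∧ g ∉ H
  hK : K ≤ H ∧ Nat.card K = p ^ 2 ∧ ∀ e ∈ H, (g * e = e * g ↔ e ∈ K)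
  hu : u ∈ H ∧ u ∉ K
  hv : v ∈ K ∧ v ≠ 1 ∧ ∃ x ∈ H, v = x⁻¹ * (g * x * g⁻¹)
  hw : w ∈ K ∧ w ∉ Subgroup.zpowers v
  fu : f u = (u : Ω)⁻¹
  fv : f v = (v : Ω)⁻¹
  fw : f w = w

section

variable {H K : Subgroup S} {f : Ω → Ω} {g u v w : S} (h : IsMC S p n) (hc : IsCube F p H)
  (d : Datum F p H f K g u v w)

include h hc d

theorem Datum.mem_N {x : S} (hx : x ∈ H) : (x : Ω) ∈ up (Subgroup.normalizer (H : Set S)) :=
  mem_up.2 (Subgroup.le_normalizer hx)

theorem Datum.card_zpowers_v : Nat.card (Subgroup.zpowers v) = p := by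
  rw [Nat.card_zpowers]
  exact orderOf_eq_prime (hc.exp v (d.hK.1 d.hv.1)) d.hv.2.1

theorem Datum.K_le : K ≤ Subgroup.zpowers v ⊔ Subgroup.zpowers w := by
  refine (Subgroup.eq_of_le_of_card_ge (sup_le (Subgroup.zpowers_le.2 d.hv.1) (Subgroup.zpowers_le.2 d.hw.1)) ?_).ge
  refine le_trans ?_ (Fusion.MaxClass.card_mul_le_of_lt h.isPGroup (lt_of_le_not_ge le_sup_left
    fun e => d.hw.2 (e (Subgroup.mem_sup_right (Subgroup.mem_zpowers w)))))
  rw [d.card_zpowers_v h hc, d.hK.2.1, pow_two]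

theorem Datum.K_rep {y : S} (hy : y ∈ K) : ∃ a b : ℤ, y = v ^ a * w ^ b := by
  have hvw : Commute v w := hc.comm v (d.hK.1 d.hv.1) w (d.hK.1 d.hw.1)
  let R : Subgroup S :=
    { carrier := {y | ∃ a b : ℤ, y = v ^ a * w ^ b}
      one_mem' := ⟨0, 0, by simp⟩
      mul_mem' := by
        rintro _ _ ⟨a, b, rfl⟩ ⟨c, e, rfl⟩
        refine ⟨a + c, b + e, ?_⟩
        rw [zpow_add, zpow_add, mul_assoc, ← mul_assoc (w ^ b), ((hvw.zpow_zpow c b).symm).eq]
        group
      inv_mem' := by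
        rintro _ ⟨a, b, rfl⟩
        exact ⟨-a, -b, by rw [mul_inv_rev, ← zpow_neg, ← zpow_neg, ((hvw.zpow_zpow (-a) (-b)).symm).eq]⟩ }
  exact (sup_le (Subgroup.zpowers_le.2 ⟨1, 0, by simp⟩) (Subgroup.zpowers_le.2 ⟨0, 1, by simp⟩) :
    Subgroup.zpowers v ⊔ Subgroup.zpowers w ≤ R) (d.K_le h hc hy)

theorem Datum.map_K : ∀ x ∈ up K, f x ∈ up K := by
  refine map_mem_of_gen d.fn (X := Subgroup.zpowers (v : Ω)) (Y := Subgroup.zpowers (w : Ω)) ?_ ?_ ?_ ?_ ?_
  · refine (Subgroup.map_mono (d.K_le h hc)).trans ?_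
    rw [Subgroup.map_sup, MonoidHom.map_zpowers, MonoidHom.map_zpowers]
    rfl
  · exact Subgroup.zpowers_le.2 (d.mem_N h hc (d.hK.1 d.hv.1))
  · exact Subgroup.zpowers_le.2 (d.mem_N h hc (d.hK.1 d.hw.1))
  · refine map_mem_zpowers d.fn (d.mem_N h hc (d.hK.1 d.hv.1)) ?_
    rw [d.fv]
    exact (up K).inv_mem (mem_up.2 d.hv.1)
  · refine map_mem_zpowers d.fn (d.mem_N h hc (d.hK.1 d.hw.1)) ?_
    rw [d.fw]
    exact mem_up.2 d.hw.1

theorem Datum.card_sup {A : Subgroup S} (hA : A ≤ H) (hAc : p ^ 2 ≤ Nat.card A) {a : S} (ha : a ∈ H) (haA : a ∉ A) :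
    H ≤ Subgroup.zpowers a ⊔ A := by
  refine (Subgroup.eq_of_le_of_card_ge (sup_le (Subgroup.zpowers_le.2 ha) hA) ?_).ge
  refine le_trans ?_ (Fusion.MaxClass.card_mul_le_of_lt h.isPGroup (lt_of_le_not_ge le_sup_right
    fun e => haA (e (Subgroup.mem_sup_left (Subgroup.mem_zpowers a)))))
  rw [hc.card, pow_succ' p 2]
  exact Nat.mul_le_mul_left _ hAc

theorem Datum.v_eq {X : Subgroup S} [X.Normal] (hX : X ≤ Subgroup.normalizer (H : Set S)) (hXH : ¬ X ≤ H) :
    ∃ x ∈ H, ∃ l ∈ X, l ∉ H ∧ x ∉ K ∧ v = ⁅x⁻¹, l⁆ := by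
  obtain ⟨x, hx, hvx⟩ := d.hv.2.2
  obtain ⟨e, he, l, hl, hgel⟩ := Subgroup.mem_sup_of_normal_right.1
    ((h.normalizer_eq_sup hc.card hc.comm hc.cent hc.normalizer hX hXH).le d.hg.1)
  refine ⟨x, hx, l, hl, fun hh => d.hg.2 (hgel ▸ H.mul_mem he hh), fun hxK => d.hv.2.1 ?_, ?_⟩
  · rw [hvx, (d.hK.2.2 x hx).2 hxK, mul_inv_cancel_right, inv_mul_cancel]
  · have hlx : l * x * l⁻¹ ∈ H := (Subgroup.mem_normalizer_iff.1 (hX hl) x).1 hx
    have hce := hc.comm e he _ hlx
    rw [hvx, ← hgel, show e * l * x * (e * l)⁻¹ = e * (l * x * l⁻¹) * e⁻¹ by group, hce, mul_inv_cancel_right,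
      commutatorElement_def, inv_inv]
    group

theorem Datum.K_eq {A : Subgroup S} (hA : A ≤ H) (hAc : Nat.card A = p ^ 2) (hcomm : ∀ a ∈ A, g * a = a * g) :
    K = A :=
  (Subgroup.eq_of_le_of_card_ge (fun a ha => (d.hK.2.2 a (hA ha)).1 (hcomm a ha))
    (by rw [hAc, d.hK.2.1])).symm

theorem Datum.diff_mem {y : S} (hy : y ∈ Subgroup.normalizer (H : Set S)) {f' : Ω → Ω} (he : f' y = f y) :
    (y : Ω)⁻¹ * f' y ∈ up H := by
  rw [he]
  exact d.diff _ (mem_up.2 hy)

variable (hS : IsPGroup p S) (hF : F.IsSaturated p) (hcen : F.IsCentric (up H)) (hfn : F.IsFullyNormalized (up H))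
include hS hF hcen hfn

theorem Datum.caseA (hn5 : n = 5) (hZ : L S (n - 2) ≤ H) (hH1 : H ≤ L S 1)
    (hN : Subgroup.normalizer (H : Set S) = L S 1) : False := by
  subst hn5
  have hne := h.normalizer_ne_top hc.card hc.comm hc.cent hc.normalizer
  have hNC := (h.second_case hc.card hc.comm hc.cent hc.normalizer hZ).1
  have hKL : K = L S 3 := d.K_eq h hc hZ (by rw [h.card_L (by omega) (by omega)]) fun a ha =>
    h.mem_C_top.1 (hNC d.hg.1) a ha
  have hL2H : ¬ L S 2 ≤ H := fun hle => hne (by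
    rw [← Subgroup.eq_of_le_of_card_ge hle (by rw [hc.card, h.card_L (by omega) (by omega)])]
    exact Subgroup.normalizer_eq_top_iff.2 (L_normal 2))
  obtain ⟨x, hx, l, hl, -, -, hvx⟩ := d.v_eq h hc (X := L S 2) (hN ▸ L_le_one (by omega)) hL2H
  have hv4 : v ∈ L S 4 := hvx ▸ h.mem_C (i := 2) le_rfl (by omega) ((L S 1).inv_mem (hH1 hx)) hl
  have hL4 : L S 4 ≤ Subgroup.zpowers v := (Subgroup.eq_of_le_of_card_ge (Subgroup.zpowers_le.2 hv4)
    (by rw [d.card_zpowers_v h hc, h.card_L (by omega) (by omega)]; simp)).ge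
  have hu3 : u ∉ L S 3 := hKL ▸ d.hu.2
  have hu2 : u ∉ L S 2 := fun hh => hL2H (((Subgroup.eq_of_le_of_card_ge
    ((d.card_sup h hc (hKL ▸ d.hK.1) (by rw [h.card_L (by omega) (by omega)]) d.hu.1 hu3).trans
      (sup_le (Subgroup.zpowers_le.2 hh) (L_anti (by omega))))
    (by rw [hc.card, h.card_L (by omega) (by omega)])).ge))
  obtain ⟨s, hs1, -, -⟩ := h.exists_avoid h.index_one h.index_one h.index_one
  have hf1 : Fn F (up (L S 1)) f := hN ▸ d.fn
  have hm1 : ∀ x ∈ up (L S 1), f x ∈ up (L S 1) := hN ▸ d.maps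
  have hm3 : ∀ x ∈ up (L S 3), f x ∈ up (L S 3) := hKL ▸ d.map_K h hc
  have hm2 : ∀ x ∈ up (L S 2), f x ∈ up (L S 2) := by
    refine line (p := p) (M := L S 1) (A := H) (D := L S 3) hfn ?_ (L_le_one (by omega)) (hKL ▸ d.hK.1) (L_anti (by omega))
      ?_ (fun y _ k hk => (L_normal 3).conj_mem k hk y) d.hu.1 (hH1 d.hu.1) (hc.exp u d.hu.1)
      (h.gen le_rfl (hH1 d.hu.1) hu2) (y := s) (fun k hk => (L_normal 3).conj_mem k hk s)
      (step le_rfl (hH1 d.hu.1) s) (h.gen (by omega) (step le_rfl (hH1 d.hu.1) s)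
        (h.comm_notMem_three h.index_one (L_le_one (by omega)) hs1 (hH1 d.hu.1) hu2))
      (fun b hb => step (by omega) hb s) (fun b hb => CfsgLib.PGroup.MaxDeg.comm_le le_rfl (by omega)
        (Subgroup.commutator_mem_commutator (hH1 d.hu.1) hb))
      (d.card_sup h hc (hKL ▸ d.hK.1) (by rw [h.card_L (by omega) (by omega)]) d.hu.1 hu3) hf1 hm1 hm3
    · rw [hc.normalizer, h.card]
      exact Nat.pow_lt_pow_right hpf.out.one_lt (by omega)
    · rw [hc.card, h.card_L (by omega) (by omega)]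
  have hm4 : ∀ x ∈ up (L S 4), f x ∈ up (L S 4) := by
    intro x hx
    refine map_mem_zpowers hf1 (mem_up.2 (L_le_one (by omega) hv4)) ?_ x ?_
    · rw [d.fv]; exact (up _).inv_mem (mem_up.2 hv4)
    · rw [← up_zpowers]; exact Subgroup.map_mono hL4 hx
  obtain ⟨T, hT⟩ := exists_aut h hS hF hf1 fun k hk => by
    rcases Nat.lt_or_ge k 5 with h5 | h5
    · interval_cases k
      exacts [hm1, hm2, hm3, hm4]
    · rw [h.L_bot h5, up, Subgroup.map_bot]
      intro x hx
      rw [Subgroup.mem_bot] at hx ⊢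
      rw [hx, hf1.map_one]
  refine h.contra_signs T (k := 2) le_rfl (by omega) (hH1 d.hu.1) hu2 ?_ (fun y hy => ?_) (fun y hy => ?_) (Or.inl rfl)
  · rw [show u * T u = 1 from Subtype.ext (by rw [Subgroup.coe_mul, hT u (hH1 d.hu.1), d.fu, mul_inv_cancel]; rfl)]
    exact one_mem _
  · have hy1 := L_le_one (by omega) hy
    have h1 : y⁻¹ * T y ∈ H ⊓ L S 2 := ⟨mem_up.1 (by
      rw [Subgroup.coe_mul, Subgroup.coe_inv, hT y hy1]
      exact d.diff _ (mem_up.2 (hN ▸ hy1))), (L S 2).mul_mem ((L S 2).inv_mem hy) (map_mem_L T hy)⟩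
    have he : L S 3 = H ⊓ L S 2 := Subgroup.eq_of_le_of_card_ge (le_inf hZ (L_anti (by omega))) (by
      have := Fusion.MaxClass.card_mul_le_of_lt h.isPGroup (inf_lt_left.2 fun hle => hu2 (hle d.hu.1) : H ⊓ L S 2 < H)
      rw [hc.card, pow_succ' p 2] at this
      rw [h.card_L (by omega) (by omega)]
      exact Nat.le_of_mul_le_mul_left this hpf.out.pos)
    exact he.ge h1
  · have hy1 := L_le_one (by omega) hy
    have hw1 : (w : Ω) ∈ up (L S 1) := mem_up.2 (hH1 (d.hK.1 d.hw.1))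
    have hv1 : (v : Ω) ∈ up (L S 1) := mem_up.2 (hH1 (d.hK.1 d.hv.1))
    obtain ⟨a, b, rfl⟩ := d.K_rep h hc (hKL.ge hy)
    have hTy : T (v ^ a * w ^ b) = (v ^ a)⁻¹ * w ^ b := Subtype.ext (by
      rw [hT _ hy1, Subgroup.coe_mul, hf1.map_mul (by rw [SubgroupClass.coe_zpow]; exact (up _).zpow_mem hv1 a)
        (by rw [SubgroupClass.coe_zpow]; exact (up _).zpow_mem hw1 b), SubgroupClass.coe_zpow, SubgroupClass.coe_zpow,
        map_zpow hf1 hv1, map_zpow hf1 hw1, d.fv, d.fw, inv_zpow, Subgroup.coe_mul, Subgroup.coe_inv,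
        SubgroupClass.coe_zpow, SubgroupClass.coe_zpow])
    rw [hTy]
    have hcm : (v ^ a)⁻¹ * w ^ b = w ^ b * (v ^ a)⁻¹ :=
      hc.comm _ (H.inv_mem (H.zpow_mem (d.hK.1 d.hv.1) a)) _ (H.zpow_mem (d.hK.1 d.hw.1) b)
    rw [mul_inv_rev, hcm, mul_assoc, ← mul_assoc (v ^ a)⁻¹, hcm, mul_assoc, inv_mul_cancel_left]
    exact (L S 4).mul_mem ((L S 4).inv_mem ((L S 4).zpow_mem hv4 a)) ((L S 4).inv_mem ((L S 4).zpow_mem hv4 a))

theorem Datum.caseB (heven : Even n) (h6 : 6 ≤ n) (hZ : L S (n - 2) ≤ H) (hHC : H ≤ C S (n - 2))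
    (hH1 : ¬ H ≤ L S 1) (hne : C S (n - 2) ≠ L S 1) : False := by
  obtain ⟨hNC, hZ3H, hZ3⟩ := h.second_case hc.card hc.comm hc.cent hc.normalizer hZ
  have hKc : Nat.card (L S (n - 2)) = p ^ 2 := by
    rw [h.card_L (by omega) (by omega), show n - (n - 2) = 2 by omega]
  have hKL : K = L S (n - 2) := d.K_eq h hc hZ hKc fun a ha => h.mem_C_top.1 (hNC d.hg.1) a ha
  have hinf : H ⊓ L S 1 = L S (n - 2) := (Subgroup.eq_of_le_of_card_ge (le_inf hZ (L_le_one (by omega)))
    (by rw [h.card_inf_of_not_le hc.card hc.comm hc.cent h.index_one hH1, hKc])).symm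
  have hout : ∀ a ∈ H, a ∉ K → a ∉ L S 1 := fun a ha haK ha1 => haK (hKL ▸ hinf.le ⟨ha, ha1⟩)
  have hu1 : u ∉ L S 1 := hout u d.hu.1 d.hu.2
  have huC : u ∈ C S (n - 2) := hHC d.hu.1
  have hup : u ^ p = 1 := hc.exp u d.hu.1
  have hu2 := IsMC.notMem_two hu1
  obtain ⟨x, hx, l, hl, hlH, hxK, hvx⟩ := d.v_eq h hc hZ3 hZ3H
  have hl' : l ∉ L S (n - 3 + 1) := fun hh => hlH (hZ (by rwa [show n - 3 + 1 = n - 2 by omega] at hh))
  have hv1 : v ∉ L S (n - 1) := by
    have := h.strict' (s := x⁻¹) (by omega : 1 ≤ n - 3) le_rfl (fun hh => hout x hx hxK (by simpa using (L S 1).inv_mem hh)) hl hl'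
    rw [hvx]
    rwa [show n - 3 + 2 = n - 1 by omega] at this
  have hM2 : IsMC.M u n 2 = H := Subgroup.eq_of_le_of_card_ge (sup_le (Subgroup.zpowers_le.2 d.hu.1) hZ)
    (hc.card.trans (h.card_M hu1 hup (by omega : 2 ≤ n - 2)).symm).le
  have hN3 : Subgroup.normalizer (H : Set S) = IsMC.M u n 3 := by
    rw [← hM2, h.normalizer_M huC hu1 hup le_rfl (by omega)]
  have hMm : ∀ i j, i ≤ j → IsMC.M u n i ≤ IsMC.M u n j := fun i j hij => sup_le_sup le_rfl (L_anti (by omega))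
  have hfnM : ∀ i, 2 ≤ i → i ≤ n - 3 → F.IsFullyNormalized (up (IsMC.M u n i)) := by
    intro i hi hin
    rcases Nat.lt_or_ge i 3 with h3 | h3
    · obtain rfl : i = 2 := by omega
      rwa [hM2]
    refine card_normalizer_conj h hc hcen hfn (IsMC.M u n) hM2 h3 hin (fun j hj hji => ⟨hMm _ _ (by omega), ?_⟩)
      (fun j _ hji => h.card_M hu1 hup (by omega)) ?_
    · rw [h.normalizer_M huC hu1 hup hj (by omega)]
    · rw [h.normalizer_M huC hu1 hup (by omega) hin, h.card_M hu1 hup (by omega)]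
  -- the layer one step further down
  have hline : ∀ i, 2 ≤ i → i ≤ n - 3 → ∀ f' : Ω → Ω, Fn F (up (IsMC.M u n (i + 1))) f' →
      (∀ x ∈ up (IsMC.M u n (i + 1)), f' x ∈ up (IsMC.M u n (i + 1))) →
      (∀ x ∈ up (L S (n - i)), f' x ∈ up (L S (n - i))) →
      ∀ x ∈ up (L S (n - (i + 1))), f' x ∈ up (L S (n - (i + 1))) := by
    intro i hi hin f' hf' hm' hD
    obtain ⟨y, hy, hy'⟩ := SetLike.exists_of_lt (h.L_lt' (by omega : 1 ≤ n - (i + 2)) (by omega : n - (i + 2) < n))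
    have hs : ⁅u, y⁆ ∉ L S (n - i) := by
      have := h.strict' (by omega : 1 ≤ n - (i + 2)) (by omega) hu1 hy hy'
      rwa [show n - (i + 2) + 2 = n - i by omega] at this
    have hyu : ⁅y, u⁆ ∈ L S (n - (i + 1)) := by
      have := comm_swap (step (by omega : 1 ≤ n - (i + 2)) hy u)
      rwa [show n - (i + 2) + 1 = n - (i + 1) by omega] at this
    refine line (p := p) (A := IsMC.M u n i) (D := L S (n - i)) (hfnM i hi hin) ?_ le_sup_right le_sup_right
      (L_anti (by omega)) ?_ (fun z _ k hk => (L_normal _).conj_mem k hk z)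
      (Subgroup.mem_sup_left (Subgroup.mem_zpowers u)) (Subgroup.mem_sup_left (Subgroup.mem_zpowers u)) hup le_rfl
      (fun k hk => (L_normal _).conj_mem k hk y) hyu ?_ (fun b hb => ?_) (fun b hb => ?_) le_rfl hf' hm' hD
    · rw [h.normalizer_M huC hu1 hup hi hin, h.card_M hu1 hup (by omega), h.card]
      exact Nat.pow_lt_pow_right hpf.out.one_lt (by omega)
    · rw [h.card_L' (by omega) (by omega), h.card_M hu1 hup (by omega), show n - (n - (i + 1)) = i + 1 by omega]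
    · have := h.gen (by omega : 1 ≤ n - (i + 1)) hyu (fun hh => hs (comm_swap (by
        rwa [show n - (i + 1) + 1 = n - i by omega] at hh)))
      rwa [show n - (i + 1) + 1 = n - i by omega] at this
    · exact L_anti (by omega) (CfsgLib.PGroup.MaxDeg.comm_le (by omega) (by omega)
        (Subgroup.commutator_mem_commutator hy hb))
    · have := step (by omega : 1 ≤ n - (i + 1)) hb u
      rwa [show n - (i + 1) + 1 = n - i by omega] at this
  have hind : ∀ i, 3 ≤ i → i ≤ n - 2 → ∃ f' : Ω → Ω, Fn F (up (IsMC.M u n i)) f' ∧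
      (∀ x ∈ up (IsMC.M u n i), f' x ∈ up (IsMC.M u n i)) ∧ (∀ x ∈ up (IsMC.M u n 3), f' x = f x) ∧
      ∀ j, 2 ≤ j → j ≤ i → ∀ x ∈ up (L S (n - j)), f' x ∈ up (L S (n - j)) := by
    intro i hi
    induction i, hi using Nat.le_induction with
    | base =>
      intro _
      have hfN : Fn F (up (IsMC.M u n 3)) f := hN3 ▸ d.fn
      have hmN : ∀ x ∈ up (IsMC.M u n 3), f x ∈ up (IsMC.M u n 3) := hN3 ▸ d.maps
      have h2 : ∀ x ∈ up (L S (n - 2)), f x ∈ up (L S (n - 2)) := hKL ▸ d.map_K h hc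
      refine ⟨f, hfN, hmN, fun x _ => rfl, fun j hj hj3 => ?_⟩
      obtain rfl | rfl : j = 2 ∨ j = 3 := by omega
      · exact h2
      · exact hline 2 le_rfl (by omega) f hfN hmN h2
    | succ i hi ih =>
      intro hin
      obtain ⟨f₀, hf₀, hm₀, he₀, hL₀⟩ := ih (by omega)
      let D : ℕ → Subgroup S := fun k => if k = 0 then IsMC.M u n i else if k < i then L S (n - i + k - 1) else ⊥
      have hD0 : D 0 = IsMC.M u n i := rfl
      have hDk : ∀ k, 1 ≤ k → k < i → D k = L S (n - i + k - 1) := fun k hk hki => by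
        simp only [D, show k ≠ 0 by omega, hki, if_true, if_false]
      have hDi : ∀ k, i ≤ k → D k = ⊥ := fun k hk => by
        simp only [D, show k ≠ 0 by omega, show ¬ k < i by omega, if_false]
      have hNi : Subgroup.normalizer (IsMC.M u n i : Set S) = IsMC.M u n (i + 1) :=
        h.normalizer_M huC hu1 hup (by omega) (by omega)
      obtain ⟨f', hf', hm', he'⟩ := extend hS hF (hfnM i (by omega) (by omega)) hf₀ D i hD0 (hDi i le_rfl)
        (fun k hk => by
          rcases Nat.eq_zero_or_pos k with rfl | hk0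
          · rw [hD0]
            intro x hx
            exact hm₀ x hx
          rcases Nat.lt_or_ge k i with hki | hki
          · rw [hDk k hk0 hki]
            have := hL₀ (i - k + 1) (by omega) (by omega)
            rwa [show n - (i - k + 1) = n - i + k - 1 by omega] at this
          · rw [hDi k hki, up, Subgroup.map_bot]
            intro x hx
            rw [Subgroup.mem_bot] at hx ⊢
            rw [hx, hf₀.map_one])
        (fun k => by
          rcases Nat.eq_zero_or_pos k with rfl | hk0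
          · exact hD0.le
          rcases Nat.lt_or_ge k i with hki | hki
          · rw [hDk k hk0 hki]
            exact (L_anti (by omega)).trans le_sup_right
          · rw [hDi k hki]
            exact bot_le)
        (fun y hy k hk x hx => by
          rw [hNi] at hy
          rcases Nat.eq_zero_or_pos k with rfl | hk0
          · rw [hD0] at hx
            rw [hDk 1 le_rfl (by omega), show n - i + 1 - 1 = n - i by omega]
            refine shift_mem ?_
            rw [← h.M_inf_two hu1 hup (by omega : i ≤ n - 2)]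
            refine ⟨?_, ?_⟩
            · rw [commutatorElement_def]
              exact (IsMC.M u n i).mul_mem ((Subgroup.mem_normalizer_iff.1 (hNi.ge hy) x).1 hx)
                ((IsMC.M u n i).inv_mem hx)
            · rw [L_two, commutator_def]
              exact Subgroup.commutator_mem_commutator (Subgroup.mem_top y) (Subgroup.mem_top x)
          rw [hDk k hk0 hk] at hx
          rcases Nat.lt_or_ge (k + 1) i with hki | hki
          · rw [hDk (k + 1) (by omega) hki, show n - i + (k + 1) - 1 = n - i + k - 1 + 1 by omega]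
            exact shift_mem (step (by omega) hx y)
          · rw [hDi (k + 1) hki, Subgroup.mem_bot]
            rw [show n - i + k - 1 = n - 2 by omega] at hx
            rw [h.mem_C_top.1 (h.M_le_C huC (by omega : i + 1 ≤ n - 2) hy) x hx, mul_inv_cancel_right, inv_mul_cancel])
        (fun k hk => by
          rcases Nat.eq_zero_or_pos k with rfl | hk0
          · rw [hD0, hDk 1 le_rfl (by omega)]
            exact (L_anti (by omega)).trans le_sup_right
          rw [hDk k hk0 hk]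
          rcases Nat.lt_or_ge (k + 1) i with hki | hki
          · rw [hDk (k + 1) (by omega) hki]
            exact L_anti (by omega)
          · rw [hDi (k + 1) hki]
            exact bot_le)
      rw [hNi] at hf' hm'
      have hold : ∀ j, 2 ≤ j → j ≤ i → ∀ x ∈ up (L S (n - j)), f' x ∈ up (L S (n - j)) := fun j hj hji x hx => by
        rw [he' x (Subgroup.map_mono ((L_anti (by omega)).trans le_sup_right) hx)]
        exact hL₀ j hj hji x hx
      refine ⟨f', hf', hm', fun x hx => (he' x (Subgroup.map_mono (hMm 3 i hi) hx)).trans (he₀ x hx),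
        fun j hj hji => ?_⟩
      rcases Nat.lt_or_ge j (i + 1) with hji' | hji'
      · exact hold j hj (by omega)
      · obtain rfl : j = i + 1 := by omega
        exact hline i (by omega) (by omega) f' hf' hm' (hold i (by omega) le_rfl)
  obtain ⟨f', hf', -, he', hL'⟩ := hind (n - 2) (by omega) le_rfl
  rw [← h.C_eq_M huC hu1 hup] at hf'
  have hmem3 : ∀ {a : S}, a ∈ IsMC.M u n 3 → f' a = f a := fun {a} ha => he' _ (mem_up.2 ha)
  have hK3 : ∀ {a : S}, a ∈ K → a ∈ IsMC.M u n 3 := fun {a} ha => hN3.le (Subgroup.le_normalizer (d.hK.1 ha))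
  have hC2 : ∀ {k}, 2 ≤ k → ∀ {a : S}, a ∈ L S k → a ∈ C S (n - 2) := fun {k} hk {a} ha =>
    L_two_le_C (by omega) (L_anti hk ha)
  refine h.contra_C heven h6 huC hu1 hne (f := fS f') (fun a ha b hb => Subtype.ext ?_) (fun k hk hkn a ha => ?_) ?_
    (fun a ha => ?_) (hKL ▸ d.hv.1) hv1 (hKL ▸ d.hw.1) d.hw.2 ?_ ?_ (hc.exp w (d.hK.1 d.hw.1))
  · rw [coe_fS hf' (mem_up.2 ((C S (n - 2)).mul_mem ha hb)), Subgroup.coe_mul, Subgroup.coe_mul,
      coe_fS hf' (mem_up.2 ha), coe_fS hf' (mem_up.2 hb), hf'.map_mul (mem_up.2 ha) (mem_up.2 hb)]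
  · refine fS_mem hf' (mem_up.2 (hC2 hk ha)) ?_
    have := hL' (n - k) (by omega) (by omega) a (by rw [show n - (n - k) = k by omega]; exact mem_up.2 ha)
    rwa [show n - (n - k) = k by omega] at this
  · have hu3 : u ∈ IsMC.M u n 3 := Subgroup.mem_sup_left (Subgroup.mem_zpowers u)
    rw [show u * fS f' u = 1 from Subtype.ext (by
      rw [Subgroup.coe_mul, coe_fS hf' (mem_up.2 huC), hmem3 hu3, d.fu, mul_inv_cancel]; rfl)]
    exact one_mem _
  · have ha3 : a ∈ IsMC.M u n 3 := Subgroup.mem_sup_right ha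
    have haC := hC2 (by omega : 2 ≤ n - 3) ha
    have h1 : a⁻¹ * fS f' a ∈ H ⊓ L S 2 := by
      refine ⟨mem_up.1 ?_, (L S 2).mul_mem ((L S 2).inv_mem (L_anti (by omega) ha)) (L_anti (by omega) (fS_mem hf' (mem_up.2 haC) (B := L S (n - 3)) ?_))⟩
      · rw [Subgroup.coe_mul, Subgroup.coe_inv, coe_fS hf' (mem_up.2 haC)]
        exact d.diff_mem h hc (hN3.ge ha3) (hmem3 ha3)
      · exact hL' 3 (by omega) (by omega) _ (mem_up.2 ha)
    rw [← hM2] at h1
    exact (h.M_inf_two hu1 hup (by omega : 2 ≤ n - 2)).le h1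
  · exact Subtype.ext (by rw [coe_fS hf' (mem_up.2 (hC2 (by omega) (hKL ▸ d.hv.1 : v ∈ L S (n - 2)))), hmem3 (hK3 d.hv.1), d.fv, Subgroup.coe_inv])
  · exact Subtype.ext (by rw [coe_fS hf' (mem_up.2 (hC2 (by omega) (hKL ▸ d.hw.1 : w ∈ L S (n - 2)))), hmem3 (hK3 d.hw.1), d.fw])

theorem Datum.caseT6 (hn6 : n = 6) (hH1 : H ≤ L S 1) (hZ : ¬ L S (n - 2) ≤ H) (hcap : H ⊓ C S (n - 2) ≤ L S (n - 3))
    (hN : Subgroup.normalizer (H : Set S) = H ⊔ L S (n - 3)) (hN1 : Subgroup.normalizer (H : Set S) ≤ L S 1) :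
    False := by
  subst hn6
  have hHC := h.not_le_C_of_not_le hc.card hc.comm hc.cent hZ
  have h4N : L S 4 ≤ Subgroup.normalizer (H : Set S) := h.second_le_normalizer hc.card hc.cent
  have hN4 := h.normalizer_eq_sup hc.card hc.comm hc.cent hc.normalizer h4N hZ
  have hKC : K = H ⊓ C S 4 := d.K_eq h hc inf_le_left
    (h.card_inf_of_not_le hc.card hc.comm hc.cent (h.index_C (i := 4) (by omega) le_rfl) hHC) fun a ha => by
      obtain ⟨e, he, z, hz, hgez⟩ := Subgroup.mem_sup_of_normal_right.1 (hN4.le d.hg.1)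
      rw [← hgez]
      exact ((show Commute e a from hc.comm e he a ha.1).mul_left (h.mem_C_top.1 ha.2 z hz).symm).eq
  have hK3 : K ≤ L S 3 := hKC.le.trans hcap
  have huC : u ∉ C S 4 := fun hh => d.hu.2 (hKC.ge ⟨d.hu.1, hh⟩)
  have hu1 : u ∈ L S 1 := hH1 d.hu.1
  have hu2 : u ∉ L S 2 := fun hh => huC (L_two_le_C (by omega) hh)
  obtain ⟨x, hx, l, hl, -, -, hvx⟩ := d.v_eq h hc h4N hZ
  have hv5 : v ∈ L S 5 := hvx ▸ step (by omega) hl x⁻¹
  have hL5 : L S 5 ≤ Subgroup.zpowers v := (Subgroup.eq_of_le_of_card_ge (Subgroup.zpowers_le.2 hv5)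
    (by rw [d.card_zpowers_v h hc, h.card_L (by omega) (by omega)]; simp)).ge
  have hL5K : L S 5 ≤ K := hL5.trans (Subgroup.zpowers_le.2 d.hv.1)
  have hHgen : H ≤ Subgroup.zpowers u ⊔ K := d.card_sup h hc d.hK.1 d.hK.2.1.ge d.hu.1 d.hu.2
  have hL3c : Nat.card (L S 3) = p ^ 3 := by rw [h.card_L (by omega) (by omega)]
  set N := Subgroup.normalizer (H : Set S) with hNdef
  have h3N : L S 3 ≤ N := hN.ge.trans' le_sup_right
  have hNgen : N ≤ Subgroup.zpowers u ⊔ L S 3 := by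
    rw [hN]
    exact sup_le (hHgen.trans (sup_le_sup le_rfl hK3)) le_sup_right
  have huN : u ∈ N := Subgroup.le_normalizer d.hu.1
  have hNL2 : N ⊓ L S 2 = L S 3 := by
    refine (Subgroup.eq_of_le_of_card_ge (le_inf h3N (L_anti (by omega))) ?_).symm
    have := Fusion.MaxClass.card_mul_le_of_lt h.isPGroup (inf_lt_left.2 fun hle => hu2 (hle huN) : N ⊓ L S 2 < N)
    rw [hc.normalizer, pow_succ' p 3] at this
    rw [hL3c]
    exact Nat.le_of_mul_le_mul_left this hpf.out.pos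
  obtain ⟨y, hy, hy3⟩ := SetLike.exists_of_lt (h.L_lt le_rfl (by omega : 2 < 6))
  have hy1 : y ∈ L S 1 := L_le_one (by omega) hy
  have hb4 : ⁅y, u⁆ ∈ L S 4 := comm_swap (h.mem_C (i := 2) le_rfl (by omega) hu1 hy)
  have hbK : ⁅y, u⁆ ∉ K := fun hb => hy3 (hNL2.le ⟨mem_normalizer_of_le fun e he => by
    have hyu : y * u * y⁻¹ ∈ H := by
      have := H.mul_mem (d.hK.1 hb) d.hu.1
      rwa [show ⁅y, u⁆ * u = y * u * y⁻¹ by simp [commutatorElement_def]] at this
    have hle : Subgroup.zpowers u ⊔ K ≤ H.comap (MulAut.conj y).toMonoidHom := by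
      refine sup_le (Subgroup.zpowers_le.2 hyu) fun k hk => ?_
      show y * k * y⁻¹ ∈ H
      have := H.mul_mem (d.hK.1 (hL5K (CfsgLib.PGroup.MaxDeg.comm_le (by omega) (by omega)
        (Subgroup.commutator_mem_commutator hy (hK3 hk))))) (d.hK.1 hk)
      rwa [show ⁅y, k⁆ * k = y * k * y⁻¹ by simp [commutatorElement_def]] at this
    exact hle (hHgen he), hy⟩)
  have hL3K : ∀ a ∈ L S 1, ∀ b ∈ L S 3, ⁅a, b⁆ ∈ K := fun a ha b hb => hL5K (h.mem_C (by omega) le_rfl ha hb)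
  have hconjK : ∀ a ∈ L S 1, ∀ k ∈ K, a * k * a⁻¹ ∈ K := fun a ha k hk => by
    have := K.mul_mem (hL3K a ha k (hK3 hk)) hk
    rwa [show ⁅a, k⁆ * k = a * k * a⁻¹ by simp [commutatorElement_def]] at this
  have hb3 : ⁅y, u⁆ ∈ L S 3 := L_anti (by omega) hb4
  have hL3gen : L S 3 ≤ Subgroup.zpowers ⁅y, u⁆ ⊔ K := by
    refine (Subgroup.eq_of_le_of_card_ge (sup_le (Subgroup.zpowers_le.2 hb3) hK3) ?_).ge
    refine le_trans ?_ (Fusion.MaxClass.card_mul_le_of_lt h.isPGroup (lt_of_le_not_ge le_sup_right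
      fun e => hbK (e (Subgroup.mem_sup_left (Subgroup.mem_zpowers ⁅y, u⁆)))))
    rw [hL3c, d.hK.2.1, ← pow_succ']
  have hm3 : ∀ x ∈ up (L S 3), f x ∈ up (L S 3) := by
    refine line (p := p) (M := N) (A := H) (D := K) hfn ?_ h3N d.hK.1 hK3 (by rw [hc.card, hL3c])
      (fun a ha => hconjK a (hN1 ha)) d.hu.1 huN (hc.exp u d.hu.1) hNgen (hconjK y hy1) hb3 hL3gen (hL3K y hy1)
      (hL3K u hu1) hHgen d.fn d.maps (d.map_K h hc)
    rw [hc.normalizer, h.card]
    exact Nat.pow_lt_pow_right hpf.out.one_lt (by omega)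
  have hm5 : ∀ x ∈ up (L S 5), f x ∈ up (L S 5) := by
    intro x hx
    refine map_mem_zpowers d.fn (d.mem_N h hc (d.hK.1 d.hv.1)) ?_ x ?_
    · rw [d.fv]; exact (up _).inv_mem (mem_up.2 hv5)
    · rw [← up_zpowers]; exact Subgroup.map_mono hL5 hx
  -- the normalizer of `N`
  have hconjN : ∀ a ∈ L S 1, a ∈ Subgroup.normalizer (N : Set S) := by
    have hd : ∀ a ∈ L S 2, a ∈ Subgroup.normalizer (N : Set S) := fun a ha => mem_normalizer_of_le fun e he => by
      have hau : ⁅a, u⁆ ∈ L S 3 := L_anti (by omega) (comm_swap (h.mem_C (i := 2) le_rfl (by omega) hu1 ha))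
      have hle : Subgroup.zpowers u ⊔ L S 3 ≤ N.comap (MulAut.conj a).toMonoidHom := by
        refine sup_le (Subgroup.zpowers_le.2 ?_) fun k hk => h3N ((L_normal 3).conj_mem k hk a)
        show a * u * a⁻¹ ∈ N
        have := N.mul_mem (h3N hau) huN
        rwa [show ⁅a, u⁆ * u = a * u * a⁻¹ by simp [commutatorElement_def]] at this
      exact hle (hNgen he)
    exact fun a ha => (sup_le (Subgroup.zpowers_le.2 (Subgroup.le_normalizer huN)) hd :
      Subgroup.zpowers u ⊔ L S 2 ≤ Subgroup.normalizer (N : Set S)) (h.gen le_rfl hu1 hu2 ha)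
  obtain ⟨s, hs1, -, -⟩ := h.exists_avoid h.index_one h.index_one h.index_one
  have hNne : Subgroup.normalizer (N : Set S) ≠ ⊤ := fun htop => by
    haveI : N.Normal := Subgroup.normalizer_eq_top_iff.1 htop
    refine h.comm_notMem_three h.index_one (L_le_one (by omega)) hs1 hu1 hu2 (hNL2.le ⟨?_, ?_⟩)
    · rw [commutatorElement_def]
      exact N.mul_mem (‹N.Normal›.conj_mem u huN s) (N.inv_mem huN)
    · rw [L_two, commutator_def]
      exact Subgroup.commutator_mem_commutator (Subgroup.mem_top s) (Subgroup.mem_top u)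
  have hNN : Subgroup.normalizer (N : Set S) = L S 1 := by
    refine (Subgroup.eq_of_le_of_card_ge hconjN ?_).symm
    have := Fusion.MaxClass.card_mul_le_of_lt h.isPGroup (lt_top_iff_ne_top.2 hNne)
    rw [Subgroup.card_top, h.card, pow_succ' p 5] at this
    rw [h.card_one]
    exact Nat.le_of_mul_le_mul_left this hpf.out.pos
  have hfnN : F.IsFullyNormalized (up N) := card_normalizer_conj h hc hcen hfn
    (fun j => if j = 2 then H else N) (if_pos rfl) (i := 3) le_rfl le_rfl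
    (fun j hj hj3 => by
      obtain rfl : j = 2 := by omega
      exact ⟨Subgroup.le_normalizer, le_rfl⟩)
    (fun j hj hj3 => by
      obtain rfl | rfl : j = 2 ∨ j = 3 := by omega
      exacts [hc.card, hc.normalizer])
    (by rw [show (if (3 : ℕ) = 2 then H else N) = N from if_neg (by omega), hNN, h.card_one])
  let D : ℕ → Subgroup S
    | 0 => N
    | 1 => L S 3
    | 2 => K
    | 3 => L S 5
    | _ => ⊥
  obtain ⟨f₁, hf₁, hm₁, he₁⟩ := extend hS hF hfnN d.fn D 4 rfl rfl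
    (fun k hk => by
      interval_cases k
      · exact d.maps
      · exact hm3
      · exact d.map_K h hc
      · exact hm5
      · intro x hx
        simp only [D, up, Subgroup.map_bot, Subgroup.mem_bot] at hx ⊢
        rw [hx, d.fn.map_one])
    (fun k => by
      rcases k with _ | _ | _ | _ | k
      exacts [le_rfl, h3N, hK3.trans h3N, (hL5K.trans hK3).trans h3N, bot_le])
    (fun a ha k hk z hz => by
      have ha1 : a ∈ L S 1 := hNN.le ha
      interval_cases k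
      · show z⁻¹ * (a * z * a⁻¹) ∈ L S 3
        refine shift_mem (hNL2.le ⟨?_, ?_⟩)
        · rw [commutatorElement_def]
          exact N.mul_mem ((Subgroup.mem_normalizer_iff.1 ha z).1 hz) (N.inv_mem hz)
        · rw [L_two, commutator_def]
          exact Subgroup.commutator_mem_commutator (Subgroup.mem_top a) (Subgroup.mem_top z)
      · show z⁻¹ * (a * z * a⁻¹) ∈ K
        exact hL5K (shift_mem (h.mem_C (i := 3) (by omega) le_rfl ha1 hz))
      · show z⁻¹ * (a * z * a⁻¹) ∈ L S 5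
        exact shift_mem (h.mem_C (i := 3) (by omega) le_rfl ha1 (hK3 hz))
      · show z⁻¹ * (a * z * a⁻¹) ∈ (⊥ : Subgroup S)
        have := step (by omega : 1 ≤ 5) hz a
        rw [h.L_bot le_rfl] at this
        exact shift_mem this)
    (fun k hk => by
      interval_cases k
      exacts [h3N, hK3, hL5K, bot_le])
  rw [hNN] at hf₁ hm₁
  have hdiff : ∀ a ∈ N, (a : Ω)⁻¹ * f₁ a ∈ up H := fun a ha => d.diff_mem h hc ha (he₁ _ (mem_up.2 ha))
  have hm3' : ∀ x ∈ up (L S 3), f₁ x ∈ up (L S 3) := fun x hx => by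
    rw [he₁ x (Subgroup.map_mono h3N hx)]
    exact hm3 x hx
  have hm5' : ∀ x ∈ up (L S 5), f₁ x ∈ up (L S 5) := fun x hx => by
    rw [he₁ x (Subgroup.map_mono ((L_anti (by omega)).trans h3N) hx)]
    exact hm5 x hx
  have hm2 : ∀ x ∈ up (L S 2), f₁ x ∈ up (L S 2) := by
    refine line (p := p) (M := L S 1) (A := N) (D := L S 3) hfnN ?_ (L_le_one (by omega)) h3N (L_anti (by omega))
      ?_ (fun z _ k hk => (L_normal 3).conj_mem k hk z) huN hu1 (hc.exp u d.hu.1) (h.gen le_rfl hu1 hu2) (y := s)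
      (fun k hk => (L_normal 3).conj_mem k hk s) (step le_rfl hu1 s)
      (h.gen (by omega) (step le_rfl hu1 s) (h.comm_notMem_three h.index_one (L_le_one (by omega)) hs1 hu1 hu2))
      (fun b hb => step (by omega) hb s)
      (fun b hb => CfsgLib.PGroup.MaxDeg.comm_le le_rfl (by omega) (Subgroup.commutator_mem_commutator hu1 hb))
      hNgen hf₁ hm₁ hm3'
    · rw [hNN, h.card_one, h.card]
      exact Nat.pow_lt_pow_right hpf.out.one_lt (by omega)
    · rw [hc.normalizer, h.card_L (by omega) (by omega)]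
  have hb5 : ⁅y, u⁆ ∉ L S 5 := fun hh => hbK (hL5K hh)
  have hm4 : ∀ x ∈ up (L S 4), f₁ x ∈ up (L S 4) := by
    refine map_mem_of_gen hf₁ (X := Subgroup.zpowers ((⁅y, u⁆ : S) : Ω)) (Y := up (L S 5)) ?_ ?_
      (Subgroup.map_mono (L_le_one (by omega))) ?_ fun x hx => Subgroup.map_mono (L_anti (by omega)) (hm5' x hx)
    · refine (Subgroup.map_mono (h.gen (by omega) hb4 hb5)).trans ?_
      rw [Subgroup.map_sup, MonoidHom.map_zpowers]
      rfl
    · exact Subgroup.zpowers_le.2 (mem_up.2 (L_le_one (by omega) hb4))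
    · refine map_mem_zpowers hf₁ (mem_up.2 (L_le_one (by omega) hb4)) ?_
      have hyi := hm₁ _ (mem_up.2 hy1)
      have hy2' : fS f₁ y ∈ L S 2 := fS_mem hf₁ (mem_up.2 hy1) (hm2 _ (mem_up.2 hy))
      have hu1' : fS f₁ u ∈ L S 1 := fS_mem hf₁ (mem_up.2 hu1) (hm₁ _ (mem_up.2 hu1))
      have e : f₁ ((⁅y, u⁆ : S) : Ω) = ((⁅fS f₁ y, fS f₁ u⁆ : S) : Ω) := by
        have hya : (y : Ω) ∈ up (L S 1) := mem_up.2 hy1
        have hua : (u : Ω) ∈ up (L S 1) := mem_up.2 hu1
        rw [coe_comm, coe_comm, coe_fS hf₁ hya, coe_fS hf₁ hua, commutatorElement_def, commutatorElement_def,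
          hf₁.map_mul ((up _).mul_mem ((up _).mul_mem hya hua) ((up _).inv_mem hya)) ((up _).inv_mem hua),
          hf₁.map_mul ((up _).mul_mem hya hua) ((up _).inv_mem hya), hf₁.map_mul hya hua, hf₁.map_inv hya,
          hf₁.map_inv hua]
      rw [e]
      exact mem_up.2 (comm_swap (h.mem_C (i := 2) le_rfl (by omega) hu1' hy2'))
  obtain ⟨T, hT⟩ := exists_aut h hS hF hf₁ fun k hk => by
    rcases Nat.lt_or_ge k 6 with h6 | h6
    · interval_cases k
      exacts [hm₁, hm2, hm3', hm4, hm5']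
    · rw [h.L_bot h6, up, Subgroup.map_bot]
      intro x hx
      rw [Subgroup.mem_bot] at hx ⊢
      rw [hx, hf₁.map_one]
  have hTf : ∀ a ∈ N, ((T a : S) : Ω) = f a := fun a ha =>
    (hT a (hN1 ha)).trans (he₁ _ (mem_up.2 ha))
  have hz4 : ∀ z ∈ L S 4, z⁻¹ * T z ∈ L S 5 := by
    intro z hz
    have hz1 := L_le_one (by omega) hz
    have h1 : z⁻¹ * T z ∈ H ⊓ L S 4 := ⟨mem_up.1 (by
      rw [Subgroup.coe_mul, Subgroup.coe_inv, hT z hz1]
      exact hdiff z (h4N hz)), (L S 4).mul_mem ((L S 4).inv_mem hz) (map_mem_L T hz)⟩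
    have he : L S 5 = H ⊓ L S 4 := Subgroup.eq_of_le_of_card_ge
      (le_inf (hL5K.trans d.hK.1) (L_anti (by omega))) (by
        have := Fusion.MaxClass.card_mul_le_of_lt h.isPGroup
          (inf_lt_right.2 hZ : H ⊓ L S 4 < L S 4)
        rw [h.card_L (by omega) (by omega), show 6 - 4 = 2 from rfl, pow_two] at this
        rw [h.card_L (by omega) (by omega), show 6 - 5 = 1 from rfl, pow_one]
        exact Nat.le_of_mul_le_mul_left this hpf.out.pos)
    exact he.ge h1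
  refine h.contra_signs T (k := 3) (by omega) le_rfl hu1 hu2 ?_ (fun a ha => ?_) hz4
    (Or.inr ⟨rfl, fun γ e he he' hTe => h.hmid_of_aut T he he' hTe⟩)
  · rw [show u * T u = 1 from Subtype.ext (by rw [Subgroup.coe_mul, hTf u huN, d.fu, mul_inv_cancel]; rfl)]
    exact one_mem _
  · have hrep : ∃ k ∈ K, ∃ z ∈ L S 4, a = k * z := by
      have : L S 3 ≤ K ⊔ L S 4 := hL3gen.trans (sup_le (Subgroup.zpowers_le.2 (Subgroup.mem_sup_right hb4)) le_sup_left)
      obtain ⟨k, hk, z, hz, rfl⟩ := Subgroup.mem_sup_of_normal_right.1 (this ha)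
      exact ⟨k, hk, z, hz, rfl⟩
    obtain ⟨k, hk, z, hz, rfl⟩ := hrep
    have hk4 : k⁻¹ * T k ∈ L S 4 := by
      obtain ⟨a, b, rfl⟩ := d.K_rep h hc hk
      have hTv : T v = v⁻¹ := Subtype.ext ((hTf v (Subgroup.le_normalizer (d.hK.1 d.hv.1))).trans (d.fv.trans (by simp)))
      have hTw : T w = w := Subtype.ext ((hTf w (Subgroup.le_normalizer (d.hK.1 d.hw.1))).trans d.fw)
      rw [map_mul, _root_.map_zpow, _root_.map_zpow, hTv, hTw]
      have hva : ∀ a : ℤ, v ^ a ∈ L S 4 := fun a => (L S 4).zpow_mem (L_anti (by omega) hv5) a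
      have hcm : (v ^ a)⁻¹ * w ^ b = w ^ b * (v ^ a)⁻¹ :=
        hc.comm _ (H.inv_mem (H.zpow_mem (d.hK.1 d.hv.1) a)) _ (H.zpow_mem (d.hK.1 d.hw.1) b)
      rw [inv_zpow, mul_inv_rev, hcm, mul_assoc, ← mul_assoc (v ^ a)⁻¹, hcm, mul_assoc, inv_mul_cancel_left]
      exact (L S 4).mul_mem ((L S 4).inv_mem (hva a)) ((L S 4).inv_mem (hva a))
    rw [map_mul, mul_inv_rev, show z⁻¹ * k⁻¹ * (T k * T z) = z⁻¹ * (k⁻¹ * T k) * T z by group]
    exact (L S 4).mul_mem ((L S 4).mul_mem ((L S 4).inv_mem hz) hk4) (map_mem_L T hz)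

end

/-- A group of maximal class of order at least `p ^ 5`, `p ≥ 5`, has no elementary essential subgroup of order `p ^ 3`. -/
theorem false_of_cube (h : IsMC S p n) (hS : IsPGroup p S) (hF : F.IsSaturated p) {H : Subgroup S}
    (hE : F.IsEssential p (up H)) (hcard : Nat.card H = p ^ 3) (hcomm : ∀ a ∈ H, ∀ b ∈ H, a * b = b * a)
    (hexp : ∀ a ∈ H, a ^ p = 1) : False := by
  obtain ⟨hc, K, f, g, u, v, w, hf, hm, hd, hg, hK, hu, hv, hw, fu, fv, fw⟩ := exists_datum h hS hF hE hcard hcomm hexp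
  have d : Datum F p H f K g u v w := ⟨hf, hm, hd, hg, hK, hu, hv, hw, fu, fv, fw⟩
  rcases h.shape hc.card hc.comm hc.cent hc.normalizer hc.exp with
    ⟨h5, hZ, hH1, hN⟩ | ⟨he, h6, hZ, hHC, hH1, hne⟩ | ⟨h6, hH1, hZ, hcap, hN, hN1, -⟩
  · exact d.caseA h hc hS hF hE.1 hE.2.1 h5 hZ hH1 hN
  · exact d.caseB h hc hS hF hE.1 hE.2.1 he h6 hZ hHC hH1 hne
  · exact d.caseT6 h hc hS hF hE.1 hE.2.1 h6 hH1 hZ hcap hN hN1

end CfsgLib.Fsys.MaxCube
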