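import Cfsg.Agent.Lib.FusionSystem.StronglyEmbedded
import Cfsg.Agent.Lib.FusionSystem.SmallEssential
import Cfsg.Agent.Lib.Fusion.MaxClass

/-! A group with a strongly embedded subgroup and a transvection on a module of order `p ^ 3`. -/

set_option autoImplicit false
set_option linter.unusedSectionVars false

namespace CfsgLib.Fsys.Transvection

open Cfsg

variable {X : Type*} [Group X] [Finite X] {p : ℕ} [hp : Fact p.Prime]

/-- A nontrivial `p`-element lies in one conjugate of a strongly embedded subgroup only. -/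
structure Emb (Y : Subgroup X) (p : ℕ) : Prop where
  ne : Y ≠ ⊤
  comp : ∀ Q : Subgroup X, IsPGroup p Q → ∀ x ∈ Q, x ≠ 1 → x ∈ Y → Q ≤ Y
  uniq : ∀ g x : X, x ≠ 1 → (∃ k : ℕ, x ^ p ^ k = 1) → x ∈ Y → g⁻¹ * x * g ∈ Y → g ∈ Y

theorem exists_emb {Y₀ : Subgroup X} (h : IsStronglyPEmbedded p Y₀) (P : Subgroup X) (hP : IsPGroup p P) :
    ∃ Y : Subgroup X, Emb Y p ∧ P ≤ Y := by
  obtain ⟨hdvd, hne, T, hT⟩ := h
  obtain ⟨T', hT'⟩ := hP.exists_le_sylow
  obtain ⟨a, rfl⟩ := MulAction.exists_smul_eq X T T'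
  have hN := (kGeneratedCore_one_le_iff T.2).1 hT
  set Y := Y₀.map (MulAut.conj a).toMonoidHom with hY
  have hNY : ∀ Q ≤ ((a • T : Sylow p X) : Subgroup X), Q ≠ ⊥ → Subgroup.normalizer (Q : Set X) ≤ Y := by
    intro Q hQ hQne x hx
    have h1 : Q.map (MulAut.conj a⁻¹).toMonoidHom ≤ T := by
      rintro _ ⟨q, hq, rfl⟩
      obtain ⟨t, ht, rfl⟩ := hQ hq
      show a⁻¹ * (a * t * a⁻¹) * a⁻¹⁻¹ ∈ _
      rw [show a⁻¹ * (a * t * a⁻¹) * a⁻¹⁻¹ = t by group]
      exact ht
    refine ⟨a⁻¹ * x * a, hN _ h1 (fun e => hQne ((Subgroup.map_eq_bot_iff_of_injective _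
      (MulEquiv.injective _)).1 e)) (Subgroup.mem_normalizer_iff.2 fun y => ?_), by simp [mul_assoc]⟩
    have hm : ∀ z : X, z ∈ Q.map (MulAut.conj a⁻¹).toMonoidHom ↔ a * z * a⁻¹ ∈ Q := fun z =>
      ⟨fun ⟨q, hq, e⟩ => by rw [← e]; simpa [mul_assoc] using hq, fun hz => ⟨_, hz, by simp [mul_assoc]⟩⟩
    rw [hm, hm, show a * (a⁻¹ * x * a * y * (a⁻¹ * x * a)⁻¹) * a⁻¹ = x * (a * y * a⁻¹) * x⁻¹ by group]
    exact Subgroup.mem_normalizer_iff.1 hx _
  set T' := (a • T : Sylow p X) with hT'd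
  have hTne : (T' : Subgroup X) ≠ ⊥ := T'.ne_bot_of_dvd_card hdvd
  have hTY : (T' : Subgroup X) ≤ Y := Subgroup.le_normalizer.trans (hNY _ le_rfl hTne)
  have hYne : Y ≠ ⊤ := fun e => hne (by
    rw [eq_top_iff]
    intro x _
    obtain ⟨z, hz, hze⟩ := e.ge (Subgroup.mem_top (a * x * a⁻¹))
    exact (MulAut.conj a).injective hze ▸ hz)
  have hconjY : ∀ Q : Subgroup X, IsPGroup p Q → Q ≤ Y →
      ∃ y ∈ Y, Q ≤ (T' : Subgroup X).map (MulAut.conj y).toMonoidHom := by
    intro Q hQ hQY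
    let U : Sylow p Y := T'.subtype hTY
    obtain ⟨U', hU'⟩ := (hQ.comap_of_injective Y.subtype (Subgroup.subtype_injective _)).exists_le_sylow
    obtain ⟨y, hy⟩ := MulAction.exists_smul_eq Y U U'
    refine ⟨y, y.2, fun q hq => ?_⟩
    have h1 := hU' (show (⟨q, hQY hq⟩ : Y) ∈ Q.comap Y.subtype from hq)
    rw [← hy] at h1
    obtain ⟨t, ht, hte⟩ := h1
    exact ⟨(t : X), ht, congrArg Subtype.val hte⟩
  have comp : ∀ Q : Subgroup X, IsPGroup p Q → ∀ x ∈ Q, x ≠ 1 → x ∈ Y → Q ≤ Y := by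
    intro Q hQ x hxQ hx1 hxY
    obtain ⟨y, hy, hyT⟩ := hconjY (Subgroup.zpowers x) (hQ.to_le (Subgroup.zpowers_le.2 hxQ))
      (Subgroup.zpowers_le.2 hxY)
    obtain ⟨U, hU⟩ := hQ.exists_le_sylow
    obtain ⟨g, hg⟩ := MulAction.exists_smul_eq X T' U
    obtain ⟨t, ht, hte⟩ := hyT (Subgroup.mem_zpowers x)
    have hxU : x ∈ ((g • T' : Sylow p X) : Subgroup X) := hg ▸ hU hxQ
    have hgY : y⁻¹ * g ∈ Y := by
      refine mem_of_inf_smul_ne_bot T' hNY ?_
      rw [Subgroup.ne_bot_iff_exists_ne_one]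
      obtain ⟨s, hs, hse⟩ := hxU
      have hte' : y * t * y⁻¹ = x := hte
      refine ⟨⟨t, ht, ⟨s, hs, ?_⟩⟩, fun e => hx1 ?_⟩
      · show (y⁻¹ * g) * s * (y⁻¹ * g)⁻¹ = t
        have hse' : g * s * g⁻¹ = x := hse
        rw [show (y⁻¹ * g) * s * (y⁻¹ * g)⁻¹ = y⁻¹ * (g * s * g⁻¹) * y by group, hse', ← hte']
        group
      · rw [← hte', show t = 1 from congrArg Subtype.val e]
        group
    have hg' : g ∈ Y := by simpa using Y.mul_mem hy hgY
    intro q hq
    have : q ∈ ((g • T' : Sylow p X) : Subgroup X) := hg ▸ hU hq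
    obtain ⟨s, hs, rfl⟩ := this
    exact Y.mul_mem (Y.mul_mem hg' (hTY hs)) (Y.inv_mem hg')
  refine ⟨Y, ⟨hYne, comp, fun g x hx1 hxp hxY hgxY => ?_⟩, hT'.trans hTY⟩
  obtain ⟨k, hk⟩ := hxp
  have hZ : IsPGroup p (Subgroup.zpowers (g⁻¹ * x * g)) := IsPGroup.of_card (n := (Nat.card
      (Subgroup.zpowers (g⁻¹ * x * g))).factorization p) (by
    obtain ⟨j, -, hj⟩ := (Nat.dvd_prime_pow hp.out).1 (orderOf_dvd_of_pow_eq_one
      (show (g⁻¹ * x * g) ^ p ^ k = 1 by
        have := conj_pow (i := p ^ k) (a := g⁻¹) (b := x)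
        rw [inv_inv] at this
        rw [this, hk, mul_one, inv_mul_cancel]))
    rw [Nat.card_zpowers, hj, hp.out.factorization_pow, Finsupp.single_eq_same])
  obtain ⟨y, hy, hyT⟩ := hconjY _ hZ (Subgroup.zpowers_le.2 hgxY)
  obtain ⟨t, ht, hte⟩ := hyT (Subgroup.mem_zpowers _)
  have hte' : y * t * y⁻¹ = g⁻¹ * x * g := hte
  set U := (T' : Subgroup X).map (MulAut.conj (g * y)).toMonoidHom
  have hxU : x ∈ U := ⟨t, ht, by
    show g * y * t * (g * y)⁻¹ = x
    rw [show g * y * t * (g * y)⁻¹ = g * (y * t * y⁻¹) * g⁻¹ by group, hte']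
    group⟩
  have hUY : U ≤ Y := comp U (T'.2.map _) x hxU hx1 hxY
  obtain ⟨y', hy', hU'⟩ := hconjY U (T'.2.map _) hUY
  have heq : U = (T' : Subgroup X).map (MulAut.conj y').toMonoidHom := Subgroup.eq_of_le_of_card_ge hU' (by
    rw [Subgroup.card_map_of_injective (MulEquiv.injective _), Subgroup.card_map_of_injective (MulEquiv.injective _)])
  have hnorm : y'⁻¹ * (g * y) ∈ Subgroup.normalizer ((T' : Subgroup X) : Set X) := by
    refine Sylow.smul_eq_iff_mem_normalizer.1 ?_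
    have : (g * y) • T' = y' • T' := Sylow.ext heq
    rw [mul_smul, this, ← mul_smul, inv_mul_cancel, one_smul]
  have := Y.mul_mem (Y.mul_mem hy' (hNY _ le_rfl hTne hnorm)) (Y.inv_mem hy)
  simpa [mul_assoc] using this

variable {V : Type*} [Group V] [Finite V]

section Action

variable (hV : Nat.card V = p ^ 3) (hVc : ∀ a b : V, a * b = b * a) (hVe : ∀ a : V, a ^ p = 1)
  (act : X →* MulAut V) (hinj : Function.Injective act)
  {Y₀ : Subgroup X} (hY₀ : IsStronglyPEmbedded p Y₀) {P : Subgroup X} (hP : IsPGroup p P)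
  {t : X} (ht : t ∈ P) {K : Subgroup V} (hK : Nat.card K = p ^ 2)
  (hfix : ∀ v, act t v = v ↔ v ∈ K) (hPK : ∀ y ∈ P, ∀ k ∈ K, act y k ∈ K)
include hV hVc hVe hinj hY₀ hP ht hK hfix hPK

theorem main :
    Nat.card P ≤ p ∧ ∃ (i : X) (u v w : V), u ∉ K ∧ v ∈ K ∧ w ∈ K ∧ v ≠ 1 ∧ w ∉ Subgroup.zpowers v ∧
      (∃ x : V, v = x⁻¹ * act t x) ∧
      act i u = u⁻¹ ∧ act i v = v⁻¹ ∧ act i w = w ∧ i * t = t * i := by
  classical
  have hVp : IsPGroup p V := IsPGroup.of_card hV
  obtain ⟨Y, hY, hPY⟩ := exists_emb hY₀ P hP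
  have hmap : ∀ (x : X) (v : V), act x⁻¹ (act x v) = v := fun x v => by
    rw [← MulAut.mul_apply, ← map_mul, inv_mul_cancel, map_one, MulAut.one_apply]
  have hmap' : ∀ (x : X) (v : V), act x (act x⁻¹ v) = v := fun x v => by
    rw [← MulAut.mul_apply, ← map_mul, mul_inv_cancel, map_one, MulAut.one_apply]
  let δ : V →* V := MonoidHom.mk' (fun v => v⁻¹ * act t v) fun a b => by
    rw [map_mul, mul_inv_rev, hVc b⁻¹ a⁻¹]
    simp only [mul_assoc]
    congr 1
    rw [← mul_assoc b⁻¹, hVc b⁻¹ (act t a), mul_assoc]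
  have hker : δ.ker = K := by
    ext v
    rw [MonoidHom.mem_ker, ← hfix]
    show v⁻¹ * act t v = 1 ↔ _
    rw [inv_mul_eq_one]
    exact eq_comm
  set L := δ.range with hL
  have hLc : Nat.card L = p := by
    have h1 := Subgroup.card_eq_card_quotient_mul_card_subgroup δ.ker
    rw [Nat.card_congr (QuotientGroup.quotientKerEquivRange δ).toEquiv, hker, hV, hK, pow_succ' p 2] at h1
    exact (Nat.eq_of_mul_eq_mul_right (pow_pos hp.out.pos 2) h1).symm
  have hord : ∀ y ∈ P, ∃ k, act y ^ p ^ k = 1 := fun y hy => by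
    obtain ⟨k, hk⟩ := hP ⟨y, hy⟩
    exact ⟨k, by rw [← map_pow, show y ^ p ^ k = 1 by simpa using congrArg Subtype.val hk, map_one]⟩
  have hLK : L ≤ K := by
    intro v hv
    obtain ⟨k, hk⟩ := hord t ht
    have hLinv : ∀ x ∈ L, act t x ∈ L := by
      rintro _ ⟨x, rfl⟩
      refine ⟨act t x, ?_⟩
      show (act t x)⁻¹ * act t (act t x) = act t (x⁻¹ * act t x)
      rw [map_mul, map_inv]
    have := SmallEssential.shift_small hVp (K := ⊥) (L := L) bot_le
      (by rw [Subgroup.relIndex_bot_left, hLc]) hk (fun x hx => by rw [Subgroup.mem_bot.1 hx]; simp) hLinv hv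
    rw [Subgroup.mem_bot, inv_mul_eq_one] at this
    exact (hfix v).1 this.symm
  have hKn : K.Normal := ⟨fun k hk g => by rwa [hVc g k, mul_inv_cancel_right]⟩
  have hKidx : K.index = p := by
    have h1 := Subgroup.card_mul_index K
    rw [hK, hV, pow_succ p 2] at h1
    exact Nat.eq_of_mul_eq_mul_left (pow_pos hp.out.pos 2) h1
  have hshift : ∀ y ∈ P, ∀ v, v⁻¹ * act y v ∈ K := fun y hy v => by
    obtain ⟨k, hk⟩ := hord y hy
    exact SmallEssential.shift_small hVp le_top (by rw [Subgroup.relIndex_top_right, hKidx]) hk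
      (hPK y hy) (fun _ _ => Subgroup.mem_top _) (Subgroup.mem_top v)
  have ht1 : t ≠ 1 := fun e => by
    have : K = ⊤ := eq_top_iff.2 fun v _ => (hfix v).1 (by rw [e, map_one, MulAut.one_apply])
    rw [this, Subgroup.index_top] at hKidx
    exact hp.out.one_lt.ne hKidx
  have htY : t ∈ Y := hPY ht
  obtain ⟨kt, hkt⟩ := hP ⟨t, ht⟩
  have htp : t ^ p ^ kt = 1 := by simpa using congrArg Subtype.val hkt
  -- two transvections stabilizing a common series lie together
  have key : ∀ g : X, g ∉ Y → ¬ L ≤ K.map (act g).toMonoidHom := by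
    intro g hg hle
    set K' := K.map (act g).toMonoidHom
    let Q : Subgroup X :=
      { carrier := {x | (∀ v, v⁻¹ * act x v ∈ K') ∧ (∀ k ∈ K', k⁻¹ * act x k ∈ L) ∧ ∀ l ∈ L, act x l = l}
        one_mem' := ⟨fun v => by simp, fun k _ => by simp, fun l _ => by simp⟩
        mul_mem' := fun {a b} ha hb => by
          have hbK : ∀ k ∈ K', act b k ∈ K' := fun k hk => by
            have := K'.mul_mem hk (hle (hb.2.1 k hk)); rwa [mul_inv_cancel_left] at this
          refine ⟨fun v => ?_, fun k hk => ?_, fun l hl => ?_⟩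
          · rw [map_mul, MulAut.mul_apply,
              show v⁻¹ * act a (act b v) = (v⁻¹ * act b v) * ((act b v)⁻¹ * act a (act b v)) by group]
            exact K'.mul_mem (hb.1 v) (ha.1 _)
          · rw [map_mul, MulAut.mul_apply,
              show k⁻¹ * act a (act b k) = (k⁻¹ * act b k) * ((act b k)⁻¹ * act a (act b k)) by group]
            exact L.mul_mem (hb.2.1 k hk) (ha.2.1 _ (hbK k hk))
          · rw [map_mul, MulAut.mul_apply, hb.2.2 l hl, ha.2.2 l hl]
        inv_mem' := fun {a} ha => by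
          refine ⟨fun v => ?_, fun k hk => ?_, fun l hl => ?_⟩
          · have h1 := K'.inv_mem (ha.1 (act a⁻¹ v))
            rwa [hmap', mul_inv_rev, inv_inv] at h1
          · have hk' : act a⁻¹ k ∈ K' := by
              have h1 := K'.inv_mem (ha.1 (act a⁻¹ k))
              rw [hmap', mul_inv_rev, inv_inv] at h1
              have := K'.mul_mem hk h1
              rwa [mul_inv_cancel_left] at this
            have h1 := L.inv_mem (ha.2.1 _ hk')
            rwa [hmap', mul_inv_rev, inv_inv] at h1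
          · calc act a⁻¹ l = act a⁻¹ (act a l) := by rw [ha.2.2 l hl]
              _ = l := hmap a l }
    have hQp : IsPGroup p Q := isPGroup_of_forall_coprime fun a ha => by
      have hco : (orderOf (act (a : X))).Coprime p :=
        ha.coprime_dvd_left ((orderOf_map_dvd act (a : X)).trans (Subgroup.orderOf_coe a).dvd)
      have hk : ∀ k ∈ K', act (a : X) k = k := fun k hk =>
        fixed_of_fixed_shift hVp hco (a.2.2.2 _ (a.2.2.1 k hk))
      refine Subtype.ext (hinj (MulEquiv.ext fun v => ?_))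
      rw [Subgroup.coe_one, map_one, MulAut.one_apply]
      exact fixed_of_fixed_shift hVp hco (hk _ (a.2.1 v))
    have htQ : t ∈ Q := ⟨fun v => hle ⟨v, rfl⟩, fun k _ => ⟨k, rfl⟩, fun l hl => (hfix l).2 (hLK hl)⟩
    set t' := g * t * g⁻¹
    have hfix' : ∀ k ∈ K', act t' k = k := by
      rintro _ ⟨k, hk, rfl⟩
      show act t' (act g k) = act g k
      rw [← MulAut.mul_apply, ← map_mul, show t' * g = g * t by simp [t'], map_mul, MulAut.mul_apply,
        (hfix k).2 hk]
    have ht'Q : t' ∈ Q := by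
      refine ⟨fun v => ?_, fun k hk => by rw [hfix' k hk, inv_mul_cancel]; exact one_mem _,
        fun l hl => hfix' l (hle hl)⟩
      refine ⟨(act g⁻¹ v)⁻¹ * act t (act g⁻¹ v), hLK ⟨_, rfl⟩, ?_⟩
      show act g _ = v⁻¹ * act (g * t * g⁻¹) v
      rw [map_mul (act g), map_inv (act g), hmap', map_mul act, map_mul act, MulAut.mul_apply, MulAut.mul_apply]
    refine hg (hY.uniq g t' (fun e => ht1 (conj_eq_one_iff.1 e)) ⟨kt, ?_⟩ (hY.comp Q hQp t htQ ht1 htY ht'Q) ?_)
    · rw [conj_pow, htp, mul_one, mul_inv_cancel]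
    · simpa [t', mul_assoc] using htY
  obtain ⟨g, -, hg⟩ := SetLike.exists_of_lt (lt_top_iff_ne_top.2 hY.ne)
  have hgi : g⁻¹ ∉ Y := fun h => hg (by simpa using Y.inv_mem h)
  set K' := K.map (act g).toMonoidHom with hK'
  set L' := L.map (act g).toMonoidHom with hL'
  have hL'K : ¬ L' ≤ K := fun hle => key g⁻¹ hgi fun l hl =>
    ⟨act g l, hle ⟨l, hl, rfl⟩, hmap g l⟩
  obtain ⟨u, hu, huK⟩ := SetLike.not_le_iff_exists.1 hL'K
  have huK' : u ∈ K' := Subgroup.map_mono hLK hu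
  obtain ⟨w, hw, hw1⟩ : ∃ w ∈ K ⊓ K', w ≠ 1 := by
    by_contra hno
    push Not at hno
    haveI : Finite K := inferInstance
    have hinj2 : Function.Injective (fun q : K × K' => (q.1 : V) * q.2) := by
      rintro ⟨a, b⟩ ⟨c, d⟩ e
      have e' : (c : V)⁻¹ * a = d * (b : V)⁻¹ := by
        rw [inv_mul_eq_iff_eq_mul, ← mul_assoc, eq_mul_inv_iff_mul_eq]
        exact e
      have h1 := hno _ ⟨K.mul_mem (K.inv_mem c.2) a.2, e' ▸ K'.mul_mem d.2 (K'.inv_mem b.2)⟩
      have ha : (a : V) = c := (inv_mul_eq_one.1 h1).symm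
      obtain rfl : a = c := Subtype.ext ha
      exact Prod.ext rfl (Subtype.ext (mul_left_cancel e))
    have h1 := Nat.card_le_card_of_injective _ hinj2
    rw [Nat.card_prod, hV, hK'] at h1
    have hinjg : Function.Injective (act g).toMonoidHom := (act g).injective
    rw [Subgroup.card_map_of_injective hinjg, hK, ← pow_add] at h1
    have := (Nat.pow_le_pow_iff_right hp.out.one_lt).1 h1
    omega
  have hu1 : u ≠ 1 := fun e => huK (e ▸ one_mem K)
  have hL'gen : L' ≤ Subgroup.zpowers u := by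
    refine (Subgroup.eq_of_le_of_card_ge (Subgroup.zpowers_le.2 hu) ?_).ge
    have hinjg : Function.Injective (act g).toMonoidHom := (act g).injective
    rw [Subgroup.card_map_of_injective hinjg, hLc, Nat.card_zpowers, orderOf_eq_prime (hVe u) hu1]
  refine ⟨?_, ?_⟩
  · by_contra hbig
    obtain ⟨m, hm⟩ := IsPGroup.iff_card.1 hP
    have hm2 : 2 ≤ m := by
      by_contra hm2
      refine hbig ?_
      rw [hm]
      calc p ^ m ≤ p ^ 1 := Nat.pow_le_pow_right hp.out.pos (by omega)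
        _ = p := pow_one p
    obtain ⟨y, hy, hy1, hyu⟩ : ∃ y ∈ P, y ≠ 1 ∧ act y u ∈ K' := by
      let f : P → K := fun y => ⟨u⁻¹ * act (y : X) u, hshift _ y.2 u⟩
      by_cases hfi : Function.Injective f
      · have hsurj : Function.Surjective f := by
          have := Nat.card_le_card_of_injective f hfi
          exact (hfi.bijective_of_nat_card_le (by rw [hK, hm]; exact Nat.pow_le_pow_right hp.out.pos hm2)).2
        obtain ⟨y, hy⟩ := hsurj ⟨w, hw.1⟩
        have hyw : u⁻¹ * act (y : X) u = w := congrArg Subtype.val hy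
        refine ⟨y, y.2, fun e => hw1 ?_, ?_⟩
        · rw [← hyw, e, map_one, MulAut.one_apply, inv_mul_cancel]
        · rw [eq_mul_of_inv_mul_eq hyw]
          exact K'.mul_mem huK' hw.2
      · rw [Function.Injective] at hfi
        push Not at hfi
        obtain ⟨a, b, hab, hne⟩ := hfi
        refine ⟨(a⁻¹ * b : P), (a⁻¹ * b).2, fun e => hne ?_, ?_⟩
        · exact inv_mul_eq_one.1 (Subtype.ext e)
        · have h1 : act (a : X) u = act (b : X) u := mul_left_cancel (congrArg Subtype.val hab)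
          rw [Subgroup.coe_mul, Subgroup.coe_inv, map_mul, MulAut.mul_apply, ← h1, hmap]
          exact huK'
    have hmem : g⁻¹ * y⁻¹ * g ∈ Y := by
      by_contra hh
      refine key _ hh fun l hl => ?_
      obtain ⟨j, hj⟩ := Subgroup.mem_zpowers_iff.1 (hL'gen ⟨l, hl, rfl⟩)
      have hjK : act y (act g l) ∈ K' := by
        rw [show act g l = u ^ j from hj.symm, map_zpow]
        exact K'.zpow_mem hyu j
      obtain ⟨k, hk, hke⟩ := hjK
      refine ⟨k, hk, ?_⟩
      show act (g⁻¹ * y⁻¹ * g) k = l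
      rw [map_mul, map_mul, MulAut.mul_apply, MulAut.mul_apply, show act g k = act y (act g l) from hke,
        hmap, hmap]
    obtain ⟨ky, hky⟩ := hP ⟨y, hy⟩
    exact hg (hY.uniq g y⁻¹ (inv_ne_one.2 hy1) ⟨ky, by
      rw [inv_pow, show y ^ p ^ ky = 1 by simpa using congrArg Subtype.val hky, inv_one]⟩ (Y.inv_mem (hPY hy)) hmem)
  -- the involution
  obtain ⟨v, hv, hv1⟩ : ∃ v ∈ L, v ≠ 1 := by
    by_contra hno
    push Not at hno
    have : L = ⊥ := (Subgroup.eq_bot_iff_forall _).2 hno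
    rw [this, Subgroup.card_bot] at hLc
    exact hp.out.one_lt.ne hLc
  have hLgen : L ≤ Subgroup.zpowers v := (Subgroup.eq_of_le_of_card_ge (Subgroup.zpowers_le.2 hv)
    (by rw [hLc, Nat.card_zpowers, orderOf_eq_prime (hVe v) hv1])).ge
  have hvK' : v ∉ K' := fun h => key g hg (hLgen.trans (Subgroup.zpowers_le.2 h))
  have hpowfix : ∀ (x : X) (z : V) (m : ℤ), act x z = z → act (x ^ m) z = z := fun x z m hz => by
    have hmem : act x ∈ MulAction.stabilizer (MulAut V) z := hz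
    rw [map_zpow]
    exact Subgroup.zpow_mem _ hmem m
  have hpowshift : ∀ (x : X) (a c : V) (m : ℤ), act x a = a * c → act x c = c → act (x ^ m) a = a * c ^ m := by
    intro x a c m h1 h2
    induction m with
    | zero => simp
    | succ m ih =>
      rw [zpow_add_one, map_mul, MulAut.mul_apply, h1, map_mul, ih, hpowfix x c _ h2, mul_assoc, ← zpow_add_one]
    | pred m ih =>
      have h3 : act x⁻¹ a = a * c⁻¹ := by
        have := hmap x (a * c⁻¹)
        rwa [map_mul (act x), map_inv (act x), h1, h2, mul_inv_cancel_right] at this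
      rw [zpow_sub_one, map_mul, MulAut.mul_apply, h3, map_mul, map_inv, ih, hpowfix x c _ h2, mul_assoc,
        ← zpow_sub_one]
  -- normalized generators
  have hsol : ∀ {d e : V}, e ≠ 1 → d ∈ Subgroup.zpowers e → d ≠ 1 → e ∈ Subgroup.zpowers d := by
    intro d e he hd hd1
    have hle := Subgroup.zpowers_le.2 hd
    exact (Subgroup.eq_of_le_of_card_ge hle (by
      rw [Nat.card_zpowers, Nat.card_zpowers, orderOf_eq_prime (hVe d) hd1, orderOf_eq_prime (hVe e) he])).ge
        (Subgroup.mem_zpowers e)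
  have htu : u⁻¹ * act t u ≠ 1 := fun e => huK ((hfix u).1 (inv_mul_eq_one.1 e).symm)
  obtain ⟨m₁, hm₁⟩ := Subgroup.mem_zpowers_iff.1 (hsol hv1 (hLgen ⟨u, rfl⟩) htu)
  set t' := g * t * g⁻¹ with ht'
  have hfix' : ∀ z, act t' z = z ↔ z ∈ K' := by
    intro z
    rw [ht', map_mul, map_mul, MulAut.mul_apply, MulAut.mul_apply]
    refine ⟨fun h => ⟨act g⁻¹ z, (hfix _).1 ((act g).injective (h.trans (hmap' g z).symm)), hmap' g z⟩, ?_⟩
    rintro ⟨k, hk, rfl⟩
    show act g (act t (act g⁻¹ (act g k))) = act g k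
    rw [hmap, (hfix k).2 hk]
  have htv : v⁻¹ * act t' v ∈ Subgroup.zpowers u := hL'gen ⟨(act g⁻¹ v)⁻¹ * act t (act g⁻¹ v), ⟨_, rfl⟩, by
    show act g _ = _
    rw [map_mul, map_inv, hmap', ht', map_mul, map_mul, MulAut.mul_apply, MulAut.mul_apply]⟩
  have htv1 : v⁻¹ * act t' v ≠ 1 := fun e => hvK' ((hfix' v).1 (inv_mul_eq_one.1 e).symm)
  obtain ⟨m₂, hm₂⟩ := Subgroup.mem_zpowers_iff.1 (hsol hu1 htv htv1)
  set t₁ := t ^ m₁
  set t₂ := t' ^ (-m₂)
  have h1u : act t₁ u = u * v := by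
    rw [← hm₁]
    exact hpowshift t u _ m₁ (by show act t u = u * (u⁻¹ * act t u); rw [mul_inv_cancel_left]) ((hfix _).2 (hLK ⟨u, rfl⟩))
  have h2v : act t₂ v = v * u⁻¹ := by
    rw [← hm₂, ← zpow_neg]
    exact hpowshift t' v _ (-m₂) (by rw [mul_inv_cancel_left]) (by
      rw [hfix']
      exact (Subgroup.zpowers_le.2 huK') htv)
  have h1v : act t₁ v = v := hpowfix t v m₁ ((hfix v).2 (hLK hv))
  have h2u : act t₂ u = u := hpowfix t' u _ ((hfix' u).2 huK')
  have h1w : act t₁ w = w := hpowfix t w m₁ ((hfix w).2 hw.1)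
  have h2w : act t₂ w = w := hpowfix t' w _ ((hfix' w).2 hw.2)
  let w₀ := t₁ * t₂ * t₁
  have hwv : act w₀ v = u⁻¹ := by
    rw [map_mul, map_mul, MulAut.mul_apply, MulAut.mul_apply, h1v, h2v, map_mul, map_inv, h1v, h1u, mul_inv_rev,
      mul_inv_cancel_left]
  have hwu : act w₀ u = v := by
    rw [map_mul, map_mul, MulAut.mul_apply, MulAut.mul_apply, h1u, map_mul, h2u, h2v, hVc v u⁻¹,
      mul_inv_cancel_left, h1v]
  have hww : act w₀ w = w := by
    rw [map_mul, map_mul, MulAut.mul_apply, MulAut.mul_apply, h1w, h2w, h1w]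
  set i := w₀ * w₀
  have hiu : act i u = u⁻¹ := by rw [map_mul, MulAut.mul_apply, hwu, hwv]
  have hiv : act i v = v⁻¹ := by rw [map_mul, MulAut.mul_apply, hwv, map_inv, hwu]
  have hiw : act i w = w := by rw [map_mul, MulAut.mul_apply, hww, hww]
  have hwv' : w ∉ Subgroup.zpowers v := fun h => hvK' (Subgroup.zpowers_le.2 hw.2 (hsol hv1 h hw1))
  refine ⟨i, u, v, w, huK, hLK hv, hw.1, hv1, hwv', (let ⟨x, hx⟩ := hv; ⟨x, hx.symm⟩), hiu, hiv, hiw, ?_⟩
  have hKgen : K ≤ Subgroup.zpowers v ⊔ Subgroup.zpowers w := by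
    refine (Subgroup.eq_of_le_of_card_ge (sup_le (Subgroup.zpowers_le.2 (hLK hv)) (Subgroup.zpowers_le.2 hw.1)) ?_).ge
    refine le_trans ?_ (CfsgLib.Fusion.MaxClass.card_mul_le_of_lt hVp (lt_of_le_not_ge le_sup_left
      fun e => hwv' (e (Subgroup.mem_sup_right (Subgroup.mem_zpowers w)))))
    rw [hK, Nat.card_zpowers, orderOf_eq_prime (hVe v) hv1, sq]
  have hVgen : (⊤ : Subgroup V) ≤ Subgroup.zpowers u ⊔ K := by
    refine (Subgroup.eq_of_le_of_card_ge le_top ?_).ge
    refine le_trans ?_ (CfsgLib.Fusion.MaxClass.card_mul_le_of_lt hVp (lt_of_le_not_ge le_sup_right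
      fun e => huK (e (Subgroup.mem_sup_left (Subgroup.mem_zpowers u)))))
    rw [Subgroup.card_top, hV, hK, ← pow_succ']
  obtain ⟨a, ha⟩ := Subgroup.mem_zpowers_iff.1 (hLgen ⟨u, rfl⟩)
  have htu' : act t u = u * v ^ a := by rw [ha]; exact (mul_inv_cancel_left _ _).symm
  refine hinj (MulEquiv.ext fun z => ?_)
  have hall : (⊤ : Subgroup V) ≤ MonoidHom.eqLocus (act (i * t)).toMonoidHom (act (t * i)).toMonoidHom :=
    hVgen.trans (sup_le (Subgroup.zpowers_le.2 (by
      show act (i * t) u = act (t * i) u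
      rw [map_mul act i t, map_mul act t i, MulAut.mul_apply, MulAut.mul_apply, htu', hiu, map_mul (act i),
        map_zpow (act i), hiu, hiv, map_inv (act t), htu', mul_inv_rev, inv_zpow, hVc]))
      (hKgen.trans (sup_le (Subgroup.zpowers_le.2 (by
        show act (i * t) v = act (t * i) v
        rw [map_mul act i t, map_mul act t i, MulAut.mul_apply, MulAut.mul_apply, (hfix v).2 (hLK hv), hiv,
          map_inv (act t), (hfix v).2 (hLK hv)]))
        (Subgroup.zpowers_le.2 (by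
          show act (i * t) w = act (t * i) w
          rw [map_mul act i t, map_mul act t i, MulAut.mul_apply, MulAut.mul_apply, (hfix w).2 hw.1, hiw, (hfix w).2 hw.1])))))
  exact hall (Subgroup.mem_top z)

end Action

end CfsgLib.Fsys.Transvection
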