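import Cfsg.Agent.Lib.FusionSystem.EssentialCube
import Cfsg.Agent.Lib.FusionSystem.TransvectionEmbedded
import Cfsg.Agent.Lib.PGroup.MaxClassActions

/-! An essential elementary subgroup of order `p ^ 3` in a group of maximal class: its normalizer and an involution. -/

set_option autoImplicit false
set_option linter.unusedSectionVars false

open Cfsg Cfsg.FusionSystem
open scoped commutatorElement
open CfsgLib.PGroup.MaxDeg

namespace CfsgLib.Fsys.MaxCube

variable {Ω : Type*} [Group Ω] {S : Subgroup Ω}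

/-- A subgroup of `S` seen in the ambient group. -/
abbrev up (H : Subgroup S) : Subgroup Ω := H.map S.subtype

theorem mem_up {H : Subgroup S} {x : S} : (x : Ω) ∈ up H ↔ x ∈ H := by
  constructor
  · rintro ⟨y, hy, he⟩
    rwa [← S.subtype_injective he]
  · exact fun hx => ⟨x, hx, rfl⟩

theorem up_le (H : Subgroup S) : up H ≤ S := Subgroup.map_subtype_le H

theorem card_up (H : Subgroup S) : Nat.card (up H) = Nat.card H :=
  Subgroup.card_map_of_injective S.subtype_injective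

theorem up_zpowers (u : S) : up (Subgroup.zpowers u) = Subgroup.zpowers (u : Ω) := MonoidHom.map_zpowers _ _

theorem up_top : up (⊤ : Subgroup S) = S := by
  rw [up, ← MonoidHom.range_eq_map, Subgroup.range_subtype]

theorem up_subgroupOf {E : Subgroup Ω} (h : E ≤ S) : up (E.subgroupOf S) = E := by
  rw [up, Subgroup.map_subgroupOf_eq_of_le h]

theorem normalizerIn_up [Finite S] (H : Subgroup S) :
    normalizerIn S (up H) = up (Subgroup.normalizer (H : Set S)) := by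
  apply le_antisymm
  · rintro y ⟨hy, hyn⟩
    refine ⟨⟨y, hy⟩, CfsgLib.PGroup.MaxDeg.mem_normalizer_of_le fun e he => ?_, rfl⟩
    exact mem_up.1 ((Subgroup.mem_normalizer_iff.1 hyn _).1 (mem_up.2 he))
  · rintro _ ⟨y, hy, rfl⟩
    refine ⟨y.2, ?_⟩
    haveI := finite_of_le_base (up_le H)
    refine mem_normalizer_of_map_le ?_
    rintro _ ⟨e, he, rfl⟩
    exact ⟨y * e * y⁻¹, (Subgroup.mem_normalizer_iff.1 hy e).1 he, by simp⟩

variable [Finite S] {p : ℕ} [hpf : Fact p.Prime] {n : ℕ} {F : FusionSystem S}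

theorem isMC (hp : 5 ≤ p) (hn : Nat.card S = p ^ n) (h5 : 5 ≤ n)
    (hmax : Subgroup.lowerCentralSeries S (n - 2) ≠ ⊥) : IsMC S p n := by
  refine ⟨hp, h5, hn, fun h => hmax ?_⟩
  have := congrArg (Subgroup.map S.subtype) h
  rw [Subgroup.map_bot] at this
  rw [← this, Subgroup.map_lowerCentralSeries, ← MonoidHom.range_eq_map, Subgroup.range_subtype]

/-- The properties shared by all conjugates of the essential subgroup. -/
structure IsCube (F : FusionSystem S) (p : ℕ) (H : Subgroup S) : Prop where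
  card : Nat.card H = p ^ 3
  comm : ∀ a ∈ H, ∀ b ∈ H, a * b = b * a
  exp : ∀ a ∈ H, a ^ p = 1
  cent : Subgroup.centralizer (H : Set S) ≤ H
  normalizer : Nat.card (Subgroup.normalizer (H : Set S)) = p ^ 4

theorem cent_le {H : Subgroup S} (hc : centralizerIn S (up H) ≤ up H) :
    Subgroup.centralizer (H : Set S) ≤ H := fun x hx => mem_up.1 (hc (mem_centralizerIn.2 ⟨x.2, by
  rintro _ ⟨e, he, rfl⟩
  exact congrArg Subtype.val (Subgroup.mem_centralizer_iff.1 hx e he)⟩))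

/-- The transvection data on the essential subgroup itself. -/
theorem exists_datum (h : IsMC S p n) (hS : IsPGroup p S) (hF : F.IsSaturated p) {H : Subgroup S}
    (hE : F.IsEssential p (up H)) (hcard : Nat.card H = p ^ 3) (hcomm : ∀ a ∈ H, ∀ b ∈ H, a * b = b * a)
    (hexp : ∀ a ∈ H, a ^ p = 1) :
    IsCube F p H ∧ ∃ (K : Subgroup S) (f : Ω → Ω) (g u v w : S),
      Fn F (up (Subgroup.normalizer (H : Set S))) f ∧
      (∀ y ∈ up (Subgroup.normalizer (H : Set S)), f y ∈ up (Subgroup.normalizer (H : Set S))) ∧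
      (∀ y ∈ up (Subgroup.normalizer (H : Set S)), y⁻¹ * f y ∈ up H) ∧
      (g ∈ Subgroup.normalizer (H : Set S) ∧ g ∉ H) ∧
      (K ≤ H ∧ Nat.card K = p ^ 2 ∧ ∀ e ∈ H, (g * e = e * g ↔ e ∈ K)) ∧
      (u ∈ H ∧ u ∉ K) ∧ (v ∈ K ∧ v ≠ 1 ∧ ∃ x ∈ H, v = x⁻¹ * (g * x * g⁻¹)) ∧ (w ∈ K ∧ w ∉ Subgroup.zpowers v) ∧
      f u = (u : Ω)⁻¹ ∧ f v = (v : Ω)⁻¹ ∧ f w = w := by
  classical
  have hn := h.hn
  haveI := finite_of_le_base (up_le H)
  have hcent : Subgroup.centralizer (H : Set S) ≤ H := cent_le (centralizer_le_of_centric hE.1)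
  have hlt : H < ⊤ := lt_top_iff_ne_top.2 fun e => by
    rw [e, Subgroup.card_top, h.card] at hcard
    have := Nat.pow_right_injective hpf.out.two_le hcard
    omega
  have hN : normalizerIn S (up H) = up (Subgroup.normalizer (H : Set S)) := normalizerIn_up H
  obtain ⟨-, -, hinnN, Y₀, hY₀⟩ := id hE
  set A := F.autGroup (up H)
  have hinn : (Inn (up H)).subgroupOf A = ⊥ := by
    refine (Subgroup.eq_bot_iff_forall _).2 fun a ha => Subtype.ext ?_
    obtain ⟨e, he⟩ := Subgroup.mem_subgroupOf.1 ha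
    rw [← he]
    refine MulEquiv.ext fun x => Subtype.ext ?_
    obtain ⟨⟨e', he', hee⟩, ⟨x', hx', hxe⟩⟩ := And.intro e.2 x.2
    show (e : Ω) * x * (e : Ω)⁻¹ = x
    rw [← hee, ← hxe]
    exact congrArg Subtype.val (show e' * x' * e'⁻¹ = x' by rw [hcomm e' he' x' hx', mul_inv_cancel_right])
  let act : (A ⧸ (Inn (up H)).subgroupOf A) →* MulAut (up H) :=
    QuotientGroup.lift _ A.subtype fun a ha => by
      rw [hinn, Subgroup.mem_bot] at ha
      simp [ha]
  have hact : ∀ a : A, act (QuotientGroup.mk a) = (a : MulAut (up H)) := fun a => rfl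
  have hinj : Function.Injective act := by
    rintro ⟨a⟩ ⟨b⟩ he
    exact congrArg QuotientGroup.mk (Subtype.ext he : a = b)
  let ψ₀ : normalizerIn S (up H) →* A :=
    ((up H).normalizerMonoidHom.comp (Subgroup.inclusion inf_le_right)).codRestrict A fun y =>
      autInducedBy_le_autGroup (up_le H) (conjAut_mem_autInducedBy y.2.2 y.2.1)
  let ψ := (QuotientGroup.mk' ((Inn (up H)).subgroupOf A)).comp ψ₀
  have hψ : ∀ (y : normalizerIn S (up H)) (x : up H), ((act (ψ y) x : up H) : Ω) = (y : Ω) * x * (y : Ω)⁻¹ :=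
    fun y x => rfl
  have hP : IsPGroup p ψ.range := (hS.to_le normalizerIn_le).of_surjective ψ.rangeRestrict ψ.rangeRestrict_surjective
  have hker : Nat.card ψ.ker ≤ p ^ 3 := by
    rw [← hcard, ← card_up H]
    refine Nat.card_le_card_of_injective (fun y => (⟨((y : normalizerIn S (up H)) : Ω), ?_⟩ : up H)) fun a b hab =>
      Subtype.ext (Subtype.ext (congrArg Subtype.val hab :))
    refine centralizer_le_of_centric hE.1 (mem_centralizerIn.2 ⟨y.1.2.1, fun x hx => ?_⟩)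
    have := hψ y.1 ⟨x, hx⟩
    rw [MonoidHom.mem_ker.1 y.2, map_one, MulAut.one_apply] at this
    exact (mul_inv_eq_iff_eq_mul.1 this.symm).symm
  have hNle : Nat.card (Subgroup.normalizer (H : Set S)) ≤ p ^ 3 * Nat.card ψ.range := by
    rw [← card_up, ← hN]
    have := Subgroup.card_mul_index ψ.ker
    rw [Subgroup.index_ker] at this
    rw [← this]
    exact Nat.mul_le_mul_right _ hker
  have hVcard : Nat.card (up H) = p ^ 3 := by rw [card_up, hcard]
  have hVc : ∀ a b : up H, a * b = b * a := by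
    rintro ⟨_, a, ha, rfl⟩ ⟨_, b, hb, rfl⟩
    exact Subtype.ext (show (a : Ω) * b = b * a from congrArg Subtype.val (hcomm a ha b hb))
  have hVe : ∀ a : up H, a ^ p = 1 := by
    rintro ⟨_, a, ha, rfl⟩
    exact Subtype.ext (show (a : Ω) ^ p = 1 from congrArg Subtype.val (hexp a ha))
  -- the transvection attached to a kernel
  have hker' : ∀ (g : S) (hg : g ∈ Subgroup.normalizer (H : Set S)) (K : Subgroup S), g ∉ H → K ≤ H →
      Nat.card K = p ^ 2 → (∀ y ∈ Subgroup.normalizer (H : Set S), ∀ k ∈ K, y * k * y⁻¹ ∈ K) →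
      (∀ e ∈ H, (g * e = e * g ↔ e ∈ K)) →
      Nat.card ψ.range ≤ p ∧ ∃ (a : A) (u v w : S), (u ∈ H ∧ u ∉ K) ∧ (v ∈ K ∧ v ≠ 1 ∧ ∃ x ∈ H, v = x⁻¹ * (g * x * g⁻¹)) ∧
        (w ∈ K ∧ w ∉ Subgroup.zpowers v) ∧ autFn (a : MulAut (up H)) u = (u : Ω)⁻¹ ∧
        autFn (a : MulAut (up H)) v = (v : Ω)⁻¹ ∧ autFn (a : MulAut (up H)) w = w ∧
        ∀ y ∈ up (Subgroup.normalizer (H : Set S)), ∀ x ∈ up H,
          autFn (a : MulAut (up H)) (y * x * y⁻¹) = y * autFn (a : MulAut (up H)) x * y⁻¹ := by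
    intro g hg K hgH hKH hKc hKn hfix
    have hgN : (g : Ω) ∈ normalizerIn S (up H) := hN ▸ mem_up.2 hg
    set t := ψ ⟨g, hgN⟩ with ht
    let K' : Subgroup (up H) := (up K).subgroupOf (up H)
    have hK'c : Nat.card K' = p ^ 2 := by
      rw [Nat.card_congr (Subgroup.subgroupOfEquivOfLe (Subgroup.map_mono hKH)).toEquiv, card_up, hKc]
    have hfix' : ∀ x, act t x = x ↔ x ∈ K' := by
      rintro ⟨_, e, he, rfl⟩
      rw [Subgroup.mem_subgroupOf]
      show _ ↔ ((e : S) : Ω) ∈ up K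
      rw [mem_up, ← hfix e he, Subtype.ext_iff, hψ, ← mul_inv_eq_iff_eq_mul, ← Subtype.coe_inj]
      simp
    have hPK : ∀ y ∈ ψ.range, ∀ k ∈ K', act y k ∈ K' := by
      rintro _ ⟨⟨y, hy⟩, rfl⟩ ⟨k, hk⟩ hkK
      rw [Subgroup.mem_subgroupOf] at hkK ⊢
      rw [hψ]
      obtain ⟨y', hy', rfl⟩ := hN.le hy
      obtain ⟨k', hk', rfl⟩ := hkK
      exact ⟨y' * k' * y'⁻¹, hKn y' hy' k' hk', by simp⟩
    obtain ⟨hle, i, u, v, w, hu, hv, hw, hv1, hwv, ⟨x, hx⟩, hiu, hiv, hiw, hit⟩ :=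
      Fsys.Transvection.main hVcard hVc hVe act hinj hY₀ hP (t := t) ⟨_, rfl⟩ hK'c hfix' hPK
    obtain ⟨a, rfl⟩ := QuotientGroup.mk_surjective i
    obtain ⟨_, u', hu', rfl⟩ := u
    obtain ⟨_, v', hv', rfl⟩ := v
    obtain ⟨_, w', hw', rfl⟩ := w
    obtain ⟨_, x', hx', rfl⟩ := x
    rw [Subgroup.mem_subgroupOf] at hu hv hw
    have hgen : ∀ y ∈ ψ.range, y ∈ Subgroup.zpowers t := by
      have ht1 : t ≠ 1 := fun e => by
        have htop : K' = ⊤ := eq_top_iff.2 fun z _ => (hfix' z).1 (by rw [e, map_one, MulAut.one_apply])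
        rw [htop, Subgroup.card_top, hVcard] at hK'c
        have := Nat.pow_right_injective hpf.out.two_le hK'c
        omega
      have hle' : Subgroup.zpowers t ≤ ψ.range := Subgroup.zpowers_le.2 ⟨_, rfl⟩
      have hp' : p ≤ Nat.card (Subgroup.zpowers t) := by
        obtain ⟨j, hj⟩ := IsPGroup.iff_card.1 (hP.to_le hle')
        rw [hj]
        refine Nat.le_self_pow (fun e => ht1 ?_) p
        rw [e, pow_zero, Nat.card_zpowers, orderOf_eq_one_iff] at hj
        exact hj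
      exact fun y hy => (Subgroup.eq_of_le_of_card_ge hle' (hle.trans hp')).ge hy
    refine ⟨hle, a, u', v', w', ⟨hu', fun hh => hu (mem_up.2 hh)⟩, ⟨mem_up.1 hv, fun e => hv1 ?_, x', hx', ?_⟩,
      ⟨mem_up.1 hw, fun hh => hwv ?_⟩, ?_, ?_, ?_, fun y hy x hx => ?_⟩
    · subst e
      exact Subtype.ext rfl
    · refine Subtype.ext ?_
      have := congrArg Subtype.val hx
      rw [Subgroup.coe_mul, Subgroup.coe_inv, ht, hψ] at this
      exact this
    · obtain ⟨k, hk⟩ := Subgroup.mem_zpowers_iff.1 hh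
      exact Subgroup.mem_zpowers_iff.2 ⟨k, Subtype.ext (by simpa using congrArg Subtype.val hk)⟩
    · exact (autFn_coe _ (⟨(u' : Ω), mem_up.2 hu'⟩ : up H)).trans (congrArg Subtype.val hiu)
    · exact (autFn_coe _ (⟨(v' : Ω), mem_up.2 hv'⟩ : up H)).trans (congrArg Subtype.val hiv)
    · exact (autFn_coe _ (⟨(w' : Ω), mem_up.2 hw'⟩ : up H)).trans (congrArg Subtype.val hiw)
    · have hy' : y ∈ normalizerIn S (up H) := hN.ge hy
      obtain ⟨k, hk⟩ := Subgroup.mem_zpowers_iff.1 (hgen (ψ ⟨y, hy'⟩) ⟨_, rfl⟩)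
      have hc : QuotientGroup.mk a * ψ ⟨y, hy'⟩ = ψ ⟨y, hy'⟩ * QuotientGroup.mk a := by
        rw [← hk]
        exact ((show Commute _ t from hit).zpow_right k).eq
      have hyx : y * x * y⁻¹ ∈ up H := (Subgroup.mem_normalizer_iff.1 hy'.2 x).1 hx
      have e1 := congrArg Subtype.val (congrArg (fun j => act j ⟨x, hx⟩) hc)
      simp only [map_mul, MulAut.mul_apply, hact, hψ] at e1
      rw [show act (ψ ⟨y, hy'⟩) ⟨x, hx⟩ = ⟨y * x * y⁻¹, hyx⟩ from Subtype.ext (hψ _ _)] at e1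
      exact (autFn_coe _ (⟨_, hyx⟩ : up H)).trans (e1.trans (by rw [← autFn_coe]))
  -- the normalizer
  have hN4 : Nat.card (Subgroup.normalizer (H : Set S)) = p ^ 4 := by
    refine le_antisymm ?_ ?_
    · by_cases hbig : ¬ L S (n - 2) ≤ H ∨ ¬ Subgroup.normalizer (H : Set S) ⊓ C S (n - 2) ≤ H
      · obtain ⟨g, hg, hgH, K, hKH, hKc, hKn, hfix⟩ := h.exists_kernel hcard hcomm hcent hbig
        rw [pow_succ p 3]
        exact hNle.trans (Nat.mul_le_mul_left _ (hker' g hg K hgH hKH hKc hKn hfix).1)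
      · simp only [not_or, not_not] at hbig
        have h1 := Subgroup.card_mul_index ((C S (n - 2)).subgroupOf (Subgroup.normalizer (H : Set S)))
        rw [← h1, pow_succ p 3]
        refine Nat.mul_le_mul ?_ (Nat.le_of_dvd hpf.out.pos ?_)
        · rw [← hcard, ← Subgroup.inf_subgroupOf_left, Nat.card_congr (Subgroup.subgroupOfEquivOfLe inf_le_left).toEquiv]
          exact Subgroup.card_le_of_le hbig.2
        · have := Subgroup.relIndex_dvd_index_of_normal (C S (n - 2)) (Subgroup.normalizer (H : Set S))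
          rwa [h.index_C (by omega) le_rfl] at this
    · haveI := h.isPGroup.isNilpotent
      have := Fusion.MaxClass.card_mul_le_of_lt h.isPGroup (normalizerCondition_of_isNilpotent H hlt)
      rwa [hcard, ← pow_succ'] at this
  have hbig : ¬ L S (n - 2) ≤ H ∨ ¬ Subgroup.normalizer (H : Set S) ⊓ C S (n - 2) ≤ H := by
    refine or_iff_not_imp_left.2 fun hZ hle => ?_
    obtain ⟨hNC, h3, h3'⟩ := h.second_case hcard hcomm hcent hN4 (not_not.1 hZ)
    exact h3 (h3'.trans ((le_inf le_rfl hNC).trans hle))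
  refine ⟨⟨hcard, hcomm, hexp, hcent, hN4⟩, ?_⟩
  obtain ⟨g, hg, hgH, K, hKH, hKc, hKn, hfix⟩ := h.exists_kernel hcard hcomm hcent hbig
  obtain ⟨-, a, u, v, w, hu, hv, hw, hau, hav, haw, hac⟩ := hker' g hg K hgH hKH hKc hKn hfix
  have hfa := (mem_autGroup_iff_fn (up_le H)).1 a.2
  obtain ⟨N', f, hf, hHN', hN', hfe⟩ :=
    receptive_extend (fullyNormalized_receptive hS hF hE.2.1) hfa (img_autFn _)
  have hle : up (Subgroup.normalizer (H : Set S)) ≤ N' := fun y hy =>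
    (hN' y).2 ⟨(hN.ge hy).1, (hN.ge hy).2, y, (hN.ge hy).1, fun x hx => hac y hy x hx⟩
  have hfN : ∀ y ∈ up (Subgroup.normalizer (H : Set S)), f y ∈ up (Subgroup.normalizer (H : Set S)) := fun y hy =>
    hN.le (hf.map_normalizer hHN' ((img_congr hfe).trans (img_autFn _)) (hle hy) (hN.ge hy).2)
  refine ⟨K, f, g, u, v, w, hf.mono hle, hfN, fun y hy => ?_, ⟨hg, hgH⟩, ⟨hKH, hKc, hfix⟩, hu, hv, hw,
    (hfe _ (mem_up.2 hu.1)).trans hau, (hfe _ (mem_up.2 (hKH hv.1))).trans hav,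
    (hfe _ (mem_up.2 (hKH hw.1))).trans haw⟩
  refine centralizer_le_of_centric hE.1 (mem_centralizerIn.2 ⟨S.mul_mem (S.inv_mem (hN.ge hy).1) (up_le _ (hfN y hy)), fun x hx => ?_⟩)
  obtain ⟨x₀, hx₀, rfl⟩ : ∃ x₀ ∈ up H, f x₀ = x := by
    refine ⟨autFn ((a : MulAut (up H))⁻¹) x, autFn_mem _ hx, ?_⟩
    rw [hfe _ (autFn_mem _ hx), autFn_apply_inv _ hx]
  have h1 := hac y hy x₀ hx₀
  rw [← hfe _ hx₀, ← hfe _ ((Subgroup.mem_normalizer_iff.1 (hN.ge hy).2 x₀).1 hx₀),
    hf.map_conj (hle hy) (hHN' hx₀)] at h1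
  symm
  calc y⁻¹ * f y * f x₀ = y⁻¹ * (f y * f x₀ * (f y)⁻¹) * f y := by group
    _ = f x₀ * (y⁻¹ * f y) := by rw [h1]; group

/-- Every conjugate of the essential subgroup has the same properties. -/
theorem isCube_of_conj (h : IsMC S p n) {H₀ H : Subgroup S} (hc : IsCube F p H₀) (hcen : F.IsCentric (up H₀))
    (hfn : F.IsFullyNormalized (up H₀)) (hconj : F.IsConj (up H₀) (up H)) : IsCube F p H := by
  obtain ⟨φ, hφ, himg⟩ := isConj_iff.1 hconj
  have hcard : Nat.card H = p ^ 3 := by rw [← card_up, ← himg, hφ.card_img, card_up, hc.card]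
  have hpre : ∀ a ∈ H, ∃ a₀ ∈ H₀, φ (a₀ : Ω) = (a : Ω) := fun a ha => by
    obtain ⟨_, ⟨a₀, ha₀, rfl⟩, he⟩ := hφ.mem_img.1 (himg.ge (mem_up.2 ha))
    exact ⟨a₀, ha₀, he⟩
  refine ⟨hcard, fun a ha b hb => ?_, fun a ha => ?_, cent_le (hcen.2 _ hconj), ?_⟩
  · obtain ⟨a₀, ha₀, hae⟩ := hpre a ha
    obtain ⟨b₀, hb₀, hbe⟩ := hpre b hb
    refine Subtype.ext ?_
    rw [Subgroup.coe_mul, Subgroup.coe_mul, ← hae, ← hbe, ← hφ.map_mul (mem_up.2 ha₀) (mem_up.2 hb₀),
      ← hφ.map_mul (mem_up.2 hb₀) (mem_up.2 ha₀), ← Subgroup.coe_mul, hc.comm a₀ ha₀ b₀ hb₀, Subgroup.coe_mul]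
  · obtain ⟨a₀, ha₀, hae⟩ := hpre a ha
    have hpw : ∀ k : ℕ, φ ((a₀ : Ω) ^ k) = φ a₀ ^ k := fun k => by
      induction k with
      | zero => simp [hφ.map_one]
      | succ k ih => rw [pow_succ, hφ.map_mul ((up H₀).pow_mem (mem_up.2 ha₀) k) (mem_up.2 ha₀), ih, pow_succ]
    refine Subtype.ext ?_
    rw [SubgroupClass.coe_pow, ← hae, ← hpw, ← SubgroupClass.coe_pow, hc.exp a₀ ha₀, Subgroup.coe_one, hφ.map_one]
  · refine le_antisymm ?_ ?_
    · have := hfn.2 _ hconj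
      rwa [normalizerIn_up, normalizerIn_up, card_up, card_up, hc.normalizer] at this
    · haveI := h.isPGroup.isNilpotent
      have hlt : H < ⊤ := lt_top_iff_ne_top.2 fun e => by
        rw [e, Subgroup.card_top, h.card] at hcard
        have := Nat.pow_right_injective hpf.out.two_le hcard
        have := h.hn
        omega
      have := Fusion.MaxClass.card_mul_le_of_lt h.isPGroup (normalizerCondition_of_isNilpotent H hlt)
      rwa [hcard, ← pow_succ'] at this

end CfsgLib.Fsys.MaxCube
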