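import Cfsg.Agent.Lib.FusionSystem.MaxClassEssentialData

/-! Tools for extending an involution along the normalizer tower of a small essential subgroup. -/

set_option autoImplicit false
set_option linter.unusedSectionVars false

open Cfsg Cfsg.FusionSystem
open scoped commutatorElement
open CfsgLib.PGroup.MaxDeg

namespace CfsgLib.Fsys.MaxCube

variable {Ω : Type*} [Group Ω] {S : Subgroup Ω} [Finite S] {p : ℕ} [hpf : Fact p.Prime] {n : ℕ} {F : FusionSystem S}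

theorem coe_comm (y x : S) : ((⁅y, x⁆ : S) : Ω) = ⁅(y : Ω), (x : Ω)⁆ := by
  simp [commutatorElement_def]

omit [Finite S] in
theorem shift_mem {G : Type*} [Group G] {N : Subgroup G} [N.Normal] {x y : G} (h : ⁅y, x⁆ ∈ N) :
    x⁻¹ * (y * x * y⁻¹) ∈ N := by
  have := ‹N.Normal›.conj_mem _ h x⁻¹
  simpa [commutatorElement_def, mul_assoc] using this

omit [Finite S] in
theorem comm_swap {G : Type*} [Group G] {N : Subgroup G} {x y : G} (h : ⁅y, x⁆ ∈ N) : ⁅x, y⁆ ∈ N := by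
  rw [← commutatorElement_inv]
  exact N.inv_mem h

/-- A map as a function on `S`. -/
noncomputable def fS (f : Ω → Ω) (x : S) : S :=
  open Classical in if h : f x ∈ S then ⟨f x, h⟩ else 1

theorem coe_fS {P : Subgroup Ω} {f : Ω → Ω} (hf : Fn F P f) {x : S} (hx : (x : Ω) ∈ P) : (fS f x : Ω) = f x := by
  rw [fS, dif_pos (hf.mem hx)]

theorem fS_mem {P : Subgroup Ω} {f : Ω → Ω} (hf : Fn F P f) {x : S} (hx : (x : Ω) ∈ P) {B : Subgroup S}
    (h : f x ∈ up B) : fS f x ∈ B := mem_up.1 (by rw [coe_fS hf hx]; exact h)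

theorem map_mem_of_gen {P A T : Subgroup Ω} {f : Ω → Ω} (hf : Fn F P f) {X Y : Subgroup Ω} (hA : A ≤ X ⊔ Y)
    (hXP : X ≤ P) (hYP : Y ≤ P) (hX : ∀ x ∈ X, f x ∈ T) (hY : ∀ x ∈ Y, f x ∈ T) : ∀ x ∈ A, f x ∈ T := by
  let R : Subgroup Ω :=
    { carrier := {x | x ∈ P ∧ f x ∈ T}
      one_mem' := ⟨P.one_mem, by rw [hf.map_one]; exact T.one_mem⟩
      mul_mem' := fun {a b} ha hb => ⟨P.mul_mem ha.1 hb.1, by rw [hf.map_mul ha.1 hb.1]; exact T.mul_mem ha.2 hb.2⟩
      inv_mem' := fun {a} ha => ⟨P.inv_mem ha.1, by rw [hf.map_inv ha.1]; exact T.inv_mem ha.2⟩ }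
  have hle : X ⊔ Y ≤ R := sup_le (fun x hx => ⟨hXP hx, hX x hx⟩) fun y hy => ⟨hYP hy, hY y hy⟩
  exact fun x hx => (hle (hA hx)).2

theorem map_zpow {P : Subgroup Ω} {f : Ω → Ω} (hf : Fn F P f) {x : Ω} (hx : x ∈ P) (k : ℤ) :
    f (x ^ k) = f x ^ k := by
  let φ : P →* Ω := MonoidHom.mk' (fun a => f a) fun a b => hf.map_mul a.2 b.2
  exact _root_.map_zpow φ ⟨x, hx⟩ k

theorem map_mem_zpowers {P : Subgroup Ω} {f : Ω → Ω} (hf : Fn F P f) {v : Ω} (hv : v ∈ P) {T : Subgroup Ω}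
    (hfv : f v ∈ T) : ∀ x ∈ Subgroup.zpowers v, f x ∈ T := by
  rintro _ ⟨k, rfl⟩
  show f (v ^ k) ∈ T
  rw [map_zpow hf hv]
  exact T.zpow_mem hfv k

/-- The line lemma inside `S`. -/
theorem line {M A B D : Subgroup S} (hA : F.IsFullyNormalized (up A))
    (hAlt : Nat.card (Subgroup.normalizer (A : Set S)) < Nat.card S) [B.Normal] (hBM : B ≤ M) (hDA : D ≤ A)
    (hDB : D ≤ B) (hcard : Nat.card B ≤ Nat.card A) (hDn : ∀ x ∈ M, ∀ d ∈ D, x * d * x⁻¹ ∈ D) {a y : S}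
    (ha : a ∈ A) (haM : a ∈ M) (hap : a ^ p = 1) (hM : M ≤ Subgroup.zpowers a ⊔ B)
    (hyD : ∀ d ∈ D, y * d * y⁻¹ ∈ D) (hb0 : ⁅y, a⁆ ∈ B) (hB : B ≤ Subgroup.zpowers ⁅y, a⁆ ⊔ D)
    (hyB : ∀ b ∈ B, ⁅y, b⁆ ∈ D) (hab : ∀ b ∈ B, ⁅a, b⁆ ∈ D) (hA' : A ≤ Subgroup.zpowers a ⊔ D)
    {f : Ω → Ω} (hf : Fn F (up M) f) (hfM : ∀ x ∈ up M, f x ∈ up M) (hfD : ∀ d ∈ up D, f d ∈ up D) :
    ∀ b ∈ up B, f b ∈ up B := by
  have hmono : ∀ {X Y : Subgroup S} {z : S}, X ≤ Subgroup.zpowers z ⊔ Y → up X ≤ Subgroup.zpowers (z : Ω) ⊔ up Y :=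
    fun {X Y z} h => (Subgroup.map_mono h).trans (by rw [Subgroup.map_sup, MonoidHom.map_zpowers]; rfl)
  refine map_mem_of_line (p := p) (A := up A) (D := up D) (a := (a : Ω)) (y := (y : Ω)) (up_le M) hA
    (by rwa [normalizerIn_up, card_up]) ?_ (Subgroup.map_mono hBM) (Subgroup.map_mono hDA) (Subgroup.map_mono hDB)
    (by rwa [card_up, card_up]) ?_ (mem_up.2 ha) (mem_up.2 haM) (congrArg Subtype.val hap) (hmono hM) y.2 ?_ ?_ ?_ ?_ ?_
    (hmono hA') hf hfM hfD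
  · rintro s hs _ ⟨b, hb, rfl⟩
    exact ⟨⟨s, hs⟩ * b * ⟨s, hs⟩⁻¹, ‹B.Normal›.conj_mem b hb _, by simp⟩
  · rintro _ ⟨x, hx, rfl⟩ _ ⟨d, hd, rfl⟩
    exact ⟨x * d * x⁻¹, hDn x hx d hd, by simp⟩
  · rintro _ ⟨d, hd, rfl⟩
    exact ⟨y * d * y⁻¹, hyD d hd, by simp⟩
  · rw [← coe_comm]
    exact mem_up.2 hb0
  · rw [← coe_comm]
    exact hmono hB
  · rintro _ ⟨b, hb, rfl⟩
    rw [Subgroup.coe_subtype, ← coe_comm]
    exact mem_up.2 (hyB b hb)
  · rintro _ ⟨b, hb, rfl⟩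
    rw [Subgroup.coe_subtype, ← coe_comm]
    exact mem_up.2 (hab b hb)

/-- Extension along a chain inside `S`. -/
theorem extend (hS : IsPGroup p S) (hF : F.IsSaturated p) {M : Subgroup S} (hM : F.IsFullyNormalized (up M))
    {f : Ω → Ω} (hf : Fn F (up M) f) (D : ℕ → Subgroup S) (m : ℕ) (h0 : D 0 = M) (hm : D m = ⊥)
    (hinv : ∀ k, k ≤ m → ∀ x ∈ up (D k), f x ∈ up (D k)) (hle : ∀ k, D k ≤ M)
    (hstep : ∀ y ∈ Subgroup.normalizer (M : Set S), ∀ k, k < m → ∀ x ∈ D k, x⁻¹ * (y * x * y⁻¹) ∈ D (k + 1))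
    (hanti : ∀ k, k < m → D (k + 1) ≤ D k) :
    ∃ g : Ω → Ω, Fn F (up (Subgroup.normalizer (M : Set S))) g ∧
      (∀ y ∈ up (Subgroup.normalizer (M : Set S)), g y ∈ up (Subgroup.normalizer (M : Set S))) ∧
      ∀ x ∈ up M, g x = f x := by
  rw [← normalizerIn_up]
  refine extend_chain hS hF hM hf (fun x hx => ?_) (fun k => up (D k)) m (by rw [h0]) (by rw [hm, up, Subgroup.map_bot])
    (fun k => Subgroup.map_mono (hle k)) hinv ?_ fun k hk => Subgroup.map_mono (hanti k hk)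
  · have := hinv 0 (Nat.zero_le m) x (by rwa [h0])
    rwa [h0] at this
  · intro y hy k hk x hx
    rw [normalizerIn_up] at hy
    obtain ⟨y', hy', rfl⟩ := hy
    obtain ⟨x', hx', rfl⟩ := hx
    exact ⟨x'⁻¹ * (y' * x' * y'⁻¹), hstep y' hy' k hk x' hx', by simp⟩

/-- Normalizers of conjugates in the tower are bounded. -/
theorem card_normalizer_conj (h : IsMC S p n) {H₀ : Subgroup S} (hc : IsCube F p H₀) (hcen : F.IsCentric (up H₀))
    (hfn : F.IsFullyNormalized (up H₀)) (T : ℕ → Subgroup S) (hT2 : T 2 = H₀) {i : ℕ} (hi : 3 ≤ i) (hin : i ≤ n - 3)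
    (hTm : ∀ j, 2 ≤ j → j < i → T j ≤ T (j + 1) ∧ T (j + 1) ≤ Subgroup.normalizer (T j : Set S))
    (hTc : ∀ j, 2 ≤ j → j ≤ i → Nat.card (T j) = p ^ (j + 1))
    (hTn : Nat.card (Subgroup.normalizer (T i : Set S)) = p ^ (i + 2)) : F.IsFullyNormalized (up (T i)) := by
  have := h.hn
  refine ⟨up_le _, fun Q hQ => ?_⟩
  rw [normalizerIn_up (T i), card_up, hTn]
  obtain ⟨φ, hφ, rfl⟩ := isConj_iff.1 hQ
  have hmono : ∀ j, 2 ≤ j → j ≤ i → up (T j) ≤ up (T i) := fun j hj hji => by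
    have hd : ∀ d, j + d ≤ i → up (T j) ≤ up (T (j + d)) := by
      intro d
      induction d with
      | zero => intro _; exact le_rfl
      | succ d ih =>
        intro hd
        exact (ih (by omega)).trans (Subgroup.map_mono (hTm (j + d) (by omega) (by omega)).1)
    simpa [Nat.add_sub_cancel' hji] using hd (i - j) (by omega)
  let I : ℕ → Subgroup S := fun j => (img φ (up (T j))).subgroupOf S
  have hI : ∀ j, 2 ≤ j → j ≤ i → up (I j) = img φ (up (T j)) := fun j hj hji =>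
    up_subgroupOf ((hφ.mono (hmono j hj hji)).img_le_base)
  have hIc : ∀ j, 2 ≤ j → j ≤ i → Nat.card (I j) = p ^ (j + 1) := fun j hj hji => by
    rw [← card_up, hI j hj hji, (hφ.mono (hmono j hj hji)).card_img, card_up, hTc j hj hji]
  have hIn : ∀ j, 2 ≤ j → j < i → I (j + 1) ≤ Subgroup.normalizer (I j : Set S) := fun j hj hji x hx => by
    refine mem_normalizer_of_le fun e he => mem_up.1 ?_
    obtain ⟨x₀, hx₀, hxe⟩ := (hφ.mono (hmono (j + 1) (by omega) hji)).mem_img.1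
      ((hI (j + 1) (by omega) hji).le (mem_up.2 hx))
    obtain ⟨e₀, he₀, hee⟩ := (hφ.mono (hmono j hj hji.le)).mem_img.1 ((hI j hj hji.le).le (mem_up.2 he))
    rw [hI j hj hji.le, Subgroup.coe_mul, Subgroup.coe_mul, Subgroup.coe_inv, ← hxe, ← hee,
      ← hφ.map_conj (hmono _ (by omega) hji hx₀) (hmono _ hj hji.le he₀)]
    refine mem_img_of_mem ?_
    obtain ⟨x₁, hx₁, rfl⟩ := hx₀
    obtain ⟨e₁, he₁, rfl⟩ := he₀
    exact ⟨x₁ * e₁ * x₁⁻¹, (Subgroup.mem_normalizer_iff.1 ((hTm j hj hji).2 hx₁) e₁).1 he₁, by simp⟩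
  rw [← hI i (by omega) le_rfl, normalizerIn_up, card_up]
  have hcube : IsCube F p (I 2) := isCube_of_conj h hc hcen hfn (by
    rw [hI 2 le_rfl (by omega), ← hT2]
    exact isConj_of_fn (hφ.mono (hmono 2 le_rfl (by omega))))
  rcases h.shape hcube.card hcube.comm hcube.cent hcube.normalizer hcube.exp with
    ⟨h5, -⟩ | ⟨-, -, hZ, hIC, hI1, -⟩ | ⟨h6, hI1, hZ, -, hN, hN1, -⟩
  · omega
  · obtain ⟨u, hu, hu1⟩ := SetLike.not_le_iff_exists.1 hI1
    have hup := hcube.exp u hu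
    have hbase : I 2 = IsMC.M u n 2 := (Subgroup.eq_of_le_of_card_ge (sup_le (Subgroup.zpowers_le.2 hu) hZ)
      (hcube.card.trans (h.card_M hu1 hup (by omega : 2 ≤ n - 2)).symm).le).symm
    have hall : ∀ j, 2 ≤ j → j ≤ i → I j = IsMC.M u n j := by
      intro j hj
      induction j, hj using Nat.le_induction with
      | base => intro _; exact hbase
      | succ j hj ih =>
        intro hji
        refine Subgroup.eq_of_le_of_card_ge ?_ (by rw [hIc _ (by omega) hji, h.card_M hu1 hup (by omega)])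
        have := hIn j hj (by omega)
        rwa [ih (by omega), h.normalizer_M (hIC hu) hu1 hup hj (by omega)] at this
    rw [hall i (by omega) le_rfl, h.normalizer_M (hIC hu) hu1 hup (by omega) hin, h.card_M hu1 hup (by omega)]
  · obtain rfl : i = 3 := by omega
    have hI3 : I 3 = Subgroup.normalizer (I 2 : Set S) := Subgroup.eq_of_le_of_card_ge (hIn 2 le_rfl (by omega))
      (by rw [hcube.normalizer, hIc 3 (by omega) le_rfl])
    have hne : Subgroup.normalizer (I 3 : Set S) ≠ ⊤ := fun htop => by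
      haveI : (I 3).Normal := Subgroup.normalizer_eq_top_iff.1 htop
      obtain ⟨u, hu, huC⟩ := SetLike.not_le_iff_exists.1 (h.not_le_C_of_not_le hcube.card hcube.comm hcube.cent hZ)
      obtain ⟨s, hs1, -, -⟩ := h.exists_avoid h.index_one h.index_one h.index_one
      have hu2 : u ∉ L S 2 := fun hh => huC (L_two_le_C (by omega) hh)
      have hlt : I 3 ⊓ L S 2 < I 3 := inf_lt_left.2 fun hle => hu2 (hle (hI3.ge (Subgroup.le_normalizer hu)))
      have h1 := Fusion.MaxClass.card_mul_le_of_lt h.isPGroup hlt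
      rw [hIc 3 (by omega) le_rfl, pow_succ' p 3] at h1
      have h3 : L S 3 ≤ I 3 ⊓ L S 2 := le_inf (by
        rw [hI3, hN, show n - 3 = 3 by omega]; exact le_sup_right) (L_anti (by omega))
      have heq : L S 3 = I 3 ⊓ L S 2 := Subgroup.eq_of_le_of_card_ge h3 (by
        rw [h.card_L (by omega) (by omega), show n - 3 = 3 by omega]
        exact Nat.le_of_mul_le_mul_left h1 hpf.out.pos)
      refine h.comm_notMem_three h.index_one (L_le_one (by omega)) hs1 (hI1 hu) hu2 (heq.ge ⟨?_, ?_⟩)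
      · have hu3 := hI3.ge (Subgroup.le_normalizer hu)
        rw [commutatorElement_def]
        exact (I 3).mul_mem (‹(I 3).Normal›.conj_mem u hu3 s) ((I 3).inv_mem hu3)
      · rw [L_two, commutator_def]
        exact Subgroup.commutator_mem_commutator (Subgroup.mem_top s) (Subgroup.mem_top u)
    have := Fusion.MaxClass.card_mul_le_of_lt h.isPGroup (lt_top_iff_ne_top.2 hne)
    rw [Subgroup.card_top, h.card, show n = 3 + 2 + 1 by omega, pow_succ' p (3 + 2)] at this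
    exact Nat.le_of_mul_le_mul_left this hpf.out.pos

/-- From an invariant series in `S₁` to an automorphism of `S`. -/
theorem exists_aut (h : IsMC S p n) (hS : IsPGroup p S) (hF : F.IsSaturated p) {f : Ω → Ω} (hf : Fn F (up (L S 1)) f)
    (hinv : ∀ k, 1 ≤ k → ∀ x ∈ up (L S k), f x ∈ up (L S k)) :
    ∃ T : MulAut S, ∀ x ∈ L S 1, ((T x : S) : Ω) = f x := by
  have := h.hn
  have htop : Subgroup.normalizer (L S 1 : Set S) = ⊤ := Subgroup.normalizer_eq_top_iff.2 (L_normal 1)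
  have hfn : F.IsFullyNormalized (up (L S 1)) := ⟨up_le _, fun Q _ => by
    rw [normalizerIn_up (L S 1), htop, up_top]
    exact Subgroup.card_le_of_le normalizerIn_le⟩
  obtain ⟨g, hg, hgm, hge⟩ := extend hS hF hfn hf (fun k => L S (k + 1)) (n - 1) rfl
    (h.L_bot (by omega)) (fun k _ => hinv (k + 1) (by omega)) (fun k => L_le_one (by omega))
    (fun y _ k _ x hx => shift_mem (step (by omega) hx y)) fun k _ => L_anti (by omega)
  rw [htop, up_top] at hg hgm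
  let e : S →* S := MonoidHom.mk' (fun x => ⟨g x, hgm x x.2⟩) fun a b => Subtype.ext (hg.map_mul a.2 b.2)
  have he : Function.Bijective e := Finite.injective_iff_bijective.1 fun a b hab =>
    Subtype.ext (hg.inj a.2 b.2 (congrArg Subtype.val hab))
  exact ⟨MulEquiv.ofBijective e he, fun x hx => hge _ (mem_up.2 hx)⟩

end CfsgLib.Fsys.MaxCube
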