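import Cfsg.Agent.Lib.FusionSystem.Supersoluble
import Cfsg.Agent.Lib.MetacyclicOdd.Lattice
import Cfsg.Agent.Lib.PGroup.FrattiniAct
import Cfsg.Agent.Lib.LocalEvenB.OrderPCubed
import Cfsg.Agent.Lib.FusionSystem.FactorSaturated
import Cfsg.Agent.Lib.FusionSystem.Group
import Cfsg.Agent.Lib.FusionSystem.MetacyclicRealization

/-!
Supersoluble type of metacyclic `p`-groups: automorphisms of order prime to `p` of nonabelian ones of odd order,
and the obstruction given by a triality of a Sylow `2`-subgroup.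
-/

set_option autoImplicit false
set_option linter.style.haveILetI false
set_option linter.unusedSectionVars false

open scoped commutatorElement

namespace CfsgLib.Fsys.MetacyclicSupersoluble

variable {Ω : Type*} [Group Ω] {S : Subgroup Ω} [Finite S] {p : ℕ} [hp : Fact p.Prime]

/-- Automorphisms preserving a line of a two-dimensional Frattini quotient. -/
theorem aut_of_line (hS : IsPGroup p S) (M : Subgroup S) (hM : ∀ α : MulAut S, ∀ x ∈ M, α x ∈ M)
    (hMidx : M.index ≤ p) (hΦM : frattini S ≤ M) (hΦidx : (frattini S).relIndex M ≤ p)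
    (H : Subgroup (MulAut S)) (hcop : (Nat.card H).Coprime p) :
    IsMulCommutative H ∧ ∀ h ∈ H, h ^ (p - 1) = 1 := by
  haveI : M.Normal := ⟨fun x hx g => hM (MulAut.conj g) x hx⟩
  have hMΦ : ∀ α : MulAut S, ∀ x ∈ frattini S, α x ∈ frattini S := fun α x hx =>
    (Subgroup.characteristic_iff_map_le.mp frattini_characteristic α) ⟨x, hx, rfl⟩
  have hcop' : ∀ h ∈ H, (orderOf h).Coprime p := fun h hh =>
    Nat.Coprime.coprime_dvd_left (Subgroup.orderOf_dvd_natCard H hh) hcop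
  have hsc := fun α : MulAut S => And.intro
    (Supersoluble.scalar (hp := hp) hS (K := M) (L := ⊤) (by rw [Subgroup.relIndex_top_right]; exact hMidx) α
      (hM α) (fun _ _ => Subgroup.mem_top _))
    (Supersoluble.scalar (hp := hp) hS (K := frattini S) (L := M) hΦidx α (hMΦ α) (hM α))
  -- an element acting trivially on both steps is trivial
  have key : ∀ w ∈ H, (∀ x : S, ((w x : S) : S ⧸ M) = x) →
      (∀ x ∈ M, ((w x : S) : S ⧸ frattini S) = x) → w = 1 := by
    intro w hw h1 h2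
    have hq : (orderOf (PGroup.FrattiniAct.quot w)).Coprime p :=
      Nat.Coprime.coprime_dvd_left (orderOf_map_dvd PGroup.FrattiniAct.quot w) (hcop' w hw)
    refine PGroup.FrattiniAct.eq_one_of_quot hS (hcop' w hw) (MulEquiv.ext fun v => ?_)
    obtain ⟨x, rfl⟩ := QuotientGroup.mk_surjective v
    refine fixed_of_fixed_shift (hS.to_quotient _) hq ?_
    rw [PGroup.FrattiniAct.quot_mk, ← QuotientGroup.mk_inv, ← QuotientGroup.mk_mul, PGroup.FrattiniAct.quot_mk]
    exact h2 _ (QuotientGroup.eq.1 (h1 x).symm)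
  refine ⟨⟨⟨fun a b => Subtype.ext ?_⟩⟩, fun a ha => ?_⟩
  · have heq : ∀ {K L : Subgroup S} [K.Normal], (∀ α : MulAut S, ∃ r : ℤ,
        ∀ v ∈ L, (α v : S ⧸ K) = (v : S ⧸ K) ^ r) → (∀ α : MulAut S, ∀ v ∈ L, α v ∈ L) →
        ∀ x ∈ L, ((((a * b * (b * a)⁻¹ : H) : MulAut S) x : S) : S ⧸ K) = x := by
      intro K L _ hr hL x hx
      obtain ⟨r, hr1⟩ := hr (a : MulAut S)
      obtain ⟨r', hr2⟩ := hr (b : MulAut S)
      set w := ((b * a : H) : MulAut S)⁻¹ x with hw
      have hwL : w ∈ L := hL _ x hx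
      have hxw : (b : MulAut S) ((a : MulAut S) w) = x := by
        rw [← MulAut.mul_apply, ← Subgroup.coe_mul]; exact MulAut.apply_inv_self _ _ _
      show (((a : MulAut S) ((b : MulAut S) w) : S) : S ⧸ K) = x
      rw [hr1 _ (hL _ w hwL), hr2 _ hwL]
      conv_rhs => rw [← hxw, hr2 _ (hL _ w hwL), hr1 _ hwL]
      rw [← zpow_mul, ← zpow_mul, mul_comm]
    rw [← mul_inv_eq_one]
    refine key _ (H.mul_mem (a * b).2 (H.inv_mem (b * a).2)) (fun x => ?_) (fun x hx => ?_)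
    · exact heq (L := ⊤) (fun α => (hsc α).1.imp fun r h => h.1) (fun _ _ _ => Subgroup.mem_top _) x trivial
    · exact heq (fun α => (hsc α).2.imp fun r h => h.1) hM x hx
  · have hiter : ∀ {K L : Subgroup S} [K.Normal] {r : ℤ}, (∀ v ∈ L, (a v : S ⧸ K) = (v : S ⧸ K) ^ r) →
        (∀ α : MulAut S, ∀ v ∈ L, α v ∈ L) → ∀ x ∈ L, ∀ m : ℕ,
        ((((a ^ m) x : S) : S ⧸ K) = (x : S ⧸ K) ^ (r ^ m)) := by
      intro K L _ r hr hL x hx m
      induction m with
      | zero => simp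
      | succ m ih => rw [pow_succ', MulAut.mul_apply, hr _ (hL _ x hx), ih, ← zpow_mul, ← pow_succ]
    obtain ⟨⟨r, hr, hr1⟩, ⟨r', hr', hr'1⟩⟩ := hsc a
    refine key _ (H.pow_mem ha _) (fun x => ?_) (fun x hx => ?_)
    · exact (hiter (K := M) (L := ⊤) hr (fun _ _ _ => Subgroup.mem_top _) x trivial _).trans (hr1 x trivial)
    · exact (hiter (K := frattini S) hr' hM x hx _).trans (hr'1 x hx)

/-- A nonabelian metacyclic `p`-group, `p` odd, has a characteristic maximal subgroup. -/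
theorem exists_line (hS : IsPGroup p S) (hp2 : p ≠ 2) (hm : Cfsg.IsMetacyclic S)
    (hna : ¬ IsMulCommutative S) :
    ∃ M : Subgroup S, (∀ α : MulAut S, ∀ x ∈ M, α x ∈ M) ∧ M.index ≤ p ∧ frattini S ≤ M ∧
      (frattini S).relIndex M ≤ p := by
  obtain ⟨D⟩ := MetacyclicOdd.data_of_metacyclic hS hm
  have hn : 1 ≤ D.n := Nat.pos_of_ne_zero fun h => hna ((D.n_eq_zero_iff hp2).1 h)
  have hΦexp : ∀ v : S ⧸ frattini S, v ^ p = 1 := PGroup.Frattini.quotient_pow_eq_one hS
  have hΦidx : (frattini S).index ≤ p ^ 2 := by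
    let f : Fin p × Fin p → S ⧸ frattini S := fun v =>
      ((D.a : S) : S ⧸ frattini S) ^ (v.1 : ℕ) * (D.b : S ⧸ frattini S) ^ (v.2 : ℕ)
    have hf : Function.Surjective f := fun q => by
      obtain ⟨g, rfl⟩ := QuotientGroup.mk_surjective q
      obtain ⟨i, j, rfl⟩ := D.gen g
      refine ⟨(⟨i % p, Nat.mod_lt _ hp.out.pos⟩, ⟨j % p, Nat.mod_lt _ hp.out.pos⟩), ?_⟩
      show _ ^ (i % p) * _ ^ (j % p) = _
      rw [QuotientGroup.mk_mul, QuotientGroup.mk_pow, QuotientGroup.mk_pow, ← pow_eq_pow_mod i (hΦexp _),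
        ← pow_eq_pow_mod j (hΦexp _)]
    have h := Nat.card_le_card_of_surjective f hf
    rwa [Nat.card_prod, Nat.card_fin, ← Subgroup.index_eq_card, ← pow_two] at h
  -- it suffices to find a characteristic subgroup between the Frattini subgroup and the group
  suffices hsuff : ∃ U : Subgroup S, (∀ α : MulAut S, ∀ x ∈ U, α x ∈ U) ∧ U ≠ ⊤ ∧ ¬ U ≤ frattini S by
    obtain ⟨U, hU, hUt, hUΦ⟩ := hsuff
    refine ⟨U ⊔ frattini S, fun α x hx => ?_, ?_⟩
    · have hle : U ⊔ frattini S ≤ (U ⊔ frattini S).comap α.toMonoidHom :=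
        sup_le (fun y hy => Subgroup.mem_sup_left (hU α y hy)) fun y hy =>
          Subgroup.mem_sup_right ((Subgroup.characteristic_iff_map_le.mp frattini_characteristic α) ⟨y, hy, rfl⟩)
      exact hle hx
    have hM : U ⊔ frattini S ≠ ⊤ := fun h => hUt (frattini_nongenerating h)
    have hlt : frattini S < U ⊔ frattini S := lt_of_le_not_ge le_sup_right fun h => hUΦ (le_sup_left.trans h)
    have h1 := Subgroup.relIndex_mul_index hlt.le
    have hge : ∀ k : ℕ, k ≠ 1 → (∃ m : ℕ, k = p ^ m) → p ≤ k := by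
      rintro k hk ⟨m, rfl⟩
      exact Nat.le_self_pow (fun h => hk (by rw [h, pow_zero])) p
    obtain ⟨n₁, hn₁⟩ := hS.index (U ⊔ frattini S)
    obtain ⟨n₂, hn₂⟩ := (hS.to_subgroup (U ⊔ frattini S)).index ((frattini S).subgroupOf (U ⊔ frattini S))
    have hp1 : p ≤ (U ⊔ frattini S).index := hge _ (fun h => hM (Subgroup.index_eq_one.1 h)) ⟨n₁, hn₁⟩
    have hp2' : p ≤ (frattini S).relIndex (U ⊔ frattini S) :=
      hge _ (fun h => hlt.not_ge (Subgroup.relIndex_eq_one.1 h)) ⟨n₂, hn₂⟩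
    rw [← h1, pow_two] at hΦidx
    refine ⟨Nat.le_of_mul_le_mul_left ?_ hp.out.pos, le_sup_right, Nat.le_of_mul_le_mul_right ?_ hp.out.pos⟩
    · exact (Nat.mul_le_mul_right _ hp2').trans hΦidx
    · exact (Nat.mul_le_mul_left _ hp1).trans hΦidx
  have hcyc : ∀ x : S, (⊤ : Subgroup S) ≤ Subgroup.zpowers x ⊔ frattini S → False := fun x h => by
    have hx := frattini_nongenerating (eq_top_iff.2 h)
    refine hna ⟨⟨fun u v => ?_⟩⟩
    obtain ⟨i, rfl⟩ := Subgroup.mem_zpowers_iff.1 (hx.ge (Subgroup.mem_top u))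
    obtain ⟨j, rfl⟩ := Subgroup.mem_zpowers_iff.1 (hx.ge (Subgroup.mem_top v))
    exact ((Commute.refl x).zpow_zpow i j).eq
  have haΦ : D.a ∉ frattini S := fun ha => hcyc D.b fun g _ => by
    obtain ⟨i, j, rfl⟩ := D.gen g
    exact mul_mem (Subgroup.mem_sup_right (pow_mem ha i)) (Subgroup.mem_sup_left (pow_mem (Subgroup.mem_zpowers _) j))
  have hderiv : ∀ (α : MulAut S) (x : S), x ∈ commutator S → α x ∈ commutator S := fun α x hx =>
    (Subgroup.characteristic_iff_map_le.mp inferInstance α) ⟨x, hx, rfl⟩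
  by_cases hcl : commutator S ≤ Subgroup.center S
  swap
  · -- the centralizer of the derived subgroup
    refine ⟨Subgroup.centralizer (commutator S : Set S), fun α x hx => Subgroup.mem_centralizer_iff.2 fun c hc => ?_,
      fun h => hcl fun c hc => Subgroup.mem_center_iff.2 fun g =>
        (Subgroup.mem_centralizer_iff.1 (h.ge (Subgroup.mem_top g)) c hc).symm, fun h => haΦ (h ?_)⟩
    · have h := congrArg α (Subgroup.mem_centralizer_iff.1 hx _ (hderiv α.symm c hc))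
      rwa [map_mul, map_mul, MulEquiv.apply_symm_apply] at h
    · refine Subgroup.mem_centralizer_iff.2 fun c hc => ?_
      rw [SetLike.mem_coe, D.commutator_eq] at hc
      obtain ⟨i, rfl⟩ := Subgroup.mem_zpowers_iff.1 hc
      exact (((Commute.refl D.a).pow_left _).zpow_left i).eq
  -- class two
  have hac : D.a ^ p ^ D.c ∈ commutator S := by
    rw [D.commutator_eq]
    have hcop : D.u.Coprime (orderOf (D.a ^ p ^ D.c)) := by
      rw [D.hord]; exact Nat.Coprime.pow_right _ (hp.out.coprime_iff_not_dvd.2 D.hu).symm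
    obtain ⟨m, hm'⟩ := exists_pow_eq_self_of_coprime hcop
    rw [← hm', MetacyclicOdd.Data.A, pow_mul]
    exact pow_mem (Subgroup.mem_zpowers _) m
  have hnc : D.n ≤ D.c := by
    have h1 : D.b * (D.a ^ p ^ D.c) * D.b⁻¹ = D.a ^ p ^ D.c := by
      rw [Subgroup.mem_center_iff.1 (hcl hac) D.b, mul_inv_cancel_right]
    rw [← conj_pow, D.conj, ← pow_mul, show (1 + p ^ D.c * D.u) * p ^ D.c = p ^ D.c + p ^ D.c * (p ^ D.c * D.u) by
      ring, pow_add, mul_eq_left, pow_mul, ← orderOf_dvd_iff_pow_eq_one, D.hord] at h1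
    exact (Nat.pow_dvd_pow_iff_le_right hp.out.one_lt).1
      ((Nat.Coprime.pow_left _ (hp.out.coprime_iff_not_dvd.2 D.hu)).dvd_of_dvd_mul_right h1)
  obtain ⟨d, hd⟩ : 2 ∣ p ^ D.c - 1 := by
    have h : Odd (p ^ D.c) := (hp.out.odd_of_ne_two hp2).pow
    obtain ⟨k, hk⟩ := h
    exact ⟨k, by omega⟩
  have hmulpow : ∀ x y : S, (x * y) ^ p ^ D.c = x ^ p ^ D.c * y ^ p ^ D.c := fun x y => by
    have hmem : ⁅y, x⁆ ∈ commutator S :=
      Subgroup.commutator_mem_commutator (Subgroup.mem_top y) (Subgroup.mem_top x)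
    rw [CfsgLib.LocalEvenB.OrderPCubed.mul_pow_of_central x y (hcl hmem)]
    have h1 : ⁅y, x⁆ ^ p ^ D.n = 1 := by
      rw [← D.card_commutator]
      exact congrArg Subtype.val (pow_card_eq_one' (x := (⟨_, hmem⟩ : commutator S)))
    obtain ⟨t, ht⟩ : p ^ D.n ∣ (p ^ D.c).choose 2 := by
      rw [Nat.choose_two_right, hd, Nat.mul_div_assoc _ (dvd_mul_right 2 d)]
      exact Dvd.dvd.mul_right (pow_dvd_pow p hnc) _
    rw [ht, pow_mul, h1, one_pow, mul_one]
  let pw : S →* S := MonoidHom.mk' (fun x => x ^ p ^ D.c) hmulpow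
  by_cases hb : D.b ^ p ^ D.c ∈ commutator S
  swap
  · refine ⟨(commutator S).comap pw, fun α x hx => ?_, fun h => hb (h.ge (Subgroup.mem_top D.b)),
      fun h => haΦ (h hac)⟩
    show (α x) ^ p ^ D.c ∈ commutator S
    rw [← map_pow]
    exact hderiv α _ hx
  obtain ⟨k, hk⟩ : ∃ k : ℤ, (D.a ^ p ^ D.c) ^ k = D.b ^ p ^ D.c := by
    rw [D.commutator_eq] at hb
    obtain ⟨k, hk⟩ := Subgroup.mem_zpowers_iff.1 hb
    exact ⟨(D.u : ℤ) * k, by rw [zpow_mul, zpow_natCast, ← pow_mul]; exact hk⟩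
  refine ⟨pw.ker, fun α x hx => ?_, fun h => ?_, fun h => ?_⟩
  · show (α x) ^ p ^ D.c = 1
    rw [← map_pow, show x ^ p ^ D.c = 1 from hx, map_one]
  · have h1 : D.a ^ p ^ D.c = 1 := h.ge (Subgroup.mem_top D.a)
    have := D.hord
    rw [h1, orderOf_one] at this
    have := Nat.one_lt_pow (show D.n ≠ 0 by omega) hp.out.one_lt
    omega
  · have hb' : D.a ^ (-k) * D.b ∈ pw.ker := by
      show (D.a ^ (-k) * D.b) ^ p ^ D.c = 1
      rw [hmulpow, ← hk, ← zpow_natCast (D.a ^ (-k)), ← zpow_mul, mul_comm (-k), zpow_mul, zpow_natCast, zpow_neg,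
        inv_mul_cancel]
    refine hcyc D.a fun g _ => ?_
    obtain ⟨i, j, rfl⟩ := D.gen g
    refine mul_mem (Subgroup.mem_sup_left (pow_mem (Subgroup.mem_zpowers _) i)) (pow_mem ?_ j)
    rw [show D.b = D.a ^ k * (D.a ^ (-k) * D.b) by rw [← mul_assoc, ← zpow_add, add_neg_cancel, zpow_zero, one_mul]]
    exact mul_mem (Subgroup.mem_sup_left (zpow_mem (Subgroup.mem_zpowers _) k)) (Subgroup.mem_sup_right (h hb'))

theorem aut_odd (hS : IsPGroup p S) (hp2 : p ≠ 2) (hm : Cfsg.IsMetacyclic S) (hna : ¬ IsMulCommutative S)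
    (H : Subgroup (MulAut S)) (hcop : (Nat.card H).Coprime p) :
    IsMulCommutative H ∧ ∀ h ∈ H, h ^ (p - 1) = 1 := by
  obtain ⟨M, h1, h2, h3, h4⟩ := exists_line hS hp2 hm hna
  exact aut_of_line hS M h1 h2 h3 h4 H hcop

/-- If every saturated system fixes `S`, a conjugation between subgroups of a Sylow subgroup isomorphic to `S`
extends to an automorphism of that Sylow subgroup. -/
theorem exists_aut_of_fusion (hall : ∀ F : Cfsg.FusionSystem S, F.IsSaturated p → F.IsNormal S)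
    {G : Type*} [Group G] [Finite G] (T : Sylow p G) (e : (T : Subgroup G) ≃* S) {V : Subgroup G}
    (hV : V ≤ T) {g : G} (hg : ∀ v ∈ V, g * v * g⁻¹ ∈ (T : Subgroup G)) :
    ∃ β : MulAut (T : Subgroup G), ∀ v : (T : Subgroup G), (v : G) ∈ V →
      ((β v : (T : Subgroup G)) : G) = g * v * g⁻¹ := by
  let F := Cfsg.groupFusionSystem (T : Subgroup G)
  have hsc : F.StronglyClosed ⊥ := stronglyClosed_iff_fn.2 ⟨bot_le, fun P f hf x _ hx => by
    rw [Subgroup.mem_bot] at hx ⊢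
    rw [hx, hf.map_one]⟩
  let θ : (T : Subgroup G) →* Ω := S.subtype.comp e.toMonoidHom
  have hk : ∀ s : (T : Subgroup G), θ s = 1 ↔ (s : G) ∈ (⊥ : Subgroup G) := fun s => by
    show ((e s : S) : Ω) = 1 ↔ _
    rw [OneMemClass.coe_eq_one, MulEquiv.map_eq_one_iff, Subgroup.mem_bot, OneMemClass.coe_eq_one]
  have hr : θ.range = S := by
    rw [MonoidHom.range_comp, MonoidHom.range_eq_top.2 e.surjective, ← MonoidHom.range_eq_map, Subgroup.range_subtype]
  obtain ⟨E, hE⟩ := exists_factorSystem (F := F) hsc θ hk hr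
  have hsur := factor_surjectiveMorphism T.2 (group_isSaturated T) hsc hE
  have hn := hall E (surjectiveMorphism_saturated T.2 (group_isSaturated T) hsur)
  let φ : V →* G := (MulAut.conj g).toMonoidHom.comp V.subtype
  have hφ : φ ∈ F.Hom V := ⟨hV, fun x => hg x x.2, g, fun _ => rfl⟩
  obtain ⟨φ', hφ', hP, hφS, hP', hind⟩ := hsur.1.2 V φ hφ
  obtain ⟨f, hf, he, hi⟩ := (normal_iff_fn.1 hn).2 _ _ (fn_ofHom hφ')
  rw [sup_eq_right.2 (fn_ofHom hφ').le] at hf
  obtain ⟨α, -, hα⟩ := exists_aut_of_fn hf hi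
  refine ⟨e.trans (α.trans e.symm), fun v hv => ?_⟩
  have h1 : α (e v) = e ⟨g * v * g⁻¹, hg _ hv⟩ := Subtype.ext (by
    rw [hα, show ((e v : S) : Ω) = θ v from rfl, he _ (hP' ⟨v, hv⟩), ofHom_apply φ' (hP' ⟨v, hv⟩)]
    exact hind ⟨v, hv⟩)
  show (e.symm (α (e v)) : G) = _
  rw [h1, MulEquiv.symm_apply_apply]

/-- A triality of a Sylow `2`-subgroup isomorphic to `S` gives a saturated system on `S` that is not
supersoluble. -/
theorem false_of_triality {S : Subgroup Ω} [Finite S] (hS : IsPGroup 2 S)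
    (hall : ∀ F : Cfsg.FusionSystem S, F.IsSaturated 2 → Supersoluble.Ss F)
    (ht : MetacyclicRealization.HasTriality S) : False := by
  haveI : Fact (Nat.Prime 2) := ⟨Nat.prime_two⟩
  obtain ⟨hn, hA⟩ := Supersoluble.ss_consequences hS hall
  obtain ⟨G, _, _, T, x, y, g, hx, hy, hne, h1, h2, h3, ⟨e⟩⟩ := ht
  haveI : Finite (MulAut S) := Finite.of_injective (fun f : MulAut S => (f : S → S))
    fun _ _ h => MulEquiv.ext (congrFun h)
  have hA2 : IsPGroup 2 (MulAut S) := by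
    refine IsPGroup.of_card (n := (Nat.card (MulAut S)).primeFactorsList.length)
      (Nat.eq_prime_pow_of_unique_prime_dvd Nat.card_pos.ne' fun {q} hq hqd => ?_)
    by_contra hne2
    haveI : Fact q.Prime := ⟨hq⟩
    obtain ⟨a, ha⟩ := exists_prime_orderOf_dvd_card' q hqd
    have h := (hA (Subgroup.zpowers a) (by
      rw [Nat.card_zpowers, ha]; exact (Nat.coprime_primes hq Nat.prime_two).2 hne2)).2 a (Subgroup.mem_zpowers a)
    rw [show (2 : ℕ) - 1 = 1 from rfl, pow_one] at h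
    rw [h, orderOf_one] at ha
    exact hq.one_lt.ne ha
  set V := Subgroup.closure ({x, y} : Set G)
  have hxV : x ∈ V := Subgroup.subset_closure (by simp)
  have hyV : y ∈ V := Subgroup.subset_closure (by simp)
  have hVT : V ≤ T := (Subgroup.closure_le _).2 (by rintro _ (rfl | rfl) <;> assumption)
  have hgV : V ≤ (T : Subgroup G).comap (MulAut.conj g).toMonoidHom := by
    refine (Subgroup.closure_le _).2 ?_
    rintro _ (rfl | rfl)
    · show g * _ * g⁻¹ ∈ (T : Subgroup G); rw [h1]; exact hy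
    · show g * _ * g⁻¹ ∈ (T : Subgroup G); rw [h2]; exact mul_mem hx hy
  obtain ⟨β, hβ⟩ := exists_aut_of_fusion hn T e hVT fun v hv => hgV hv
  have hb1 : β ⟨x, hx⟩ = ⟨y, hy⟩ := Subtype.ext ((hβ ⟨x, hx⟩ hxV).trans h1)
  have hb2 : β ⟨y, hy⟩ = ⟨x * y, mul_mem hx hy⟩ := Subtype.ext ((hβ ⟨y, hy⟩ hyV).trans h2)
  have hb3 : β ⟨x * y, mul_mem hx hy⟩ = ⟨x, hx⟩ :=
    Subtype.ext ((hβ ⟨x * y, mul_mem hx hy⟩ (mul_mem hxV hyV)).trans h3)
  let St := MulAction.stabilizer (MulAut (T : Subgroup G)) (⟨x, hx⟩ : (T : Subgroup G))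
  have hst : β ^ 3 ∈ St := by
    show (β ^ 3) • (⟨x, hx⟩ : (T : Subgroup G)) = _
    show β (β (β _)) = _
    rw [hb1, hb2, hb3]
  obtain ⟨j, hj⟩ := hA2.of_equiv (MulAut.congr e.symm) β
  have hcop : Nat.Coprime 3 (orderOf β) :=
    Nat.Coprime.coprime_dvd_right (orderOf_dvd_of_pow_eq_one hj) (Nat.Coprime.pow_right _ (by norm_num))
  obtain ⟨m, hm⟩ := exists_pow_eq_self_of_coprime hcop
  have h : β ⟨x, hx⟩ = ⟨x, hx⟩ := (show β ∈ St from hm ▸ St.pow_mem hst m)
  exact hne (congrArg Subtype.val (h.symm.trans hb1))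

end CfsgLib.Fsys.MetacyclicSupersoluble
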