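import Cfsg.Agent.Lib.FusionSystem.CentralizerCommute
import Cfsg.Agent.Lib.FusionSystem.WeaklyNormalResidual

/-! The centralizer of a normal subsystem: lifts, the fixed subgroup and its maximality. -/

set_option autoImplicit false

namespace CfsgLib.Fsys.WNR

open Cfsg Cfsg.FusionSystem
open Cfsg.FusionSystem (centralizerIn normalizerIn)
open scoped Pointwise

variable {Ω : Type*} [Group Ω] {S T : Subgroup Ω} {F : FusionSystem S} {E : FusionSystem T}
variable {Y P X : Subgroup Ω}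

/-- A coprime automorphism of `Y ⊔ C_S(Y)` over an automorphism of `Y` in `E`. -/
structure GoodLift (p : ℕ) (F : FusionSystem S) (E : FusionSystem T) (Y : Subgroup Ω)
    (h : MulAut ↥(Y ⊔ centralizerIn S Y)) : Prop where
  fullyNormalized : F.IsFullyNormalized Y
  centric : E.IsCentric Y
  compatible : IsCompatible F Y (autFn h)
  coprime : Nat.Coprime (orderOf h) p
  restrict : ∃ a ∈ E.autGroup Y, ∀ y ∈ Y, autFn h y = autFn a y

theorem map_centralizer_normalizer [Finite S] {g : Ω → Ω} (hPS : P ≤ S) (hPT : P ≤ T)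
    (hg : Fn F (normalizerIn S P) g) (hgi : img g P = Y) {c : Ω} (hc : c ∈ centralizerIn S T) :
    c ∈ normalizerIn S P ∧ g c ∈ centralizerIn S Y := by
  have hcP : c ∈ centralizerIn S P :=
    mem_centralizerIn.2 ⟨(mem_centralizerIn.1 hc).1, fun y hy => (mem_centralizerIn.1 hc).2 y (hPT hy)⟩
  exact ⟨centralizerIn_le_normalizerIn hcP,
    hg.map_centralizer (le_normalizerIn hPS) hgi (centralizerIn_le_normalizerIn hcP) hcP⟩

/-- The elements fixed by all good lifts. -/
def fixedSubgroup (p : ℕ) [Finite S] (F : FusionSystem S) (E : FusionSystem T) : Subgroup Ω where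
  carrier := {c | c ∈ centralizerIn S T ∧ ∀ (Y : Subgroup Ω) (h : MulAut ↥(Y ⊔ centralizerIn S Y)),
    GoodLift p F E Y h → ∀ (P : Subgroup Ω) (g : Ω → Ω), E.IsCentric P → P ≤ S → Fn F (normalizerIn S P) g →
      img g P = Y → autFn h (g c) = g c}
  one_mem' := ⟨one_mem _, fun Y h hh P g _ _ hg _ => by rw [hg.map_one]; exact hh.compatible.fn.map_one⟩
  mul_mem' := by
    rintro a b ⟨ha, ha'⟩ ⟨hb, hb'⟩
    refine ⟨mul_mem ha hb, fun Y h hh P g hP hPS hg hgi => ?_⟩
    obtain ⟨ha1, ha2⟩ := map_centralizer_normalizer hPS hP.1 hg hgi ha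
    obtain ⟨hb1, hb2⟩ := map_centralizer_normalizer hPS hP.1 hg hgi hb
    rw [hg.map_mul ha1 hb1, hh.compatible.fn.map_mul (Subgroup.mem_sup_right ha2) (Subgroup.mem_sup_right hb2),
      ha' Y h hh P g hP hPS hg hgi, hb' Y h hh P g hP hPS hg hgi]
  inv_mem' := by
    rintro a ⟨ha, ha'⟩
    refine ⟨inv_mem ha, fun Y h hh P g hP hPS hg hgi => ?_⟩
    obtain ⟨ha1, ha2⟩ := map_centralizer_normalizer hPS hP.1 hg hgi ha
    rw [hg.map_inv ha1, hh.compatible.fn.map_inv (Subgroup.mem_sup_right ha2), ha' Y h hh P g hP hPS hg hgi]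

theorem fixedSubgroup_le [Finite S] (p : ℕ) : fixedSubgroup p F E ≤ centralizerIn S T := fun _ h => h.1

/-- `X` is centralized by `E`. -/
def Centralized (F : FusionSystem S) (E : FusionSystem T) (X : Subgroup Ω) : Prop :=
  ∀ P : Subgroup Ω, E.Hom P ⊆ F.centralizerHom X P

theorem centralized_iff (hE : E.IsSubsystemOf F) (hX : X ≤ centralizerIn S T) :
    Centralized F E X ↔ ∀ (P : Subgroup Ω) (f : Ω → Ω), Fn E P f →
      ∃ ψ, Fn F (P ⊔ X) ψ ∧ (∀ x ∈ P, ψ x = f x) ∧ ∀ x ∈ X, ψ x = x := by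
  have hC : ∀ {x : Ω}, x ∈ T → x ∈ S → x ∈ centralizerIn S X := fun {x} hx hxS =>
    mem_centralizerIn.2 ⟨hxS, fun y hy => ((mem_centralizerIn.1 (hX hy)).2 x hx).symm⟩
  constructor
  · rintro h P f ⟨φ, hφ, hφf⟩
    obtain ⟨-, -, -, ψ, hψ, hψφ, hψX⟩ := h P hφ
    refine ⟨ofHom ψ, fn_ofHom hψ, fun x hx => ?_, fun x hx => ?_⟩
    · rw [ofHom_apply ψ (Subgroup.mem_sup_left hx)]
      exact (hψφ ⟨x, hx⟩).trans (hφf ⟨x, hx⟩)
    · rw [ofHom_apply ψ (Subgroup.mem_sup_right hx)]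
      exact hψX ⟨x, hx⟩
  · intro h P φ hφ
    have hP := (E.le_of_mem hφ).1
    obtain ⟨g, hg, hgφ, hgX⟩ := h P _ (fn_ofHom hφ)
    obtain ⟨ψ, hψ, hψg⟩ := hg
    refine ⟨hE P hφ, fun x hx => hC (hP hx) ((F.le_of_mem (hE P hφ)).1 hx),
      fun x => hC ((E.le_of_mem hφ).2 x) ((F.le_of_mem (hE P hφ)).2 x), ψ, hψ, fun x => ?_, fun x => ?_⟩
    · rw [hψg]
      exact (hgφ x x.2).trans (ofHom_coe φ x)
    · rw [hψg]
      exact hgX x x.2

variable [Finite S] {p : ℕ} [Fact p.Prime]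

omit [Finite S] in
theorem img_zpowers {V : Subgroup Ω} {f : Ω → Ω} {x : Ω} (hf : Fn F V f) (hx : x ∈ V) :
    img f (Subgroup.zpowers x) = Subgroup.zpowers (f x) := by
  obtain ⟨φ, -, hφ⟩ := hf
  have e : ∀ j : ℤ, f (x ^ j) = f x ^ j := fun j => by
    have h : φ (⟨x, hx⟩ ^ j) = φ ⟨x, hx⟩ ^ j := map_zpow φ _ j
    rw [hφ, hφ] at h
    simpa using h
  refine le_antisymm (img_le fun y hy => ?_) (Subgroup.zpowers_le.2 (mem_img_of_mem (Subgroup.mem_zpowers x)))
  obtain ⟨j, rfl⟩ := Subgroup.mem_zpowers_iff.1 hy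
  exact e j ▸ Subgroup.zpow_mem_zpowers (f x) j

/-- A centralized subgroup consists of fixed elements. -/
theorem le_fixedSubgroup (hS : IsPGroup p S) (hF : F.IsSaturated p) (hE : E.IsInvariantIn F)
    (hXC : X ≤ centralizerIn S T) (hX : Centralized F E X) : X ≤ fixedSubgroup p F E := by
  intro x hx
  refine ⟨hXC hx, fun Y h hh P g hP hPS hg hgi => ?_⟩
  obtain ⟨hxN, hgx⟩ := map_centralizer_normalizer hPS hP.1 hg hgi (hXC hx)
  obtain ⟨a, ha, hha⟩ := hh.restrict
  have hPN : P ≤ normalizerIn S P := le_normalizerIn hPS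
  have hgP := hg.mono hPN
  obtain ⟨g₁, hg₁, hg₁g, hg₁i⟩ := hgP.exists_inv
  rw [hgi] at hg₁ hg₁i
  obtain ⟨e, he, -⟩ := exists_transport hh.fullyNormalized.1 hg₁ hg₁i
  have ha' := congr_mem hE hh.centric.1 hg₁ hg₁i e he ha
  obtain ⟨ψ, hψ, hψa, hψX⟩ := (centralized_iff hE.1 hXC).1 hX P _ ((mem_autGroup_iff_fn hP.1).1 ha')
  set V := P ⊔ Subgroup.zpowers x with hV
  have hxV : x ∈ V := Subgroup.mem_sup_right (Subgroup.mem_zpowers x)
  have hVN : V ≤ normalizerIn S P := sup_le hPN (Subgroup.zpowers_le.2 hxN)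
  have hgV := hg.mono hVN
  have hψV : Fn F V ψ := hψ.mono (sup_le le_sup_left ((Subgroup.zpowers_le.2 hx).trans le_sup_right))
  have hψVm : ∀ v ∈ V, ψ v ∈ V := fun v hv => by
    have h1 := mem_img_of_mem (f := ψ) hv
    rw [hV, hψV.img_sup, img_zpowers hψV hxV, hψX x hx] at h1
    exact sup_le_sup (img_le fun y hy => (hψa y hy).symm ▸ autFn_mem _ hy) le_rfl h1
  set Q := Y ⊔ Subgroup.zpowers (g x) with hQ
  have hgVQ : img g V = Q := by rw [hV, hgV.img_sup, hgi, img_zpowers hgV hxV]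
  have hgxQ : g x ∈ Q := Subgroup.mem_sup_right (Subgroup.mem_zpowers _)
  have hYQ : Y ≤ Q := le_sup_left
  have hQW : Q ≤ Y ⊔ centralizerIn S Y := sup_le_sup_left (Subgroup.zpowers_le.2 hgx) Y
  have hstab : ∀ {θ : Ω → Ω}, Fn F Q θ → (∀ y ∈ Y, θ y ∈ Y) → θ (g x) ∈ Q → ∀ v ∈ Q, θ v ∈ Q :=
    fun {θ} hθ h1 h2 v hv => by
      have h3 := mem_img_of_mem (f := θ) hv
      rw [hQ, hθ.img_sup, img_zpowers hθ hgxQ] at h3
      exact sup_le ((img_le h1).trans hYQ) (Subgroup.zpowers_le.2 h2) h3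
  obtain ⟨k₁, hk₁, hk₁g, hk₁i⟩ := hgV.exists_inv
  rw [hgVQ] at hk₁ hk₁i
  have hk : Fn F Q (g ∘ (ψ ∘ k₁)) :=
    (hk₁.comp hψV fun v hv => hk₁i.le (mem_img_of_mem hv)).comp hgV
      fun v hv => hψVm _ (hk₁i.le (mem_img_of_mem hv))
  have hkY : ∀ y ∈ Y, (g ∘ (ψ ∘ k₁)) y = autFn h y := fun y hy => by
    obtain ⟨v, hv, rfl⟩ := hgP.mem_img.1 (hgi.ge hy)
    show g (ψ (k₁ (g v))) = _
    rw [hk₁g v (Subgroup.mem_sup_left hv), hψa v hv, hha _ hy]
    have hv' : v = ((e ⟨g v, hy⟩ : P) : Ω) := by rw [he, hg₁g v hv]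
    conv_lhs => rw [hv', autFn_coe]
    rw [show (MulAut.congr e a) (e ⟨g v, hy⟩) = e (a ⟨g v, hy⟩) by simp [MulAut.congr], autFn_coe a ⟨g v, hy⟩]
    obtain ⟨u, hu, hue⟩ := hgP.mem_img.1 (hgi.ge (a ⟨g v, hy⟩).2)
    rw [he, ← hue, hg₁g u hu]
  have hkx : (g ∘ (ψ ∘ k₁)) (g x) = g x := by
    show g (ψ (k₁ (g x))) = g x
    rw [hk₁g x hxV, hψX x hx]
  set k := g ∘ (ψ ∘ k₁) with hkdef
  have hkYi : img k Y = Y :=
    (hk.mono hYQ).img_eq_self fun y hy => (hkY y hy).symm ▸ hh.compatible.stable y hy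
  have hki : img k Q = Q := hk.img_eq_self (hstab hk (fun y hy => hkYi.le (mem_img_of_mem hy)) (hkx.symm ▸ hgxQ))
  set w := (g x)⁻¹ * autFn h (g x) with hw
  have hwZ := hh.compatible.move_central hgx
  have hgxw : autFn h (g x) = g x * w := (mul_inv_cancel_left _ _).symm
  have hhQ : ∀ v ∈ Q, autFn h v ∈ Q := hstab (hh.compatible.fn.mono hQW) hh.compatible.stable
    (hgxw ▸ Q.mul_mem hgxQ (hYQ hwZ.1))
  obtain ⟨k', hk', hk'k, -⟩ := hk.exists_inv
  rw [hki] at hk'
  have hφ : Fn F Q (k' ∘ autFn h) := (hh.compatible.fn.mono hQW).comp hk' hhQ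
  have hfix : ∀ y ∈ Y, (k' ∘ autFn h) y = y := fun y hy => by
    show k' (autFn h y) = y
    rw [← hkY y hy, hk'k y (hYQ hy)]
  obtain ⟨D, hD⟩ := exists_centralizerSystem F hh.fullyNormalized.1 (Q := Y)
  have hpres := displacement_preserved hS hF hh.fullyNormalized hh.compatible
    (finishes_coprime hS hh.compatible hh.coprime) hD
    (fn_centralizer_of_fix hD (Subgroup.zpowers_le.2 hgx) (g := k' ∘ autFn h)
      (hφ.mono (le_of_eq (sup_comm _ _))) hfix) (g x) (Subgroup.mem_zpowers _)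
  obtain ⟨v, hv, hve⟩ := (hk.mono hYQ).mem_img.1 (hkYi.ge hwZ.1)
  have himg : (k' ∘ autFn h) (g x) = g x * v := by
    show k' (autFn h (g x)) = g x * v
    have e1 : g x * w = k (g x * v) := by rw [hk.map_mul hgxQ (hYQ hv), hkx, hve]
    rw [hgxw, e1, hk'k _ (Q.mul_mem hgxQ (hYQ hv))]
  have hvC : v ∈ centralizerIn S Y := by
    have h1 := hφ.map_centralizer hYQ ((img_congr (g := id) hfix).trans (img_id Y)) hgxQ hgx
    rw [himg] at h1
    have := (centralizerIn S Y).mul_mem ((centralizerIn S Y).inv_mem hgx) h1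
    rwa [inv_mul_cancel_left] at this
  rw [himg, hh.compatible.disp_mul hgx hvC] at hpres
  have hfixv : autFn h v = v := (inv_mul_eq_one.1 (mul_eq_left.1 hpres)).symm
  have hve' : k v = w := hve
  have hwfix : autFn h w = w := by rw [← hve', hkY v hv, hfixv, hfixv]
  have hgxW : g x ∈ Y ⊔ centralizerIn S Y := Subgroup.mem_sup_right hgx
  have hwW : w ∈ Y ⊔ centralizerIn S Y := Subgroup.mem_sup_left hwZ.1
  have hwp : ∀ i : ℕ, autFn h (w ^ i) = w ^ i := fun i => by
    induction i with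
    | zero => rw [pow_zero]; exact hh.compatible.fn.map_one
    | succ i ihi => rw [pow_succ, hh.compatible.fn.map_mul (Subgroup.pow_mem _ hwW i) hwW, ihi, hwfix]
  have hiter : ∀ j : ℕ, autFn (h ^ j) (g x) = g x * w ^ j := fun j => by
    induction j with
    | zero => rw [pow_zero, autFn_id hgxW, pow_zero, mul_one]
    | succ j ih =>
      rw [pow_succ', autFn_mul _ _ hgxW, ih, hh.compatible.fn.map_mul hgxW (Subgroup.pow_mem _ hwW j), hwp,
        hgxw, mul_assoc, ← pow_succ']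
  have hr := hiter (orderOf h)
  rw [pow_orderOf_eq_one, autFn_id hgxW] at hr
  obtain ⟨i, hi⟩ := hS ⟨w, hh.fullyNormalized.1 hwZ.1⟩
  have h1 : orderOf w ∣ orderOf h := orderOf_dvd_of_pow_eq_one (left_eq_mul.1 hr)
  have h2 : orderOf w ∣ p ^ i := orderOf_dvd_of_pow_eq_one (congrArg Subtype.val hi)
  have hw1 : w = 1 := orderOf_eq_one_iff.1 (Nat.eq_one_of_dvd_coprimes (hh.coprime.pow_right i) h1 h2)
  rw [hgxw, hw1, mul_one]

set_option maxHeartbeats 400000 in
/-- A `p`-element lifts trivially modulo `Y`. -/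
theorem exists_lift_pElement (hS : IsPGroup p S) (hE : E.IsWeaklyNormalIn F p) (hY : E.IsCentric Y)
    (hYn : F.IsFullyNormalized Y) {τ : MulAut Y} (hτ : τ ∈ E.autGroup Y) {k : ℕ} (hk : τ ^ p ^ k = 1) :
    ∃ b ∈ F.autGroup (Y ⊔ centralizerIn S Y), (∀ y ∈ Y, autFn b y = autFn τ y) ∧
      ∀ u ∈ centralizerIn S Y, u⁻¹ * autFn b u ∈ Y := by
  obtain ⟨hEs, hF, hEi⟩ := hE
  have hT := hEi.2.1
  haveI := finite_of_le_base hT.1
  have hTp := hS.to_le hT.1
  have hr := fullyNormalized_receptive hS hF hYn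
  obtain ⟨hEA, -⟩ := fullyNormalized_good hTp hEs (fullyNormalized_sub hS hF hT hEi.1 hY.1 hYn)
  obtain ⟨γ, hγ, hγτ⟩ := exists_conj_into hTp hEA (Subgroup.zpowers_le.2 hτ)
    (by
      rintro ⟨x, hx⟩
      obtain ⟨j, rfl⟩ := Subgroup.mem_zpowers_iff.1 hx
      refine ⟨k, Subtype.ext ?_⟩
      show (τ ^ j) ^ p ^ k = 1
      rw [← zpow_natCast _ (p ^ k), ← zpow_mul, mul_comm, zpow_mul, zpow_natCast, hk, one_zpow])
  obtain ⟨t, ht, htx⟩ := mem_autInducedBy.1 (hγτ _ (Subgroup.mem_zpowers _))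
  haveI := finite_of_le_base hYn.1
  obtain ⟨N, γ', hγ', hYN, hN, hγe⟩ := receptive_extend hr
    ((mem_autGroup_iff_fn hYn.1).1 (autGroup_mono' hEi.1 Y hγ)) (img_autFn γ)
  set W := Y ⊔ centralizerIn S Y with hW
  have hWS : W ≤ S := sup_le hYn.1 centralizerIn_le
  have hWN : W ≤ N := sup_le hYN fun u hu => (hN u).2 (inExt_of_commute hu)
  have hγY : img γ' Y = Y := (img_congr hγe).trans (img_autFn γ)
  have hγW : ∀ x ∈ W, γ' x ∈ W := fun x hx => by
    have h1 := mem_img_of_mem (f := γ') hx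
    rw [hW, (hγ'.mono hWN).img_sup] at h1
    exact sup_le (hγY.le.trans le_sup_left) (le_trans (img_le fun u hu =>
      hγ'.map_centralizer hYN hγY (hWN (Subgroup.mem_sup_right hu)) hu) le_sup_right) h1
  obtain ⟨δ, hδ, hδγ, hδi⟩ := (hγ'.mono hWN).exists_inv
  rw [(hγ'.mono hWN).img_eq_self hγW] at hδ hδi
  have htn : t ∈ Subgroup.normalizer (Y : Set Ω) := mem_normalizer_of_autEq htx
  have htS : t ∈ S := hT.1 ht
  have htu : ∀ u ∈ centralizerIn S Y, u⁻¹ * (t * u * t⁻¹) ∈ Y := fun u hu => by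
    obtain ⟨huS, huc⟩ := mem_centralizerIn.1 hu
    refine mem_of_commute hY ?_ fun q hq => ?_
    · have h1 := T.mul_mem (sc_conj hT (S.inv_mem huS) ht) (T.inv_mem ht)
      simpa [mul_assoc] using h1
    · obtain ⟨q', hq', rfl⟩ : ∃ q' ∈ Y, q = t * q' * t⁻¹ :=
        ⟨t⁻¹ * q * t, (mem_normalizer_iff'.1 htn).2 q hq, by group⟩
      have h1 : (t * q' * t⁻¹) * (t * u * t⁻¹) = (t * u * t⁻¹) * (t * q' * t⁻¹) := by
        rw [show t * q' * t⁻¹ * (t * u * t⁻¹) = t * (q' * u) * t⁻¹ by group, huc q' hq']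
        group
      exact ((Commute.inv_right (show Commute (t * q' * t⁻¹) u from huc _ hq)).mul_right h1).eq
  have htW : ∀ x ∈ W, t * x * t⁻¹ ∈ W := fun x hx => by
    have h1 := mem_img_of_mem (f := fun z => t * z * t⁻¹) hx
    rw [hW, (fn_conj (F := F) hWS htS).img_sup] at h1
    refine sup_le (le_trans (img_le fun y hy => (mem_normalizer_iff'.1 htn).1 y hy) le_sup_left)
      (img_le fun u hu => ?_) h1
    have := W.mul_mem (Subgroup.mem_sup_right hu) (Subgroup.mem_sup_left (htu u hu))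
    rwa [mul_inv_cancel_left] at this
  have hσ : Fn F W (δ ∘ (fun x => t * x * t⁻¹) ∘ γ') :=
    ((hγ'.mono hWN).comp (fn_conj hWS htS) hγW).comp hδ fun x hx => htW _ (hγW x hx)
  obtain ⟨b, hb, hbe⟩ := exists_aut_of_fn hσ (hσ.img_eq_self fun x hx => hδi.le (mem_img_of_mem (htW _ (hγW x hx))))
  refine ⟨b, hb, fun y hy => ?_, fun u hu => ?_⟩
  · rw [autFn_coe b ⟨y, Subgroup.mem_sup_left hy⟩, hbe]
    have h1 := htx (γ ⟨y, hy⟩)
    simp only [MulAut.mul_apply, MulAut.inv_apply_self] at h1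
    show δ (t * γ' y * t⁻¹) = _
    rw [hγe y hy, autFn_coe γ ⟨y, hy⟩, ← h1, ← autFn_coe γ, ← hγe _ (τ ⟨y, hy⟩).2,
      hδγ _ (Subgroup.mem_sup_left (τ ⟨y, hy⟩).2), autFn_coe τ ⟨y, hy⟩]
  · rw [autFn_coe b ⟨u, Subgroup.mem_sup_right hu⟩, hbe]
    have huN : u ∈ N := hWN (Subgroup.mem_sup_right hu)
    have hv := hγ'.map_centralizer hYN hγY huN hu
    obtain ⟨q, hq, hqe⟩ := (hγ'.mono hYN).mem_img.1 (hγY.ge (htu _ hv))
    show u⁻¹ * δ (t * γ' u * t⁻¹) ∈ Y
    rw [show t * γ' u * t⁻¹ = γ' u * γ' q by rw [hqe]; group, ← hγ'.map_mul huN (hYN hq),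
      hδγ _ (Subgroup.mul_mem _ (Subgroup.mem_sup_right hu) (Subgroup.mem_sup_left hq)), inv_mul_cancel_left]
    exact hq

/-- The automorphisms of `Y` with a lift trivial modulo `Y`. -/
def liftGroup (F : FusionSystem S) (E : FusionSystem T) (Y : Subgroup Ω) : Subgroup (MulAut Y) where
  carrier := {a | a ∈ E.autGroup Y ∧ ∃ b ∈ F.autGroup (Y ⊔ centralizerIn S Y),
    IsCompatible F Y (autFn b) ∧ ∀ y ∈ Y, autFn b y = autFn a y} ∪ {1}
  one_mem' := Or.inr rfl
  mul_mem' := by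
    rintro a₁ a₂ (⟨ha₁, b₁, hb₁, hc₁, he₁⟩ | h1) (⟨ha₂, b₂, hb₂, hc₂, he₂⟩ | h2)
    · left
      have hWS : Y ⊔ centralizerIn S Y ≤ S := hc₁.fn.le
      have hstab : ∀ y ∈ Y, autFn (b₁ * b₂) y = autFn (a₁ * a₂) y := fun y hy => by
        rw [autFn_mul _ _ (Subgroup.mem_sup_left hy), he₂ y hy, he₁ _ (autFn_mem a₂ hy), autFn_mul _ _ hy]
      refine ⟨mul_mem ha₁ ha₂, b₁ * b₂, mul_mem hb₁ hb₂, ⟨(mem_autGroup_iff_fn hWS).1 (mul_mem hb₁ hb₂),
        fun y hy => hstab y hy ▸ autFn_mem _ hy, fun u hu => ?_⟩, hstab⟩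
      have hz := hc₂.move u hu
      rw [autFn_mul _ _ (Subgroup.mem_sup_right hu),
        show autFn b₂ u = u * (u⁻¹ * autFn b₂ u) from (mul_inv_cancel_left _ _).symm,
        hc₁.fn.map_mul (Subgroup.mem_sup_right hu) (Subgroup.mem_sup_left hz), ← mul_assoc]
      exact Y.mul_mem (hc₁.move u hu) (hc₁.stable _ hz)
    · rw [show a₂ = 1 from h2, mul_one]; exact Or.inl ⟨ha₁, b₁, hb₁, hc₁, he₁⟩
    · rw [show a₁ = 1 from h1, one_mul]; exact Or.inl ⟨ha₂, b₂, hb₂, hc₂, he₂⟩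
    · rw [show a₁ = 1 from h1, one_mul]; exact Or.inr h2
  inv_mem' := by
    rintro a (⟨ha, b, hb, hc, he⟩ | h)
    · left
      have hWS : Y ⊔ centralizerIn S Y ≤ S := hc.fn.le
      have hfi := (mem_autGroup_iff_fn hWS).1 (inv_mem hb)
      have hstab : ∀ y ∈ Y, autFn b⁻¹ y = autFn a⁻¹ y := fun y hy => by
        conv_lhs => rw [← autFn_apply_inv a hy, ← he _ (autFn_mem a⁻¹ hy),
          autFn_inv_apply b (Subgroup.mem_sup_left (autFn_mem a⁻¹ hy))]
      refine ⟨inv_mem ha, b⁻¹, inv_mem hb, ⟨hfi, fun y hy => hstab y hy ▸ autFn_mem _ hy, fun u hu => ?_⟩, hstab⟩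
      have hv : autFn b⁻¹ u ∈ centralizerIn S Y := hfi.map_centralizer le_sup_left
        ((hfi.mono le_sup_left).img_eq_self fun y hy => hstab y hy ▸ autFn_mem _ hy) (Subgroup.mem_sup_right hu) hu
      have h1 := Y.inv_mem (hc.move _ hv)
      rw [autFn_apply_inv b (Subgroup.mem_sup_right hu)] at h1
      simpa using h1
    · right
      rw [show a = 1 from h, inv_one]
      rfl

/-- A coprime element of the lift group has a good lift. -/
theorem exists_goodLift (hYn : F.IsFullyNormalized Y) (hY : E.IsCentric Y) {a : MulAut Y}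
    (ha : a ∈ liftGroup F E Y) (hc : Nat.Coprime (orderOf a) p) :
    ∃ h, h ∈ F.autGroup (Y ⊔ centralizerIn S Y) ∧ GoodLift p F E Y h ∧ ∀ y ∈ Y, autFn h y = autFn a y := by
  have hWS : Y ⊔ centralizerIn S Y ≤ S := sup_le hYn.1 centralizerIn_le
  rcases ha with ⟨haE, b, hb, hcb, hbe⟩ | h1
  · haveI := finite_of_le_base hWS
    haveI := finite_of_le_base hYn.1
    have hbpow : ∀ j : ℕ, ∀ y ∈ Y, autFn (b ^ j) y = autFn (a ^ j) y := fun j => by
      induction j with
      | zero => intro y hy; rw [pow_zero, pow_zero, autFn_id (Subgroup.mem_sup_left hy), autFn_id hy]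
      | succ j ih =>
        intro y hy
        rw [pow_succ, pow_succ, autFn_mul _ _ (Subgroup.mem_sup_left hy), autFn_mul _ _ hy, hbe y hy,
          ih _ (autFn_mem a hy)]
    obtain ⟨q, r, k, hm, hr, -, hqk, hq1⟩ := exists_exponent (p := p) 0 (orderOf_pos b)
    have haq : a ^ q = a := by
      refine pow_eq_self ?_ hq1
      have h1 : a ^ orderOf b = 1 := mulAut_ext fun y hy => by
        rw [← hbpow _ y hy, pow_orderOf_eq_one, autFn_id (Subgroup.mem_sup_left hy), autFn_id hy]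
      refine orderOf_dvd_iff_pow_eq_one.1 (Nat.Coprime.dvd_of_dvd_mul_left (Nat.Coprime.pow_right k hc) ?_)
      rw [← hm]
      exact orderOf_dvd_of_pow_eq_one h1
    have hmove : ∀ j : ℕ, ∀ u ∈ centralizerIn S Y, u⁻¹ * autFn (b ^ j) u ∈ Y := fun j => by
      induction j with
      | zero => intro u hu; rw [pow_zero, autFn_id (Subgroup.mem_sup_right hu), inv_mul_cancel]; exact Y.one_mem
      | succ j ih =>
        intro u hu
        have hz := hcb.move u hu
        have hf := (mem_autGroup_iff_fn hWS).1 (pow_mem hb j)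
        rw [pow_succ, autFn_mul _ _ (Subgroup.mem_sup_right hu),
          show autFn b u = u * (u⁻¹ * autFn b u) from (mul_inv_cancel_left _ _).symm,
          hf.map_mul (Subgroup.mem_sup_right hu) (Subgroup.mem_sup_left hz), ← mul_assoc]
        exact Y.mul_mem (ih u hu) (hbpow j _ hz ▸ autFn_mem _ hz)
    refine ⟨b ^ q, pow_mem hb q, ⟨hYn, hY, ⟨(mem_autGroup_iff_fn hWS).1 (pow_mem hb q),
      fun y hy => hbpow q y hy ▸ autFn_mem _ hy, hmove q⟩, coprime_orderOf_pow hm hr hqk (pow_orderOf_eq_one b),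
      a ^ q, pow_mem haE q, hbpow q⟩, fun y hy => ?_⟩
    rw [hbpow q y hy, haq]
  · rw [show a = 1 from h1]
    have he : ∀ y ∈ Y, autFn (1 : MulAut ↥(Y ⊔ centralizerIn S Y)) y = autFn (1 : MulAut Y) y := fun y hy => by
      rw [autFn_id (Subgroup.mem_sup_left hy), autFn_id hy]
    refine ⟨1, one_mem _, ⟨hYn, hY, ⟨(mem_autGroup_iff_fn hWS).1 (one_mem _),
      fun y hy => by rw [autFn_id (Subgroup.mem_sup_left hy)]; exact hy,
      fun u hu => by rw [autFn_id (Subgroup.mem_sup_right hu), inv_mul_cancel]; exact Y.one_mem⟩,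
      by rw [orderOf_one]; exact Nat.coprime_one_left p, 1, one_mem _, he⟩, he⟩

/-- The fixed subgroup is centralized. -/
theorem centralized_fixedSubgroup (hS : IsPGroup p S) (hE : E.IsNormalIn F p) :
    Centralized F E (fixedSubgroup p F E) := by
  classical
  obtain ⟨hw, hext⟩ := hE
  obtain ⟨hEs, hF, hEi⟩ := id hw
  have hT := hEi.2.1
  haveI := finite_of_le_base hT.1
  have hTp := hS.to_le hT.1
  set K := fixedSubgroup p F E with hK
  have hKC : K ≤ centralizerIn S T := fixedSubgroup_le p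
  have hKS : K ≤ S := hKC.trans centralizerIn_le
  let D : FusionSystem T := predSystem E
    (fun P f => ∃ ψ, Fn F (P ⊔ K) ψ ∧ (∀ x ∈ P, ψ x = f x) ∧ ∀ x ∈ K, ψ x = x)
    (fun P f g he _ ⟨ψ, hψ, hψf, hψK⟩ => ⟨ψ, hψ, fun x hx => (hψf x hx).trans (he x hx), hψK⟩)
    (fun P hP s hs => ⟨_, fn_conj (sup_le (hP.trans hT.1) hKS) (hT.1 hs), fun x _ => rfl, fun x hx => by
      show s * x * s⁻¹ = x
      rw [(mem_centralizerIn.1 (hKC hx)).2 s hs, mul_inv_cancel_right]⟩)
    (fun P R f g hf hg hm ⟨ψ, hψ, hψf, hψK⟩ ⟨χ, hχ, hχg, hχK⟩ => by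
      refine ⟨χ ∘ ψ, hψ.comp hχ fun x hx => ?_, fun x hx => ?_, fun x hx => ?_⟩
      · have h1 := mem_img_of_mem (f := ψ) hx
        rw [hψ.img_sup] at h1
        exact sup_le_sup (img_le fun y hy => (hψf y hy).symm ▸ hm y hy)
          (img_le fun y hy => (hψK y hy).symm ▸ hy) h1
      · show χ (ψ x) = g (f x)
        rw [hψf x hx, hχg _ (hm x hx)]
      · show χ (ψ x) = x
        rw [hψK x hx, hχK x hx])
    (fun P f g hf hg hgf ⟨ψ, hψ, hψf, hψK⟩ => by
      obtain ⟨χ, hχ, hχψ, -⟩ := hψ.exists_inv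
      rw [hψ.img_sup, img_congr hψf, (img_congr (g := id) hψK).trans (img_id K)] at hχ
      refine ⟨χ, hχ, fun y hy => ?_, fun x hx => ?_⟩
      · obtain ⟨x, hx, rfl⟩ := hf.mem_img.1 hy
        rw [hgf x hx, ← hψf x hx, hχψ x (Subgroup.mem_sup_left hx)]
      · conv_lhs => rw [← hψK x hx, hχψ x (Subgroup.mem_sup_right hx)])
  -- a good lift gives an extension fixing the fixed subgroup
  have hgood : ∀ {Y : Subgroup Ω} {h : MulAut ↥(Y ⊔ centralizerIn S Y)}, GoodLift p F E Y h →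
      h ∈ F.autGroup (Y ⊔ centralizerIn S Y) → ∀ {P : Subgroup Ω} {g : Ω → Ω}, E.IsCentric P →
      Fn F (normalizerIn S P) g → img g P = Y → ∀ a ∈ E.autGroup P,
      (∀ x ∈ P, autFn h (g x) = g (autFn a x)) → a ∈ D.autGroup P := by
    intro Y h hh hhF P g hP hg hgi a ha hag
    have hPS := hP.1.trans hT.1
    have hle : P ⊔ K ≤ normalizerIn S P := sup_le (le_normalizerIn hPS) fun c hc =>
      (map_centralizer_normalizer hPS hP.1 hg hgi (hKC hc)).1
    have hgm : ∀ x ∈ P ⊔ K, g x ∈ Y ⊔ centralizerIn S Y := fun x hx => by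
      have h1 := mem_img_of_mem (f := g) hx
      rw [(hg.mono hle).img_sup] at h1
      exact sup_le_sup hgi.le (img_le fun c hc => (map_centralizer_normalizer hPS hP.1 hg hgi (hKC hc)).2) h1
    obtain ⟨g', hg', hg'g, -⟩ := (hg.mono hle).exists_inv
    have hcomp : Fn F (P ⊔ K) (autFn h ∘ g) :=
      (hg.mono hle).comp ((mem_autGroup_iff_fn (sup_le hh.fullyNormalized.1 centralizerIn_le)).1 hhF) hgm
    have hfK : ∀ c ∈ K, autFn h (g c) = g c := fun c hc => hc.2 Y h hh P g hP hPS hg hgi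
    have hmm : ∀ x ∈ P ⊔ K, (autFn h ∘ g) x ∈ img g (P ⊔ K) := fun x hx => by
      have h1 := mem_img_of_mem (f := autFn h ∘ g) hx
      rw [hcomp.img_sup] at h1
      refine sup_le (img_le fun y hy => ?_) (img_le fun c hc => ?_) h1
      · show autFn h (g y) ∈ _
        rw [hag y hy]
        exact mem_img_of_mem (Subgroup.mem_sup_left (autFn_mem a hy))
      · show autFn h (g c) ∈ _
        rw [hfK c hc]
        exact mem_img_of_mem (Subgroup.mem_sup_right hc)
    refine (mem_autGroup_iff_fn hP.1).2 (fn_predSystem.2 ⟨(mem_autGroup_iff_fn hP.1).1 ha,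
      g' ∘ (autFn h ∘ g), hcomp.comp hg' hmm, fun x hx => ?_, fun c hc => ?_⟩)
    · show g' (autFn h (g x)) = autFn a x
      rw [hag x hx, hg'g _ (Subgroup.mem_sup_left (autFn_mem a hx))]
    · show g' (autFn h (g c)) = c
      rw [hfK c hc, hg'g c (Subgroup.mem_sup_right hc)]
  have hle : E ≤ D := by
    refine le_of_automizers hTp hEs D ?_ fun P hPT hP hbig => ?_
    · intro α hα
      obtain ⟨β, hβ, γ, hγ, rfl⟩ := exists_residual_decomp hTp hEs (fullyAutomized_top hEs) hα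
      refine mul_mem ?_ ?_
      · clear hα
        induction hβ using Subgroup.closure_induction with
        | mem a ha =>
          have hTn := fullyNormalized_of_weaklyClosed (weaklyClosed_of_stronglyClosed hT)
          obtain ⟨b, hb, hbe, hbc⟩ := hext a a.2
          have hWS : T ⊔ centralizerIn S T ≤ S := sup_le hT.1 centralizerIn_le
          have hbf := (mem_autGroup_iff_fn hWS).1 hb
          have hbT : ∀ y ∈ T, autFn b y = autFn (a : MulAut T) y := fun y hy => by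
            rw [autFn_coe b ⟨y, Subgroup.mem_sup_left hy⟩, autFn_coe (a : MulAut T) ⟨y, hy⟩]
            exact hbe ⟨y, hy⟩
          have hl : (a : MulAut T) ∈ liftGroup F E T := Or.inl ⟨a.2, b, hb, ⟨hbf,
            fun y hy => hbT y hy ▸ autFn_mem _ hy, fun u hu => by
              rw [autFn_coe b ⟨u, Subgroup.mem_sup_right hu⟩]
              exact (hbc ⟨u, Subgroup.mem_sup_right hu⟩ hu).1⟩, hbT⟩
          obtain ⟨h, hhF, hh, hhe⟩ := exists_goodLift (p := p) hTn (centric_top E) hl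
            (by rw [Subgroup.orderOf_coe]; exact ha)
          exact hgood hh hhF (centric_top E) (fn_id normalizerIn_le) (img_id T) _ a.2 hhe
        | one => exact one_mem _
        | mul x y _ _ hx hy => exact mul_mem hx hy
        | inv x _ hx => exact inv_mem hx
      · exact autInducedBy_le_autGroup le_rfl hγ
    have hext' : ∀ α, ExtAut E P α → α ∈ D.autGroup P := by
      rintro α ⟨N, g, hPN, hg, hgα⟩
      refine (mem_autGroup hPT.le).2 (mem_hom_of_fn ((hbig N g ?_ hg).mono hPN.le) fun x => (hgα x).symm)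
      haveI := finite_of_le_base hg.le
      exact Set.Finite.card_lt_card (Set.toFinite (N : Set Ω)) hPN
    rcases extClosure_eq_or_essential hTp hEs hPT hP with h | hess
    · rw [← h]
      exact (Subgroup.closure_le _).2 hext'
    have hPc := hess.1
    have hPS := hPT.le.trans hT.1
    haveI := finite_of_le_base hPS
    obtain ⟨hA, hfc⟩ := fullyNormalized_good hTp hEs hP
    obtain ⟨Y, hPY, hY⟩ := exists_fullyNormalized (F := F) hPS
    obtain ⟨g, hg, -, hgi⟩ := exists_normalizer_map hS (fullyNormalized_good hS hF hY).1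
      (fullyNormalized_receptive hS hF hY) hPY
    have hgP := hg.mono (le_normalizerIn hPS)
    have hYc : E.IsCentric Y := hgi ▸ centric_img hEi hPc hgP
    haveI := finite_of_le_base hY.1
    obtain ⟨e, he, -⟩ := exists_transport hPS hgP hgi
    have hAS : autInducedBy T P ≤ opAut p E P := fun τ hτ => by
      obtain ⟨k, hk⟩ := isPGroup_autInducedBy hTp ⟨τ, hτ⟩
      exact mem_opAut_of_pow (autInducedBy_le_autGroup hPT.le hτ) (congrArg Subtype.val hk)
    have hOA : opAut p E P ≤ E.autGroup P := Subgroup.map_subtype_le _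
    have hlift : opAut p E P ≤ (liftGroup F E Y).comap (MulAut.congr e).toMonoidHom :=
      opAut_closure fun τ hτ ⟨k, hk⟩ => by
        have hτ' := congr_mem hEi hPT.le hgP hgi e he hτ
        obtain ⟨b, hb, hbe, hbu⟩ := exists_lift_pElement hS hw hYc hY hτ' (k := k)
          (by rw [← map_pow, hk, map_one])
        exact Or.inl ⟨hτ', b, hb, ⟨(mem_autGroup_iff_fn (sup_le hY.1 centralizerIn_le)).1 hb,
          fun y hy => hbe y hy ▸ autFn_mem _ hy, hbu⟩, hbe⟩
    -- coprime elements of the residual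
    have hco : ∀ a ∈ opAut p E P, Nat.Coprime (orderOf a) p → a ∈ D.autGroup P := by
      intro a ha hac
      obtain ⟨h, hhF, hh, hhe⟩ := exists_goodLift (p := p) hY hYc (hlift ha) (by
        show Nat.Coprime (orderOf (MulAut.congr e a)) p
        rwa [MulEquiv.orderOf_eq])
      refine hgood hh hhF hPc hg hgi a (hOA ha) fun x hx => ?_
      lift x to P using hx
      rw [← he x, hhe _ (e x).2]
      show autFn (MulAut.congr e a) ((e x : Y) : Ω) = g (autFn a x)
      rw [autFn_coe, autFn_coe, show (MulAut.congr e a) (e x) = e (a x) by simp [MulAut.congr], he]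
    intro α hα
    obtain ⟨-, Syl, hSyl⟩ := hA
    let N := (opAut p E P).subgroupOf (E.autGroup P)
    haveI : N.Normal := ⟨fun n hn a => conj_mem_opAut hn a.2⟩
    have hTN : (Syl : Subgroup (E.autGroup P)) ≤ N := by
      rw [hSyl]
      exact fun a ha => hAS ha
    have hsup : (Subgroup.normalizer ((Syl : Subgroup (E.autGroup P)) : Set (E.autGroup P))) ⊔ N = ⊤ :=
      Sylow.normalizer_sup_eq_top' Syl hTN
    have hmem : (⟨α, hα⟩ : E.autGroup P) ∈
        ((Subgroup.normalizer ((Syl : Subgroup (E.autGroup P)) : Set (E.autGroup P)) ⊔ N : Subgroup _) :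
          Set (E.autGroup P)) := by
      rw [hsup]
      exact Subgroup.mem_top _
    rw [Subgroup.mul_normal] at hmem
    obtain ⟨a, ha, o, ho, e'⟩ := hmem
    rw [← show (a : MulAut P) * (o : MulAut P) = α from congrArg Subtype.val e']
    refine mul_mem ?_ ?_
    · obtain ⟨n, -, hn, hnP⟩ := exists_mem_normalizer_not_mem hTp (le_refl T) hPT
      refine hext' _ (extAut_of_receptive (fullyCentralized_receptive hTp hEs hfc) a.2 hn hnP ?_)
      have hcn : (⟨conjAut P hn.2, autInducedBy_le_autGroup hPT.le (conjAut_mem_autInducedBy hn.2 hn.1)⟩ :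
          E.autGroup P) ∈ (Syl : Subgroup (E.autGroup P)) := by
        rw [hSyl]
        exact conjAut_mem_autInducedBy hn.2 hn.1
      have h1 := (Subgroup.mem_normalizer_iff.1 ha _).1 hcn
      rw [hSyl] at h1
      exact h1
    · haveI : Finite (MulAut P) := Finite.of_injective (fun f : MulAut P => (f : P → P)) DFunLike.coe_injective
      have hnd : ¬ p ∣ (autInducedBy T P).relIndex (opAut p E P) := fun h => by
        apply Syl.not_dvd_index
        rw [hSyl]
        exact h.trans (Dvd.intro _ (Subgroup.relIndex_mul_relIndex _ _ _ hAS hOA))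
      let Syl' : Sylow p (opAut p E P) :=
        CfsgLib.Fusion.Basic.sylowSubgroupOf hAS (isPGroup_autInducedBy hTp) hnd
      have htop := CfsgLib.Fusion.Basic.pResidual_sup_sylow Syl'
      have hall : pResidual p (opAut p E P) ⊔ (Syl' : Subgroup (opAut p E P)) ≤
          (D.autGroup P).comap (opAut p E P).subtype := by
        refine sup_le ((Subgroup.closure_le _).2 fun b hb => hco b b.2 ?_) ?_
        · rw [Subgroup.orderOf_coe]
          exact hb
        · rw [CfsgLib.Fusion.Basic.coe_sylowSubgroupOf]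
          exact fun b hb => autInducedBy_le_autGroup hPT.le hb
      rw [htop] at hall
      exact hall (Subgroup.mem_top (⟨(o : MulAut P), ho⟩ : opAut p E P))
  refine (centralized_iff hEi.1 hKC).2 fun P f hf => ?_
  exact (fn_predSystem.1 (fn_of_le hle hf)).2

end CfsgLib.Fsys.WNR
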