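import Cfsg.Agent.Lib.FusionSystem.EProd.Product
import Cfsg.Agent.Lib.FusionSystem.GlaubermanFusion
import Cfsg.Agent.Lib.FusionSystem.NormalCentralizerClosed

/-! The centralizer in `S` of the base of a normal subsystem, modulo the centralizer of the subsystem. -/

set_option autoImplicit false

namespace CfsgLib.Fsys.NormalCent

open Cfsg Cfsg.FusionSystem CfsgLib.Fsys.WNR CfsgLib.Fsys.EProd
open Cfsg.FusionSystem (centralizerIn normalizerIn)

universe u

variable {Ω : Type u} [Group Ω] {S T : Subgroup Ω} [Finite S] {F : FusionSystem S} {E : FusionSystem T}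
  {p : ℕ} [Fact p.Prime]

omit [Fact p.Prime] in
/-- Commutators in `C_S(T)` are fixed by all good lifts. -/
theorem commutator_mem_fixed {a b : Ω} (ha : a ∈ centralizerIn S T) (hb : b ∈ centralizerIn S T) :
    a * b * (b * a)⁻¹ ∈ fixedSubgroup p F E := by
  refine ⟨mul_mem (mul_mem ha hb) (inv_mem (mul_mem hb ha)), fun Y h hh P g hP hPS hg hgi => ?_⟩
  obtain ⟨haN, hga⟩ := map_centralizer_normalizer hPS hP.1 hg hgi ha
  obtain ⟨hbN, hgb⟩ := map_centralizer_normalizer hPS hP.1 hg hgi hb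
  have hc := hh.compatible
  have hz := hc.move_central hga
  have hw := hc.move_central hgb
  set u := g a
  set v := g b
  set z := u⁻¹ * autFn h u
  set w := v⁻¹ * autFn h v
  have hu : autFn h u = u * z := (mul_inv_cancel_left _ _).symm
  have hv : autFn h v = v * w := (mul_inv_cancel_left _ _).symm
  have huW : u ∈ Y ⊔ centralizerIn S Y := Subgroup.mem_sup_right hga
  have hvW : v ∈ Y ⊔ centralizerIn S Y := Subgroup.mem_sup_right hgb
  rw [hg.map_mul (mul_mem haN hbN) (inv_mem (mul_mem hbN haN)), hg.map_inv (mul_mem hbN haN),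
    hg.map_mul haN hbN, hg.map_mul hbN haN]
  show autFn h (u * v * (v * u)⁻¹) = u * v * (v * u)⁻¹
  rw [hc.fn.map_mul (mul_mem huW hvW) (inv_mem (mul_mem hvW huW)), hc.fn.map_inv (mul_mem hvW huW),
    hc.fn.map_mul huW hvW, hc.fn.map_mul hvW huW, hu, hv]
  have h1 : z * v = v * z := IsCompatible.commute hgb hz
  have h2 : w * u = u * w := IsCompatible.commute hga hw
  have h3 : z * w = w * z := IsCompatible.commute hw.2 hz
  have e1 : u * z * (v * w) = u * v * (z * w) := by
    rw [mul_assoc, ← mul_assoc z, h1]; simp only [mul_assoc]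
  have e2 : v * w * (u * z) = v * u * (z * w) := by
    rw [mul_assoc, ← mul_assoc w, h2, h3]; simp only [mul_assoc]
  rw [e1, e2]
  group

omit [Finite S] in
/-- A subgroup centralized by the subsystem lies in the base, given the hypothesis on centralizer systems. -/
theorem le_base_of_centralized
    (hCE : ∀ Y : Subgroup Ω, Y ≤ centralizerIn S T →
      (∀ C : FusionSystem (centralizerIn S Y), F.IsCentralizerSystem Y C → E.IsSubsystemOf C) → Y ≤ T)
    {X : Subgroup Ω} (hX : X ≤ centralizerIn S T) (h : Centralized F E X) : X ≤ T :=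
  hCE X hX fun _ hC P => (hC P).symm ▸ h P

/-- For odd `p`, every element of `C_S(T)` is centralized by the subsystem modulo `Z(T)`. -/
theorem exists_centralized (hS : IsPGroup p S) (hp : p ≠ 2) (hE : E.IsNormalIn F p) {x : Ω}
    (hx : x ∈ centralizerIn S T) :
    ∃ t ∈ T, x * t ∈ centralizerIn S T ∧ Centralized F E (Subgroup.zpowers (x * t)) := by
  classical
  have dt : Data F E p := ⟨hS, hE⟩
  have hT := dt.sc
  set B := T ⊔ Subgroup.zpowers x with hBdef
  have hTB : T ≤ B := le_sup_left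
  haveI := finite_of_le_base hT.1
  have hxB : x ∈ B := Subgroup.mem_sup_right (Subgroup.mem_zpowers x)
  have hBS : B ≤ S := sup_le hT.1 (Subgroup.zpowers_le.2 (mem_centralizerIn.1 hx).1)
  haveI := finite_of_le_base hBS
  have hBp : IsPGroup p B := hS.to_le hBS
  set G := gsys F E p hBS with hGdef
  have hG : G.IsSaturated p := gsys_saturated dt hTB hBS
  have hxc : ∀ b ∈ B, b * x = x * b := fun b hb =>
    Subgroup.mem_centralizer_singleton_iff.1 ((sup_le (fun t ht => Subgroup.mem_centralizer_singleton_iff.2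
      ((mem_centralizerIn.1 hx).2 t ht)) (Subgroup.zpowers_le.2 (Subgroup.mem_centralizer_singleton_iff.2 rfl)) :
        B ≤ Subgroup.centralizer {x}) hb)
  set J := wOf (fun Q _ => jA Q) B with hJdef
  have hJB : J ≤ B := wOf_le B
  haveI := finite_of_le_base hJB
  have hJn : normalizerIn B J = B := normalizerIn_wOf jA_map hBp
  have hxJ : x ∈ J :=
    ⟨⟨x, hxB⟩, center_le_jA ↥B hBp (Subgroup.mem_center_iff.2 fun b => Subtype.ext (hxc b b.2)), rfl⟩
  have hJf : G.IsFullyNormalized J := ⟨hJB, fun Q _ => by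
    rw [hJn]; exact Subgroup.card_le_of_le normalizerIn_le⟩
  set Γ := G.autGroup J with hΓdef
  have hTinv : ∀ a ∈ Γ, ∀ t ∈ J, t ∈ T → autFn a t ∈ T := fun a ha t htJ htT =>
    sc_apply hT (((mem_autGroup_iff_fn hJB).1 ha).of_subsystem gsys_sub) htJ htT
  have hxT : ∀ a ∈ Γ, x⁻¹ * autFn a x ∈ T := by
    let M : Subgroup (MulAut J) :=
      { carrier := {a | a ∈ Γ ∧ x⁻¹ * autFn a x ∈ T}
        one_mem' := ⟨one_mem _, by rw [autFn_id hxJ, inv_mul_cancel]; exact one_mem _⟩
        mul_mem' := fun {a b} ha hb => ⟨mul_mem ha.1 hb.1, by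
          have htJ : x⁻¹ * autFn b x ∈ J := J.mul_mem (J.inv_mem hxJ) (autFn_mem b hxJ)
          have h := T.mul_mem ha.2 (hTinv a ha.1 _ htJ hb.2)
          rw [autFn_mul _ _ hxJ, show autFn b x = x * (x⁻¹ * autFn b x) from (mul_inv_cancel_left _ _).symm,
            ((mem_autGroup_iff_fn hJB).1 ha.1).map_mul hxJ htJ, ← mul_assoc]
          exact h⟩
        inv_mem' := fun {a} ha => ⟨inv_mem ha.1, by
          have htJ : x⁻¹ * autFn a x ∈ J := J.mul_mem (J.inv_mem hxJ) (autFn_mem a hxJ)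
          have h := T.inv_mem (hTinv a⁻¹ (inv_mem ha.1) _ htJ ha.2)
          have e : x = autFn a⁻¹ x * autFn a⁻¹ (x⁻¹ * autFn a x) := by
            rw [← ((mem_autGroup_iff_fn hJB).1 (inv_mem ha.1)).map_mul hxJ htJ, mul_inv_cancel_left,
              autFn_inv_apply a hxJ]
          have e' : (autFn a⁻¹ (x⁻¹ * autFn a x))⁻¹ = x⁻¹ * autFn a⁻¹ x := by
            generalize hy : autFn a⁻¹ (x⁻¹ * autFn a x) = y at e ⊢
            generalize hz : autFn a⁻¹ x = z at e ⊢
            rw [e]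
            group
          exact e' ▸ h⟩ }
    intro a ha
    obtain ⟨β, hβ, γ, hγ, rfl⟩ := exists_residual_decomp hBp hG (fullyNormalized_good hBp hG hJf).1 ha
    refine (mul_mem (residual_le (B := M) (fun b hb hco => ⟨hb, ?_⟩) ⟨β, hβ, rfl⟩)
      (show γ ∈ M from ⟨autInducedBy_le_autGroup hJB hγ, ?_⟩)).2
    · refine (hyperfocal_le : E.hyperfocalSubgroup p ≤ T) ?_
      rw [← gsys_hyperfocal dt hTB hBS]
      exact disp_mem_hyperfocal hJB hb hco hxJ
    · obtain ⟨g, hg, hge⟩ := mem_autInducedBy.1 hγ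
      rw [autFn_coe γ ⟨x, hxJ⟩, hge, hxc g hg, mul_inv_cancel_right, inv_mul_cancel]
      exact one_mem _
  let V := Subgroup.center J
  haveI : IsMulCommutative V := inferInstance
  let act : MulAut J → V →* V := fun a => (a.toMonoidHom.comp V.subtype).codRestrict V fun v =>
    Subgroup.mem_center_iff.2 fun y => by
      show y * a v.1 = a v.1 * y
      rw [← a.apply_symm_apply y, ← map_mul, ← map_mul, Subgroup.mem_center_iff.1 v.2]
  let x' : V := ⟨⟨x, hxJ⟩, Subgroup.mem_center_iff.2 fun y => Subtype.ext (hxc y (hJB y.2))⟩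
  obtain ⟨⟨R, hR⟩, -⟩ := fullyNormalized_good hBp hG hJf |>.1.2, ()
  have hRx : ∀ r : Γ, r ∈ (R : Subgroup Γ) → act r.1 x' = x' := by
    intro r hr
    rw [hR] at hr
    obtain ⟨g, hg, hge⟩ := mem_autInducedBy.1 hr
    refine Subtype.ext (Subtype.ext ?_)
    show ((r.1 ⟨x, hxJ⟩ : J) : Ω) = x
    exact (hge ⟨x, hxJ⟩).trans (by show g * x * g⁻¹ = x; rw [hxc g hg, mul_inv_cancel_right])
  let f : Γ ⧸ (R : Subgroup Γ) → V := Quotient.lift (fun a => act a.1 x') fun a b hab => by
    have h := hRx _ (QuotientGroup.leftRel_apply.1 hab)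
    calc act a.1 x' = act a.1 (act (a⁻¹ * b).1 x') := by rw [h]
      _ = act b.1 x' := Subtype.ext (by
          show a.1 ((a⁻¹ * b : Γ).1 x'.1) = b.1 x'.1
          rw [← MulAut.mul_apply, Subgroup.coe_mul, Subgroup.coe_inv, mul_inv_cancel_left])
  haveI : Fintype (Γ ⧸ (R : Subgroup Γ)) := Fintype.ofFinite _
  open scoped IsMulCommutative in
  set w : V := ∏ c, f c with hw
  open scoped IsMulCommutative in
  have hfix : ∀ a : Γ, act a.1 w = w := fun a => by
    rw [hw, map_prod]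
    have h : ∀ c, act a.1 (f c) = f (a • c) := by
      intro c
      induction c using QuotientGroup.induction_on with
      | H b => exact Subtype.ext rfl
    simp only [h]
    exact Equiv.prod_comp (MulAction.toPerm a) f
  let D : Subgroup V := (T.subgroupOf J).subgroupOf V
  have hfD : ∀ c, x'⁻¹ * f c ∈ D := by
    intro c
    induction c using QuotientGroup.induction_on with
    | H b =>
      show x⁻¹ * ((b.1 ⟨x, hxJ⟩ : J) : Ω) ∈ T
      rw [← autFn_coe]
      exact hxT b.1 b.2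
  set m := Fintype.card (Γ ⧸ (R : Subgroup Γ))
  open scoped IsMulCommutative in
  have hmD : x'⁻¹ ^ m * w ∈ D := by
    have h : ∏ c, (x'⁻¹ * f c) ∈ D := D.prod_mem fun c _ => hfD c
    rwa [Finset.prod_mul_distrib, Finset.prod_const, Finset.card_univ] at h
  have hm : (orderOf x').Coprime m := by
    obtain ⟨k, hk⟩ := IsPGroup.iff_orderOf.1 (hBp.to_le hJB) ⟨x, hxJ⟩
    rw [← Subgroup.orderOf_coe, show ((x' : V) : J) = ⟨x, hxJ⟩ from rfl, hk,
      show m = (R : Subgroup Γ).index from (Nat.card_eq_fintype_card).symm]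
    exact Nat.Coprime.pow_left k ((Fact.out : p.Prime).coprime_iff_not_dvd.2 R.not_dvd_index)
  obtain ⟨k, hk⟩ := exists_pow_eq_self_of_coprime hm.symm
  open scoped IsMulCommutative in
  have hkD : x'⁻¹ * w ^ k ∈ D := by
    have h := D.pow_mem hmD k
    rwa [mul_pow, inv_pow, inv_pow, hk] at h
  open scoped IsMulCommutative in
  have hkfix : ∀ a : Γ, act a.1 (w ^ k) = w ^ k := fun a => by rw [map_pow, hfix]
  obtain ⟨v, hvdef⟩ : ∃ v : Ω, v = (((w ^ k : V) : J) : Ω) := ⟨_, rfl⟩
  have hvJ : v ∈ J := hvdef ▸ (w ^ k : V).1.2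
  have hvfix : ∀ a ∈ Γ, autFn a v = v := fun a ha => by
    rw [hvdef, autFn_coe]
    exact congrArg (fun u : V => ((u : J) : Ω)) (hkfix ⟨a, ha⟩)
  have hvc : ∀ b ∈ B, b * v = v * b := by
    intro b hb
    have hbn : b ∈ normalizerIn B J := hJn.ge hb
    have hf := fn_conj (F := G) hJB hb
    obtain ⟨a, ha, hae⟩ := exists_aut_of_fn hf (hf.img_eq_self fun y hy =>
      (mem_normalizer_iff'.1 hbn.2).1 y hy)
    have h1 := hvfix a ha
    rw [autFn_coe a ⟨v, hvJ⟩, hae] at h1
    exact mul_inv_eq_iff_eq_mul.1 h1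
  set t := x⁻¹ * v with htdef
  have htT : t ∈ T := by
    rw [htdef, hvdef]
    exact hkD
  have hxt : x * t = v := by rw [htdef, mul_inv_cancel_left]
  have hvC : x * t ∈ centralizerIn S T := by
    rw [hxt]
    exact mem_centralizerIn.2 ⟨hBS (hJB hvJ), fun y hy => hvc y (hTB hy)⟩
  refine ⟨t, htT, hvC, (centralized_iff dt.sub (Subgroup.zpowers_le.2 hvC)).2 fun P e he => ?_⟩
  rw [hxt]
  have hZ : Subgroup.zpowers v ≤ zPow p 0 B := by
    rw [zPow_zero]
    exact Subgroup.zpowers_le.2 ⟨hJB hvJ, Subgroup.mem_centralizer_iff.2 hvc⟩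
  have hloc : LocFix G (Subgroup.zpowers v) J := fun Q g hg hJQ hvQ hgi y hy => by
    obtain ⟨a, ha, hae⟩ := exists_aut_of_fn (hg.mono hJQ) hgi
    have h1 : g v = v := by rw [← hae ⟨v, hvJ⟩, ← autFn_coe, hvfix a ha]
    obtain ⟨i, rfl⟩ := Subgroup.mem_zpowers_iff.1 hy
    have h2 : ((a (⟨v, hvJ⟩ ^ i) : J) : Ω) = g (v ^ i) := by
      rw [hae]
      simp
    rw [← h2, map_zpow]
    simp [hae, h1]
  have hcen : G.IsCentral (Subgroup.zpowers v) :=
    central_of_wOf_class (W := fun Q _ => jA Q) 0 jA_ne_bot jA_map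
      (fun {Ω} _ {S} F => SFour p F) (fun L _ => p ≠ 2 ∨ ¬ Involves (Equiv.Perm (Fin 4)) L)
      (fun h hι hT => h.not_involves hι hT) (fun h hle hsub => h.of_subsystem hle hsub)
      (fun h hS hF _ hQ _ _ _ _ hE hEs => h.factor hS hF hQ hE hEs)
      (fun L _ _ T hg hc => Glauberman.center_of_jA L hg T hc) hBp hG (Or.inl hp) hZ hloc
  obtain ⟨g, hg, hge, hgv⟩ := (central_iff_fn.1 hcen).2 P e (he.of_subsystem (sub_gsys dt hTB hBS))
  exact ⟨g, hg.of_subsystem gsys_sub, hge, hgv⟩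

end CfsgLib.Fsys.NormalCent
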