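import Cfsg.Prelude.Def_PLocal
import Cfsg.Agent.Lib.FusionSystem.SmallElements
import Cfsg.Agent.Lib.LocalEven.SylowIn

/-! A strongly closed subgroup is normal when its `Ω₁` has a central series of strongly closed subgroups. -/

set_option autoImplicit false

open Cfsg Cfsg.FusionSystem

namespace CfsgLib.Fsys

open scoped commutatorElement

variable {Ω : Type*} [Group Ω] {S P : Subgroup Ω} {F : FusionSystem S} {p : ℕ} [Fact p.Prime] [Finite S]

theorem normal_iff_omega_chain (hS : IsPGroup p S) (hF : F.IsSaturated p) (hp : p ≠ 2) (hP : F.StronglyClosed P) :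
    F.IsNormal P ↔ ∃ (n : ℕ) (Q : Fin (n + 1) → Subgroup Ω), Q 0 = ⊥ ∧ Q (Fin.last n) = omegaOne p P ∧
      Monotone Q ∧ (∀ i : Fin (n + 1), F.StronglyClosed (Q i)) ∧ ∀ i : Fin n, ⁅Q i.succ, P⁆ ≤ Q i.castSucc := by
  classical
  have homega : omegaOne p P ≤ P := (Subgroup.closure_le _).2 fun x hx => hx.1
  constructor
  · intro hn
    obtain ⟨C, n, h0, hCn, hmono, hsc, hcomm⟩ := normal_series hS hn
    have hW : F.StronglyClosed (omegaOne p P) := by
      refine stronglyClosed_iff_fn.2 ⟨homega.trans hP.1, fun X f hf x hx hxW => ?_⟩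
      obtain ⟨g, hg, he, hi⟩ := (normal_iff_fn.1 hn).2 X f hf
      rw [← he x hx]
      have hgP := hg.mono (le_sup_right : P ≤ X ⊔ P)
      have h1 : img g (omegaOne p P) ≤ omegaOne p P := by
        refine img_le fun y hy => ?_
        induction hy using Subgroup.closure_induction with
        | mem z hz =>
          obtain ⟨φ, -, hφ⟩ := id hgP
          refine Subgroup.subset_closure ⟨hi.le (mem_img_of_mem hz.1), ?_⟩
          have := map_pow φ ⟨z, hz.1⟩ p
          rw [show (⟨z, hz.1⟩ : P) ^ p = 1 from Subtype.ext hz.2, map_one, hφ] at this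
          exact this.symm
        | one => rw [hg.map_one]; exact Subgroup.one_mem _
        | mul a b ha hb iha ihb =>
          rw [hgP.map_mul (homega ha) (homega hb)]
          exact Subgroup.mul_mem _ iha ihb
        | inv a ha iha =>
          rw [hgP.map_inv (homega ha)]
          exact Subgroup.inv_mem _ iha
      exact h1 (mem_img_of_mem hxW)
    refine ⟨n, fun i => C i ⊓ omegaOne p P, ?_, ?_, fun i j hij => inf_le_inf_right _ (hmono hij), fun i => ?_,
      fun i => ?_⟩
    · show C ((0 : Fin (n + 1)) : ℕ) ⊓ _ = ⊥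
      simp [h0]
    · show C ((Fin.last n : Fin (n + 1)) : ℕ) ⊓ _ = _
      rw [Fin.val_last, hCn]
      exact inf_eq_right.2 homega
    · exact stronglyClosed_iff_fn.2 ⟨inf_le_right.trans hW.1, fun X f hf x hx hxQ =>
        ⟨(stronglyClosed_iff_fn.1 (hsc i (Nat.lt_succ_iff.1 i.2))).2 X f hf x hx hxQ.1,
          (stronglyClosed_iff_fn.1 hW).2 X f hf x hx hxQ.2⟩⟩
    · refine le_inf ?_ ?_
      · rw [Subgroup.commutator_comm]
        exact (Subgroup.commutator_mono le_rfl (inf_le_left : C (i.succ : ℕ) ⊓ _ ≤ _)).trans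
          (hcomm i i.2)
      · refine Subgroup.commutator_le.2 fun a ha b hb => ?_
        have h1 := sc_conj hW (hP.1 hb) ((omegaOne p P).inv_mem ha.2)
        have := (omegaOne p P).mul_mem ha.2 h1
        rw [commutatorElement_def]
        simpa [mul_assoc] using this
  · rintro ⟨n, Q, hQ0, hQn, hmono, hsc, hcomm⟩
    refine normal_of_stronglyClosed_of_le hS hF hP fun R hc hr => ?_
    refine le_of_forall_normalizer hS hc.1 hP.1 (hc.1.trans (sc_le_normalizer hP)) fun t htP htn => ?_
    have := finite_of_le_base hc.1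
    have hRP : R ⊓ P ≤ S := inf_le_left.trans hc.1
    have := finite_of_le_base hRP
    have hinv : ∀ {X : Subgroup Ω}, F.StronglyClosed X → ∀ a ∈ F.autGroup R, ∀ x ∈ R, x ∈ X →
        autFn a x ∈ X := fun {X} hX a ha x hx hxX =>
      (stronglyClosed_iff_fn.1 hX).2 _ _ ((mem_autGroup_iff_fn hc.1).1 ha) x hx hxX
    have hid : ∀ {x : Ω}, x ∈ R → autFn (1 : MulAut R) x = x := fun hx => autFn_coe 1 ⟨_, hx⟩
    let A : Subgroup (MulAut R) :=
      { carrier := {a | a ∈ F.autGroup R ∧ (∀ x ∈ R, x⁻¹ * autFn a x ∈ P) ∧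
          ∀ i : Fin n, ∀ x ∈ R, x ∈ Q i.succ → x⁻¹ * autFn a x ∈ Q i.castSucc}
        one_mem' := ⟨Subgroup.one_mem _, fun x hx => by rw [hid hx, inv_mul_cancel]; exact P.one_mem,
          fun i x hx _ => by rw [hid hx, inv_mul_cancel]; exact Subgroup.one_mem _⟩
        mul_mem' := fun {a b} ha hb => by
          refine ⟨mul_mem ha.1 hb.1, fun x hx => ?_, fun i x hx hxQ => ?_⟩
          · rw [autFn_mul _ _ hx]
            have := P.mul_mem (hb.2.1 x hx) (ha.2.1 _ (autFn_mem b hx))
            rwa [mul_assoc, mul_inv_cancel_left] at this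
          · rw [autFn_mul _ _ hx]
            have := Subgroup.mul_mem _ (hb.2.2 i x hx hxQ)
              (ha.2.2 i _ (autFn_mem b hx) (hinv (hsc _) b hb.1 x hx hxQ))
            rwa [mul_assoc, mul_inv_cancel_left] at this
        inv_mem' := fun {a} ha => by
          refine ⟨inv_mem ha.1, fun x hx => ?_, fun i x hx hxQ => ?_⟩
          · have h1 := ha.2.1 _ (autFn_mem a⁻¹ hx)
            rw [autFn_apply_inv a hx] at h1
            simpa using P.inv_mem h1
          · have h1 := ha.2.2 i _ (autFn_mem a⁻¹ hx) (hinv (hsc _) a⁻¹ (inv_mem ha.1) x hx hxQ)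
            rw [autFn_apply_inv a hx] at h1
            simpa using Subgroup.inv_mem _ h1 }
    have hAp : IsPGroup p A := by
      refine isPGroup_of_forall_coprime fun a ha => Subtype.ext ?_
      obtain ⟨D, hDc, hDs, hDd⟩ := exists_small_detector (hS.to_le hRP)
      have hcop : Nat.Coprime (orderOf (a : MulAut R)) p := by rwa [Subgroup.orderOf_coe]
      have hf := ((mem_autGroup_iff_fn hc.1).1 a.2.1).mono (inf_le_left : R ⊓ P ≤ R)
      obtain ⟨b, -, hb⟩ := exists_aut_of_fn hf
        (hf.img_eq_self fun x hx => ⟨autFn_mem _ hx.1, hinv hP _ a.2.1 x hx.1 hx.2⟩)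
      have hshift : ∀ x : R, autFn (a : MulAut R) ((x⁻¹ * (a : MulAut R) x : R) : Ω) =
          ((x⁻¹ * (a : MulAut R) x : R) : Ω) → (a : MulAut R) x = x := fun x h =>
        fixed_of_fixed_shift (hS.to_le hc.1) hcop (Subtype.ext ((autFn_coe _ _).symm.trans h))
      have hfixQ : ∀ i : Fin (n + 1), ∀ y : ↥(R ⊓ P), y ∈ D → (y : Ω) ∈ Q i →
          autFn (a : MulAut R) y = y := by
        intro i
        induction i using Fin.induction with
        | zero =>
          intro y _ hy
          rw [hQ0, Subgroup.mem_bot] at hy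
          rw [hy]
          exact (autFn_coe (a : MulAut R) (1 : R)).trans (by rw [map_one]; rfl)
        | succ i ih =>
          intro y hyD hy
          have h1 := a.2.2.2 i y y.2.1 hy
          have h2 := ih (y⁻¹ * b y) (D.mul_mem (D.inv_mem hyD) (hDc b y hyD))
            (by rw [Subgroup.coe_mul, Subgroup.coe_inv, hb y]; exact h1)
          rw [Subgroup.coe_mul, Subgroup.coe_inv, hb y, autFn_coe _ ⟨(y : Ω), y.2.1⟩] at h2
          rw [autFn_coe _ ⟨(y : Ω), y.2.1⟩]
          exact congrArg Subtype.val (hshift ⟨(y : Ω), y.2.1⟩ h2)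
      have hb1 : b = 1 := by
        have hpow : ∀ (k : ℕ) (x : ↥(R ⊓ P)), (((b ^ k) x : ↥(R ⊓ P)) : Ω) = autFn ((a : MulAut R) ^ k) x := by
          intro k
          induction k with
          | zero => intro x; rw [pow_zero, pow_zero, hid x.2.1]; rfl
          | succ k ih =>
            intro x
            rw [pow_succ', pow_succ', MulAut.mul_apply, hb, ih, autFn_mul _ _ x.2.1]
        refine hDd b (hcop.coprime_dvd_left (orderOf_dvd_of_pow_eq_one (MulEquiv.ext fun x => Subtype.ext ?_)))
          fun y hy => Subtype.ext ?_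
        · rw [hpow, pow_orderOf_eq_one, hid x.2.1]
          rfl
        · rw [hb]
          refine hfixQ (Fin.last n) y hy (hQn.ge (Subgroup.subset_closure ⟨y.2.2, ?_⟩))
          rcases hDs y hy with h | ⟨h2, -⟩
          · exact congrArg Subtype.val h
          · exact absurd h2 hp
      refine MulEquiv.ext fun x => hshift x ?_
      have hmem : ((x⁻¹ * (a : MulAut R) x : R) : Ω) ∈ R ⊓ P := ⟨Subtype.prop _, by
        have := a.2.2.1 x x.2
        rwa [autFn_coe] at this⟩
      rw [← hb ⟨_, hmem⟩, hb1]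
      rfl
    have hAle : A ≤ pCoreOf p (F.autGroup R) := by
      refine LocalEven.SylowIn.le_pCoreOf (fun a ha => ha.1) (fun b hb => ?_) hAp
      refine mem_normalizer_of_map_le fun a ha => ⟨mul_mem (mul_mem hb ha.1) (inv_mem hb), fun x hx => ?_,
        fun i x hx hxQ => ?_⟩
      all_goals
        have hy := autFn_mem b⁻¹ hx
        have hbf := (mem_autGroup_iff_fn hc.1).1 hb
        have key : autFn b ((autFn b⁻¹ x)⁻¹ * autFn a (autFn b⁻¹ x)) = x⁻¹ * autFn (b * a * b⁻¹) x := by
          rw [hbf.map_mul (R.inv_mem hy) (autFn_mem a hy), hbf.map_inv hy, autFn_apply_inv b hx,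
            autFn_mul _ _ hx, autFn_mul _ _ hy]
      · exact key ▸ hinv hP b hb _ (R.mul_mem (R.inv_mem hy) (autFn_mem a hy)) (ha.2.1 _ hy)
      · exact key ▸ hinv (hsc _) b hb _ (R.mul_mem (R.inv_mem hy) (autFn_mem a hy))
          (ha.2.2 i _ hy (hinv (hsc _) b⁻¹ (inv_mem hb) x hx hxQ))
    have htN : t ∈ normalizerIn S R := ⟨hP.1 htP, htn⟩
    refine (conjAut_mem_inn_iff (centralizer_le_of_centric hc) htN hc.1).1 (hr.2.le (hAle ⟨?_, ?_, ?_⟩))
    · exact autInducedBy_le_autGroup hc.1 (conjAut_mem_autInducedBy htn (hP.1 htP))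
    · intro x hx
      rw [autFn_coe _ ⟨x, hx⟩]
      show x⁻¹ * (t * x * t⁻¹) ∈ P
      have := P.mul_mem (sc_conj hP (S.inv_mem (hc.1 hx)) htP) (P.inv_mem htP)
      simpa [mul_assoc] using this
    · intro i x hx hxQ
      rw [autFn_coe _ ⟨x, hx⟩]
      show x⁻¹ * (t * x * t⁻¹) ∈ Q i.castSucc
      have := hcomm i (Subgroup.commutator_mem_commutator ((Q i.succ).inv_mem hxQ) htP)
      rw [commutatorElement_def, inv_inv] at this
      simpa [mul_assoc] using this

end CfsgLib.Fsys
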