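import Cfsg.Agent.Lib.FusionSystem.TateFusion
import Cfsg.Agent.Lib.FusionSystem.Hyperfocal
import Cfsg.Agent.Lib.FusionSystem.Invariant

/-! Saturated subsystems of `p`-power index on normal subgroups are normal. -/

set_option autoImplicit false

namespace CfsgLib.Fsys

open Cfsg
open Cfsg.FusionSystem (centralizerIn normalizerIn)

universe u

variable {Ω : Type u} [Group Ω] {S : Subgroup Ω} [Finite S] {F : FusionSystem S} {p : ℕ} [Fact p.Prime]
variable {T : Subgroup Ω} {E : FusionSystem T}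

/-- A normal subgroup containing the hyperfocal subgroup is strongly closed. -/
theorem stronglyClosed_of_hyperfocal_le (hS : IsPGroup p S) (hF : F.IsSaturated p) (hTS : T ≤ S)
    (hTn : ∀ s ∈ S, ∀ x ∈ T, s * x * s⁻¹ ∈ T) (hhyp : F.hyperfocalSubgroup p ≤ T) : F.StronglyClosed T := by
  refine stronglyClosed_iff_fn.2 ⟨hTS, fun P f hf x hx hxT => ?_⟩
  obtain ⟨u, hu, h⟩ := exists_conj_mod hS hF hTn hhyp hf
  have h2 := T.mul_mem (hTn u hu x hxT) (h x hx)
  simpa [mul_assoc] using h2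

/-- Coprime automorphisms of `F` lie in a system of `p`-power index. -/
theorem mem_of_coprime (hEi : E.HasPPowerIndexIn F p) {P : Subgroup Ω} (hP : P ≤ T) {α : MulAut P}
    (hα : α ∈ F.autGroup P) (hc : Nat.Coprime (orderOf α) p) : α ∈ E.autGroup P :=
  hEi.2.2 P hP ⟨⟨α, hα⟩, Subgroup.subset_closure (by
    show Nat.Coprime (orderOf (⟨α, hα⟩ : F.autGroup P)) p
    rwa [← Subgroup.orderOf_coe]), rfl⟩

/-- Invariance under the automorphisms of `T`. -/
theorem exists_aut_transform (hS : IsPGroup p S) (hEs : E.IsSaturated p) (hEi : E.HasPPowerIndexIn F p)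
    {α : MulAut T} (hα : α ∈ F.autGroup T) {P : Subgroup Ω} {g : Ω → Ω} (hg : Fn E P g) :
    ∃ χ : Ω → Ω, Fn E (img (autFn α) P) χ ∧ ∀ x ∈ P, χ (autFn α x) = autFn α (g x) := by
  have hTS : T ≤ S := subsystem_le hEi.1
  haveI := finite_of_le_base hTS
  have hf : Fn F T (autFn α) := (mem_autGroup_iff_fn hTS).1 hα
  let C : Subgroup Ω → (Ω → Ω) → Prop := fun P g =>
    ∃ χ : Ω → Ω, Fn E (img (autFn α) P) χ ∧ ∀ x ∈ P, χ (autFn α x) = autFn α (g x)
  let D := predSystem E C
    (fun P f g he _ h => by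
      obtain ⟨χ, hχ, hχe⟩ := h
      exact ⟨χ, hχ, fun x hx => by rw [hχe x hx, he x hx]⟩)
    (fun P hP s hs => ⟨fun y => autFn α s * y * (autFn α s)⁻¹,
      fn_conj (img_le fun x hx => autFn_mem α (hP hx)) (autFn_mem α hs),
      fun x hx => (hf.map_conj hs (hP hx)).symm⟩)
    (fun P R f g hf' _ hm h h' => by
      obtain ⟨χ, hχ, hχe⟩ := h
      obtain ⟨χ', hχ', hχ'e⟩ := h'
      refine ⟨χ' ∘ χ, hχ.comp hχ' fun y hy => ?_, fun x hx => ?_⟩
      · obtain ⟨x, hx, rfl⟩ := (hf.mono hf'.le).mem_img.1 hy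
        rw [hχe x hx]
        exact mem_img_of_mem (hm x hx)
      · show χ' (χ (autFn α x)) = autFn α (g (f x))
        rw [hχe x hx, hχ'e _ (hm x hx)])
    (fun P f g hf' _ hgf h => by
      obtain ⟨χ, hχ, hχe⟩ := h
      obtain ⟨χ', hχ', hχ'χ, -⟩ := hχ.exists_inv
      have hi : img χ (img (autFn α) P) = img (autFn α) (img f P) := by
        rw [← (hf.mono hf'.le).img_comp, ← hf'.img_comp]
        exact img_congr fun x hx => hχe x hx
      rw [hi] at hχ'
      refine ⟨χ', hχ', fun y hy => ?_⟩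
      obtain ⟨x, hx, rfl⟩ := hf'.mem_img.1 hy
      rw [← hχe x hx, hχ'χ _ (mem_img_of_mem hx), hgf x hx])
  have hle : E ≤ D := le_of_pResidual (F := F) (hS.to_le hTS) hEs hEi.1 fun R hR => by
    rw [Subgroup.map_le_iff_le_comap]
    refine (Subgroup.closure_le _).2 fun β hβ => ?_
    have hβE : (β : MulAut R) ∈ E.autGroup R :=
      mem_of_coprime hEi hR β.2 (by rw [Subgroup.orderOf_coe]; exact hβ)
    show (β : MulAut R) ∈ D.autGroup R
    refine (mem_autGroup_iff_fn hR).2 (fn_predSystem.2 ⟨(mem_autGroup_iff_fn hR).1 hβE, ?_⟩)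
    obtain ⟨e, he, hmap⟩ := exists_transport (hR.trans hTS) (hf.mono hR) rfl
    have hR' : img (autFn α) R ≤ T := img_le fun x hx => autFn_mem α (hR hx)
    have hτ : MulAut.congr e (β : MulAut R) ∈ E.autGroup (img (autFn α) R) :=
      mem_of_coprime hEi hR' (hmap ▸ ⟨_, β.2, rfl⟩) (by
        show Nat.Coprime (orderOf ((MulAut.congr e).toMonoidHom (β : MulAut R))) p
        rw [orderOf_injective _ (MulAut.congr e).injective, Subgroup.orderOf_coe]
        exact hβ)
    refine ⟨_, (mem_autGroup_iff_fn hR').1 hτ, fun x hx => ?_⟩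
    lift x to R using hx
    rw [← he x, autFn_coe]
    simp [MulAut.congr, he]
  exact ((fn_predSystem.1 (fn_of_le hle hg))).2

/-- A saturated subsystem of `p`-power index on a normal subgroup is normal. -/
theorem pPowerIndex_normal (hS : IsPGroup p S) (hF : F.IsSaturated p)
    (hTn : ∀ s ∈ S, ∀ x ∈ T, s * x * s⁻¹ ∈ T) (hEs : E.IsSaturated p) (hEi : E.HasPPowerIndexIn F p) :
    E.IsNormalIn F p := by
  have hTS : T ≤ S := subsystem_le hEi.1
  haveI := finite_of_le_base hTS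
  have hTp := hS.to_le hTS
  have hsc := stronglyClosed_of_hyperfocal_le hS hF hTS hTn hEi.2.1
  refine ⟨⟨hEs, hF, hEi.1, hsc, ?_, ?_⟩, ?_⟩
  · intro P hP φ hφ α hα
    obtain ⟨χ, hχ, hχe⟩ := exists_aut_transform hS hEs hEi hα (fn_ofHom hφ)
    have e : (P.subgroupOf T).map (T.subtype.comp α.toMonoidHom) = img (autFn α) P := by
      refine le_antisymm ?_ (img_le fun x hx => ⟨⟨x, hP hx⟩, hx, (autFn_coe α ⟨x, hP hx⟩).symm⟩)
      rintro _ ⟨x, hx, rfl⟩
      show ((α x : T) : Ω) ∈ _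
      rw [← autFn_coe]
      exact mem_img_of_mem hx
    rw [← e] at hχ
    obtain ⟨ψ, hψ, hψe⟩ := hχ
    refine ⟨ψ, hψ, fun x hφx hαx => ?_⟩
    rw [hψe]
    have := hχe x x.2
    rw [ofHom_coe, autFn_coe α ⟨φ x, hφx⟩] at this
    rw [← this]
    show χ ((α ⟨(x : Ω), hP x.2⟩ : T) : Ω) = _
    rw [← autFn_coe]
  · -- Frattini condition
    let C : Subgroup Ω → (Ω → Ω) → Prop := fun P f =>
      ∃ α ∈ F.autGroup T, ∃ g : Ω → Ω, Fn E (P ⊓ T) g ∧ ∀ x ∈ P ⊓ T, f x = autFn α (g x)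
    let D := predSystem F C
      (fun P f g he _ h => by
        obtain ⟨α, hα, k, hk, h⟩ := h
        exact ⟨α, hα, k, hk, fun x hx => by rw [← he x hx.1, h x hx]⟩)
      (fun P _ s hs => by
        have hi : img (fun x => s * x * s⁻¹) T = T :=
          (fn_conj (F := F) hTS hs).img_eq_self fun x hx => hTn s hs x hx
        obtain ⟨α, hα, hαs⟩ := exists_aut_of_fn (fn_conj (F := F) hTS hs) hi
        exact ⟨α, hα, id, fn_id inf_le_right, fun x hx =>
          (hαs ⟨x, hx.2⟩).symm.trans (autFn_coe α ⟨x, hx.2⟩).symm⟩)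
      (fun P R f g hf _ hm h h' => by
        obtain ⟨α, hα, a, ha, hfa⟩ := h
        obtain ⟨β, hβ, b, hb, hgb⟩ := h'
        have hfm : ∀ x ∈ P ⊓ T, f x ∈ R ⊓ T := fun x hx => ⟨hm x hx.1, sc_apply hsc hf hx.1 hx.2⟩
        obtain ⟨χ, hχ, hχe⟩ := exists_aut_transform hS hEs hEi (Subgroup.inv_mem _ hα) hb
        refine ⟨β * α, Subgroup.mul_mem _ hβ hα, χ ∘ a, ha.comp hχ fun x hx => ?_, fun x hx => ?_⟩
        · have h1 := mem_img_of_mem (f := autFn α⁻¹) (hfm x hx)
          rwa [hfa x hx, autFn_inv_apply α (ha.mem hx)] at h1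
        · show g (f x) = autFn (β * α) (χ (a x))
          have h1 := hχe _ (hfm x hx)
          rw [hfa x hx, autFn_inv_apply α (ha.mem hx), ← hfa x hx] at h1
          rw [h1, autFn_mul _ _ (autFn_mem _ (hb.mem (hfm x hx))),
            autFn_apply_inv α (hb.mem (hfm x hx)), hgb _ (hfm x hx)])
      (fun P f g hf _ hgf h => by
        obtain ⟨α, hα, a, ha, hfa⟩ := h
        obtain ⟨a', ha', ha'a, ha'i⟩ := ha.exists_inv
        obtain ⟨χ, hχ, hχe⟩ := exists_aut_transform hS hEs hEi hα ha'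
        have hi : img (autFn α) (img a (P ⊓ T)) = img f P ⊓ T := by
          rw [← ha.img_comp]
          refine le_antisymm (img_le fun x hx => ?_) fun y hy => ?_
          · show autFn α (a x) ∈ _
            rw [← hfa x hx]
            exact ⟨mem_img_of_mem hx.1, sc_apply hsc hf hx.1 hx.2⟩
          · obtain ⟨x, hx, rfl⟩ := hf.mem_img.1 hy.1
            have hxT : x ∈ T := by
              obtain ⟨f', hf', hf'f, -⟩ := hf.exists_inv
              rw [← hf'f x hx]
              exact sc_apply hsc hf' hy.1 hy.2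
            rw [hfa x ⟨hx, hxT⟩]
            exact mem_img_of_mem (f := autFn α ∘ a) ⟨hx, hxT⟩
        rw [hi] at hχ
        refine ⟨α⁻¹, Subgroup.inv_mem _ hα, χ, hχ, fun y hy => ?_⟩
        rw [← hi] at hy
        have hd : Fn F T (autFn α) := (mem_autGroup_iff_fn hTS).1 hα
        obtain ⟨z, hz, rfl⟩ := (hd.mono ha.img_le_base).mem_img.1 hy
        obtain ⟨x, hx, rfl⟩ := ha.mem_img.1 hz
        rw [hχe _ hz, ha'a x hx, autFn_inv_apply α hx.2, ← hfa x hx, hgf x hx.1])
    have key : ∀ R : Subgroup Ω, F.IsFullyAutomized p R → F.autGroup R ≤ D.autGroup R := by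
      intro R hA γ hγ
      obtain ⟨β, hβ, δ, hδ, rfl⟩ := exists_residual_decomp hS hF hA hγ
      refine Subgroup.mul_mem _ ?_ (autInducedBy_le_autGroup hA.1 hδ)
      suffices h : pResidual p (F.autGroup R) ≤ (D.autGroup R).comap (F.autGroup R).subtype from h hβ
      refine (Subgroup.closure_le _).2 fun a ha => ?_
      show (a : MulAut R) ∈ D.autGroup R
      have haf := (mem_autGroup_iff_fn hA.1).1 a.2
      refine (mem_autGroup_iff_fn hA.1).2 (fn_predSystem.2 ⟨haf, 1, Subgroup.one_mem _, ?_⟩)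
      haveI := finite_of_le_base hA.1
      obtain ⟨b, hb, hbe⟩ := exists_aut_of_fn (haf.mono (inf_le_left : R ⊓ T ≤ R))
        ((haf.mono inf_le_left).img_eq_self fun x hx => ⟨autFn_mem _ hx.1, sc_apply hsc haf hx.1 hx.2⟩)
      have hpow : ∀ (n : ℕ) (x : ↥(R ⊓ T)), (((b ^ n) x : ↥(R ⊓ T)) : Ω) =
          ((((a : MulAut R) ^ n) ⟨x, x.2.1⟩ : R) : Ω) := by
        intro n
        induction n with
        | zero => intro x; rfl
        | succ n ih =>
          intro x
          rw [pow_succ, pow_succ, MulAut.mul_apply, MulAut.mul_apply, ih]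
          congr 2
          exact Subtype.ext ((hbe x).trans (autFn_coe (a : MulAut R) ⟨x, x.2.1⟩))
      have hd : orderOf b ∣ orderOf (a : MulAut R) := orderOf_dvd_of_pow_eq_one (MulEquiv.ext fun x =>
        Subtype.ext (by rw [hpow, pow_orderOf_eq_one]; rfl))
      refine ⟨autFn b, (mem_autGroup_iff_fn inf_le_right).1 (mem_of_coprime hEi inf_le_right hb
        (Nat.Coprime.coprime_dvd_left hd (by rw [Subgroup.orderOf_coe]; exact ha))), fun x hx => ?_⟩
      rw [autFn_coe (1 : MulAut T) ⟨_, (autFn_mem b hx).2⟩]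
      exact ((autFn_coe b ⟨x, hx⟩).trans (hbe ⟨x, hx⟩)).symm
    have hle : F ≤ D := alperin hS hF D (key S (fullyAutomized_top hF))
      fun R _ hR => key R (fullyNormalized_good hS hF hR.2.1).1
    intro P hP φ hφ
    obtain ⟨α, hα, g, hg, hge⟩ := (fn_predSystem.1 (fn_of_le hle (fn_ofHom hφ))).2
    rw [inf_eq_left.2 hP] at hg hge
    obtain ⟨φ₀, hφ₀, hφ₀g⟩ := id hg
    refine ⟨α, hα, φ₀, hφ₀, fun x hx => ?_⟩
    rw [← ofHom_coe φ x, hge x x.2, ← hφ₀g x]
    exact autFn_coe α ⟨_, hx⟩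
  · -- extension condition
    set TC := T ⊔ centralizerIn S T with hTC
    have hTCS : TC ≤ S := sup_le hTS inf_le_left
    haveI := finite_of_le_base hTCS
    have hr : F.IsReceptive T := fullyNormalized_receptive hS hF
      (fullyNormalized_of_weaklyClosed (weaklyClosed_of_stronglyClosed hsc))
    have hTle : T ≤ TC := le_sup_left
    have hmemT : ∀ (β : MulAut TC), β ∈ F.autGroup TC → ∀ x ∈ T, autFn β x ∈ T := fun β hβ x hx =>
      sc_apply hsc ((mem_autGroup_iff_fn hTCS).1 hβ) (hTle hx) hx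
    have hmemC : ∀ (β : MulAut TC), β ∈ F.autGroup TC → ∀ c ∈ centralizerIn S T,
        autFn β c ∈ centralizerIn S T := by
      intro β hβ c hc
      have hf := (mem_autGroup_iff_fn hTCS).1 hβ
      refine mem_centralizerIn.2 ⟨hf.mem (Subgroup.mem_sup_right hc), fun y hy => ?_⟩
      obtain ⟨x, hx, rfl⟩ := (hf.mono hTle).mem_img.1 (((hf.mono hTle).img_eq_self (hmemT β hβ)).ge hy)
      rw [← hf.map_mul (hTle hx) (Subgroup.mem_sup_right hc), ← hf.map_mul (Subgroup.mem_sup_right hc) (hTle hx),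
        (mem_centralizerIn.1 hc).2 x hx]
    have hex : ∀ δ : F.autGroup TC, ∃ a ∈ F.autGroup T, ∀ x ∈ T, autFn a x = autFn (δ : MulAut TC) x := by
      intro δ
      have hf := ((mem_autGroup_iff_fn hTCS).1 δ.2).mono hTle
      obtain ⟨a, ha, hae⟩ := exists_aut_of_fn hf (hf.img_eq_self (hmemT _ δ.2))
      exact ⟨a, ha, fun x hx => (autFn_coe a ⟨x, hx⟩).trans (hae ⟨x, hx⟩)⟩
    choose r hr1 hr2 using hex
    let res : F.autGroup TC →* F.autGroup T := MonoidHom.mk' (fun δ => ⟨r δ, hr1 δ⟩) fun β γ =>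
      Subtype.ext (mulAut_ext fun x hx => by
        show autFn (r (β * γ)) x = autFn (r β * r γ) x
        rw [hr2 _ x hx, autFn_mul _ _ hx, hr2 γ x hx, hr2 β _ (hmemT _ γ.2 x hx), Subgroup.coe_mul,
          autFn_mul _ _ (hTle hx)])
    have hres : ∀ (β : F.autGroup TC), ∀ x ∈ T, autFn (res β : MulAut T) x = autFn (β : MulAut TC) x :=
      fun β x hx => hr2 β x hx
    have hsur : Function.Surjective res := by
      intro a
      have haf := (mem_autGroup_iff_fn hTS).1 a.2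
      obtain ⟨N, h, hh, hTN, hN, hhe⟩ := receptive_extend hr haf (img_autFn _)
      have hle : TC ≤ N := sup_le hTN fun c hc => (hN c).2 (inExt_of_commute hc)
      have hh' := hh.mono hle
      have hhT : ∀ x ∈ T, h x ∈ T := fun x hx => (hhe x hx).symm ▸ autFn_mem _ hx
      have hgen : ∀ y ∈ Subgroup.closure ((T : Set Ω) ∪ centralizerIn S T), y ∈ TC ∧ h y ∈ TC := by
        intro y hy
        induction hy using Subgroup.closure_induction with
        | mem z hz =>
          rcases hz with hz | hz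
          · exact ⟨hTle hz, hTle (hhT z hz)⟩
          · refine ⟨Subgroup.mem_sup_right hz, Subgroup.mem_sup_right (mem_centralizerIn.2
              ⟨hh'.mem (Subgroup.mem_sup_right hz), fun y hy => ?_⟩)⟩
            obtain ⟨x, hx, rfl⟩ := (hh'.mono hTle).mem_img.1 (((hh'.mono hTle).img_eq_self hhT).ge hy)
            rw [← hh'.map_mul (hTle hx) (Subgroup.mem_sup_right hz),
              ← hh'.map_mul (Subgroup.mem_sup_right hz) (hTle hx), (mem_centralizerIn.1 hz).2 x hx]
        | one => exact ⟨TC.one_mem, by rw [hh'.map_one]; exact TC.one_mem⟩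
        | mul a b _ _ ha hb => exact ⟨TC.mul_mem ha.1 hb.1, by rw [hh'.map_mul ha.1 hb.1]; exact TC.mul_mem ha.2 hb.2⟩
        | inv a _ ha => exact ⟨TC.inv_mem ha.1, by rw [hh'.map_inv ha.1]; exact TC.inv_mem ha.2⟩
      have hi : img h TC = TC := hh'.img_eq_self fun y hy =>
        (hgen y (by rwa [hTC, Subgroup.sup_eq_closure] at hy)).2
      obtain ⟨b, hb, hbe⟩ := exists_aut_of_fn hh' hi
      refine ⟨⟨b, hb⟩, Subtype.ext (mulAut_ext fun x hx => ?_)⟩
      rw [hres _ x hx, autFn_coe b ⟨x, hTle hx⟩, hbe, hhe x hx]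
    intro α hα
    obtain ⟨β₀, hβ₀, δ, hδ, rfl⟩ := exists_residual_decomp hTp hEs (fullyAutomized_top hEs) hα
    have hb0 : ((β₀ : MulAut T)) ∈ (pResidual p (F.autGroup T)).map (F.autGroup T).subtype :=
      CfsgLib.Fusion.Basic.pResidual_map_subtype_mono (autGroup_mono' hEi.1 T) ⟨β₀, hβ₀, rfl⟩
    obtain ⟨γ₀, hγ₀, hγ₀e⟩ := hb0
    rw [← CfsgLib.Fusion.Basic.map_pResidual_eq res hsur] at hγ₀
    obtain ⟨β, hβ, rfl⟩ := hγ₀
    obtain ⟨t, ht, htδ⟩ := mem_autInducedBy.1 hδ
    have hti : img (fun x => t * x * t⁻¹) TC = TC := (fn_conj (F := F) hTCS (hTS ht)).img_eq_self fun y hy =>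
      TC.mul_mem (TC.mul_mem (hTle ht) hy) (TC.inv_mem (hTle ht))
    obtain ⟨τ, hτ, hτe⟩ := exists_aut_of_fn (fn_conj (F := F) hTCS (hTS ht)) hti
    refine ⟨(β : MulAut TC) * τ, Subgroup.mul_mem _ β.2 hτ, fun x => ?_, fun c hc => ?_⟩
    · rw [MulAut.mul_apply, ← autFn_coe, hτe]
      show autFn (β : MulAut TC) (t * (x : Ω) * t⁻¹) = _
      rw [← hres β _ ((T.mul_mem (T.mul_mem ht x.2) (T.inv_mem ht))),
        MulAut.mul_apply]
      show autFn _ (t * (x : Ω) * t⁻¹) = _
      rw [← htδ x, autFn_coe]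
      exact congrArg (fun z : MulAut T => ((z (δ x) : T) : Ω)) hγ₀e
    · rw [MulAut.mul_apply]
      have hfix : (τ c : TC) = c := Subtype.ext (by
        rw [hτe, (mem_centralizerIn.1 hc).2 t ht]
        group)
      rw [hfix]
      refine ⟨hEi.2.1 (Subgroup.subset_closure ⟨TC, β, c, hTCS, hβ, rfl⟩), ?_⟩
      refine Subgroup.mul_mem _ (Subgroup.inv_mem _ hc.2) ?_
      rw [← autFn_coe]
      exact (hmemC _ β.2 _ hc).2

end CfsgLib.Fsys
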