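import Cfsg.Prelude.Def_Classical
import Cfsg.Agent.Lib.Recognition.SpFourElements
import Cfsg.Agent.Lib.KnownB.GL2.Classes
import Cfsg.Agent.Lib.KnownA.SL2Torus.Sylow
import Cfsg.Agent.Lib.Classical.SLOrders
import Cfsg.Agent.Lib.Classical.SympMatrix
import Cfsg.Agent.S0246

/-
Elements and a Sylow 2-subgroup of the four-dimensional symplectic group over a field of odd order.
-/

set_option autoImplicit false

namespace CfsgLib.Fsys.PSpFour

open Matrix
open scoped MatrixGroups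

variable {F : Type*} [Field F]

abbrev Sp (F : Type*) [Field F] := ↥(Matrix.symplecticGroup (Fin 2) F)
abbrev SL2 (F : Type*) [Field F] := Matrix.SpecialLinearGroup (Fin 2) F
abbrev M4 (F : Type*) [Field F] := Matrix (Fin 2 ⊕ Fin 2) (Fin 2 ⊕ Fin 2) F

/-- The embedding of the pairs. -/
abbrev pr : SL2 F × SL2 F →* Sp F := CfsgLib.Recognition.SpFourElements.pairHom

theorem pr_coe (g h : SL2 F) : (pr (g, h) : Sp F).1 =
    fromBlocks (diagonal ![g.1 0 0, h.1 0 0]) (diagonal ![g.1 0 1, h.1 0 1])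
      (diagonal ![g.1 1 0, h.1 1 0]) (diagonal ![g.1 1 1, h.1 1 1]) := rfl

/-- The element exchanging the two planes. -/
def sw : Sp F := ⟨fromBlocks !![0, 1; 1, 0] 0 0 !![0, 1; 1, 0], by
  rw [SymplecticGroup.fromBlocks_mem_iff]
  refine ⟨by simp, by simp, ?_⟩
  ext i j; fin_cases i <;> fin_cases j <;>
    simp [Matrix.mul_apply, Matrix.vecMul, dotProduct, Matrix.vecHead, Fin.sum_univ_two]⟩

theorem sw_sq : sw (F := F) * sw = 1 := by
  apply Subtype.ext
  show (fromBlocks _ _ _ _ : M4 F) * fromBlocks _ _ _ _ = 1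
  rw [fromBlocks_multiply, ← fromBlocks_one]
  congr 1 <;> ext i j <;> fin_cases i <;> fin_cases j <;>
    simp [Matrix.mul_apply, Matrix.vecMul, dotProduct, Matrix.vecHead, Fin.sum_univ_two]

theorem sw_pr (g h : SL2 F) : sw * pr (g, h) = pr (h, g) * sw := by
  apply Subtype.ext
  show (fromBlocks _ _ _ _ : M4 F) * (pr (g, h) : Sp F).1 = (pr (h, g) : Sp F).1 * fromBlocks _ _ _ _
  rw [pr_coe, pr_coe, fromBlocks_multiply, fromBlocks_multiply]
  congr 1 <;> ext i j <;> fin_cases i <;> fin_cases j <;> simp [Matrix.mul_apply, Matrix.vecMul, dotProduct, Matrix.vecHead, Fin.sum_univ_two]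

theorem pr_injective : Function.Injective (pr (F := F)) := by
  rintro ⟨g, h⟩ ⟨g', h'⟩ e
  have e' := congrArg Subtype.val e
  rw [pr_coe, pr_coe, fromBlocks_inj] at e'
  obtain ⟨e1, e2, e3, e4⟩ := e'
  have a1 := congrFun (diagonal_injective e1); have a2 := congrFun (diagonal_injective e2)
  have a3 := congrFun (diagonal_injective e3); have a4 := congrFun (diagonal_injective e4)
  refine Prod.ext (Subtype.ext (Matrix.ext fun i j => ?_)) (Subtype.ext (Matrix.ext fun i j => ?_))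
  · fin_cases i <;> fin_cases j
    exacts [a1 0, a2 0, a3 0, a4 0]
  · fin_cases i <;> fin_cases j
    exacts [a1 1, a2 1, a3 1, a4 1]

theorem sw_not_range : sw (F := F) ∉ (pr (F := F)).range := by
  rintro ⟨⟨g, h⟩, e⟩
  have := congrFun (congrFun (congrArg Subtype.val e) (Sum.inl 0)) (Sum.inl 1)
  rw [pr_coe, sw] at this
  simp at this

/-- The involution acting as `-1` on the second plane. -/
def zz : Sp F := pr (1, -1)

/-- The central involution. -/
def ne : Sp F := pr (-1, -1)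

theorem pr_mul (a b c d : SL2 F) : pr (a, b) * pr (c, d) = pr (a * c, b * d) := (map_mul pr _ _).symm

theorem pr_inv (a b : SL2 F) : (pr (a, b))⁻¹ = pr (a⁻¹, b⁻¹) := (map_inv pr _).symm

theorem zz_sq : zz (F := F) * zz = 1 := by
  rw [zz, pr_mul, neg_mul_neg, mul_one]; exact map_one pr

theorem ne_coe : (ne (F := F)).1 = -1 := by
  rw [ne, pr_coe]
  ext (i | i) (j | j) <;> fin_cases i <;> fin_cases j <;> simp [Matrix.one_apply]

theorem ne_mem_center : ne (F := F) ∈ Subgroup.center (Sp F) :=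
  Subgroup.mem_center_iff.2 fun y => Subtype.ext (by
    show y.1 * ne.1 = ne.1 * y.1
    simp [ne_coe])

theorem ne_sq : ne (F := F) * ne = 1 := by
  rw [ne, pr_mul, neg_mul_neg, mul_one]; exact map_one pr

theorem ne_ne_one (h2 : (2 : F) ≠ 0) : ne (F := F) ≠ 1 := fun e => by
  have := congrFun (congrFun (congrArg Subtype.val e) (Sum.inl 0)) (Sum.inl 0)
  rw [ne_coe] at this
  simp at this
  exact h2 (by linear_combination -this)

theorem two_ne_zero' [Fintype F] (hodd : Odd (Fintype.card F)) : (2 : F) ≠ 0 :=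
  CfsgLib.KnownA.SL2Torus.two_ne_zero_of_odd' hodd

theorem center_cases [Fintype F] (hodd : Odd (Fintype.card F)) {x : Sp F}
    (hx : x ∈ Subgroup.center (Sp F)) : x = 1 ∨ x = ne := by
  classical
  by_contra hno
  push Not at hno
  have hne := ne_ne_one (two_ne_zero' hodd)
  have hsub : ({1, ne, x} : Set (Sp F)) ⊆ (Subgroup.center (Sp F) : Set (Sp F)) := by
    rintro y (rfl | rfl | rfl)
    exacts [one_mem _, ne_mem_center, hx]
  have h3 : ({1, ne, x} : Set (Sp F)).ncard = 3 := by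
    rw [Set.ncard_eq_three]
    exact ⟨1, ne, x, hne.symm, hno.1.symm, hno.2.symm, rfl⟩
  have := Set.ncard_le_ncard hsub (Set.toFinite _)
  rw [h3, ← Nat.card_coe_set_eq, SetLike.coe_sort_coe, Cfsg.Agent.S0246.result (F := F) rfl 2 (by norm_num)] at this
  have := Nat.gcd_le_left (Fintype.card F - 1) (show 0 < 2 by norm_num)
  omega

/-! ### Changing the plane decomposition -/

/-- An element carrying `zz` to `sw`. -/
def mm (h2 : (2 : F) ≠ 0) : Sp F :=
  ⟨fromBlocks !![1, 1; 1, -1] 0 0 !![(2 : F)⁻¹, (2 : F)⁻¹; (2 : F)⁻¹, -(2 : F)⁻¹], by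
    rw [SymplecticGroup.fromBlocks_mem_iff]
    refine ⟨by simp, by simp, ?_⟩
    ext i j; fin_cases i <;> fin_cases j <;> simp [Matrix.mul_apply, Matrix.vecMul, dotProduct, Matrix.vecHead, Fin.sum_univ_two] <;>
      field_simp <;> ring⟩

theorem mm_zz (h2 : (2 : F) ≠ 0) : mm h2 * zz = sw * mm h2 := by
  apply Subtype.ext
  show (fromBlocks _ _ _ _ : M4 F) * (pr (1, -1) : Sp F).1 = fromBlocks _ _ _ _ * fromBlocks _ _ _ _
  rw [pr_coe, fromBlocks_multiply, fromBlocks_multiply]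
  congr 1 <;> ext i j <;> fin_cases i <;> fin_cases j <;> simp [Matrix.mul_apply, Matrix.vecMul, dotProduct, Matrix.vecHead, Fin.sum_univ_two]

/-- The centraliser of `zz` is the group of pairs. -/
theorem mem_range_of_commute (h2 : (2 : F) ≠ 0) {y : Sp F} (hy : y * zz = zz * y) :
    y ∈ (pr (F := F)).range := by
  have he : ∀ r c, (y.1 * (zz : Sp F).1) r c = ((zz : Sp F).1 * y.1) r c := fun r c =>
    congrArg (fun t : Sp F => t.1 r c) hy
  have hz : ∀ a : F, a = -a → a = 0 := fun a ha =>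
    (mul_eq_zero.1 (show (2 : F) * a = 0 by linear_combination ha)).resolve_left h2
  have hA : ∀ r c : Fin 2, r ≠ c → y.1 (.inl r) (.inl c) = 0 ∧ y.1 (.inl r) (.inr c) = 0 ∧
      y.1 (.inr r) (.inl c) = 0 ∧ y.1 (.inr r) (.inr c) = 0 := by
    intro r c hrc
    have e1 := he (.inl r) (.inl c); have e2 := he (.inl r) (.inr c)
    have e3 := he (.inr r) (.inl c); have e4 := he (.inr r) (.inr c)
    rw [zz, pr_coe] at e1 e2 e3 e4
    fin_cases r <;> fin_cases c
    · simp at hrc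
    · simp [Matrix.mul_apply, Fintype.sum_sum_type, Fin.sum_univ_two] at e1 e2 e3 e4
      exact ⟨hz _ e1.symm, hz _ e2.symm, hz _ e3.symm, hz _ e4.symm⟩
    · simp [Matrix.mul_apply, Fintype.sum_sum_type, Fin.sum_univ_two] at e1 e2 e3 e4
      exact ⟨hz _ e1, hz _ e2, hz _ e3, hz _ e4⟩
    · simp at hrc
  obtain ⟨a01, b01, c01, d01⟩ := hA 0 1 (by decide)
  obtain ⟨a10, b10, c10, d10⟩ := hA 1 0 (by decide)
  have hmem := SymplecticGroup.mem_iff'.1 y.2
  have g0 := congrFun (congrFun hmem (.inl 0)) (.inr 0)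
  have g1 := congrFun (congrFun hmem (.inl 1)) (.inr 1)
  simp [Matrix.J, Matrix.mul_apply, Fintype.sum_sum_type, Fin.sum_univ_two, a01, b01, c01, d01,
    a10, b10, c10, d10] at g0 g1
  refine ⟨(⟨!![y.1 (.inl 0) (.inl 0), y.1 (.inl 0) (.inr 0); y.1 (.inr 0) (.inl 0),
    y.1 (.inr 0) (.inr 0)], by rw [det_fin_two_of]; linear_combination -g0⟩,
    ⟨!![y.1 (.inl 1) (.inl 1), y.1 (.inl 1) (.inr 1); y.1 (.inr 1) (.inl 1),
    y.1 (.inr 1) (.inr 1)], by rw [det_fin_two_of]; linear_combination -g1⟩), Subtype.ext ?_⟩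
  refine (pr_coe _ _).trans ?_
  ext (r | r) (c | c) <;> fin_cases r <;> fin_cases c <;>
    simp [a01, b01, c01, d01, a10, b10, c10, d10]

/-! ### Reflections -/

theorem J_comm {e : Sp F} (he : e * e = 1) :
    e.1 * Matrix.J (Fin 2) F = Matrix.J (Fin 2) F * e.1ᵀ := by
  have h1 := SymplecticGroup.mem_iff.1 e.2
  have h2 : e.1 * e.1 = 1 := congrArg Subtype.val he
  conv_lhs => rw [← h1, ← Matrix.mul_assoc, ← Matrix.mul_assoc, h2, Matrix.one_mul]

/-- The product of two reflections in the differences of anticommuting involutions. -/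
theorem refl_mem (h2 : (2 : F) ≠ 0) {a b c : Sp F} (ha : a * a = 1) (hb : b * b = 1) (hc : c * c = 1)
    (hab : a.1 * b.1 = -(b.1 * a.1)) (hbc : b.1 * c.1 = -(c.1 * b.1)) :
    (2 : F)⁻¹ • ((a.1 - b.1) * (b.1 - c.1)) ∈ Matrix.symplecticGroup (Fin 2) F := by
  have ha2 : a.1 * a.1 = 1 := congrArg Subtype.val ha
  have hb2 : b.1 * b.1 = 1 := congrArg Subtype.val hb
  have hc2 : c.1 * c.1 = 1 := congrArg Subtype.val hc
  set X := a.1 - b.1
  set Y := b.1 - c.1
  have hX : X * X = (2 : F) • (1 : M4 F) := by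
    simp only [X, sub_mul, mul_sub, ha2, hb2, hab, two_smul]; abel
  have hY : Y * Y = (2 : F) • (1 : M4 F) := by
    simp only [Y, sub_mul, mul_sub, hb2, hc2, hbc, two_smul]; abel
  have hXJ : X * Matrix.J (Fin 2) F = Matrix.J (Fin 2) F * Xᵀ := by
    simp only [X, sub_mul, transpose_sub, mul_sub, J_comm ha, J_comm hb]
  have hYJ : Y * Matrix.J (Fin 2) F = Matrix.J (Fin 2) F * Yᵀ := by
    simp only [Y, sub_mul, transpose_sub, mul_sub, J_comm hb, J_comm hc]
  rw [SymplecticGroup.mem_iff, transpose_smul, transpose_mul]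
  simp only [smul_mul_assoc, mul_smul_comm, smul_smul]
  rw [show X * Y * Matrix.J (Fin 2) F * (Yᵀ * Xᵀ) = X * (Y * (Matrix.J (Fin 2) F * Yᵀ)) * Xᵀ by
    simp only [Matrix.mul_assoc], ← hYJ, ← Matrix.mul_assoc Y, hY, smul_mul_assoc, one_mul,
    mul_smul_comm, smul_mul_assoc, Matrix.mul_assoc, ← hXJ, ← Matrix.mul_assoc, hX, smul_mul_assoc,
    one_mul, smul_smul, smul_smul]
  rw [show (2 : F)⁻¹ * (2 : F)⁻¹ * 2 * 2 = 1 by field_simp, one_smul]

/-- The reflection product as a symplectic element. -/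
def refl (h2 : (2 : F) ≠ 0) {a b c : Sp F} (ha : a * a = 1) (hb : b * b = 1) (hc : c * c = 1)
    (hab : a.1 * b.1 = -(b.1 * a.1)) (hbc : b.1 * c.1 = -(c.1 * b.1)) : Sp F :=
  ⟨_, refl_mem h2 ha hb hc hab hbc⟩

theorem refl_conj (h2 : (2 : F) ≠ 0) {a b c : Sp F} (ha : a * a = 1) (hb : b * b = 1) (hc : c * c = 1)
    (hab : a.1 * b.1 = -(b.1 * a.1)) (hbc : b.1 * c.1 = -(c.1 * b.1))
    (hac : a.1 * c.1 = -(c.1 * a.1)) :
    refl h2 ha hb hc hab hbc * a = b * refl h2 ha hb hc hab hbc ∧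
    refl h2 ha hb hc hab hbc * b = c * refl h2 ha hb hc hab hbc ∧
    refl h2 ha hb hc hab hbc * c = a * refl h2 ha hb hc hab hbc ∧
    ∀ d : Sp F, a.1 * d.1 = -(d.1 * a.1) → b.1 * d.1 = -(d.1 * b.1) → c.1 * d.1 = -(d.1 * c.1) →
      refl h2 ha hb hc hab hbc * d = d * refl h2 ha hb hc hab hbc := by
  have ha2 : a.1 * a.1 = 1 := congrArg Subtype.val ha
  have hb2 : b.1 * b.1 = 1 := congrArg Subtype.val hb
  have hc2 : c.1 * c.1 = 1 := congrArg Subtype.val hc
  set X := a.1 - b.1 with hX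
  set Y := b.1 - c.1 with hY
  have hba : b.1 * a.1 = -(a.1 * b.1) := by rw [hab, neg_neg]
  have hcb : c.1 * b.1 = -(b.1 * c.1) := by rw [hbc, neg_neg]
  have Xa : X * a.1 = -(b.1 * X) := by simp only [hX, sub_mul, mul_sub, ha2, hb2, hba]; abel
  have Xb : X * b.1 = -(a.1 * X) := by simp only [hX, sub_mul, mul_sub, ha2, hb2, hba]; abel
  have Yb : Y * b.1 = -(c.1 * Y) := by simp only [hY, sub_mul, mul_sub, hb2, hc2, hcb]; abel
  have Yc : Y * c.1 = -(b.1 * Y) := by simp only [hY, sub_mul, mul_sub, hb2, hc2, hcb]; abel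
  have Xd : ∀ d : M4 F, a.1 * d = -(d * a.1) → b.1 * d = -(d * b.1) → X * d = -(d * X) := by
    intro d h h'; simp only [hX, sub_mul, mul_sub, h, h']; abel
  have Yd : ∀ d : M4 F, b.1 * d = -(d * b.1) → c.1 * d = -(d * c.1) → Y * d = -(d * Y) := by
    intro d h h'; simp only [hY, sub_mul, mul_sub, h, h']; abel
  have Ya := Yd a.1 hba (by rw [hac, neg_neg])
  have Xc := Xd c.1 hac hbc
  have lift : ∀ u v w : M4 F, Y * u = -(v * Y) → X * v = -(w * X) →
      ((2 : F)⁻¹ • (X * Y)) * u = w * ((2 : F)⁻¹ • (X * Y)) := by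
    intro u v w e1 e2
    rw [smul_mul_assoc, mul_smul_comm, mul_assoc, e1, mul_neg, ← mul_assoc, e2, neg_mul, neg_neg,
      mul_assoc]
  exact ⟨Subtype.ext (lift _ _ _ Ya Xa), Subtype.ext (lift _ _ _ Yb Xc),
    Subtype.ext (lift _ _ _ Yc Xb), fun d h1 h2' h3 =>
      Subtype.ext (lift _ _ _ (Yd d.1 h2' h3) (Xd d.1 h1 h2'))⟩

end CfsgLib.Fsys.PSpFour
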