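import Cfsg.Agent.Lib.KnownB.GL2.Classes
import Cfsg.Agent.Lib.KnownA.SL2Torus.Sylow
import Cfsg.Agent.Lib.FusionSystem.TwoGroupAut

/-
Facts about a Sylow 2-subgroup of `SL(2,q)`, `q` odd, used for the four-dimensional symplectic group.
-/

set_option autoImplicit false

namespace CfsgLib.Fsys.PSpFour

open CfsgLib.KnownA.SL2Torus CfsgLib.KnownB.GL2 CfsgLib.Classical
open scoped MatrixGroups

/-- A 2-element normalising a Sylow 2-subgroup lies in it. -/
theorem mem_sylow_of_normalizer {G : Type*} [Group G] {p : ℕ} [Fact p.Prime] (S : Sylow p G) {g : G}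
    (hg : g ∈ Subgroup.normalizer ((S : Subgroup G) : Set G)) {k : ℕ} (hk : g ^ p ^ k = 1) :
    g ∈ (S : Subgroup G) := by
  have hz : IsPGroup p (Subgroup.zpowers g) := fun x => by
    obtain ⟨j, hj⟩ := Subgroup.mem_zpowers_iff.1 x.2
    refine ⟨k, Subtype.ext ?_⟩
    rw [SubgroupClass.coe_pow, ← hj, ← zpow_natCast, ← zpow_mul, mul_comm, zpow_mul, zpow_natCast,
      hk, one_zpow]
    rfl
  have hp := IsPGroup.to_sup_of_normal_right' hz S.2 (Subgroup.zpowers_le.2 hg)
  have he : Subgroup.zpowers g ⊔ (S : Subgroup G) = (S : Subgroup G) := S.3 hp le_sup_right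
  exact he.le (Subgroup.mem_sup_left (Subgroup.mem_zpowers g))

/-- Splitting off the 2-part of a normalising element of a Sylow 2-subgroup. -/
theorem exists_odd_part {G : Type*} [Group G] [Finite G] (S : Sylow 2 G) {g : G}
    (hg : g ∈ Subgroup.normalizer ((S : Subgroup G) : Set G)) :
    ∃ a ∈ (S : Subgroup G), ∃ b ∈ Subgroup.normalizer ((S : Subgroup G) : Set G),
      Odd (orderOf b) ∧ b ∈ Subgroup.zpowers g ∧ g = a * b := by
  haveI := Fact.mk Nat.prime_two
  obtain ⟨k, m, hm, hkm⟩ := Nat.exists_eq_two_pow_mul_odd (orderOf_pos g).ne'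
  have hco : IsCoprime ((2 ^ k : ℕ) : ℤ) (m : ℤ) :=
    Nat.Coprime.isCoprime (Nat.Coprime.pow_left k ((Nat.coprime_two_left).2 hm))
  obtain ⟨u, v, huv⟩ := hco
  refine ⟨g ^ (v * (m : ℤ)), mem_sylow_of_normalizer S (zpow_mem hg _) (k := k) ?_,
    g ^ (u * ((2 ^ k : ℕ) : ℤ)), zpow_mem hg _, ?_, zpow_mem (Subgroup.mem_zpowers g) _, ?_⟩
  · rw [← zpow_natCast, ← zpow_mul, ← orderOf_dvd_iff_zpow_eq_one, hkm]
    exact ⟨v, by push_cast; ring⟩
  · refine Odd.of_dvd_nat hm (orderOf_dvd_of_pow_eq_one ?_)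
    rw [← zpow_natCast, ← zpow_mul, ← orderOf_dvd_iff_zpow_eq_one, hkm]
    exact ⟨u, by push_cast; ring⟩
  · rw [← zpow_add, add_comm, huv, zpow_one]

variable {F : Type*} [Field F] [Fintype F]

theorem center_sl_two {g : SL(2, F)} (hg : g ∈ Subgroup.center SL(2, F)) : g = 1 ∨ g = -1 := by
  obtain ⟨r, -, hr⟩ := Matrix.SpecialLinearGroup.mem_center_iff.1 hg
  refine (scal_iff_pm g).1 ?_
  rw [← hr]
  exact ⟨by simp, by simp, by simp⟩

theorem neg_one_ne_one (h2 : (2 : F) ≠ 0) : (-1 : SL(2, F)) ≠ 1 := fun e => by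
  have := congrArg (fun x : SL(2, F) => (x : Matrix (Fin 2) (Fin 2) F) 0 0) e
  simp at this
  exact h2 (by linear_combination -this)

theorem inv_of_sq_neg_one {u : SL(2, F)} (hu : u * u = -1) : u⁻¹ = -u :=
  inv_eq_of_mul_eq_one_right (by rw [mul_neg, hu, neg_neg])

theorem trace_eq_zero {u : SL(2, F)} (hu : u * u = -1) :
    (u : Matrix (Fin 2) (Fin 2) F).trace = 0 := by
  have hx : (u : Matrix (Fin 2) (Fin 2) F) * (u : Matrix (Fin 2) (Fin 2) F) = -1 := by
    simpa using congrArg Subtype.val hu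
  have h := sl2_sq u
  rw [hx, eq_sub_iff_add_eq, neg_add_cancel] at h
  rcases smul_eq_zero.1 h.symm with h' | h'
  · exact h'
  · exact absurd (show (u : Matrix (Fin 2) (Fin 2) F).det = 0 by rw [h']; simp)
      (by rw [sl_det]; exact one_ne_zero)

theorem isConj_of_sq_neg_one (h2 : (2 : F) ≠ 0) {u v : SL(2, F)} (hu : u * u = -1) (hv : v * v = -1) :
    IsConj u v := by
  have hns : ∀ w : SL(2, F), w * w = -1 → ¬ Scal (w : Matrix (Fin 2) (Fin 2) F) := by
    intro w hw hs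
    rcases (scal_iff_pm w).1 hs with rfl | rfl
    · rw [one_mul] at hw; exact neg_one_ne_one h2 hw.symm
    · rw [neg_one_sq'] at hw; exact neg_one_ne_one h2 hw.symm
  refine sl_isConj_of_trace (hns u hu) (hns v hv) ((trace_eq_zero hu).trans (trace_eq_zero hv).symm)
    (Or.inl ?_)
  rw [trace_eq_zero hu, dsc]
  have : (4 : F) ≠ 0 := by
    rw [show (4 : F) = 2 * 2 by norm_num]; exact mul_ne_zero h2 h2
  simpa using this

variable (hodd : Odd (Fintype.card F)) (Q : Sylow 2 SL(2, F))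
include hodd

theorem neg_one_mem : (-1 : SL(2, F)) ∈ (Q : Subgroup SL(2, F)) := by
  haveI := Fact.mk Nat.prime_two
  refine mem_sylow_of_normalizer Q ?_ (k := 1) (by rw [pow_one, pow_two, neg_one_sq'])
  rw [Subgroup.mem_normalizer_iff]
  intro x
  have : (-1 : SL(2, F)) * x * (-1)⁻¹ = x := by
    rw [inv_eq_of_mul_eq_one_right (neg_one_sq' (F := F))]; simp
  rw [this]

theorem central_of_centralizes {t : SL(2, F)}
    (ht : ∀ x ∈ (Q : Subgroup SL(2, F)), t * x = x * t) : t = 1 ∨ t = -1 :=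
  center_sl_two ((two_sylow hodd Q).1.le (Subgroup.mem_centralizer_iff.2 fun x hx => (ht x hx).symm))

/-- The elements squaring to `-1` relative to one of them generate. -/
theorem exists_gen : ∃ i ∈ (Q : Subgroup SL(2, F)), i * i = -1 ∧
    ∀ x ∈ (Q : Subgroup SL(2, F)),
      x ∈ Subgroup.closure {y : SL(2, F) | ∃ u ∈ (Q : Subgroup SL(2, F)), u * u = -1 ∧ y = u * i⁻¹} := by
  have h2 := two_ne_zero_of_odd' hodd
  obtain ⟨k, hk, -, ⟨e⟩⟩ := sl2_sylow_two hodd Q
  haveI : NeZero (2 ^ k) := ⟨by positivity⟩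
  set f : QuaternionGroup (2 ^ k) →* SL(2, F) := (Q : Subgroup SL(2, F)).subtype.comp e.symm.toMonoidHom
  have hfQ : ∀ v, f v ∈ (Q : Subgroup SL(2, F)) := fun v => (e.symm v).2
  have hf : Function.Injective f := Subtype.val_injective.comp e.symm.injective
  set m : ℕ := 2 ^ (k - 1) with hm
  have hmm : (2 : ℕ) ^ k = 2 * m := by rw [hm, ← pow_succ']; congr 1; omega
  set z : QuaternionGroup (2 ^ k) := QuaternionGroup.a ((2 ^ k : ℕ) : ZMod (2 * 2 ^ k))
  have hz : f z = -1 := by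
    refine sl2_eq_neg_one h2 (fun h1 => ?_) ?_
    · have h1' := hf (h1.trans (map_one f).symm)
      rw [QuaternionGroup.one_def] at h1'
      injection h1' with h1''
      rw [ZMod.natCast_eq_zero_iff] at h1''
      have := Nat.le_of_dvd (by positivity) h1''
      have : 0 < 2 ^ k := by positivity
      omega
    · rw [← map_mul, QuaternionGroup.a_mul_a, ← Nat.cast_add, ← two_mul, ZMod.natCast_self,
        ← QuaternionGroup.one_def, map_one]
  set r : QuaternionGroup (2 ^ k) := QuaternionGroup.a (m : ZMod (2 * 2 ^ k)) with hr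
  have hrr : f r * f r = -1 := by
    rw [← map_mul, QuaternionGroup.a_mul_a, ← hz]
    congr 2
    push_cast [hmm]
    ring
  have hxa : ∀ t, f (QuaternionGroup.xa t) * f (QuaternionGroup.xa t) = -1 := by
    intro t
    rw [← map_mul, QuaternionGroup.xa_mul_xa, ← hz]
    congr 2
    simp
  refine ⟨f r, hfQ r, hrr, fun x hx => ?_⟩
  set C := Subgroup.closure {y : SL(2, F) | ∃ u ∈ (Q : Subgroup SL(2, F)), u * u = -1 ∧ y = u * (f r)⁻¹}
  have hC : ∀ s, f (QuaternionGroup.xa s) ∈ C := by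
    intro s
    refine Subgroup.subset_closure ⟨f (QuaternionGroup.xa (s + m)), hfQ _, hxa _, ?_⟩
    rw [eq_mul_inv_iff_mul_eq, ← map_mul, hr, QuaternionGroup.xa_mul_a]
  obtain ⟨v, rfl⟩ : ∃ v, f v = x :=
    ⟨e ⟨x, hx⟩, by simp [f]⟩
  rcases v with s | s
  · rw [show QuaternionGroup.a s = QuaternionGroup.xa 0 * QuaternionGroup.xa (s - ((2 ^ k : ℕ) : ZMod _)) by
      rw [QuaternionGroup.xa_mul_xa]; congr 1; simp, map_mul]
    exact mul_mem (hC _) (hC _)
  · exact hC s

/-- An element of odd order normalising a Sylow 2-subgroup is trivial or cycles three quaternion units. -/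
theorem odd_normalizer {h : SL(2, F)} (hh : h ∈ Subgroup.normalizer ((Q : Subgroup SL(2, F)) : Set SL(2, F)))
    (hho : Odd (orderOf h)) (hne : h ≠ 1) :
    ∃ i j : SL(2, F), i ∈ (Q : Subgroup SL(2, F)) ∧ i * i = -1 ∧ j * j = -1 ∧ j * i = -(i * j) ∧
      h * i * h⁻¹ = j ∧ (h * j * h⁻¹ = i * j ∨ h * j * h⁻¹ = -(i * j)) ∧
      ∀ x ∈ (Q : Subgroup SL(2, F)), x = 1 ∨ x = -1 ∨ x = i ∨ x = -i ∨ x = j ∨ x = -j ∨
        x = i * j ∨ x = -(i * j) := by
  have h2 := two_ne_zero_of_odd' hodd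
  obtain ⟨k, hk, -, ⟨e⟩⟩ := sl2_sylow_two hodd Q
  have hnfix : ¬ ∀ x ∈ (Q : Subgroup SL(2, F)), h * x * h⁻¹ = x := by
    intro hfix
    rcases central_of_centralizes hodd Q (t := h) fun x hx => mul_inv_eq_iff_eq_mul.1 (hfix x hx) with e' | e'
    · exact hne e'
    · subst e'
      rw [orderOf_eq_prime (p := 2) (by rw [pow_two, neg_one_sq']) (neg_one_ne_one h2)] at hho
      exact Nat.not_odd_iff_even.2 even_two hho
  have hk1 : k = 1 := by
    by_contra hk1
    apply hnfix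
    intro x hx
    have he : Nonempty ((Q : Subgroup SL(2, F)) ≃* DihedralGroup (2 ^ (k + 2 - 1))) ∨
        Nonempty ((Q : Subgroup SL(2, F)) ≃* QuaternionGroup (2 ^ (k + 2 - 2))) :=
      Or.inr ⟨by rw [Nat.add_sub_cancel]; exact e⟩
    let c : MulAut (Q : Subgroup SL(2, F)) := (Q : Subgroup SL(2, F)).normalizerMonoidHom ⟨h, hh⟩
    have hc : c = 1 := by
      refine dihedral_quaternion_aut (k + 2) (by omega) he (a := c) ?_
      refine Nat.Coprime.coprime_dvd_left (orderOf_map_dvd _ _) ?_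
      rw [Subgroup.orderOf_mk]
      exact (Nat.coprime_two_right).2 hho
    exact congrArg Subtype.val (DFunLike.congr_fun hc (⟨x, hx⟩ : (Q : Subgroup SL(2, F))))
  subst hk1
  set f : QuaternionGroup (2 ^ 1) →* SL(2, F) := (Q : Subgroup SL(2, F)).subtype.comp e.symm.toMonoidHom
  have hf : Function.Injective f := Subtype.val_injective.comp e.symm.injective
  have hfQ : ∀ v, f v ∈ (Q : Subgroup SL(2, F)) := fun v => (e.symm v).2
  have hsur : ∀ x ∈ (Q : Subgroup SL(2, F)), ∃ v, f v = x := fun x hx => ⟨e ⟨x, hx⟩, by simp [f]⟩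
  have hA : f (QuaternionGroup.a 2) = -1 := by
    refine sl2_eq_neg_one h2 (fun h1 => ?_) ?_
    · exact absurd (hf (h1.trans (map_one f).symm)) (by decide)
    · rw [← map_mul, show (QuaternionGroup.a 2 * QuaternionGroup.a 2 : QuaternionGroup (2 ^ 1)) = 1 by decide,
        map_one]
  have hsq : ∀ v : QuaternionGroup (2 ^ 1), v = 1 ∨ v = QuaternionGroup.a 2 ∨
      v * v = QuaternionGroup.a 2 := by decide
  have hall1 : ∀ a b : QuaternionGroup (2 ^ 1), a * a = QuaternionGroup.a 2 → b * b = QuaternionGroup.a 2 →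
      a ≠ b → a ≠ b⁻¹ → b * a = QuaternionGroup.a 2 * (a * b) := by decide
  have hall2 : ∀ a b v : QuaternionGroup (2 ^ 1), a * a = QuaternionGroup.a 2 → b * b = QuaternionGroup.a 2 →
      a ≠ b → a ≠ b⁻¹ →
      v ∈ [1, QuaternionGroup.a 2, a, QuaternionGroup.a 2 * a, b,
        QuaternionGroup.a 2 * b, a * b, QuaternionGroup.a 2 * (a * b)] := by decide
  have hneg : ∀ x : SL(2, F), (-1 : SL(2, F)) * x = -x := fun x => neg_one_mul x
  obtain ⟨u, hu⟩ : ∃ u, u * u = QuaternionGroup.a 2 ∧ h * f u * h⁻¹ ≠ f u ∧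
      h * f u * h⁻¹ ≠ -f u := by
    by_contra hno
    push Not at hno
    apply hnfix
    have hh2 : ∀ x ∈ (Q : Subgroup SL(2, F)), (h * h) * x * (h * h)⁻¹ = x := by
      intro x hx
      rw [show (h * h) * x * (h * h)⁻¹ = h * (h * x * h⁻¹) * h⁻¹ by group]
      obtain ⟨v, rfl⟩ := hsur x hx
      rcases hsq v with rfl | rfl | hv
      · simp
      · rw [hA]; simp
      · by_cases h1 : h * f v * h⁻¹ = f v
        · rw [h1, h1]
        · rw [hno v hv h1, mul_neg, neg_mul, hno v hv h1, neg_neg]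
    intro x hx
    obtain ⟨s, hs⟩ := hho
    have hc : Commute (h * h) x := mul_inv_eq_iff_eq_mul.1 (hh2 x hx)
    have hc2 : Commute ((h * h) ^ (s + 1)) x := hc.pow_left _
    rw [← pow_two, ← pow_mul, show 2 * (s + 1) = (2 * s + 1) + 1 by ring, pow_add, ← hs,
      pow_orderOf_eq_one, one_mul, pow_one] at hc2
    rw [hc2.eq, mul_inv_cancel_right]
  obtain ⟨huu, hu1, hu2⟩ := hu
  obtain ⟨v, hv⟩ := hsur _ ((Subgroup.mem_normalizer_iff.1 hh _).1 (hfQ u))
  have hui : f u * f u = -1 := by rw [← map_mul, huu, hA]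
  have hvj : f v * f v = -1 := by
    rw [hv, conj_mul, hui]; simp
  have hvv : v * v = QuaternionGroup.a 2 := hf (by rw [map_mul, hvj, hA])
  have n1 : u ≠ v := fun e' => hu1 (by rw [← hv, e'])
  have n2 : u ≠ v⁻¹ := fun e' => hu2 (by rw [← hv, e', map_inv, inv_of_sq_neg_one hvj, neg_neg])
  have hanti := hall1 u v huu hvv n1 n2
  have hcases : ∀ w, w = 1 ∨ w = QuaternionGroup.a 2 ∨ w = u ∨ w = QuaternionGroup.a 2 * u ∨ w = v ∨
      w = QuaternionGroup.a 2 * v ∨ w = u * v ∨ w = QuaternionGroup.a 2 * (u * v) := fun w => by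
    simpa only [List.mem_cons, List.not_mem_nil, or_false] using hall2 u v w huu hvv n1 n2
  have hij : f v * f u = -(f u * f v) := by rw [← map_mul, hanti, map_mul, hA, map_mul, hneg]
  have hcases' : ∀ x ∈ (Q : Subgroup SL(2, F)), x = 1 ∨ x = -1 ∨ x = f u ∨ x = -f u ∨ x = f v ∨
      x = -f v ∨ x = f u * f v ∨ x = -(f u * f v) := by
    intro x hx
    obtain ⟨w, rfl⟩ := hsur x hx
    rcases hcases w with e' | e' | e' | e' | e' | e' | e' | e' <;> subst e' <;>
      simp only [map_mul, map_one, hA, hneg, true_or, or_true]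
  refine ⟨f u, f v, hfQ u, hui, hvj, hij, hv.symm, ?_, hcases'⟩
  have hjQ : h * f v * h⁻¹ ∈ (Q : Subgroup SL(2, F)) := (Subgroup.mem_normalizer_iff.1 hh _).1 (hfQ v)
  have hjsq : (h * f v * h⁻¹) * (h * f v * h⁻¹) = -1 := by rw [conj_mul, hvj]; simp
  have hback : ∀ w : SL(2, F), h * f v * h⁻¹ = w → w = f u ∨ w = -f u → False := by
    intro w hw hwu
    have h4 : Commute ((h * h) * (h * h)) (f u) := by
      refine mul_inv_eq_iff_eq_mul.1 ?_
      rw [show h * h * (h * h) * f u * (h * h * (h * h))⁻¹ =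
        h * (h * (h * (h * f u * h⁻¹) * h⁻¹) * h⁻¹) * h⁻¹ by group, ← hv, hw]
      rcases hwu with rfl | rfl
      · rw [← hv, hw]
      · simp only [mul_neg, neg_mul]
        rw [← hv, hw, neg_neg]
    obtain ⟨s, hs⟩ := hho
    have hh4 : Commute h (f u) := by
      obtain ⟨s', rfl | rfl⟩ := Nat.even_or_odd' s
      · have hc2 := h4.pow_left (3 * s' + 1)
        rw [← pow_two, ← pow_two, ← pow_mul, ← pow_mul,
          show 2 * (2 * (3 * s' + 1)) = (2 * (2 * s') + 1) * 3 + 1 by ring, pow_add, pow_mul, ← hs,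
          pow_orderOf_eq_one, one_pow, one_mul, pow_one] at hc2
        exact hc2
      · have hc2 := h4.pow_left (s' + 1)
        rw [← pow_two, ← pow_two, ← pow_mul, ← pow_mul,
          show 2 * (2 * (s' + 1)) = (2 * (2 * s' + 1) + 1) + 1 by ring, pow_add, ← hs,
          pow_orderOf_eq_one, one_mul, pow_one] at hc2
        exact hc2
    exact hu1 (by rw [hh4.eq, mul_inv_cancel_right])
  rcases hcases' _ hjQ with e' | e' | e' | e' | e' | e' | e' | e'
  · rw [e', one_mul] at hjsq; exact absurd hjsq.symm (neg_one_ne_one h2)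
  · rw [e', neg_one_sq'] at hjsq; exact absurd hjsq.symm (neg_one_ne_one h2)
  · exact (hback _ e' (Or.inl rfl)).elim
  · exact (hback _ e' (Or.inr rfl)).elim
  · refine absurd ?_ hu1
    have h6 : f v = f u := (MulAut.conj h).injective (e'.trans hv)
    rw [← hv, h6]
  · refine absurd ?_ hu2
    have h5 : h * (-f v) * h⁻¹ = h * f u * h⁻¹ := by
      rw [← hv]; simp only [mul_neg, neg_mul]; rw [e', neg_neg]
    have h6 : -f v = f u := (MulAut.conj h).injective h5
    rw [← hv, ← h6, neg_neg]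
  · exact Or.inl e'
  · exact Or.inr e'

end CfsgLib.Fsys.PSpFour
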