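import Cfsg.Agent.Lib.FusionSystem.PSpFourSylow
import Cfsg.Agent.Lib.FusionSystem.Invariant
import Cfsg.Agent.Lib.Involution.TwoGroupLifts

/-
Simplicity of the 2-fusion system of the projective four-dimensional symplectic group.
-/

set_option autoImplicit false

namespace CfsgLib.Fsys.PSpFour

open Cfsg CfsgLib.Fsys CfsgLib.KnownA.SL2Torus
open Cfsg.FusionSystem (centralizerIn normalizerIn)
open scoped MatrixGroups

variable {F : Type*} [Field F]

/-- The involutions outside the group of pairs attached to units squaring to `-1`. -/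
def ww (u : SL2 F) : Sp F := pr (u, -u) * sw

theorem ww_mul (u v : SL2 F) : ww u * ww v = pr (-(u * v), -(u * v)) := by
  rw [ww, ww, mul_assoc, ← mul_assoc sw, sw_pr, mul_assoc _ sw sw, sw_sq, mul_one, pr_mul, mul_neg,
    neg_mul]

theorem ww_sq {u : SL2 F} (hu : u * u = -1) : ww u * ww u = 1 := by
  rw [ww_mul, hu, neg_neg]; exact map_one pr

theorem ne_mul_pr (a b : SL2 F) : ne * pr (a, b) = pr (-a, -b) := by
  rw [ne, pr_mul, neg_one_mul, neg_one_mul]

theorem anti_coe {x y : Sp F} (h : x * y = ne * (y * x)) : x.1 * y.1 = -(y.1 * x.1) := by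
  have := congrArg Subtype.val h
  rw [Submonoid.coe_mul, Submonoid.coe_mul, Submonoid.coe_mul, ne_coe, neg_one_mul] at this
  exact this

theorem anti_zz_sw : (zz : Sp F) * sw = ne * (sw * zz) := by
  rw [zz, sw_pr, ← mul_assoc, ne_mul_pr, neg_neg]

theorem anti_zz_ww (u : SL2 F) : zz * ww u = ne * (ww u * zz) := by
  rw [ww, zz, ← mul_assoc, pr_mul, mul_assoc, sw_pr, ← mul_assoc (pr (u, -u)), pr_mul, ← mul_assoc,
    ne_mul_pr]
  simp

theorem anti_sw_ww (u : SL2 F) : sw * ww u = ne * (ww u * sw) := by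
  rw [ww, ← mul_assoc, sw_pr, mul_assoc, sw_sq, mul_one, mul_assoc, sw_sq, mul_one, ne_mul_pr]
  simp

theorem anti_ww {u v : SL2 F} (h : v * u = -(u * v)) : ww u * ww v = ne * (ww v * ww u) := by
  rw [ww_mul, ww_mul, ne_mul_pr, h]
  simp

variable [Fintype F] {G : Type*} [Group G] [Finite G] (D : Setup F G)

omit [Finite G] in
theorem Setup.ww_mem {u : SL2 F} (hu : u ∈ (D.Q : Subgroup (SL2 F))) : D.proj (ww u) ∈ (D.S : Subgroup G) := by
  refine D.proj_mem (mul_mem (pr_mem_wr hu ?_) (sw_mem_wr _))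
  rw [← neg_one_mul]
  exact mul_mem (neg_one_mem D.odd D.Q) hu

/-- A permutation of a family induced by conjugation. -/
def Act (e : Fin 5 → G) (x : G) (p : Fin 5 → Fin 5) : Prop := ∀ k, x * e k * x⁻¹ = e (p k)

omit [Finite G] in
theorem Act.mul {e : Fin 5 → G} {x y : G} {p q : Fin 5 → Fin 5} (hx : Act e x p) (hy : Act e y q) :
    Act e (x * y) (p ∘ q) := fun k => by
  rw [show x * y * e k * (x * y)⁻¹ = x * (y * e k * y⁻¹) * x⁻¹ by group, hy, hx]; rfl

omit [Finite G] in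
theorem Act.inv {e : Fin 5 → G} {x : G} {p : Fin 5 → Fin 5} (hx : Act e x p) (q : Fin 5 → Fin 5)
    (hq : ∀ k, p (q k) = k) : Act e x⁻¹ q := fun k => by
  have := hx (q k)
  rw [hq] at this
  rw [← this]; group

theorem Act.normalizes {e : Fin 5 → G} {x : G} {p : Fin 5 → Fin 5} (hx : Act e x p) :
    x ∈ Subgroup.normalizer ((Subgroup.closure (Set.range e) : Subgroup G) : Set G) := by
  refine CfsgLib.Involution.TwoGroupLifts.mem_normalizer_of_conj_mem fun r hr => ?_
  have : Subgroup.closure (Set.range e) ≤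
      (Subgroup.closure (Set.range e)).comap (MulAut.conj x).toMonoidHom := by
    rw [Subgroup.closure_le]
    rintro _ ⟨k, rfl⟩
    show x * e k * x⁻¹ ∈ Subgroup.closure (Set.range e)
    rw [hx k]; exact Subgroup.subset_closure ⟨_, rfl⟩
  exact this hr

omit [Finite G] in
/-- An element normalising the Sylow subgroup with odd order comes from a diagonal pair. -/
theorem Setup.odd_normalizing {b : G} (hb : b ∈ Subgroup.normalizer ((D.S : Subgroup G) : Set G))
    (hbo : Odd (orderOf b)) :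
    ∃ g h : SL2 F, b = D.proj (pr (g, h)) ∧
      h ∈ Subgroup.normalizer ((D.Q : Subgroup (SL2 F)) : Set (SL2 F)) ∧
      g * h⁻¹ ∈ (D.Q : Subgroup (SL2 F)) := by
  have h2 := two_ne_zero' D.odd
  have hconj : ∀ {x : G}, x ∈ (D.S : Subgroup G) → b * x * b⁻¹ ∈ (D.S : Subgroup G) := fun hx =>
    (Subgroup.mem_normalizer_iff.1 hb _).1 hx
  have hzS : D.proj zz ∈ (D.S : Subgroup G) := D.prMem (one_mem _) (neg_one_mem D.odd D.Q)
  have hzc : ∀ s ∈ (D.S : Subgroup G), s * D.proj zz = D.proj zz * s := by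
    intro s hs
    rw [D.hS] at hs
    obtain ⟨v, ⟨a, c, ha, hc, rfl | rfl⟩, rfl⟩ := hs
    · rw [← map_mul, ← map_mul, zz, pr_mul, pr_mul, mul_neg_one, neg_one_mul, mul_one, one_mul]
    · rw [← map_mul, ← map_mul, zz, mul_assoc, sw_pr, ← mul_assoc, ← mul_assoc, pr_mul, pr_mul,
        mul_neg_one, neg_one_mul, mul_one, one_mul]
      refine D.eq_iff.2 (Or.inr ?_)
      rw [mul_assoc, Subgroup.mem_center_iff.1 ne_mem_center sw, ← mul_assoc, ne, pr_mul]
      simp
  have hbz : b * D.proj zz * b⁻¹ = D.proj zz := by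
    refine (D.central_cases (hconj hzS) fun s hs => ?_).resolve_left fun e => ?_
    · have h1 : b⁻¹ * s * b ∈ (D.S : Subgroup G) := by
        have := (Subgroup.mem_normalizer_iff.1 (inv_mem hb) s).1 hs
        rwa [inv_inv] at this
      calc s * (b * D.proj zz * b⁻¹) = b * ((b⁻¹ * s * b) * D.proj zz) * b⁻¹ := by group
        _ = b * (D.proj zz * (b⁻¹ * s * b)) * b⁻¹ := by rw [hzc _ h1]
        _ = _ := by group
    · rw [conj_eq_one_iff, D.ker] at e
      rcases e with e | e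
      · exact neg_one_ne_one h2 (congrArg Prod.snd (pr_injective (e.trans (map_one pr).symm) : _))
      · exact neg_one_ne_one h2 (congrArg Prod.fst (pr_injective e : _)).symm
  obtain ⟨y, rfl⟩ := D.surj b
  rw [← map_inv, ← map_mul, ← map_mul, D.eq_iff] at hbz
  have hcomm : y * zz = zz * y := by
    rcases hbz with e | e
    · exact mul_inv_eq_iff_eq_mul.1 e
    · exfalso
      have hpow : ∀ j : ℕ, y ^ j * zz * (y ^ j)⁻¹ = zz * ne ^ j := by
        intro j
        induction j with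
        | zero => simp
        | succ j ih =>
          rw [pow_succ' y, show y * y ^ j * zz * (y * y ^ j)⁻¹ = y * (y ^ j * zz * (y ^ j)⁻¹) * y⁻¹ by group,
            ih, ← mul_assoc, mul_assoc (y * zz), ← Subgroup.mem_center_iff.1
            (pow_mem ne_mem_center j) y⁻¹, ← mul_assoc, e, mul_assoc, pow_succ']
      obtain ⟨t, ht⟩ := hbo
      have h1 := hpow (orderOf (D.proj y))
      have h3 : y ^ orderOf (D.proj y) ∈ Subgroup.center (Sp F) := by
        have := (D.ker _).1 (by rw [map_pow, pow_orderOf_eq_one] : D.proj (y ^ orderOf (D.proj y)) = 1)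
        rcases this with e' | e' <;> rw [e']
        exacts [one_mem _, ne_mem_center]
      rw [← Subgroup.mem_center_iff.1 h3 zz, mul_inv_cancel_right, ht, pow_succ, pow_mul, pow_two, ne_sq,
        one_pow, one_mul, left_eq_mul] at h1
      exact ne_ne_one h2 h1
  obtain ⟨⟨g, h⟩, rfl⟩ := mem_range_of_commute h2 hcomm
  refine ⟨g, h, rfl, ?_, ?_⟩
  · refine CfsgLib.Involution.TwoGroupLifts.mem_normalizer_of_conj_mem fun x hx => ?_
    have := hconj (D.prMem (one_mem _) hx)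
    rw [← map_inv, ← map_mul, ← map_mul, pr_inv, pr_mul, pr_mul] at this
    obtain ⟨a, c, ha, hc, e | e⟩ := D.mem_of_proj this
    · rw [(Prod.mk_inj.1 (pr_injective e)).2]; exact hc
    · exact absurd ⟨_, e⟩ (pr_sw_not_range _)
  · have := hconj (D.proj_mem (sw_mem_wr (D.Q : Subgroup (SL2 F))))
    rw [D.sw_conj] at this
    obtain ⟨a, c, ha, hc, e | e⟩ := D.mem_of_proj this
    · exact absurd ⟨_, e.symm⟩ (pr_sw_not_range _)
    · rw [(Prod.mk_inj.1 (pr_injective (mul_right_cancel e))).1]; exact ha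

omit [Finite G] in
theorem Setup.eq_of_pr_sw {a b c d : SL2 F} (e : D.proj (pr (a, b) * sw) = D.proj (pr (c, d) * sw)) :
    a = c ∨ a = -c := by
  rw [map_mul, map_mul, mul_left_inj] at e
  exact (D.pr_eq e).imp And.left And.left

variable {E : FusionSystem (D.S : Subgroup G)}

/-- Every element of the normaliser of the Sylow subgroup induces a map of a normal subsystem. -/
theorem Setup.conj_mem (hE : E.IsNormalIn (groupFusionSystem (D.S : Subgroup G)) 2) {n : G}
    (hn : n ∈ Subgroup.normalizer ((D.S : Subgroup G) : Set G)) :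
    Fn E (D.S : Subgroup G) (fun x => n * x * n⁻¹) := by
  haveI := Fact.mk Nat.prime_two
  obtain ⟨⟨hEsat, -, hinv⟩, -⟩ := hE
  have h2 := two_ne_zero' D.odd
  have hmulS : ∀ {u v : G}, v ∈ Subgroup.normalizer ((D.S : Subgroup G) : Set G) → Fn E (D.S : Subgroup G) (fun x => u * x * u⁻¹) →
      Fn E (D.S : Subgroup G) (fun x => v * x * v⁻¹) → Fn E (D.S : Subgroup G) (fun x => u * v * x * (u * v)⁻¹) := fun {u v} hv hu hv' =>
    (hv'.comp hu fun x hx => (Subgroup.mem_normalizer_iff.1 hv x).1 hx).congr fun x _ => by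
      show u * (v * x * v⁻¹) * u⁻¹ = _; group
  have hSE : ∀ {a : G}, a ∈ (D.S : Subgroup G) → Fn E (D.S : Subgroup G) (fun x => a * x * a⁻¹) := fun ha => fn_conj le_rfl ha
  obtain ⟨a, ha, b, hb, hbo, -, rfl⟩ := exists_odd_part D.S hn
  refine hmulS hb (hSE ha) ?_
  obtain ⟨g, h, rfl, hh, ht⟩ := D.odd_normalizing hb hbo
  have e1 : pr (g, h) = pr (g * h⁻¹, 1) * pr (h, h) := by rw [pr_mul, inv_mul_cancel_right, one_mul]
  rw [e1, map_mul] at hb ⊢
  have htS := D.prMem ht (one_mem (D.Q : Subgroup (SL2 F)))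
  have hb2 := (Subgroup.mul_mem_cancel_left _ (Subgroup.le_normalizer htS)).1 hb
  refine hmulS hb2 (hSE htS) ?_
  clear e1 hb hbo ha hn ht htS g
  obtain ⟨h', hh', b', hb', hbo', -, rfl⟩ := exists_odd_part D.Q hh
  rw [← pr_mul, map_mul] at hb2 ⊢
  have hpS' := D.prMem hh' hh'
  have hs := (Subgroup.mul_mem_cancel_left _ (Subgroup.le_normalizer hpS')).1 hb2
  refine hmulS hs (hSE hpS') ?_
  clear hb2 hpS' hh' hh h'
  by_cases hb1 : b' = 1
  · subst hb1
    have : D.proj (pr ((1 : SL2 F), 1)) = 1 := by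
      rw [show ((1 : SL2 F), (1 : SL2 F)) = 1 from rfl, map_one, map_one]
    rw [this]
    exact hSE (one_mem _)
  obtain ⟨i, j, hi, hii, hjj, hji, hij, hjk, hQ8⟩ := odd_normalizer D.odd D.Q hb' hbo' hb1
  have hj : j ∈ (D.Q : Subgroup (SL2 F)) := hij ▸ (Subgroup.mem_normalizer_iff.1 hb' i).1 hi
  have hk : i * j ∈ (D.Q : Subgroup (SL2 F)) := mul_mem hi hj
  have hiji : i * j * i = j := by rw [mul_assoc, hji, mul_neg, ← mul_assoc, hii, neg_one_mul, neg_neg]
  have hjij : j * (i * j) = i := by rw [← mul_assoc, hji, neg_mul, mul_assoc, hjj, mul_neg, mul_one, neg_neg]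
  have hkk : (i * j) * (i * j) = -1 := by rw [← mul_assoc, hiji, hjj]
  let wf : SL2 F → G := fun y => D.proj (pr (y, y⁻¹) * sw)
  have hwf : ∀ y, wf y = D.proj (pr (y, y⁻¹) * sw) := fun y => rfl
  clear_value wf
  have hwf1 : wf 1 = D.proj sw := by
    rw [hwf, inv_one, show ((1 : SL2 F), (1 : SL2 F)) = 1 from rfl, map_one, one_mul]
  have hwfu : ∀ u : SL2 F, u * u = -1 → wf u = D.proj (ww u) := fun u hu => by
    rw [hwf, inv_of_sq_neg_one hu]; rfl
  have hwfneg : ∀ y : SL2 F, wf (-y) = wf y := fun y => by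
    have hn : (-y)⁻¹ = -y⁻¹ := inv_eq_of_mul_eq_one_right (by rw [neg_mul_neg, mul_inv_cancel])
    rw [hwf, hwf, hn]
    refine D.eq_iff.2 (Or.inr ?_)
    rw [mul_assoc, Subgroup.mem_center_iff.1 ne_mem_center sw, ← mul_assoc, ne, pr_mul, mul_neg_one,
      mul_neg_one]
  have hwfc : ∀ a c y : SL2 F,
      D.proj (pr (a, c)) * wf y * (D.proj (pr (a, c)))⁻¹ = wf (a * y * c⁻¹) := fun a c y => by
    rw [hwf, hwf, ← map_inv, ← map_mul, ← map_mul, pr_inv]
    congr 1
    rw [← mul_assoc, pr_mul, mul_assoc, sw_pr, ← mul_assoc, pr_mul]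
    rw [mul_inv_rev, mul_inv_rev, inv_inv, mul_assoc c]
  have hzf : ∀ a c : SL2 F, D.proj (pr (a, c)) * D.proj zz * (D.proj (pr (a, c)))⁻¹ = D.proj zz := fun a c => by
    rw [← map_inv, ← map_mul, ← map_mul, pr_inv, zz, pr_mul, pr_mul, mul_one, mul_neg_one, neg_mul,
      mul_inv_cancel, mul_inv_cancel]
  set e : Fin 5 → G := ![D.proj zz, wf 1, wf i, wf j, wf (i * j)] with he
  set A := Subgroup.closure (Set.range e) with hA
  have hex : ∀ k, e k ∈ A := fun k => Subgroup.subset_closure ⟨k, rfl⟩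
  have hAS : A ≤ (D.S : Subgroup G) := by
    rw [hA, Subgroup.closure_le]
    rintro _ ⟨k, rfl⟩
    have hw : ∀ y ∈ (D.Q : Subgroup (SL2 F)), wf y ∈ (D.S : Subgroup G) := fun y hy => by
      rw [hwf]; exact D.proj_mem (mul_mem (pr_mem_wr hy (inv_mem hy)) (sw_mem_wr _))
    fin_cases k
    exacts [D.prMem (one_mem _) (neg_one_mem D.odd D.Q), hw _ (one_mem _), hw _ hi, hw _ hj, hw _ hk]
  have hwfA : ∀ y ∈ (D.Q : Subgroup (SL2 F)), wf y ∈ A := by
    intro y hy
    rcases hQ8 y hy with e' | e' | e' | e' | e' | e' | e' | e' <;> subst e' <;>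
      first
      | exact hex 1 | exact hex 2 | exact hex 3 | exact hex 4
      | (rw [hwfneg]; first | exact hex 1 | exact hex 2 | exact hex 3 | exact hex 4)
  have hSA : (D.S : Subgroup G) ≤ Subgroup.normalizer (A : Set G) := by
    intro x hx
    refine CfsgLib.Involution.TwoGroupLifts.mem_normalizer_of_conj_mem fun r hr => ?_
    suffices A ≤ A.comap (MulAut.conj x).toMonoidHom from this hr
    rw [hA, Subgroup.closure_le]
    rintro _ ⟨k, rfl⟩
    show x * e k * x⁻¹ ∈ A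
    rw [D.hS] at hx
    obtain ⟨v, ⟨a, c, ha, hc, hv⟩, rfl⟩ := hx
    have hswz : D.proj sw * D.proj zz * (D.proj sw)⁻¹ = D.proj zz := by
      rw [← map_mul, ← map_inv, ← map_mul]
      refine D.eq_iff.2 (Or.inr ?_)
      rw [inv_eq_of_mul_eq_one_right (sw_sq (F := F)), zz, sw_pr, mul_assoc, sw_sq, mul_one, ne, pr_mul]
      simp
    have hsww : ∀ y, D.proj sw * wf y * (D.proj sw)⁻¹ = wf y⁻¹ := fun y => by
      rw [hwf, hwf, ← map_mul, ← map_inv, ← map_mul, inv_eq_of_mul_eq_one_right (sw_sq (F := F)),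
        ← mul_assoc, sw_pr, mul_assoc, sw_sq, mul_one, inv_inv]
    have hprA : ∀ r, (r = D.proj zz ∨ ∃ y ∈ (D.Q : Subgroup (SL2 F)), r = wf y) →
        D.proj (pr (a, c)) * r * (D.proj (pr (a, c)))⁻¹ ∈ A := by
      rintro r (rfl | ⟨y, hy, rfl⟩)
      · rw [hzf]; exact hex 0
      · rw [hwfc]; exact hwfA _ (mul_mem (mul_mem ha hy) (inv_mem hc))
    have hcase : e k = D.proj zz ∨ ∃ y ∈ (D.Q : Subgroup (SL2 F)), e k = wf y := by
      fin_cases k
      exacts [Or.inl rfl, Or.inr ⟨_, one_mem _, rfl⟩, Or.inr ⟨_, hi, rfl⟩, Or.inr ⟨_, hj, rfl⟩,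
        Or.inr ⟨_, hk, rfl⟩]
    rcases hv with rfl | rfl
    · exact hprA _ hcase
    · rw [map_mul]
      have hc2 : D.proj (pr (a, c)) * D.proj sw * e k * (D.proj (pr (a, c)) * D.proj sw)⁻¹ =
          D.proj (pr (a, c)) * (D.proj sw * e k * (D.proj sw)⁻¹) * (D.proj (pr (a, c)))⁻¹ := by group
      rw [hc2]
      refine hprA _ ?_
      rcases hcase with e' | ⟨y, hy, e'⟩
      · exact Or.inl (by rw [e', hswz])
      · exact Or.inr ⟨y⁻¹, inv_mem hy, by rw [e', hsww]⟩
  -- the three basic elements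
  set cx : G := D.proj (pr (1, i)) with hcx
  have hcS : cx ∈ (D.S : Subgroup G) := D.prMem (one_mem _) hi
  have hC : Act e cx ![0, 2, 1, 4, 3] := by
    intro k
    fin_cases k
    · exact hzf 1 i
    · show cx * wf 1 * cx⁻¹ = wf i
      rw [hcx, hwfc, one_mul, one_mul, inv_of_sq_neg_one hii, hwfneg]
    · show cx * wf i * cx⁻¹ = wf 1
      rw [hcx, hwfc, one_mul, mul_inv_cancel]
    · show cx * wf j * cx⁻¹ = wf (i * j)
      rw [hcx, hwfc, one_mul, inv_of_sq_neg_one hii, mul_neg, hji, neg_neg]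
    · show cx * wf (i * j) * cx⁻¹ = wf j
      rw [hcx, hwfc, one_mul, inv_of_sq_neg_one hii, mul_neg, hiji, hwfneg]
  set sx : G := D.proj (pr (b', b')) with hsx
  have hS3 : Act e sx ![0, 1, 3, 4, 2] := by
    intro k
    fin_cases k
    · exact hzf b' b'
    · show sx * wf 1 * sx⁻¹ = wf 1
      rw [hsx, hwfc, mul_one, mul_inv_cancel]
    · show sx * wf i * sx⁻¹ = wf j
      rw [hsx, hwfc, hij]
    · show sx * wf j * sx⁻¹ = wf (i * j)
      rw [hsx, hwfc]
      rcases hjk with e' | e' <;> rw [e']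
      rw [hwfneg]
    · show sx * wf (i * j) * sx⁻¹ = wf i
      rw [hsx, hwfc, show b' * (i * j) * b'⁻¹ = b' * i * b'⁻¹ * (b' * j * b'⁻¹) by group, hij]
      rcases hjk with e' | e' <;> rw [e']
      · rw [hjij]
      · rw [mul_neg, hjij, hwfneg]
  have hzz' : (zz : Sp F) * zz = 1 := zz_sq
  have hsw' : (sw : Sp F) * sw = 1 := sw_sq
  set T₀ : Sp F := refl h2 hzz' hsw' (ww_sq hii) (anti_coe anti_zz_sw) (anti_coe (anti_sw_ww i))
  obtain ⟨t0, t1, t2, t3⟩ := refl_conj h2 hzz' hsw' (ww_sq hii) (anti_coe anti_zz_sw)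
    (anti_coe (anti_sw_ww i)) (anti_coe (anti_zz_ww i))
  set tx : G := D.proj T₀ with htx
  have hlift : ∀ u v : Sp F, T₀ * u = v * T₀ → tx * D.proj u * tx⁻¹ = D.proj v := fun u v huv => by
    rw [htx, ← map_mul, huv, map_mul, mul_inv_cancel_right]
  have hanti_ij : j * i = -(i * j) := hji
  have hanti_ik : (i * j) * i = -(i * (i * j)) := by rw [hiji, ← mul_assoc, hii, neg_one_mul, neg_neg]
  have hT : Act e tx ![1, 2, 0, 3, 4] := by
    intro k
    fin_cases k
    · show tx * D.proj zz * tx⁻¹ = wf 1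
      rw [hwf1]; exact hlift _ _ t0
    · show tx * wf 1 * tx⁻¹ = wf i
      rw [hwf1, hwfu i hii]; exact hlift _ _ t1
    · show tx * wf i * tx⁻¹ = D.proj zz
      rw [hwfu i hii]; exact hlift _ _ t2
    · show tx * wf j * tx⁻¹ = wf j
      rw [hwfu j hjj]
      exact hlift _ _ (t3 _ (anti_coe (anti_zz_ww j)) (anti_coe (anti_sw_ww j)) (anti_coe (anti_ww hanti_ij)))
    · show tx * wf (i * j) * tx⁻¹ = wf (i * j)
      rw [hwfu _ hkk]
      exact hlift _ _ (t3 _ (anti_coe (anti_zz_ww _)) (anti_coe (anti_sw_ww _)) (anti_coe (anti_ww hanti_ik)))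
  -- good elements
  have hAmap : ∀ {x : G}, x ∈ Subgroup.normalizer (A : Set G) → img (fun r => x * r * x⁻¹) A = A := fun {x} hx => by
    rw [img_conj]; exact Subgroup.mem_normalizer_iff_map_conj_eq.1 hx
  have hgS : ∀ {x : G}, x ∈ (D.S : Subgroup G) → Fn E A (fun r => x * r * x⁻¹) := fun hx => (hSE hx).mono hAS
  have hgmul : ∀ {x y : G}, y ∈ Subgroup.normalizer (A : Set G) → Fn E A (fun r => x * r * x⁻¹) →
      Fn E A (fun r => y * r * y⁻¹) → Fn E A (fun r => x * y * r * (x * y)⁻¹) := fun {x y} hy hx hy' =>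
    (hy'.comp hx fun r hr => (Subgroup.mem_normalizer_iff.1 hy r).1 hr).congr fun r _ => by
      show x * (y * r * y⁻¹) * x⁻¹ = _; group
  have hgconj : ∀ {x y : G}, x ∈ Subgroup.normalizer (A : Set G) → y ∈ Subgroup.normalizer (A : Set G) →
      Fn E A (fun r => y * r * y⁻¹) → Fn E A (fun r => x * y * x⁻¹ * r * (x * y * x⁻¹)⁻¹) := by
    intro x y hx hy hy'
    obtain ⟨χ, hχ, hχe⟩ := Invariant.strong hinv hAS (f := fun r => x * r * x⁻¹)
      (fn_group_conj hAS x fun r hr => hAS ((Subgroup.mem_normalizer_iff.1 hx r).1 hr)) le_rfl hy'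
      (fun r hr => (Subgroup.mem_normalizer_iff.1 hy r).1 hr)
    rw [hAmap hx] at hχ
    refine hχ.congr fun r hr => ?_
    have hr' : x⁻¹ * r * x ∈ A := by
      have := (Subgroup.mem_normalizer_iff.1 (inv_mem hx) r).1 hr
      rwa [inv_inv] at this
    have := hχe _ hr'
    rw [show x * (x⁻¹ * r * x) * x⁻¹ = r by group] at this
    rw [this]; group
  have hcN := hC.normalizes
  have htN := hT.normalizes
  have hsN := hS3.normalizes
  set tau : G := tx * cx * tx⁻¹ * cx⁻¹ with htau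
  have htauG : Fn E A (fun r => tau * r * tau⁻¹) :=
    hgmul (inv_mem hcN) (hgconj htN hcN (hgS hcS)) (hgS (inv_mem hcS))
  have htauN : tau ∈ Subgroup.normalizer (A : Set G) :=
    mul_mem (mul_mem (mul_mem htN hcN) (inv_mem htN)) (inv_mem hcN)
  set rho : G := cx * sx * tau * (cx * sx)⁻¹ with hrho
  have hrhoG : Fn E A (fun r => rho * r * rho⁻¹) := hgconj (mul_mem hcN hsN) htauN htauG
  have hrhoN : rho ∈ Subgroup.normalizer (A : Set G) :=
    mul_mem (mul_mem (mul_mem hcN hsN) htauN) (inv_mem (mul_mem hcN hsN))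
  set X : G := rho * (sx * rho * sx⁻¹) with hX
  have hXG : Fn E A (fun r => X * r * X⁻¹) :=
    hgmul (mul_mem (mul_mem hsN hrhoN) (inv_mem hsN)) hrhoG (hgconj hsN hrhoN hrhoG)
  have hagree : ∀ k, X * e k * X⁻¹ = sx * e k * sx⁻¹ := by
    have hCi := hC.inv ![0, 2, 1, 4, 3] (by decide)
    have hTi := hT.inv ![2, 0, 1, 3, 4] (by decide)
    have hSi := hS3.inv ![0, 1, 4, 2, 3] (by decide)
    have htauA := ((hT.mul hC).mul hTi).mul hCi
    have hrhoA := (((hC.mul hS3).mul htauA).mul ((hC.mul hS3).inv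
      ((![0, 1, 4, 2, 3] : Fin 5 → Fin 5) ∘ ![0, 2, 1, 4, 3]) (by decide)))
    have hXA := hrhoA.mul ((hS3.mul hrhoA).mul hSi)
    intro k
    rw [hX, hrho, htau]
    refine (hXA k).trans ((congrArg e ?_).trans (hS3 k).symm)
    revert k; decide
  have hsA : Fn E A (fun r => sx * r * sx⁻¹) := hXG.congr fun r hr => by
    refine (MonoidHom.eqOn_closure (f := (MulAut.conj X).toMonoidHom) (g := (MulAut.conj sx).toMonoidHom)
      ?_ hr)
    rintro _ ⟨k, rfl⟩
    exact hagree k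
  -- extend to the Sylow subgroup
  have hAfn : E.IsFullyNormalized A := ⟨hAS, fun R hR => by
    rw [show normalizerIn (D.S : Subgroup G) A = (D.S : Subgroup G) from inf_eq_left.2 hSA]
    exact Subgroup.card_le_of_le inf_le_left⟩
  obtain ⟨N, φ, hφ, hAN, hN, hφe⟩ := receptive_extend (fullyNormalized_receptive D.S.2 hEsat hAfn) hsA
    (hAmap hsN)
  have hNS : (D.S : Subgroup G) ≤ N := fun x hx => (hN x).2 ⟨hx, hSA hx, sx * x * sx⁻¹,
    (Subgroup.mem_normalizer_iff.1 hs x).1 hx, fun r _ => by group⟩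
  have hφS := hφ.mono hNS
  obtain ⟨-, hdS, d, hd⟩ := fn_group_iff.1 (Fn.of_subsystem hinv.1 hφS)
  have hdN : d ∈ Subgroup.normalizer ((D.S : Subgroup G) : Set G) :=
    CfsgLib.Involution.TwoGroupLifts.mem_normalizer_of_conj_mem fun x hx => hd x hx ▸ hdS x hx
  set m := d⁻¹ * sx with hm
  have hmN : m ∈ Subgroup.normalizer ((D.S : Subgroup G) : Set G) := mul_mem (inv_mem hdN) hs
  have hmC : ∀ r ∈ A, m * r * m⁻¹ = r := by
    intro r hr
    have h1 : d * r * d⁻¹ = sx * r * sx⁻¹ := (hd r (hAS hr)).symm.trans (hφe r hr)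
    rw [show m * r * m⁻¹ = d⁻¹ * (sx * r * sx⁻¹) * d by rw [hm]; group, ← h1]; group
  obtain ⟨u, hu, v, hv, hvo, hvm, huv⟩ := exists_odd_part D.S hmN
  have hvC : ∀ k, v * e k * v⁻¹ = e k := by
    intro k
    have hmc : m ∈ Subgroup.centralizer ({e k} : Set G) :=
      Subgroup.mem_centralizer_singleton_iff.2 (mul_inv_eq_iff_eq_mul.1 (hmC _ (hex k)))
    have hvc := (Subgroup.zpowers_le.2 hmc) hvm
    exact mul_inv_eq_iff_eq_mul.2 (Subgroup.mem_centralizer_singleton_iff.1 hvc)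
  have hv1 : v = 1 := by
    obtain ⟨g, k, rfl, -, -⟩ := D.odd_normalizing hv hvo
    have f1 : wf (g * 1 * k⁻¹) = wf 1 := (hwfc g k 1).symm.trans (hvC 1)
    have f2 : wf (g * i * k⁻¹) = wf i := (hwfc g k i).symm.trans (hvC 2)
    have f3 : wf (g * j * k⁻¹) = wf j := (hwfc g k j).symm.trans (hvC 3)
    rw [hwf, hwf] at f1 f2 f3
    have hgk : g = k ∨ g = -k := by
      rcases D.eq_of_pr_sw f1 with e' | e' <;> rw [mul_one, mul_inv_eq_iff_eq_mul] at e'
      · exact Or.inl (e'.trans (one_mul k))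
      · exact Or.inr (e'.trans (neg_one_mul k))
    have hfix : ∀ y : SL2 F, D.proj (pr (g * y * k⁻¹, (g * y * k⁻¹)⁻¹) * sw) = D.proj (pr (y, y⁻¹) * sw) →
        Commute (g * g) y := by
      intro y hy
      have h1 : g * y * g⁻¹ = y ∨ g * y * g⁻¹ = -y := by
        rcases hgk with rfl | rfl
        · exact D.eq_of_pr_sw hy
        · have hn : (-k)⁻¹ = -k⁻¹ := inv_eq_of_mul_eq_one_right (by rw [neg_mul_neg, mul_inv_cancel])
          rw [hn]
          simp only [neg_mul, mul_neg, neg_neg]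
          rcases D.eq_of_pr_sw hy with e' | e' <;> simp only [neg_mul] at e'
          · exact Or.inr (neg_eq_iff_eq_neg.1 e')
          · exact Or.inl (neg_inj.1 e')
      refine mul_inv_eq_iff_eq_mul.1 ?_
      rw [show g * g * y * (g * g)⁻¹ = g * (g * y * g⁻¹) * g⁻¹ by group]
      rcases h1 with e' | e' <;> rw [e']
      · exact e'
      · rw [mul_neg, neg_mul, e', neg_neg]
    have c2 := hfix i f2
    have c3 := hfix j f3
    have hgg : g * g = 1 ∨ g * g = -1 := by
      refine central_of_centralizes D.odd D.Q fun y hy => ?_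
      rcases hQ8 y hy with e' | e' | e' | e' | e' | e' | e' | e' <;> subst e'
      · simp
      · simp
      · exact c2.eq
      · rw [mul_neg, c2.eq, neg_mul]
      · exact c3.eq
      · rw [mul_neg, c3.eq, neg_mul]
      · exact (c2.mul_right c3).eq
      · rw [mul_neg, (c2.mul_right c3).eq, neg_mul]
    have hkk' : k * k = g * g := by
      rcases hgk with rfl | rfl
      · rfl
      · rw [neg_mul_neg]
    have h4 : (D.proj (pr (g, k))) ^ 4 = 1 := by
      rw [← map_pow, ← map_pow, show ((g, k) : SL2 F × SL2 F) ^ 4 = 1 by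
        rw [Prod.pow_mk, show (4 : ℕ) = 2 * 2 from rfl, pow_mul, pow_mul, pow_two g, pow_two k, hkk']
        rcases hgg with e' | e' <;> rw [e'] <;> simp [pow_two], map_one, map_one]
    rw [← orderOf_eq_one_iff]
    obtain ⟨t, ht⟩ := hvo
    have h5 := orderOf_dvd_of_pow_eq_one h4
    have h6 := Nat.le_of_dvd (by norm_num) h5
    rw [ht] at h5 h6 ⊢
    rcases t with _ | _ | t
    · rfl
    · norm_num at h5
    · omega
  rw [hv1, mul_one] at huv
  have hsd : sx = d * u := by rw [← huv, hm, mul_inv_cancel_left]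
  rw [hsd]
  refine hmulS (Subgroup.le_normalizer hu) (hφS.congr fun x hx => hd x hx) (hSE hu)

/-- The 2-fusion system is simple. -/
theorem Setup.isSimple (hne : (D.S : Subgroup G) ≠ ⊥) :
    (groupFusionSystem (D.S : Subgroup G)).IsSimple 2 := by
  haveI := Fact.mk Nat.prime_two
  refine ⟨group_isSaturated D.S, hne, fun T E hE => ?_⟩
  have hinv := hE.1.2.2
  refine or_iff_not_imp_left.2 fun hT1 => ?_
  have hT := D.closed_eq hinv.2.1 hT1
  subst hT
  refine ⟨rfl, fun P => Set.Subset.antisymm (hinv.1 P) fun φ hφ => ?_⟩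
  obtain ⟨α, hα, f, hf, he⟩ := Invariant.frattini hinv
    ((groupFusionSystem (D.S : Subgroup G)).le_of_mem hφ).1 (fn_ofHom hφ)
  rw [group_autGroup le_rfl, mem_autInducedBy] at hα
  obtain ⟨n, -, hnα⟩ := hα
  have hn : n ∈ Subgroup.normalizer ((D.S : Subgroup G) : Set G) := mem_normalizer_of_autEq hnα
  refine mem_hom_iff.2 ((hf.comp (D.conj_mem hE hn) fun x hx => hf.mem hx).congr fun x hx => ?_)
  rw [he x hx]
  show n * f x * n⁻¹ = _
  rw [← hnα ⟨f x, hf.mem hx⟩]
  exact (autFn_coe α ⟨f x, hf.mem hx⟩).symm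

end CfsgLib.Fsys.PSpFour
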