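import Cfsg.Agent.Lib.FusionSystem.PSpFourPieces
import Cfsg.Agent.Lib.FusionSystem.PSpFourQuat
import Cfsg.Agent.Lib.FusionSystem.ClosedByQuotient

/-
A Sylow 2-subgroup of the projective four-dimensional symplectic group; its strongly closed subgroups.
-/

set_option autoImplicit false

namespace CfsgLib.Fsys.PSpFour

open Cfsg CfsgLib.Fsys CfsgLib.KnownA.SL2Torus CfsgLib.Classical
open scoped MatrixGroups

variable {F : Type*} [Field F]

/-- Pairs from a subgroup, extended by the exchange of planes. -/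
def wr (Q : Subgroup (SL2 F)) : Subgroup (Sp F) where
  carrier := {x | ∃ a b, a ∈ Q ∧ b ∈ Q ∧ (x = pr (a, b) ∨ x = pr (a, b) * sw)}
  one_mem' := ⟨1, 1, one_mem _, one_mem _, Or.inl (map_one pr).symm⟩
  mul_mem' := by
    rintro x y ⟨a, b, ha, hb, rfl | rfl⟩ ⟨c, d, hc, hd, rfl | rfl⟩
    · exact ⟨_, _, mul_mem ha hc, mul_mem hb hd, Or.inl (pr_mul a b c d)⟩
    · exact ⟨_, _, mul_mem ha hc, mul_mem hb hd, Or.inr (by rw [← mul_assoc, pr_mul])⟩
    · exact ⟨_, _, mul_mem ha hd, mul_mem hb hc, Or.inr (by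
        rw [mul_assoc, sw_pr, ← mul_assoc, pr_mul])⟩
    · exact ⟨_, _, mul_mem ha hd, mul_mem hb hc, Or.inl (by
        rw [mul_assoc, ← mul_assoc sw, sw_pr, mul_assoc _ sw sw, sw_sq, mul_one, pr_mul])⟩
  inv_mem' := by
    rintro x ⟨a, b, ha, hb, rfl | rfl⟩
    · exact ⟨_, _, inv_mem ha, inv_mem hb, Or.inl (pr_inv a b)⟩
    · exact ⟨_, _, inv_mem hb, inv_mem ha, Or.inr (by
        rw [mul_inv_rev, inv_eq_of_mul_eq_one_right (sw_sq (F := F)), pr_inv, sw_pr])⟩

theorem pr_mem_wr {Q : Subgroup (SL2 F)} {a b : SL2 F} (ha : a ∈ Q) (hb : b ∈ Q) :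
    pr (a, b) ∈ wr Q := ⟨a, b, ha, hb, Or.inl rfl⟩

theorem sw_mem_wr (Q : Subgroup (SL2 F)) : sw ∈ wr Q :=
  ⟨1, 1, one_mem _, one_mem _, Or.inr (by rw [show ((1 : SL2 F), (1 : SL2 F)) = 1 from rfl, map_one, one_mul])⟩

theorem pr_sw_not_range (p : SL2 F × SL2 F) : pr p * sw ∉ (pr (F := F)).range := fun hm =>
  sw_not_range ((Subgroup.mul_mem_cancel_left (pr (F := F)).range (MonoidHom.mem_range.2 ⟨p, rfl⟩)).1 hm)

variable [Fintype F]

omit [Fintype F] in
theorem card_wr (Q : Subgroup (SL2 F)) :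
    Nat.card (wr Q) = 2 * (Nat.card Q * Nat.card Q) := by
  let f : (Q × Q) ⊕ (Q × Q) → wr Q := Sum.elim
    (fun p => ⟨pr ((p.1 : SL2 F), (p.2 : SL2 F)), pr_mem_wr p.1.2 p.2.2⟩)
    (fun p => ⟨pr ((p.1 : SL2 F), (p.2 : SL2 F)) * sw, mul_mem (pr_mem_wr p.1.2 p.2.2) (sw_mem_wr Q)⟩)
  have hf : Function.Bijective f := by
    constructor
    · rintro (p | p) (q | q) e <;> have e' := congrArg Subtype.val e <;> simp only [f, Sum.elim_inl, Sum.elim_inr] at e'
      · have := pr_injective e'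
        exact congrArg Sum.inl (Prod.ext (Subtype.ext (congrArg Prod.fst this)) (Subtype.ext (congrArg Prod.snd this)))
      · exact absurd ⟨_, e'⟩ (pr_sw_not_range ((q.1 : SL2 F), (q.2 : SL2 F)))
      · exact absurd ⟨_, e'.symm⟩ (pr_sw_not_range ((p.1 : SL2 F), (p.2 : SL2 F)))
      · have := pr_injective (mul_right_cancel e')
        exact congrArg Sum.inr (Prod.ext (Subtype.ext (congrArg Prod.fst this)) (Subtype.ext (congrArg Prod.snd this)))
    · rintro ⟨x, a, b, ha, hb, rfl | rfl⟩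
      · exact ⟨Sum.inl (⟨a, ha⟩, ⟨b, hb⟩), rfl⟩
      · exact ⟨Sum.inr (⟨a, ha⟩, ⟨b, hb⟩), rfl⟩
  rw [← Nat.card_congr (Equiv.ofBijective f hf)]
  by_cases hfin : Finite Q
  · rw [Nat.card_sum, Nat.card_prod]; ring
  · have : Infinite Q := not_finite_iff_infinite.1 hfin
    simp

theorem index_wr_odd (hodd : Odd (Fintype.card F)) (Q : Sylow 2 (SL2 F)) :
    ¬ 2 ∣ (wr (Q : Subgroup (SL2 F))).index := by
  haveI := Fact.mk Nat.prime_two
  set q := Fintype.card F with hq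
  obtain ⟨r, hr⟩ := id hodd
  have hq1 : 1 < q := Fintype.one_lt_card
  have hsl : Nat.card (SL2 F) = q * (q ^ 2 - 1) := by
    have h := CfsgLib.Classical.card_sl_mul (F := F) rfl 2 (by omega)
    rw [Fin.prod_univ_two] at h
    simp only [Fin.val_zero, Fin.val_one, pow_zero, pow_one] at h
    refine Nat.eq_of_mul_eq_mul_left (show 0 < q - 1 by omega) (h.trans ?_)
    rw [show q ^ 2 - q = q * (q - 1) by rw [Nat.mul_sub, mul_one, pow_two]]
    ring
  have hsp : Nat.card (Sp F) = q ^ 4 * ((q ^ 2 - 1) * (q ^ 4 - 1)) := by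
    rw [CfsgLib.Classical.card_symplecticGroup]
    simp [Finset.prod_range_succ, ← hq]
  have h4 : q ^ 4 - 1 = (q ^ 2 - 1) * (q ^ 2 + 1) := by
    have : 1 ≤ q ^ 2 := Nat.one_le_pow _ _ (by omega)
    zify [this, Nat.one_le_pow 4 q (by omega)]
    ring
  have h5 : q ^ 2 + 1 = 2 * (2 * r ^ 2 + 2 * r + 1) := by rw [hr]; ring
  have hidx : (Q : Subgroup (SL2 F)).index * Nat.card (Q : Subgroup (SL2 F)) = q * (q ^ 2 - 1) := by
    rw [Subgroup.index_mul_card, hsl]
  have hmain : (wr (Q : Subgroup (SL2 F))).index * (2 * (Nat.card (Q : Subgroup (SL2 F)) * Nat.card (Q : Subgroup (SL2 F)))) =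
      q ^ 2 * (2 * r ^ 2 + 2 * r + 1) * ((Q : Subgroup (SL2 F)).index * (Q : Subgroup (SL2 F)).index) *
        (2 * (Nat.card (Q : Subgroup (SL2 F)) * Nat.card (Q : Subgroup (SL2 F)))) := by
    rw [← card_wr, Subgroup.index_mul_card, hsp, h4, h5, card_wr]
    calc q ^ 4 * ((q ^ 2 - 1) * ((q ^ 2 - 1) * (2 * (2 * r ^ 2 + 2 * r + 1))))
        = q ^ 2 * (2 * r ^ 2 + 2 * r + 1) * 2 * ((q * (q ^ 2 - 1)) * (q * (q ^ 2 - 1))) := by ring
      _ = _ := by rw [← hidx]; ring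
  rw [Nat.eq_of_mul_eq_mul_right (Nat.mul_pos two_pos (Nat.mul_pos Nat.card_pos Nat.card_pos)) hmain]
  refine Nat.Prime.not_dvd_mul Nat.prime_two (Nat.Prime.not_dvd_mul Nat.prime_two ?_ (by omega))
    (Nat.Prime.not_dvd_mul Nat.prime_two Q.not_dvd_index Q.not_dvd_index)
  intro h
  have := Nat.Prime.dvd_of_dvd_pow Nat.prime_two h
  omega

/-- The fixed data: a quotient by the centre and the resulting Sylow subgroup. -/
structure Setup (F : Type*) [Field F] [Fintype F] (G : Type*) [Group G] where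
  odd : Odd (Fintype.card F)
  proj : Sp F →* G
  surj : Function.Surjective proj
  ker : ∀ x, proj x = 1 ↔ x = 1 ∨ x = ne
  Q : Sylow 2 (SL2 F)
  S : Sylow 2 G
  hS : (S : Subgroup G) = (wr (Q : Subgroup (SL2 F))).map proj

variable {G : Type*} [Group G] [Finite G] (D : Setup F G)

omit [Finite G] in
theorem Setup.eq_iff {x y : Sp F} : D.proj x = D.proj y ↔ x = y ∨ x = y * ne := by
  rw [← inv_mul_eq_one, eq_comm, ← eq_comm, ← map_inv, ← map_mul, D.ker]
  rw [inv_mul_eq_one, inv_mul_eq_iff_eq_mul]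
  constructor
  · rintro (e | e)
    · exact Or.inl e
    · exact Or.inr (by rw [e, mul_assoc, ne_sq, mul_one])
  · rintro (e | e)
    · exact Or.inl e
    · exact Or.inr (by rw [e, mul_assoc, ne_sq, mul_one])

omit [Finite G] in
theorem Setup.ne_one : D.proj ne = 1 := (D.ker _).2 (Or.inr rfl)

omit [Finite G] in
theorem Setup.pr_eq {a b c d : SL2 F} (e : D.proj (pr (a, b)) = D.proj (pr (c, d))) :
    (a = c ∧ b = d) ∨ (a = -c ∧ b = -d) := by
  rcases D.eq_iff.1 e with e | e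
  · exact Or.inl (Prod.mk_inj.1 (pr_injective e))
  · rw [ne, pr_mul, mul_neg_one, mul_neg_one] at e
    exact Or.inr (Prod.mk_inj.1 (pr_injective e))

omit [Finite G] in
theorem Setup.mem_of_proj {x : Sp F} (hx : D.proj x ∈ (D.S : Subgroup G)) :
    x ∈ wr (D.Q : Subgroup (SL2 F)) := by
  rw [D.hS] at hx
  obtain ⟨y, hy, e⟩ := hx
  rcases D.eq_iff.1 e.symm with rfl | rfl
  · exact hy
  · exact mul_mem hy (pr_mem_wr (neg_one_mem D.odd D.Q) (neg_one_mem D.odd D.Q))

omit [Finite G] in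
theorem Setup.proj_mem {x : Sp F} (hx : x ∈ wr (D.Q : Subgroup (SL2 F))) :
    D.proj x ∈ (D.S : Subgroup G) := D.hS ▸ Subgroup.mem_map_of_mem _ hx

omit [Finite G] in
theorem Setup.prMem {a b : SL2 F} (ha : a ∈ (D.Q : Subgroup (SL2 F))) (hb : b ∈ (D.Q : Subgroup (SL2 F))) :
    D.proj (pr (a, b)) ∈ (D.S : Subgroup G) := D.proj_mem (pr_mem_wr ha hb)

omit [Finite G] in
theorem Setup.sw_conj (g h : SL2 F) :
    D.proj (pr (g, h)) * D.proj sw * (D.proj (pr (g, h)))⁻¹ =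
      D.proj (pr (g * h⁻¹, h * g⁻¹) * sw) := by
  rw [← map_inv, ← map_mul, ← map_mul, pr_inv, mul_assoc, sw_pr, ← mul_assoc, pr_mul]

omit [Finite G] in
theorem Setup.pr_sw_ne (a b c d : SL2 F) : D.proj (pr (a, b) * sw) ≠ D.proj (pr (c, d)) := by
  intro e
  refine pr_sw_not_range (a, b) ?_
  have hm : pr (a, b) * sw ∈ (pr (F := F)).range := by
    rcases D.eq_iff.1 e with e' | e' <;> rw [e']
    · exact ⟨_, rfl⟩
    · exact mul_mem ⟨_, rfl⟩ ⟨_, rfl⟩
  exact hm

omit [Finite G] in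
/-- The centre of the Sylow subgroup. -/
theorem Setup.central_cases {g : G} (hg : g ∈ (D.S : Subgroup G))
    (hc : ∀ s ∈ (D.S : Subgroup G), s * g = g * s) : g = 1 ∨ g = D.proj zz := by
  have hg' := hg
  rw [D.hS] at hg'
  obtain ⟨y, ⟨a, b, ha, hb, rfl | rfl⟩, rfl⟩ := hg'
  · have h2 := two_ne_zero' D.odd
    have hca : ∀ t ∈ (D.Q : Subgroup (SL2 F)), a * t = t * a := by
      intro t ht
      have e := hc _ (D.prMem ht (one_mem _))
      simp only [← map_mul, Prod.mk_mul_mk, one_mul, mul_one] at e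
      rcases D.pr_eq e with ⟨e1, -⟩ | ⟨-, e2⟩
      · exact e1.symm
      · exact absurd ((mul_eq_right (b := b)).1 (show (-1 : SL2 F) * b = b by rw [neg_one_mul]; exact e2.symm))
          (neg_one_ne_one h2)
    have hcb : ∀ t ∈ (D.Q : Subgroup (SL2 F)), b * t = t * b := by
      intro t ht
      have e := hc _ (D.prMem (one_mem _) ht)
      simp only [← map_mul, Prod.mk_mul_mk, one_mul, mul_one] at e
      rcases D.pr_eq e with ⟨-, e1⟩ | ⟨e2, -⟩
      · exact e1.symm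
      · exact absurd ((mul_eq_right (b := a)).1 (show (-1 : SL2 F) * a = a by rw [neg_one_mul]; exact e2.symm))
          (neg_one_ne_one h2)
    rcases central_of_centralizes D.odd D.Q hca with rfl | rfl <;>
      rcases central_of_centralizes D.odd D.Q hcb with rfl | rfl
    · exact Or.inl (by rw [show ((1 : SL2 F), (1 : SL2 F)) = 1 from rfl, map_one, map_one])
    · exact Or.inr rfl
    · refine Or.inr (D.eq_iff.2 (Or.inr ?_))
      rw [zz, ne, pr_mul, one_mul, neg_one_sq']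
    · exact Or.inl D.ne_one
  · exfalso
    obtain ⟨i, hi, hii, -⟩ := exists_gen D.odd D.Q
    have e := hc _ (D.prMem hi (one_mem _))
    rw [← map_mul, ← map_mul, ← mul_assoc, pr_mul, mul_assoc (pr (a, b)), sw_pr, ← mul_assoc, pr_mul,
      one_mul, mul_one] at e
    have e' := congrArg (fun t => t * (D.proj sw)⁻¹) e
    simp only [← map_inv, ← map_mul, mul_inv_cancel_right] at e'
    have h2 := two_ne_zero' D.odd
    rcases D.pr_eq e' with ⟨e1, -⟩ | ⟨e1, -⟩
    · rw [mul_eq_right] at e1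
      rw [e1, one_mul] at hii
      exact neg_one_ne_one h2 hii.symm
    · have : i = -1 := mul_right_cancel (e1.trans (neg_one_mul a).symm)
      rw [this, neg_one_sq'] at hii
      exact neg_one_ne_one h2 hii.symm

/-- A strongly closed subgroup is trivial or everything. -/
theorem Setup.closed_eq {W : Subgroup G}
    (hW : (groupFusionSystem (D.S : Subgroup G)).StronglyClosed W) (hne : W ≠ ⊥) :
    W = (D.S : Subgroup G) := by
  haveI := Fact.mk Nat.prime_two
  have h2 := two_ne_zero' D.odd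
  refine le_antisymm hW.1 ?_
  have hcl : ∀ {x g : G}, x ∈ W → g * x * g⁻¹ ∈ (D.S : Subgroup G) → g * x * g⁻¹ ∈ W :=
    fun hx hg => ClosedByQuotient.closed_mem hW hx hg
  set W' := W.comap D.proj
  have hcl' : ∀ {x g : Sp F}, x ∈ W' → g * x * g⁻¹ ∈ wr (D.Q : Subgroup (SL2 F)) → g * x * g⁻¹ ∈ W' := by
    intro x g hx hg
    have := D.proj_mem hg
    rw [map_mul, map_mul, map_inv] at this
    show D.proj (g * x * g⁻¹) ∈ W
    rw [map_mul, map_mul, map_inv]
    exact hcl hx this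
  have hneW : ne ∈ W' := by
    show D.proj ne ∈ W
    rw [D.ne_one]; exact one_mem _
  have hzz : zz ∈ W' := by
    haveI : (W.subgroupOf (D.S : Subgroup G)).Normal := ⟨fun x hx s => by
      exact hcl hx (mul_mem (mul_mem s.2 x.2) (inv_mem s.2))⟩
    haveI : Group.IsNilpotent (D.S : Subgroup G) := D.S.2.isNilpotent
    have hne' := CfsgLib.Solvable.FrattiniFitting.inf_center_ne_bot (W.subgroupOf (D.S : Subgroup G))
      (fun h => hne (by
        rw [Subgroup.subgroupOf_eq_bot] at h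
        exact disjoint_self.1 (h.mono_right hW.1)))
    obtain ⟨u, hu, hu1⟩ := (Subgroup.bot_or_exists_ne_one _).resolve_left hne'
    rcases D.central_cases u.2 (fun s hs => congrArg Subtype.val (Subgroup.mem_center_iff.1 hu.2 ⟨s, hs⟩)) with e | e
    · exact absurd (Subtype.ext e) hu1
    · show D.proj zz ∈ W
      rw [← e]; exact hu.1
  have hsw : sw ∈ W' := by
    have e : mm h2 * zz * (mm h2)⁻¹ = sw := by rw [mm_zz, mul_inv_cancel_right]
    have := hcl' (g := mm h2) hzz (by rw [e]; exact sw_mem_wr _)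
    rwa [e] at this
  have hanti : ∀ a ∈ (D.Q : Subgroup (SL2 F)), pr (a, a⁻¹) ∈ W' := by
    intro a ha
    have h1 : pr (a, 1) * sw * (pr (a, 1))⁻¹ = pr (a, a⁻¹) * sw := by
      rw [pr_inv, mul_assoc, sw_pr, ← mul_assoc, pr_mul, inv_one, mul_one, one_mul]
    have := mul_mem (hcl' (g := pr (a, 1)) hsw
      (h1 ▸ mul_mem (pr_mem_wr ha (inv_mem ha)) (sw_mem_wr _))) hsw
    rwa [h1, mul_assoc, sw_sq, mul_one] at this
  obtain ⟨i, hi, hii, hgen⟩ := exists_gen D.odd D.Q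
  have hsq : ∀ u ∈ (D.Q : Subgroup (SL2 F)), u * u = -1 → ∀ v ∈ (D.Q : Subgroup (SL2 F)), v * v = -1 →
      pr (u, v) ∈ W' := by
    intro u hu huu v hv hvv
    obtain ⟨g, hg⟩ := _root_.isConj_iff.1 (isConj_of_sq_neg_one h2 hii huu)
    have hii' : i⁻¹ * i⁻¹ = -1 := by rw [inv_of_sq_neg_one hii, neg_mul_neg, hii]
    obtain ⟨g', hg'⟩ := _root_.isConj_iff.1 (isConj_of_sq_neg_one h2 hii' hvv)
    have e : pr (g, g') * pr (i, i⁻¹) * (pr (g, g'))⁻¹ = pr (u, v) := by
      rw [pr_inv, pr_mul, pr_mul, hg, hg']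
    have := hcl' (g := pr (g, g')) (hanti i hi) (e ▸ pr_mem_wr hu hv)
    rwa [e] at this
  have hleft : ∀ x ∈ (D.Q : Subgroup (SL2 F)), pr (x, 1) ∈ W' := by
    intro x hx
    have hle : Subgroup.closure {y : SL2 F | ∃ u ∈ (D.Q : Subgroup (SL2 F)), u * u = -1 ∧ y = u * i⁻¹} ≤
        W'.comap (pr.comp (MonoidHom.inl (SL2 F) (SL2 F))) := by
      rw [Subgroup.closure_le]
      rintro y ⟨u, hu, huu, rfl⟩
      have := mul_mem (hsq u hu huu i hi hii) (inv_mem (hsq i hi hii i hi hii))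
      rw [pr_inv, pr_mul, mul_inv_cancel] at this
      exact this
    exact hle (hgen x hx)
  have hright : ∀ x ∈ (D.Q : Subgroup (SL2 F)), pr (1, x) ∈ W' := by
    intro x hx
    have e : pr (1, x) = sw * pr (x, 1) * sw := by rw [sw_pr, mul_assoc, sw_sq, mul_one]
    rw [e]
    exact mul_mem (mul_mem hsw (hleft x hx)) hsw
  rw [D.hS, Subgroup.map_le_iff_le_comap]
  rintro _ ⟨a, b, ha, hb, rfl | rfl⟩ <;>
    rw [show (a, b) = ((a, 1) : SL2 F × SL2 F) * (1, b) by simp, map_mul]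
  · exact mul_mem (hleft a ha) (hright b hb)
  · exact mul_mem (mul_mem (hleft a ha) (hright b hb)) hsw

end CfsgLib.Fsys.PSpFour
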