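import Cfsg.Agent.Lib.FusionSystem.PStable
import Cfsg.Agent.Lib.FusionSystem.SFour

/-! `p`-stability is determined at the centric radical subgroups. -/

set_option autoImplicit false

open Cfsg Cfsg.FusionSystem

namespace CfsgLib.Fsys

open CfsgLib.LocalEven.SylowIn

variable {Ω : Type*} [Group Ω] {S R Q : Subgroup Ω} {F : FusionSystem S} {p : ℕ} [Fact p.Prime] [Finite S]

/-- Every automorphism of `Q` in `F` extends to an automorphism of `R`. -/
def ExtTo (F : FusionSystem S) (Q R : Subgroup Ω) : Prop :=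
  ∀ α ∈ F.autGroup Q, ∃ g : Ω → Ω, Fn F R g ∧ img g R = R ∧ ∀ x : Q, g x = (α x : Q)

omit [Fact p.Prime] in
theorem ExtTo.map {f : Ω → Ω} (hf : Fn F R f) (hQR : Q ≤ R) (h : ExtTo F Q R) :
    ExtTo F (img f Q) (img f R) := by
  have hfQ := hf.mono hQR
  obtain ⟨e, he, hA⟩ := exists_transport hfQ.le hfQ rfl
  obtain ⟨f', hf', hf'f, hf'i⟩ := hf.exists_inv
  intro β hβ
  rw [← hA] at hβ
  obtain ⟨α, hα, rfl⟩ := hβ
  obtain ⟨g, hg, hgi, hge⟩ := h α hα
  have hm : ∀ y ∈ img f R, f' y ∈ R := fun y hy => hf'i.le (mem_img_of_mem hy)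
  have hc : Fn F (img f R) (f ∘ (g ∘ f')) :=
    (hf'.comp hg hm).comp hf fun y hy => hgi.le (mem_img_of_mem (hm y hy))
  refine ⟨_, hc, hc.img_eq_self fun y hy => mem_img_of_mem (hgi.le (mem_img_of_mem (hm y hy))), fun y => ?_⟩
  obtain ⟨x, rfl⟩ := e.surjective y
  show f (g (f' ((e x : img f Q) : Ω))) = (((MulAut.congr e α) (e x) : img f Q) : Ω)
  rw [he, hf'f _ (hQR x.2), hge x]
  simp [MulAut.congr, he]

theorem qStable_of_extTo (hS : IsPGroup p S) (hF : F.IsSaturated p)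
    (hloc : ∀ R : Subgroup Ω, F.IsFullyNormalized R → F.IsCentric R → F.IsRadical p R →
      ∀ N : FusionSystem (normalizerIn S R), F.IsNormalizerSystem R N →
        ∀ Q, N.IsFullyNormalized Q → QStable p N Q)
    {Q R : Subgroup Ω} (hR : F.IsCentric R) (hQR : Q ≤ R) (hext : ExtTo F Q R) : QStable p F Q := by
  induction hn : Nat.card S - Nat.card R using Nat.strong_induction_on generalizing Q R with
  | _ n ih =>
  obtain ⟨R', hRR', hR'⟩ := exists_fullyNormalized (F := F) hR.1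
  obtain ⟨f, hf, rfl⟩ := isConj_iff.1 hRR'
  refine qStable_of_isConj (isConj_of_fn (hf.mono hQR)) ?_
  have hext' := hext.map hf hQR
  have hQR' : img f Q ≤ img f R := img_mono hQR
  have hR'S := hR'.1
  have hR'c : F.IsCentric (img f R) :=
    ⟨hR'S, fun X hX => hR.2 X (isConj_trans hRR' hX)⟩
  have hcard : Nat.card (img f R) = Nat.card R := hf.card_img
  have := finite_of_le_base hR'S
  have := finite_of_le_base (hQR'.trans hR'S)
  by_cases hrad : F.IsRadical p (img f R)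
  · obtain ⟨N, hN⟩ := exists_normalizerSystem F hR'S
    have hQN : img f Q ≤ normalizerIn S (img f R) := hQR'.trans (le_normalizerIn hR'S)
    have := finite_of_le_base (S := S) (normalizerIn_le (P := img f R))
    obtain ⟨Q'', hQQ'', hQ''⟩ := exists_fullyNormalized (F := N) hQN
    have hst := qStable_of_isConj hQQ'' (hloc _ hR' hR'c hrad N hN Q'' hQ'')
    have hA : N.autGroup (img f Q) = F.autGroup (img f Q) := by
      ext α
      rw [mem_autGroup_iff_fn hQN, mem_autGroup_iff_fn (hQR'.trans hR'S), fn_normalizerSystem hN]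
      refine ⟨fun ⟨_, _, g, hg, he, _⟩ => (hg.mono le_sup_left).congr he, fun hα => ?_⟩
      obtain ⟨g, hg, hgi, hge⟩ := hext' α ((mem_autGroup_iff_fn (hQR'.trans hR'S)).2 hα)
      exact ⟨hQN, fun x hx => hQN (autFn_mem α hx), g, by rwa [sup_eq_right.2 hQR'],
        fun x hx => (hge ⟨x, hx⟩).trans (autFn_coe α ⟨x, hx⟩).symm, hgi⟩
    intro χ hχ hq
    have := hst χ (hA ▸ hχ) hq
    rwa [hA] at this
  · obtain ⟨hAut, hfc⟩ := fullyNormalized_good hS hF hR'
    set P := img f R with hP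
    let O := pCoreOf p (F.autGroup P)
    have hOS : O ≤ autInducedBy S P := by
      intro τ hτ
      obtain ⟨γ, hγ, hγτ⟩ := exists_conj_into hS hAut (pCoreOf_le (p := p) (F.autGroup P)) (isPGroup_pCoreOf _)
      have h1 : γ⁻¹ * τ * γ ∈ O := by
        have := (Subgroup.mem_normalizer_iff.1 (normalizer_pCoreOf (p := p) (F.autGroup P)
          ((F.autGroup P).inv_mem hγ)) τ).1 hτ
        simpa using this
      simpa [mul_assoc] using hγτ _ h1
    have hInn : Inn P ≤ O := le_pCoreOf (inn_le_autGroup hR'S)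
      (fun g _ => (Subgroup.normalizer_eq_top (Inn P) (h := innNormal P)) ▸ trivial)
      ((isPGroup_autInducedBy hS).to_le (inn_le_autInducedBy hR'S))
    let R₂ : Subgroup Ω :=
      S ⊓ ((O.comap P.normalizerMonoidHom).map (Subgroup.normalizer (P : Set Ω)).subtype)
    have hmem : ∀ {n : Ω}, n ∈ R₂ ↔ ∃ hn : n ∈ Subgroup.normalizer (P : Set Ω), n ∈ S ∧ conjAut P hn ∈ O := by
      intro n
      constructor
      · rintro ⟨hnS, ⟨m, hm⟩, hmO, rfl⟩
        exact ⟨hm, hnS, hmO⟩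
      · rintro ⟨hn, hnS, hnO⟩
        exact ⟨hnS, ⟨n, hn⟩, hnO, rfl⟩
    have hPR₂ : P ≤ R₂ := fun x hx => hmem.2 ⟨Subgroup.le_normalizer hx, hR'S hx, hInn ⟨⟨x, hx⟩, MulEquiv.ext fun y => Subtype.ext rfl⟩⟩
    have hne : ∃ n, n ∈ R₂ ∧ n ∉ P := by
      by_contra hall
      push_neg at hall
      refine hrad ⟨hR'S, le_antisymm (fun τ hτ => ?_) hInn⟩
      obtain ⟨g, hg, hgτ⟩ := mem_autInducedBy.1 (hOS hτ)
      have hgn := mem_normalizer_of_autEq hgτ
      have e : conjAut P hgn = τ := MulEquiv.ext fun x => Subtype.ext (hgτ x).symm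
      have hgP := hall g (hmem.2 ⟨hgn, hg, e.symm ▸ hτ⟩)
      exact ⟨⟨g, hgP⟩, MulEquiv.ext fun y => Subtype.ext (hgτ y).symm⟩
    obtain ⟨n₀, hn₀, hn₀P⟩ := hne
    have hlt : P < R₂ := lt_of_le_of_ne hPR₂ fun h => hn₀P (h.ge hn₀)
    have hR₂S : R₂ ≤ S := inf_le_left
    refine ih (Nat.card S - Nat.card R₂) ?_ (isCentric_mono hR'c hPR₂ hR₂S) (hQR'.trans hPR₂) ?_ rfl
    · rw [← hn, ← hcard]
      exact card_lt_card_sub hR₂S hlt
    intro α hα
    obtain ⟨g, hg, hgi, hge⟩ := hext' α hα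
    obtain ⟨b, hb, hbg⟩ := exists_aut_of_fn hg hgi
    obtain ⟨N, h, hh, hPN, hN, hhe⟩ := receptive_extend (fullyNormalized_receptive hS hF hR') hg hgi
    have hbn : ∀ τ ∈ O, b * τ * b⁻¹ ∈ O := fun τ hτ =>
      (Subgroup.mem_normalizer_iff.1 (normalizer_pCoreOf (p := p) (F.autGroup P) hb) τ).1 hτ
    have hR₂N : R₂ ≤ N := by
      intro n hn'
      obtain ⟨hnn, hnS, hnO⟩ := hmem.1 hn'
      obtain ⟨m, hm, hmb⟩ := mem_autInducedBy.1 (hOS (hbn _ hnO))
      refine (hN n).2 ⟨hnS, hnn, m, hm, fun x hx => ?_⟩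
      have := hmb (b ⟨x, hx⟩)
      rw [hbg ⟨x, hx⟩] at this
      rw [← this]
      simp only [MulAut.mul_apply]
      rw [show b⁻¹ (b ⟨x, hx⟩) = (⟨x, hx⟩ : P) from b.symm_apply_apply _]
      rw [hbg]
      rfl
    have hh₂ := hh.mono hR₂N
    refine ⟨h, hh₂, hh₂.img_eq_self fun n hn' => ?_, fun x => (hhe x (hQR' x.2)).trans (hge x)⟩
    obtain ⟨hnn, hnS, hnO⟩ := hmem.1 hn'
    have hact : ∀ y ∈ P, h n * h y * (h n)⁻¹ = h (n * y * n⁻¹) := fun y hy =>
      (hh₂.map_conj hn' (hPR₂ hy)).symm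
    have himg : ∀ y : P, ∃ x : P, (y : Ω) = h x := fun y => by
      obtain ⟨x, rfl⟩ := b.surjective y
      exact ⟨x, (hbg x).trans (hhe _ x.2).symm⟩
    have hnor : h n ∈ Subgroup.normalizer (P : Set Ω) := mem_normalizer_of_map_le fun y hy => by
      obtain ⟨x, hx⟩ := himg ⟨y, hy⟩
      rw [show y = h x from hx, hact _ x.2]
      have hm : n * (x : Ω) * n⁻¹ ∈ P := (Subgroup.mem_normalizer_iff.1 hnn x).1 x.2
      rw [hhe _ hm]
      exact hgi.le (mem_img_of_mem hm)
    refine hmem.2 ⟨hnor, hh₂.mem hn', ?_⟩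
    have e : conjAut P hnor = b * conjAut P hnn * b⁻¹ := by
      rw [eq_mul_inv_iff_mul_eq]
      refine MulEquiv.ext fun x => Subtype.ext ?_
      show h n * ((b x : P) : Ω) * (h n)⁻¹ = ((b (conjAut P hnn x) : P) : Ω)
      rw [hbg, hbg, ← hhe _ x.2, ← hhe _ (conjAut P hnn x).2]
      exact hact _ x.2
    exact e ▸ hbn _ hnO

theorem fusion_pStable_iff_centricRadical (hS : IsPGroup p S) (hF : F.IsSaturated p) :
    (∀ Q, F.IsFullyNormalized Q → QStable p F Q) ↔ ∀ R : Subgroup Ω, F.IsFullyNormalized R → F.IsCentric R →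
      F.IsRadical p R → ∀ N : FusionSystem (normalizerIn S R), F.IsNormalizerSystem R N →
        ∀ Q, N.IsFullyNormalized Q → QStable p N Q := by
  constructor
  · intro h R _ _ _ N hN Q hQ
    have hQS : Q ≤ S := hQ.1.trans normalizerIn_le
    have := finite_of_le_base hQS
    obtain ⟨Q', hQQ', hQ'⟩ := exists_fullyNormalized (F := F) hQS
    refine qStable_sub (F := F) (fun α hα => ?_) (qStable_of_isConj hQQ' (h Q' hQ'))
    exact (mem_autGroup hQS).2 (normalizerSystem_sub hN Q ((mem_autGroup hQ.1).1 hα))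
  · intro h Q hQ
    have hfc := (fullyNormalized_good hS hF hQ).2
    refine qStable_of_extTo hS hF h (centric_sup_centralizer hfc) le_sup_left fun α hα => ?_
    have hf := (mem_autGroup_iff_fn hQ.1).1 hα
    obtain ⟨N, g, hg, hQN, hN, hge⟩ :=
      receptive_extend (fullyCentralized_receptive hS hF hfc) hf (img_autFn α)
    have hCN : Q ⊔ centralizerIn S Q ≤ N := sup_le hQN fun n hn => (hN n).2 (inExt_of_commute hn)
    have hgQ : img g Q = Q := (img_congr hge).trans (img_autFn α)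
    have hg₂ := hg.mono hCN
    refine ⟨g, hg₂, hg₂.img_eq_self fun x hx => ?_, fun x => (hge x x.2).trans (autFn_coe α x)⟩
    have h1 : img g (Q ⊔ centralizerIn S Q) ≤ Q ⊔ centralizerIn S Q := by
      rw [hg₂.img_sup]
      refine sup_le (hgQ.le.trans le_sup_left) ((img_le fun n hn => ?_).trans le_sup_right)
      exact hg₂.map_centralizer le_sup_left hgQ (Subgroup.mem_sup_right hn) hn
    exact h1 (mem_img_of_mem hx)

end CfsgLib.Fsys
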