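import Cfsg.Agent.Lib.FusionSystem.Saturated
import Mathlib.GroupTheory.GroupAction.Quotient
import Mathlib.GroupTheory.Coset.Card
import Mathlib.Algebra.BigOperators.Group.Finset.Basic

/-! Park's theorem: every fusion system is realized inside a finite group. -/

set_option autoImplicit false

open Cfsg Cfsg.FusionSystem

namespace CfsgLib.Fsys.Park

open MulAction

universe u

/-- The points of `s` fixed by `K` under `ρ`. -/
def fixOn {H X : Type*} [Group H] (ρ : H →* Equiv.Perm X) (s : Set X) (K : Subgroup H) : Set X :=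
  {x ∈ s | ∀ k ∈ K, ρ k x = x}

/-- The stabiliser of a point under `ρ`. -/
def stab {H X : Type*} [Group H] (ρ : H →* Equiv.Perm X) (x : X) : Subgroup H where
  carrier := {h | ρ h x = x}
  one_mem' := by simp
  mul_mem' := fun {a b} ha hb => by
    show ρ (a * b) x = x
    rw [map_mul, Equiv.Perm.mul_apply, show ρ b x = x from hb, show ρ a x = x from ha]
  inv_mem' := fun {a} ha => by
    show ρ a⁻¹ x = x
    rw [map_inv]
    exact Equiv.Perm.inv_eq_iff_eq.2 (show ρ a x = x from ha).symm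

/-- Finite invariant sets with the same numbers of fixed points of all subgroups are isomorphic. -/
theorem exists_equivariant {H X : Type*} [Group H] [Finite H] [Finite X] (ρ σ : H →* Equiv.Perm X) :
    ∀ (n : ℕ) (s t : Set X), Nat.card s = n → (∀ h, ∀ x ∈ s, ρ h x ∈ s) → (∀ h, ∀ x ∈ t, σ h x ∈ t) →
      (∀ K : Subgroup H, Nat.card (fixOn ρ s K) = Nat.card (fixOn σ t K)) →
      ∃ g : X → X, Set.BijOn g s t ∧ ∀ h, ∀ x ∈ s, g (ρ h x) = σ h (g x) := by
  intro n
  induction n using Nat.strong_induction_on with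
  | _ n ih =>
  intro s t hn hs ht hfix
  rcases s.eq_empty_or_nonempty with rfl | hne
  · have ht0 : t = ∅ := by
      have := hfix ⊥
      have e1 : fixOn ρ (∅ : Set X) ⊥ = ∅ := by ext; simp [fixOn]
      have e2 : fixOn σ t ⊥ = t := by ext; simp [fixOn]
      rw [e1, e2, Nat.card_coe_set_eq, Set.ncard_empty, Nat.card_coe_set_eq] at this
      exact (Set.ncard_eq_zero (Set.toFinite t)).1 this.symm
    exact ⟨id, by simp [ht0], fun h x hx => hx.elim⟩
  obtain ⟨x, hx, hxmax⟩ := Set.exists_max_image s (fun x => Nat.card (stab ρ x)) (Set.toFinite s) hne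
  have hpos : 0 < Nat.card (fixOn σ t (stab ρ x)) := hfix (stab ρ x) ▸ by
    have : Nonempty (fixOn ρ s (stab ρ x)) := ⟨⟨x, hx, fun k hk => hk⟩⟩
    exact Nat.card_pos
  obtain ⟨⟨y, hy, hyfix⟩⟩ := (Nat.card_pos_iff.1 hpos).1
  have hxy : stab ρ x = stab σ y := by
    refine le_antisymm hyfix ?_
    have hpos' : 0 < Nat.card (fixOn ρ s (stab σ y)) := (hfix _).symm ▸ by
      have : Nonempty (fixOn σ t (stab σ y)) := ⟨⟨y, hy, fun k hk => hk⟩⟩
      exact Nat.card_pos
    obtain ⟨⟨x', hx', hfx'⟩⟩ := (Nat.card_pos_iff.1 hpos').1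
    have hle : stab σ y ≤ stab ρ x' := hfx'
    exact (Subgroup.eq_of_le_of_card_ge (show stab ρ x ≤ stab σ y from hyfix)
      ((Subgroup.card_le_of_le hle).trans (hxmax x' hx'))).ge
  set O := Set.range fun h => ρ h x
  set O' := Set.range fun h => σ h y
  have hcoset : ∀ h h', ρ h x = ρ h' x ↔ σ h y = σ h' y := by
    have key : ∀ (τ : H →* Equiv.Perm X) (z : X) (h h' : H), τ h z = τ h' z ↔ h⁻¹ * h' ∈ stab τ z := by
      intro τ z h h'
      show _ ↔ τ (h⁻¹ * h') z = z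
      rw [map_mul, map_inv, Equiv.Perm.mul_apply, Equiv.Perm.inv_eq_iff_eq]
      exact eq_comm
    intro h h'
    rw [key, key, hxy]
  have hOs : O ⊆ s := Set.range_subset_iff.2 fun h => hs h x hx
  have hO't : O' ⊆ t := Set.range_subset_iff.2 fun h => ht h y hy
  classical
  let g₀ : X → X := fun z => if hz : ∃ h, ρ h x = z then σ hz.choose y else z
  have hg₀ : ∀ h, g₀ (ρ h x) = σ h y := fun h => by
    have hz : ∃ h', ρ h' x = ρ h x := ⟨h, rfl⟩
    simp only [g₀, dif_pos hz]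
    exact (hcoset _ _).1 hz.choose_spec
  have hbij : Set.BijOn g₀ O O' := by
    refine ⟨?_, ?_, ?_⟩
    · rintro _ ⟨h, rfl⟩
      exact ⟨h, (hg₀ h).symm⟩
    · rintro _ ⟨h, rfl⟩ _ ⟨h', rfl⟩ e
      rw [hg₀, hg₀] at e
      exact (hcoset _ _).2 e
    · rintro _ ⟨h, rfl⟩
      exact ⟨_, ⟨h, rfl⟩, hg₀ h⟩
  have hsub : ∀ K : Subgroup H, Nat.card (fixOn ρ (s \ O) K) = Nat.card (fixOn σ (t \ O') K) := by
    intro K
    have e : ∀ (τ : H →* Equiv.Perm X) (u v : Set X), fixOn τ (u \ v) K = fixOn τ u K \ fixOn τ v K := by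
      intro τ u v
      ext z
      simp [fixOn]
      tauto
    have heq : Nat.card (fixOn ρ O K) = Nat.card (fixOn σ O' K) := by
      have himg : g₀ '' fixOn ρ O K = fixOn σ O' K := by
        refine Set.Subset.antisymm ?_ ?_
        · rintro _ ⟨_, ⟨⟨h, rfl⟩, hk⟩, rfl⟩
          refine ⟨hbij.1 ⟨h, rfl⟩, fun k hk' => ?_⟩
          have := hk k hk'
          rw [← Equiv.Perm.mul_apply, ← map_mul] at this
          rw [hg₀, ← Equiv.Perm.mul_apply, ← map_mul]
          exact (hcoset _ _).1 this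
        · rintro _ ⟨⟨h, rfl⟩, hk⟩
          refine ⟨ρ h x, ⟨⟨h, rfl⟩, fun k hk' => ?_⟩, hg₀ h⟩
          have := hk k hk'
          rw [← Equiv.Perm.mul_apply, ← map_mul] at this
          rw [← Equiv.Perm.mul_apply, ← map_mul]
          exact (hcoset _ _).2 this
      rw [← himg, Nat.card_image_of_injOn (hbij.2.1.mono fun z hz => hz.1)]
    rw [e, e, Nat.card_coe_set_eq, Nat.card_coe_set_eq,
      Set.ncard_sdiff (show fixOn ρ O K ⊆ fixOn ρ s K from fun z hz => ⟨hOs hz.1, hz.2⟩) (Set.toFinite _),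
      Set.ncard_sdiff (show fixOn σ O' K ⊆ fixOn σ t K from fun z hz => ⟨hO't hz.1, hz.2⟩) (Set.toFinite _),
      ← Nat.card_coe_set_eq, ← Nat.card_coe_set_eq, ← Nat.card_coe_set_eq, ← Nat.card_coe_set_eq, heq, hfix K]
  have hinv : ∀ (τ : H →* Equiv.Perm X) (u : Set X) (z : X), (∀ h, ∀ w ∈ u, τ h w ∈ u) →
      ∀ h, ∀ w ∈ u \ Set.range (fun h => τ h z), τ h w ∈ u \ Set.range (fun h => τ h z) := by
    intro τ u z hu h w hw
    refine ⟨hu h w hw.1, fun ⟨h', e⟩ => hw.2 ⟨h⁻¹ * h', ?_⟩⟩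
    change τ h' z = τ h w at e
    show τ (h⁻¹ * h') z = w
    rw [map_mul, Equiv.Perm.mul_apply, e, ← Equiv.Perm.mul_apply, ← map_mul, inv_mul_cancel, map_one,
      Equiv.Perm.one_apply]
  have hlt : Nat.card (s \ O : Set X) < n := by
    rw [← hn, Nat.card_coe_set_eq, Nat.card_coe_set_eq]
    exact Set.ncard_lt_ncard ⟨Set.sdiff_subset, fun h => (h hx).2 ⟨1, by simp⟩⟩
  obtain ⟨g₁, hg₁, hge⟩ := ih _ hlt (s \ O) (t \ O') rfl (hinv ρ s x hs) (hinv σ t y ht) hsub
  refine ⟨fun z => if z ∈ O then g₀ z else g₁ z, ?_, fun h z hz => ?_⟩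
  · have hA : Set.BijOn (fun z => if z ∈ O then g₀ z else g₁ z) O O' :=
      hbij.congr fun z hz => by simp [hz]
    have hB : Set.BijOn (fun z => if z ∈ O then g₀ z else g₁ z) (s \ O) (t \ O') :=
      hg₁.congr fun z hz => by simp [hz.2]
    have hu := hA.union hB (by
      intro a ha b hb e
      rcases ha with ha | ha <;> rcases hb with hb | hb
      · exact hA.2.1 ha hb e
      · exact absurd (e ▸ hA.1 ha) (hB.1 hb).2
      · exact absurd (e.symm ▸ hA.1 hb) (hB.1 ha).2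
      · exact hB.2.1 ha hb e)
    rwa [Set.union_sdiff_cancel hOs, Set.union_sdiff_cancel hO't] at hu
  · by_cases hzO : z ∈ O
    · obtain ⟨k, rfl⟩ := hzO
      have hmem : ρ h (ρ k x) ∈ O := ⟨h * k, by simp⟩
      have hmem' : ρ k x ∈ O := ⟨k, rfl⟩
      simp only [if_pos hmem, if_pos hmem']
      rw [← Equiv.Perm.mul_apply, ← map_mul, hg₀, hg₀, map_mul, Equiv.Perm.mul_apply]
    · have hz' := hinv ρ s x hs h z ⟨hz, hzO⟩
      have hnO : ρ h z ∉ O := hz'.2
      simp only [if_neg hnO, if_neg hzO]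
      exact hge h z ⟨hz, hzO⟩

section Twisted

variable {Ω : Type u} [Group Ω] {S : Subgroup Ω} (F : FusionSystem S)

/-- The graph of a map of `F`. -/
def Tw (K : Subgroup (S × S)) : Prop :=
  ∃ (Q : Subgroup Ω) (f : Ω → Ω), Fn F Q f ∧ ∀ a : S × S, a ∈ K ↔ (a.2 : Ω) ∈ Q ∧ (a.1 : Ω) = f a.2

variable {F}

theorem Tw.mono {K K' : Subgroup (S × S)} (h : Tw F K') (hle : K ≤ K') : Tw F K := by
  obtain ⟨Q, f, hf, he⟩ := h
  refine ⟨(K.map (MonoidHom.snd S S)).map S.subtype, f, hf.mono ?_, fun a => ⟨fun ha => ?_, ?_⟩⟩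
  · rintro _ ⟨_, ⟨a, ha, rfl⟩, rfl⟩
    exact ((he a).1 (hle ha)).1
  · exact ⟨⟨_, ⟨a, ha, rfl⟩, rfl⟩, ((he a).1 (hle ha)).2⟩
  · rintro ⟨⟨_, ⟨b, hb, rfl⟩, hba⟩, ha⟩
    have h2 : b.2 = a.2 := Subtype.ext hba
    have h1 : b.1 = a.1 := Subtype.ext (((he b).1 (hle hb)).2.trans (by rw [h2]; exact ha.symm))
    exact (show b = a from Prod.ext h1 h2) ▸ hb

theorem Tw.conj {K : Subgroup (S × S)} (h : Tw F K) (c : S × S) :
    Tw F (K.map (MulAut.conj c).toMonoidHom) := by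
  obtain ⟨Q, f, hf, he⟩ := h
  obtain ⟨⟨u, hu⟩, ⟨w, hw⟩⟩ := c
  have hQ' : img (fun x => w * x * w⁻¹) Q ≤ S := (fn_conj (F := F) hf.le hw).img_le_base
  have hback : ∀ x ∈ img (fun x => w * x * w⁻¹) Q, w⁻¹ * x * w⁻¹⁻¹ ∈ Q := fun x hx => by
    obtain ⟨y, hy, rfl⟩ := (fn_conj (F := F) hf.le hw).mem_img.1 hx
    simpa [mul_assoc] using hy
  have hf' := ((fn_conj (F := F) hQ' (S.inv_mem hw)).comp hf hback).comp
    (fn_conj (F := F) (hf.img_le_base) hu) fun x hx => mem_img_of_mem (hback x hx)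
  refine ⟨_, _, hf', fun a => ?_⟩
  rw [Subgroup.mem_map_equiv, MulAut.conj_symm_apply, he]
  constructor
  · rintro ⟨h2, h1⟩
    have h2' : w⁻¹ * (a.2 : Ω) * w ∈ Q := h2
    have h1' : u⁻¹ * (a.1 : Ω) * u = f (w⁻¹ * (a.2 : Ω) * w) := h1
    refine ⟨?_, ?_⟩
    · have := mem_img_of_mem (f := fun x => w * x * w⁻¹) h2'
      simpa [mul_assoc] using this
    · show (a.1 : Ω) = u * f (w⁻¹ * (a.2 : Ω) * w⁻¹⁻¹) * u⁻¹
      rw [inv_inv, ← h1']
      group
  · rintro ⟨h2, h1⟩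
    have h2' : w⁻¹ * (a.2 : Ω) * w ∈ Q := by simpa using hback _ h2
    refine ⟨h2', ?_⟩
    show u⁻¹ * (a.1 : Ω) * u = f (w⁻¹ * (a.2 : Ω) * w)
    change (a.1 : Ω) = u * f (w⁻¹ * (a.2 : Ω) * w⁻¹⁻¹) * u⁻¹ at h1
    rw [h1, inv_inv]
    group

/-- The diagonal. -/
theorem tw_diag : Tw F ((MonoidHom.id S).prod (MonoidHom.id S)).range :=
  ⟨S, id, fn_id le_rfl, fun a => ⟨fun ⟨s, hs⟩ => by subst hs; exact ⟨s.2, rfl⟩,
    fun ⟨_, h⟩ => ⟨a.2, Prod.ext (Subtype.ext h.symm) rfl⟩⟩⟩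

/-- The data of a stable set, for the subgroups of order at least `n`. -/
structure StableSet (F : FusionSystem S) (n : ℕ) where
  /-- The points. -/
  X : Type u
  /-- The action of `S × S`. -/
  act : MulAction (S × S) X
  fin : Finite X
  tw : ∀ x : X, Tw F (@MulAction.stabilizer (S × S) X _ act x)
  base : X
  base_le : ((MonoidHom.id S).prod (MonoidHom.id S)).range ≤ @MulAction.stabilizer (S × S) X _ act base
  const : ∀ K K' : Subgroup (S × S), Tw F K → Tw F K' → Nat.card K = Nat.card K' → n ≤ Nat.card K →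
    Nat.card {x : X // ∀ k ∈ K, act.toSMul.smul k x = x} = Nat.card {x : X // ∀ k ∈ K', act.toSMul.smul k x = x}

variable [Finite S]

theorem stableSet_top : Nonempty (StableSet F (Nat.card (S × S) + 1)) := by
  refine ⟨⟨(S × S) ⧸ ((MonoidHom.id S).prod (MonoidHom.id S)).range, inferInstance, inferInstance,
    fun x => ?_, QuotientGroup.mk 1, (MulAction.stabilizer_quotient _).ge, fun K _ _ _ _ hn => ?_⟩⟩
  · obtain ⟨c, rfl⟩ := QuotientGroup.mk_surjective x
    have : (QuotientGroup.mk c : (S × S) ⧸ ((MonoidHom.id S).prod (MonoidHom.id S)).range) =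
        c • QuotientGroup.mk 1 := by
      show _ = QuotientGroup.mk (c • (1 : S × S))
      rw [smul_eq_mul, mul_one]
    rw [this, MulAction.stabilizer_smul_eq_stabilizer_map_conj, MulAction.stabilizer_quotient]
    exact tw_diag.conj c
  · exact absurd hn (not_le.2 (Nat.lt_succ_of_le (Subgroup.card_le_card_group K)))

theorem stableSet_step (n : ℕ) (D : StableSet F (n + 1)) : Nonempty (StableSet F n) := by
  classical
  obtain ⟨X, act, hfin, htw, x₀, hx₀, hconst⟩ := D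
  let _ := act
  have := Fintype.ofFinite (S × S)
  have := Fintype.ofFinite {K : Subgroup (S × S) // Tw F K ∧ Nat.card K = n}
  let v : Subgroup (S × S) → ℕ := fun K => Nat.card {x : X // ∀ k ∈ K, k • x = x}
  set M := Finset.univ.sup fun K : {K : Subgroup (S × S) // Tw F K ∧ Nat.card K = n} => v K.1 with hM
  let N := Nat.card (S × S)
  let X' := (Fin N × X) ⊕ (Σ K : {K : Subgroup (S × S) // Tw F K ∧ Nat.card K = n},
    Fin (n * (M - v K.1)) × ((S × S) ⧸ K.1))
  let act' : MulAction (S × S) X' :=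
    { smul := fun a z => z.elim (fun z => (Sum.inl (z.1, a • z.2) : X')) fun z => (Sum.inr ⟨z.1, z.2.1, a • z.2.2⟩ : X')
      one_smul := fun z => by
        rcases z with ⟨i, x⟩ | ⟨K, i, c⟩
        · show Sum.inl (i, (1 : S × S) • x) = Sum.inl (i, x)
          rw [one_smul]
        · show (Sum.inr ⟨K, i, (1 : S × S) • c⟩ : X') = Sum.inr ⟨K, i, c⟩
          rw [one_smul]
      mul_smul := fun a b z => by
        rcases z with ⟨i, x⟩ | ⟨K, i, c⟩
        · show Sum.inl (i, (a * b) • x) = Sum.inl (i, a • b • x)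
          rw [mul_smul]
        · show (Sum.inr ⟨K, i, (a * b) • c⟩ : X') = Sum.inr ⟨K, i, a • b • c⟩
          rw [mul_smul] }
  let _ := act'
  have hl : ∀ (a : S × S) (i : Fin N) (x : X), a • (Sum.inl (i, x) : X') = Sum.inl (i, a • x) :=
    fun _ _ _ => rfl
  have hr : ∀ (a : S × S) K i c, a • (Sum.inr ⟨K, i, c⟩ : X') = Sum.inr ⟨K, i, a • c⟩ := fun _ _ _ _ => rfl
  have hsl : ∀ (i : Fin N) (x : X),
      MulAction.stabilizer (S × S) (Sum.inl (i, x) : X') = MulAction.stabilizer (S × S) x := fun i x => by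
    ext a
    rw [MulAction.mem_stabilizer_iff, MulAction.mem_stabilizer_iff, hl, Sum.inl.injEq]
    exact ⟨fun h => congrArg Prod.snd h, fun h => Prod.ext rfl h⟩
  -- counting
  have hcount : ∀ L : Subgroup (S × S), Nat.card {z : X' // ∀ k ∈ L, k • z = z} =
      N * v L + ∑ K : {K : Subgroup (S × S) // Tw F K ∧ Nat.card K = n},
        n * (M - v K.1) * Nat.card {c : (S × S) ⧸ K.1 // ∀ k ∈ L, k • c = c} := by
    intro L
    rw [Nat.card_congr ((Equiv.subtypeSum (p := fun z : X' => ∀ k ∈ L, k • z = z)).trans (Equiv.sumCongr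
      (α₂ := Fin N × {x : X // ∀ k ∈ L, k • x = x})
      (β₂ := Σ K : {K : Subgroup (S × S) // Tw F K ∧ Nat.card K = n},
        Fin (n * (M - v K.1)) × {c : (S × S) ⧸ K.1 // ∀ k ∈ L, k • c = c})
      { toFun := fun z => (z.1.1, ⟨z.1.2, fun k hk => congrArg Prod.snd
          (Sum.inl_injective ((hl k z.1.1 z.1.2).symm.trans (z.2 k hk)))⟩)
        invFun := fun z => ⟨(z.1, z.2.1), fun k hk => by rw [hl, z.2.2 k hk]⟩
        left_inv := fun z => rfl
        right_inv := fun z => rfl }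
      { toFun := fun z => ⟨z.1.1, z.1.2.1, ⟨z.1.2.2, fun k hk => by
          have h := Sum.inr_injective ((hr k z.1.1 z.1.2.1 z.1.2.2).symm.trans (z.2 k hk))
          rw [Sigma.mk.injEq] at h
          exact congrArg Prod.snd (eq_of_heq h.2)⟩⟩
        invFun := fun z => ⟨⟨z.1, z.2.1, z.2.2.1⟩, fun k hk => by rw [hr, z.2.2.2 k hk]⟩
        left_inv := fun z => rfl
        right_inv := fun z => rfl }))]
    rw [Nat.card_sum, Nat.card_prod, Nat.card_fin, Nat.card_sigma]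
    congr 1
    refine Finset.sum_congr rfl fun K _ => ?_
    rw [Nat.card_prod, Nat.card_fin]
  have hfixc : ∀ (L K : Subgroup (S × S)) (a : S × S),
      (∀ k ∈ L, k • (QuotientGroup.mk a : (S × S) ⧸ K) = QuotientGroup.mk a) ↔
        L.map (MulAut.conj a⁻¹).toMonoidHom ≤ K := by
    intro L K a
    constructor
    · rintro h _ ⟨k, hk, rfl⟩
      show a⁻¹ * k * a⁻¹⁻¹ ∈ K
      have := QuotientGroup.eq.1 (h k hk : (QuotientGroup.mk (k * a) : (S × S) ⧸ K) = QuotientGroup.mk a)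
      simpa [mul_assoc] using K.inv_mem this
    · intro h k hk
      show (QuotientGroup.mk (k * a) : (S × S) ⧸ K) = QuotientGroup.mk a
      refine QuotientGroup.eq.2 ?_
      have := K.inv_mem (h ⟨k, hk, rfl⟩)
      simpa [mul_assoc] using this
  have hvc : ∀ (L : Subgroup (S × S)) (a : S × S), v (L.map (MulAut.conj a).toMonoidHom) = v L := by
    intro L a
    refine Nat.card_congr
      { toFun := fun x => ⟨a⁻¹ • x.1, fun k hk => ?_⟩
        invFun := fun x => ⟨a • x.1, ?_⟩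
        left_inv := fun x => Subtype.ext (smul_inv_smul a x.1)
        right_inv := fun x => Subtype.ext (inv_smul_smul a x.1) }
    · have := x.2 _ ⟨k, hk, rfl⟩
      rw [eq_inv_smul_iff, ← mul_smul, ← mul_smul]
      rw [MulEquiv.coe_toMonoidHom, MulAut.conj_apply] at this
      exact this
    · rintro _ ⟨k, hk, rfl⟩
      show (a * k * a⁻¹) • a • x.1 = a • x.1
      rw [← mul_smul, inv_mul_cancel_right, mul_smul, x.2 k hk]
  have hsum : ∀ L : Subgroup (S × S), Tw F L → Nat.card L = n →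
      ∑ K : {K : Subgroup (S × S) // Tw F K ∧ Nat.card K = n},
        n * (M - v K.1) * Nat.card {c : (S × S) ⧸ K.1 // ∀ k ∈ L, k • c = c} = N * (M - v L) := by
    intro L hL hLn
    let τ : (S × S) → {K : Subgroup (S × S) // Tw F K ∧ Nat.card K = n} := fun a =>
      ⟨L.map (MulAut.conj a⁻¹).toMonoidHom, hL.conj _,
        (Subgroup.card_map_of_injective (MulAut.conj a⁻¹).injective).trans hLn⟩
    have hfib : ∀ K : {K : Subgroup (S × S) // Tw F K ∧ Nat.card K = n},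
        Nat.card {a : S × S // τ a = K} = Nat.card {c : (S × S) ⧸ K.1 // ∀ k ∈ L, k • c = c} * n := by
      intro K
      have e : {a : S × S | τ a = K} =
          QuotientGroup.mk ⁻¹' {c : (S × S) ⧸ K.1 | ∀ k ∈ L, k • c = c} := by
        ext a
        refine ⟨fun h => (hfixc L K.1 a).2 (le_of_eq (congrArg Subtype.val h)), fun h => Subtype.ext ?_⟩
        exact Subgroup.eq_of_le_of_card_ge ((hfixc L K.1 a).1 h) (by rw [(τ a).2.2, K.2.2])
      show Nat.card ({a : S × S | τ a = K} : Set _) = _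
      rw [e, Nat.card_congr (QuotientGroup.preimageMkEquivSubgroupProdSet K.1 _), Nat.card_prod, K.2.2,
        mul_comm]
      rfl
    calc ∑ K : {K : Subgroup (S × S) // Tw F K ∧ Nat.card K = n},
          n * (M - v K.1) * Nat.card {c : (S × S) ⧸ K.1 // ∀ k ∈ L, k • c = c}
        = ∑ K : {K : Subgroup (S × S) // Tw F K ∧ Nat.card K = n}, (M - v L) * Nat.card {a : S × S // τ a = K} := by
          refine Finset.sum_congr rfl fun K _ => ?_
          rw [hfib]
          by_cases h0 : Nat.card {c : (S × S) ⧸ K.1 // ∀ k ∈ L, k • c = c} = 0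
          · rw [h0]; ring
          · obtain ⟨⟨c, hc⟩⟩ := (Nat.card_pos_iff.1 (Nat.pos_of_ne_zero h0)).1
            obtain ⟨a, rfl⟩ := QuotientGroup.mk_surjective c
            have : L.map (MulAut.conj a⁻¹).toMonoidHom = K.1 :=
              Subgroup.eq_of_le_of_card_ge ((hfixc L K.1 a).1 hc) (by
                rw [K.2.2]
                exact le_of_eq ((Subgroup.card_map_of_injective (MulAut.conj a⁻¹).injective).trans hLn).symm)
            rw [← this, hvc]
            ring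
      _ = (M - v L) * N := by
          rw [← Finset.mul_sum, ← Nat.card_sigma, Nat.card_congr (Equiv.sigmaFiberEquiv τ)]
      _ = N * (M - v L) := mul_comm _ _
  have hzero : ∀ L : Subgroup (S × S), n < Nat.card L →
      ∀ K : {K : Subgroup (S × S) // Tw F K ∧ Nat.card K = n},
        Nat.card {c : (S × S) ⧸ K.1 // ∀ k ∈ L, k • c = c} = 0 := by
    intro L hLn K
    refine Nat.card_eq_zero.2 (Or.inl ⟨fun ⟨c, hc⟩ => ?_⟩)
    obtain ⟨a, rfl⟩ := QuotientGroup.mk_surjective c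
    have h := Subgroup.card_le_of_le ((hfixc L K.1 a).1 hc)
    rw [Subgroup.card_map_of_injective (MulAut.conj a⁻¹).injective, K.2.2] at h
    omega
  refine ⟨⟨X', act', inferInstance, fun z => ?_, Sum.inl (⟨0, Nat.card_pos⟩, x₀), ?_, fun K K' hK hK' he hn => ?_⟩⟩
  · rcases z with ⟨i, x⟩ | ⟨K, i, c⟩
    · rw [hsl]
      exact htw x
    · obtain ⟨a, rfl⟩ := QuotientGroup.mk_surjective c
      have e1 : MulAction.stabilizer (S × S) (Sum.inr ⟨K, i, QuotientGroup.mk a⟩ : X') =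
          MulAction.stabilizer (S × S) (a • (QuotientGroup.mk 1 : (S × S) ⧸ K.1)) := by
        ext b
        rw [MulAction.mem_stabilizer_iff, MulAction.mem_stabilizer_iff, hr,
          show a • (QuotientGroup.mk 1 : (S × S) ⧸ K.1) = QuotientGroup.mk a from
            (congrArg QuotientGroup.mk (mul_one a) :)]
        constructor
        · intro h
          have h' := Sum.inr_injective h
          rw [Sigma.mk.injEq] at h'
          exact congrArg Prod.snd (eq_of_heq h'.2)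
        · intro h
          rw [h]
      rw [e1, MulAction.stabilizer_smul_eq_stabilizer_map_conj, MulAction.stabilizer_quotient]
      exact K.2.1.conj a
  · rw [hsl]
    exact hx₀
  · show Nat.card {z : X' // ∀ k ∈ K, k • z = z} = Nat.card {z : X' // ∀ k ∈ K', k • z = z}
    rw [hcount, hcount]
    rcases eq_or_lt_of_le hn with hn | hn
    · have hle : ∀ L, Tw F L → Nat.card L = n → v L ≤ M := fun L hL hLn =>
        Finset.le_sup (f := fun K : {K : Subgroup (S × S) // Tw F K ∧ Nat.card K = n} => v K.1)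
          (Finset.mem_univ ⟨L, hL, hLn⟩)
      rw [hsum K hK hn.symm, hsum K' hK' (he ▸ hn.symm), ← mul_add, ← mul_add,
        Nat.add_sub_cancel' (hle K hK hn.symm), Nat.add_sub_cancel' (hle K' hK' (he ▸ hn.symm))]
    · have e1 : v K = v K' := hconst K K' hK hK' he (by omega)
      rw [e1]
      congr 1
      exact Finset.sum_congr rfl fun L _ => by rw [hzero K hn L, hzero K' (he ▸ hn) L]

theorem exists_stableSet : Nonempty (StableSet F 0) :=
  Nat.decreasingInduction (motive := fun m _ => Nonempty (StableSet F m))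
    (fun m _ h => h.elim (stableSet_step m)) stableSet_top (Nat.zero_le _)

/-- Every fusion system is realized inside a finite group. -/
theorem exists_realization :
    ∃ (G : Type u) (_ : Group G) (_ : Finite G) (ι : ↥S →* G), F.IsRealizedBy ι := by
  classical
  obtain ⟨X, act, hfin, htw, x₀, hx₀, hconst⟩ := (exists_stableSet (F := F)).some
  let _ := act
  let ρ : (S × S) →* Equiv.Perm X := MulAction.toPermHom (S × S) X
  let G : Subgroup (Equiv.Perm X) := Subgroup.centralizer ((ρ.comp (MonoidHom.inr S S)).range : Set (Equiv.Perm X))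
  have hG : ∀ s : S, ρ (s, 1) ∈ G := by
    intro s
    refine Subgroup.mem_centralizer_iff.2 ?_
    rintro _ ⟨t, rfl⟩
    show ρ (1, t) * ρ (s, 1) = ρ (s, 1) * ρ (1, t)
    rw [← map_mul, ← map_mul]
    simp
  let ι : S →* G := (ρ.comp (MonoidHom.inl S S)).codRestrict G hG
  refine ⟨G, inferInstance, inferInstance, ι, fun s s' h => ?_, fun P hP φ hφS => ⟨fun hφ => ?_, ?_⟩⟩
  · have h' : ρ (s, 1) x₀ = ρ (s', 1) x₀ := congrArg (fun g : G => (g : Equiv.Perm X) x₀) h
    have hm : ((s'⁻¹ * s, 1) : S × S) ∈ MulAction.stabilizer (S × S) x₀ := by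
      rw [MulAction.mem_stabilizer_iff]
      have e : ((s'⁻¹ * s, 1) : S × S) = (s', 1)⁻¹ * (s, 1) := by simp
      rw [e, mul_smul, show (s, (1 : S)) • x₀ = (s', (1 : S)) • x₀ from h', inv_smul_smul]
    obtain ⟨Q, f, hf, he⟩ := htw x₀
    have h1 := ((he _).1 hm).2
    rw [show ((1 : S) : Ω) = 1 from rfl, hf.map_one] at h1
    exact (inv_mul_eq_one.1 (Subtype.ext h1 : s'⁻¹ * s = 1)).symm
  · obtain ⟨f, hff⟩ : ∃ f, ∀ x : P, φ x = f x := ⟨ofHom φ, fun x => (ofHom_coe φ x).symm⟩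
    have hfF : Fn F P f := ⟨φ, hφ, hff⟩
    let φ' : P.subgroupOf S →* S := MonoidHom.mk' (fun x => ⟨φ ⟨(x : S), x.2⟩, hφS _⟩)
      fun x y => Subtype.ext (φ.map_mul ⟨((x : S) : Ω), x.2⟩ ⟨((y : S) : Ω), y.2⟩)
    let i₁ : (P.subgroupOf S) × S →* S × S := (P.subgroupOf S).subtype.prodMap (MonoidHom.id S)
    let i₂ : (P.subgroupOf S) × S →* S × S := φ'.prodMap (MonoidHom.id S)
    have hφ'inj : Function.Injective φ' := fun x y h => by
      have := F.injective_of_mem hφ (congrArg Subtype.val h : φ ⟨((x : S) : Ω), x.2⟩ = φ ⟨((y : S) : Ω), y.2⟩)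
      exact Subtype.ext (Subtype.ext (congrArg Subtype.val this :))
    have hi₁ : Function.Injective i₁ := (P.subgroupOf S).subtype_injective.prodMap Function.injective_id
    have hi₂ : Function.Injective i₂ := hφ'inj.prodMap Function.injective_id
    obtain ⟨f', hf', hf'f, hf'i⟩ := hfF.exists_inv
    have htw₁ : ∀ K : Subgroup ((P.subgroupOf S) × S), Tw F (K.map i₁) → Tw F (K.map i₂) := by
      rintro K ⟨Q, g, hg, he⟩
      let Q' := (K.map (MonoidHom.snd (P.subgroupOf S) S)).map S.subtype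
      have hm : ∀ k ∈ K, ((k.2 : S) : Ω) ∈ Q ∧ ((k.1 : S) : Ω) = g (k.2 : S) := fun k hk => (he (i₁ k)).1 ⟨k, hk, rfl⟩
      have hQ'Q : Q' ≤ Q := by
        rintro _ ⟨_, ⟨k, hk, rfl⟩, rfl⟩
        exact (hm k hk).1
      have hP' : ∀ x ∈ Q', g x ∈ P := by
        rintro _ ⟨_, ⟨k, hk, rfl⟩, rfl⟩
        exact (hm k hk).2 ▸ k.1.2
      refine ⟨Q', f ∘ g, (hg.mono hQ'Q).comp hfF hP', fun a => ⟨?_, ?_⟩⟩
      · rintro ⟨k, hk, rfl⟩
        refine ⟨⟨_, ⟨k, hk, rfl⟩, rfl⟩, ?_⟩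
        show φ ⟨((k.1 : S) : Ω), k.1.2⟩ = f (g (k.2 : S))
        rw [← (hm k hk).2, hff]
      · rintro ⟨⟨_, ⟨k, hk, rfl⟩, hka⟩, ha⟩
        refine ⟨k, hk, Prod.ext (Subtype.ext ?_) (Subtype.ext hka)⟩
        show φ ⟨((k.1 : S) : Ω), k.1.2⟩ = (a.1 : Ω)
        rw [ha, hff]
        show f ((k.1 : S) : Ω) = f (g (a.2 : Ω))
        rw [← hka]
        exact congrArg f (hm k hk).2
    have htw₂ : ∀ K : Subgroup ((P.subgroupOf S) × S), Tw F (K.map i₂) → Tw F (K.map i₁) := by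
      rintro K ⟨Q, g, hg, he⟩
      let Q' := (K.map (MonoidHom.snd (P.subgroupOf S) S)).map S.subtype
      have hm : ∀ k ∈ K, ((k.2 : S) : Ω) ∈ Q ∧ f ((k.1 : S) : Ω) = g (k.2 : S) := fun k hk => by
        obtain ⟨h1, h2⟩ := (he (i₂ k)).1 ⟨k, hk, rfl⟩
        exact ⟨h1, ((hff ⟨((k.1 : S) : Ω), k.1.2⟩).symm.trans h2)⟩
      have hQ'Q : Q' ≤ Q := by
        rintro _ ⟨_, ⟨k, hk, rfl⟩, rfl⟩
        exact (hm k hk).1
      have hP' : ∀ x ∈ Q', g x ∈ img f P := by
        rintro _ ⟨_, ⟨k, hk, rfl⟩, rfl⟩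
        exact (hm k hk).2 ▸ mem_img_of_mem k.1.2
      refine ⟨Q', f' ∘ g, (hg.mono hQ'Q).comp hf' hP', fun a => ⟨?_, ?_⟩⟩
      · rintro ⟨k, hk, rfl⟩
        refine ⟨⟨_, ⟨k, hk, rfl⟩, rfl⟩, ?_⟩
        show ((k.1 : S) : Ω) = f' (g (k.2 : S))
        rw [← (hm k hk).2]
        exact (hf'f _ k.1.2).symm
      · rintro ⟨⟨_, ⟨k, hk, rfl⟩, hka⟩, ha⟩
        refine ⟨k, hk, Prod.ext (Subtype.ext ?_) (Subtype.ext hka)⟩
        show ((k.1 : S) : Ω) = (a.1 : Ω)
        rw [ha]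
        show ((k.1 : S) : Ω) = f' (g (a.2 : Ω))
        rw [← hka]
        exact (hf'f _ k.1.2).symm.trans (congrArg f' (hm k hk).2)
    have hzero : ∀ L : Subgroup (S × S), ¬ Tw F L → ∀ x : X, ¬ ∀ k ∈ L, k • x = x := fun L hL x h =>
      hL ((htw x).mono fun k hk => h k hk)
    have hmarks : ∀ K, Nat.card (fixOn (ρ.comp i₁) Set.univ K) = Nat.card (fixOn (ρ.comp i₂) Set.univ K) := by
      intro K
      have hfx : ∀ (i : (P.subgroupOf S) × S →* S × S), fixOn (ρ.comp i) Set.univ K =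
          {x : X | ∀ k ∈ K.map i, k • x = x} := by
        intro i
        ext x
        constructor
        · rintro ⟨-, h⟩ _ ⟨k, hk, rfl⟩
          exact h k hk
        · exact fun h => ⟨trivial, fun k hk => h _ ⟨k, hk, rfl⟩⟩
      rw [hfx, hfx]
      by_cases h1 : Tw F (K.map i₁)
      · exact hconst _ _ h1 (htw₁ K h1)
          ((Subgroup.card_map_of_injective hi₁).trans (Subgroup.card_map_of_injective hi₂).symm) (Nat.zero_le _)
      · have h2 : ¬ Tw F (K.map i₂) := fun h => h1 (htw₂ K h)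
        rw [Set.eq_empty_of_forall_notMem (s := {x : X | ∀ k ∈ K.map i₁, k • x = x}) (hzero _ h1),
          Set.eq_empty_of_forall_notMem (s := {x : X | ∀ k ∈ K.map i₂, k • x = x}) (hzero _ h2)]
    obtain ⟨g, hg, hge⟩ := exists_equivariant (ρ.comp i₁) (ρ.comp i₂) _ Set.univ Set.univ rfl
      (fun _ _ _ => trivial) (fun _ _ _ => trivial) hmarks
    let γ : Equiv.Perm X := Equiv.ofBijective g ⟨fun a b h => hg.2.1 trivial trivial h, fun b => (hg.2.2 trivial).imp fun a ha => ha.2⟩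
    have hγ : γ ∈ G := by
      refine Subgroup.mem_centralizer_iff.2 ?_
      rintro _ ⟨t, rfl⟩
      refine Equiv.ext fun x => ?_
      have := hge (1, t) x trivial
      show ρ (1, t) (g x) = g (ρ (1, t) x)
      simpa [i₁, i₂] using this.symm
    refine ⟨⟨γ, hγ⟩, fun x => ?_⟩
    rw [eq_mul_inv_iff_mul_eq]
    refine Subtype.ext (Equiv.ext fun z => ?_)
    have := hge (⟨⟨x, hP x.2⟩, x.2⟩, 1) z trivial
    show ρ (⟨φ x, hφS x⟩, 1) (g z) = g (ρ (⟨x, hP x.2⟩, 1) z)
    simpa [i₁, i₂, φ'] using this.symm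
  · rintro ⟨g, hg⟩
    obtain ⟨Q, f, hf, he⟩ := htw ((g : Equiv.Perm X) x₀)
    have key : ∀ x : P, ((⟨φ x, hφS x⟩ : S), (⟨x, hP x.2⟩ : S)) ∈
        MulAction.stabilizer (S × S) ((g : Equiv.Perm X) x₀) := by
      intro x
      have h1 : ι ⟨φ x, hφS x⟩ * g = g * ι ⟨x, hP x.2⟩ := by rw [hg x, inv_mul_cancel_right]
      have h1' := congrArg (fun γ : G => (γ : Equiv.Perm X) x₀) h1
      have h2 := congrArg (fun γ : Equiv.Perm X => γ x₀)
        (Subgroup.mem_centralizer_iff.1 g.2 _ ⟨⟨x, hP x.2⟩, rfl⟩)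
      have h3 : ((⟨x, hP x.2⟩ : S), (⟨x, hP x.2⟩ : S)) • x₀ = x₀ := hx₀ ⟨⟨x, hP x.2⟩, rfl⟩
      rw [MulAction.mem_stabilizer_iff]
      have e1 : ((⟨φ x, hφS x⟩ : S), (⟨x, hP x.2⟩ : S)) =
          ((1 : S), (⟨x, hP x.2⟩ : S)) * ((⟨φ x, hφS x⟩ : S), (1 : S)) := by simp
      have e2 : ((⟨x, hP x.2⟩ : S), (⟨x, hP x.2⟩ : S)) =
          ((1 : S), (⟨x, hP x.2⟩ : S)) * ((⟨x, hP x.2⟩ : S), (1 : S)) := by simp
      rw [e2, mul_smul] at h3
      rw [e1, mul_smul]
      change ρ (⟨φ x, hφS x⟩, 1) ((g : Equiv.Perm X) x₀) = (g : Equiv.Perm X) (ρ (⟨x, hP x.2⟩, 1) x₀) at h1'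
      change ρ (1, ⟨x, hP x.2⟩) (ρ (⟨φ x, hφS x⟩, 1) ((g : Equiv.Perm X) x₀)) = _
      rw [h1']
      have h4 : ∀ z, ρ (1, ⟨x, hP x.2⟩) ((g : Equiv.Perm X) z) = (g : Equiv.Perm X) (ρ (1, ⟨x, hP x.2⟩) z) :=
        fun z => DFunLike.congr_fun (Subgroup.mem_centralizer_iff.1 g.2 _ ⟨⟨x, hP x.2⟩, rfl⟩) z
      rw [h4]
      exact congrArg (g : Equiv.Perm X) h3
    have hPQ : P ≤ Q := fun x hx => ((he _).1 (key ⟨x, hx⟩)).1
    exact mem_hom_of_fn (hf.mono hPQ) fun x => ((he _).1 (key x)).2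

end Twisted

end CfsgLib.Fsys.Park
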