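import Mathlib
import Cfsg.Agent.Lib.FusionSystem.SmallElements
import Cfsg.Agent.Lib.Fusion.Uniserial
import Cfsg.Agent.Lib.PGroup.SmallCentralizerRank

/-! A pearl gives an element of order `p` with centralizer of order `p²` (odd `p`). -/

set_option autoImplicit false
set_option linter.style.haveILetI false

open Cfsg Cfsg.FusionSystem
open scoped commutatorElement

namespace CfsgLib.Fsys

section Abstract

variable {G : Type*} [Group G] [Finite G] {p : ℕ} [hp : Fact p.Prime]

omit [Finite G] in
theorem map_center (b : MulAut G) {z : G} (hz : z ∈ Subgroup.center G) : b z ∈ Subgroup.center G :=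
  Subgroup.mem_center_iff.mpr fun w => by
    conv_lhs => rw [← MulAut.apply_inv_self G b w, ← map_mul, Subgroup.mem_center_iff.mp hz, map_mul,
      MulAut.apply_inv_self]

theorem card_center_le_of_cube (hc : Nat.card G = p ^ 3) (hna : ¬ IsMulCommutative G) :
    Nat.card (Subgroup.center G) = p := by
  have hP : IsPGroup p G := IsPGroup.of_card hc
  haveI : Nontrivial G := Finite.one_lt_card_iff_nontrivial.mp (hc ▸ Nat.one_lt_pow (by omega) hp.out.one_lt)
  have hd : Nat.card (Subgroup.center G) ∣ p ^ 3 := hc ▸ Subgroup.card_subgroup_dvd_card _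
  obtain ⟨k, hk3, hk⟩ := (Nat.dvd_prime_pow hp.out).mp hd
  have h1 : 1 < Nat.card (Subgroup.center G) :=
    Finite.one_lt_card_iff_nontrivial.mpr hP.center_nontrivial
  interval_cases k
  · simp [hk] at h1
  · simpa using hk
  · exfalso
    refine hna ?_
    have hq : Nat.card (G ⧸ Subgroup.center G) = p := by
      have h := Subgroup.card_eq_card_quotient_mul_card_subgroup (Subgroup.center G)
      rw [hc, hk, show p ^ 3 = p * p ^ 2 by ring] at h
      exact (Nat.eq_of_mul_eq_mul_right (pow_pos hp.out.pos 2) h).symm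
    haveI : IsCyclic (G ⧸ Subgroup.center G) := isCyclic_of_prime_card hq
    exact ⟨⟨commutative_of_cyclic_center_quotient (QuotientGroup.mk' (Subgroup.center G))
      (QuotientGroup.ker_mk' _).le⟩⟩
  · exfalso
    have htop : Subgroup.center G = ⊤ := Subgroup.eq_top_of_card_eq _ (by rw [hk, hc])
    exact hna ⟨⟨fun a b => (Subgroup.mem_center_iff.mp (htop ▸ Subgroup.mem_top b) a)⟩⟩

/-- In a nonabelian group of order `p ^ 3`, `p` odd, the `p`-th power is a homomorphism into the centre. -/
theorem pow_mul_of_cube (hp2 : p ≠ 2) (hc : Nat.card G = p ^ 3) (hna : ¬ IsMulCommutative G) :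
    (∀ u : G, u ^ p ∈ Subgroup.center G) ∧ ∀ u v : G, (u * v) ^ p = u ^ p * v ^ p := by
  set Z := Subgroup.center G with hZdef
  have hZ : Nat.card Z = p := card_center_le_of_cube hc hna
  have hq : Nat.card (G ⧸ Z) = p ^ 2 := by
    have h := Subgroup.card_eq_card_quotient_mul_card_subgroup Z
    rw [hc, hZ, show p ^ 3 = p ^ 2 * p by ring] at h
    exact (Nat.eq_of_mul_eq_mul_right hp.out.pos h).symm
  haveI hab : IsMulCommutative (G ⧸ Z) := IsPGroup.isMulCommutative_of_card_eq_prime_sq hq
  have hpow : ∀ u : G, u ^ p ∈ Z := by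
    intro u
    by_contra hu
    refine hna ?_
    haveI : IsCyclic (G ⧸ Z) := by
      refine isCyclic_of_orderOf_eq_card (QuotientGroup.mk' Z u) ?_
      rw [hq]
      obtain ⟨k, hk, e⟩ := (Nat.dvd_prime_pow hp.out).mp (hq ▸ orderOf_dvd_natCard (QuotientGroup.mk' Z u))
      have : k = 2 := by
        by_contra h2
        refine hu ((QuotientGroup.eq_one_iff _).mp ?_)
        rw [QuotientGroup.mk_pow]
        refine orderOf_dvd_iff_pow_eq_one.mp ?_
        rw [show ((u : G) : G ⧸ Z) = QuotientGroup.mk' Z u from rfl, e]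
        have := Nat.pow_dvd_pow p (show k ≤ 1 by omega)
        rwa [pow_one] at this
      rw [e, this]
    exact ⟨⟨commutative_of_cyclic_center_quotient (QuotientGroup.mk' Z) (QuotientGroup.ker_mk' _).le⟩⟩
  refine ⟨hpow, fun u v => ?_⟩
  set c := ⁅v, u⁆ with hcdef
  have hcZ : c ∈ Z := by
    rw [← QuotientGroup.eq_one_iff, ← QuotientGroup.mk'_apply, hcdef, map_commutatorElement,
      commutatorElement_eq_one_iff_mul_comm]
    exact hab.1.1 _ _
  have hcc : ∀ g : G, g * c = c * g := Subgroup.mem_center_iff.mp hcZ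
  have hvu : ∀ n : ℕ, v ^ n * u = u * v ^ n * c ^ n := by
    intro n
    induction n with
    | zero => simp
    | succ n ih =>
      have hvu1 : v * u = u * v * c := by
        rw [mul_assoc u v c, hcc v, ← mul_assoc, hcc u, hcdef, commutatorElement_def]
        group
      calc v ^ (n + 1) * u = v * (v ^ n * u) := by rw [pow_succ']; group
        _ = (v * u) * v ^ n * c ^ n := by rw [ih]; group
        _ = u * v * (c * v ^ n) * c ^ n := by rw [hvu1]; group
        _ = u * v * (v ^ n * c) * c ^ n := by rw [hcc]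
        _ = u * v ^ (n + 1) * c ^ (n + 1) := by rw [pow_succ' v, pow_succ' c]; group
  have hform : ∀ n : ℕ, (u * v) ^ n = u ^ n * v ^ n * c ^ n.choose 2 := by
    intro n
    induction n with
    | zero => simp
    | succ n ih =>
      have hcomm : ∀ g : G, c ^ n.choose 2 * g = g * c ^ n.choose 2 := fun g =>
        ((Commute.pow_right (hcc g) _).eq).symm
      calc (u * v) ^ (n + 1) = u ^ n * v ^ n * (c ^ n.choose 2 * (u * v)) := by rw [pow_succ, ih]; group
        _ = u ^ n * (v ^ n * u) * v * c ^ n.choose 2 := by rw [hcomm]; group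
        _ = u ^ n * u * v ^ n * (c ^ n * v) * c ^ n.choose 2 := by rw [hvu]; group
        _ = u ^ n * u * v ^ n * (v * c ^ n) * c ^ n.choose 2 := by rw [(Commute.pow_right (hcc v) n).eq]
        _ = u ^ (n + 1) * v ^ (n + 1) * c ^ (n + 1).choose 2 := by
          rw [Nat.choose_succ_succ, Nat.choose_one_right, pow_add, pow_succ u, pow_succ v]; group
  rw [hform p]
  have hcp : c ^ p = 1 := by
    have : (⟨c, hcZ⟩ : Z) ^ p = 1 := hZ ▸ pow_card_eq_one'
    simpa using congrArg Subtype.val this
  obtain ⟨d, hd⟩ := hp.out.dvd_choose_self (show 2 ≠ 0 by omega)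
    (show 2 < p by have := hp.out.two_le; omega)
  rw [hd, pow_mul, hcp, one_pow, mul_one]

/-- A self-centralizing nonabelian subgroup of order `p³` modulo the centre. -/
theorem centralizer_of_cube (hG : IsPGroup p G) (E : Subgroup G) (hE : Nat.card E = p ^ 3)
    (hna : ¬ IsMulCommutative E) (hC : Subgroup.centralizer (E : Set G) ≤ E) (hlt : E ≠ ⊤) :
    Subgroup.center G ≤ E ∧ Nat.card (Subgroup.center G) = p ∧
      Nat.card (E ⊓ (Subgroup.center (G ⧸ Subgroup.center G)).comap (QuotientGroup.mk' (Subgroup.center G)) : Subgroup G) = p ^ 2 ∧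
      ∀ e ∈ E, e ∉ (Subgroup.center (G ⧸ Subgroup.center G)).comap (QuotientGroup.mk' (Subgroup.center G)) →
        Nat.card (Subgroup.centralizer ({e} : Set G)) = p ^ 2 := by
  set Z := Subgroup.center G with hZ
  have hZE : Z ≤ E := (Subgroup.center_le_centralizer _).trans hC
  haveI : Nontrivial G := Finite.one_lt_card_iff_nontrivial.mp (lt_of_lt_of_le
    (hE ▸ Nat.one_lt_pow (by omega) hp.out.one_lt) (Subgroup.card_le_card_group E))
  have hZc : Nat.card Z = p := by
    have h1 : Z.subgroupOf E ≤ Subgroup.center E := fun u hu =>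
      Subgroup.mem_center_iff.mpr fun w => Subtype.ext (Subgroup.mem_center_iff.mp hu w)
    have h2 := Subgroup.card_le_of_le h1
    rw [Nat.card_congr (Subgroup.subgroupOfEquivOfLe hZE).toEquiv, card_center_le_of_cube hE hna] at h2
    obtain ⟨k, hk⟩ := IsPGroup.iff_card.mp (hG.to_subgroup Z)
    have h1' : 1 < Nat.card Z := Finite.one_lt_card_iff_nontrivial.mpr hG.center_nontrivial
    rw [hk] at h1' h2 ⊢
    rcases k with _ | _ | k
    · simp at h1'
    · simp
    · have := Nat.pow_le_pow_right hp.out.pos (show 2 ≤ k + 1 + 1 by omega)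
      have := lt_self_pow₀ hp.out.one_lt (show 1 < 2 by omega)
      omega
  let π := QuotientGroup.mk' Z
  have hπ : Function.Surjective π := QuotientGroup.mk'_surjective Z
  set B := E.map π
  have hBcomap : B.comap π = E := by
    rw [Subgroup.comap_map_eq, QuotientGroup.ker_mk', sup_eq_left.mpr hZE]
  have hBc : Nat.card B = p ^ 2 := by
    have h1 : Nat.card B * Nat.card Z = Nat.card E := by
      rw [← Subgroup.relIndex_bot_left, ← Subgroup.relIndex_bot_left, ← Subgroup.relIndex_bot_left,
        ← Subgroup.relIndex_comap, MonoidHom.comap_bot, QuotientGroup.ker_mk', mul_comm,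
        Subgroup.relIndex_mul_relIndex _ _ _ bot_le hZE]
    rw [hZc, hE, show p ^ 3 = p ^ 2 * p by ring] at h1
    exact Nat.eq_of_mul_eq_mul_right hp.out.pos h1
  haveI hBab : IsMulCommutative B := IsPGroup.isMulCommutative_of_card_eq_prime_sq hBc
  -- the image is self-centralizing
  have hself : Subgroup.centralizer (B : Set (G ⧸ Z)) = B := by
    refine le_antisymm ?_ (Subgroup.le_centralizer B)
    set D := (Subgroup.centralizer (B : Set (G ⧸ Z))).comap π with hD
    suffices hDE : D ≤ E by
      intro q hq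
      obtain ⟨g, rfl⟩ := hπ q
      exact Subgroup.mem_map_of_mem π (hDE hq)
    have hED : E ≤ D := fun e he => Subgroup.le_centralizer B (Subgroup.mem_map_of_mem π he)
    have hcm : ∀ g ∈ D, ∀ e ∈ E, ⁅g, e⁆ ∈ Z := fun g hg e he => by
      rw [← QuotientGroup.eq_one_iff, ← QuotientGroup.mk'_apply, map_commutatorElement,
        commutatorElement_eq_one_iff_mul_comm]
      exact ((Subgroup.mem_centralizer_iff.mp hg) _ (Subgroup.mem_map_of_mem π he)).symm
    obtain ⟨T, hT2, hT⟩ : ∃ T : Finset E, T.card ≤ 2 ∧ Subgroup.closure (T : Set E) = ⊤ := by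
      have hE' : IsPGroup p E := hG.to_subgroup E
      obtain ⟨y, hy⟩ : ∃ y : E, y ∉ Subgroup.center E := by
        by_contra h
        push Not at h
        exact hna ⟨⟨fun a b => Subgroup.mem_center_iff.mp (h b) a⟩⟩
      refine CfsgLib.PGroup.SmallCentralizer.two_gen (n := 3) hE (x := y) ?_
      obtain ⟨k, hk⟩ := IsPGroup.iff_card.mp (hE'.to_subgroup (Subgroup.centralizer ({y} : Set E)))
      have hlt1 : Subgroup.center E < Subgroup.centralizer ({y} : Set E) :=
        lt_of_le_not_ge (Subgroup.center_le_centralizer _) fun h =>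
          hy (h (Subgroup.mem_centralizer_singleton_iff.mpr rfl))
      have h1 := CfsgLib.Fusion.MaxClass.card_mul_le_of_lt hE' hlt1
      have hlt2 : Subgroup.centralizer ({y} : Set E) < ⊤ := lt_top_iff_ne_top.mpr fun h =>
        hy (Subgroup.mem_center_iff.mpr fun w =>
          (Subgroup.mem_centralizer_singleton_iff.mp (h ▸ Subgroup.mem_top w)))
      have h2 := CfsgLib.Fusion.MaxClass.card_mul_le_of_lt hE' hlt2
      rw [card_center_le_of_cube hE hna, hk, ← sq] at h1
      rw [Subgroup.card_top, hE, hk, ← pow_succ'] at h2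
      have := (Nat.pow_le_pow_iff_right hp.out.one_lt).mp h1
      have := (Nat.pow_le_pow_iff_right hp.out.one_lt).mp h2
      rw [hk]; congr 1; omega
    obtain ⟨e1, e2, hgen⟩ : ∃ e1 e2 : E, Subgroup.closure ({e1, e2} : Set E) = ⊤ := by
      classical
      rcases T.eq_empty_or_nonempty with rfl | ⟨t, ht⟩
      · refine ⟨1, 1, top_le_iff.mp (hT.ge.trans (Subgroup.closure_mono ?_))⟩
        simp
      · obtain ⟨u, hu⟩ : ∃ u, T.erase t ⊆ {u} := by
          rcases (T.erase t).eq_empty_or_nonempty with h | ⟨u, hu⟩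
          · exact ⟨t, by simp [h]⟩
          · refine ⟨u, fun w hw => Finset.mem_singleton.mpr ?_⟩
            have := Finset.card_erase_of_mem ht
            exact Finset.card_le_one.mp (by omega) w hw u hu
        refine ⟨t, u, top_le_iff.mp (hT.ge.trans (Subgroup.closure_mono fun w hw => ?_))⟩
        by_cases h : w = t
        · exact Or.inl h
        · exact Or.inr (Finset.mem_singleton.mp (hu (Finset.mem_erase.mpr ⟨h, hw⟩)))
    let ψ : D → Z × Z := fun g => (⟨⁅(g : G), (e1 : G)⁆, hcm g g.2 e1 e1.2⟩, ⟨⁅(g : G), e2⁆, hcm g g.2 e2 e2.2⟩)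
    have hψ : ∀ g h : D, ψ g = ψ h → (h : G)⁻¹ * g ∈ Z := by
      intro g h e
      have hfix : ∀ w : E, ⁅(g : G), (w : G)⁆ = ⁅(h : G), (w : G)⁆ → Commute ((h : G)⁻¹ * g) w := by
        intro w hw
        simp only [commutatorElement_def, mul_left_inj] at hw
        show (h : G)⁻¹ * g * w = w * ((h : G)⁻¹ * g)
        calc (h : G)⁻¹ * g * w = (h : G)⁻¹ * ((g : G) * w * (g : G)⁻¹) * g := by group
          _ = w * ((h : G)⁻¹ * g) := by rw [hw]; group
      have hmem : ((h : G)⁻¹ * g) ∈ Subgroup.centralizer (E : Set G) := by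
        rw [Subgroup.mem_centralizer_iff]
        intro w hw
        have hle : Subgroup.closure ({e1, e2} : Set E) ≤
            (Subgroup.centralizer ({(h : G)⁻¹ * g} : Set G)).subgroupOf E := by
          refine (Subgroup.closure_le _).mpr ?_
          rintro u (rfl | rfl)
          · exact Subgroup.mem_centralizer_singleton_iff.mpr
              (hfix _ (congrArg (fun q => ((q.1 : Z) : G)) e)).eq.symm
          · exact Subgroup.mem_centralizer_singleton_iff.mpr
              (hfix _ (congrArg (fun q => ((q.2 : Z) : G)) e)).eq.symm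
        rw [hgen] at hle
        exact Subgroup.mem_centralizer_singleton_iff.mp (hle (Subgroup.mem_top (⟨w, hw⟩ : E)))
      have hzE : (⟨(h : G)⁻¹ * g, hC hmem⟩ : E) ∈ Subgroup.center E := Subgroup.mem_center_iff.mpr
        fun w => Subtype.ext (Subgroup.mem_centralizer_iff.mp hmem w w.2)
      have h1 : Z.subgroupOf E = Subgroup.center E := Subgroup.eq_of_le_of_card_ge
        (fun u hu => Subgroup.mem_center_iff.mpr fun w => Subtype.ext (Subgroup.mem_center_iff.mp hu w))
        (by rw [card_center_le_of_cube hE hna, Nat.card_congr (Subgroup.subgroupOfEquivOfLe hZE).toEquiv, hZc])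
      rw [← h1] at hzE
      exact hzE
    have hZD : Z ≤ D := hZE.trans hED
    have hDc : Nat.card D ≤ p ^ 3 := by
      rw [Subgroup.card_eq_card_quotient_mul_card_subgroup (Z.subgroupOf D),
        Nat.card_congr (Subgroup.subgroupOfEquivOfLe hZD).toEquiv, hZc, pow_succ]
      refine Nat.mul_le_mul_right _ ((Nat.card_le_card_of_injective (fun q => ψ q.out) fun q r e => ?_).trans ?_)
      · refine (QuotientGroup.out_eq' q).symm.trans (Eq.trans ?_ (QuotientGroup.out_eq' r))
        exact (QuotientGroup.eq (s := Z.subgroupOf D) |>.mpr (hψ _ _ e)).symm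
      · rw [Nat.card_prod, hZc, sq]
    exact (Subgroup.eq_of_le_of_card_ge hED (hE ▸ hDc)).ge
  haveI : Nontrivial (G ⧸ Z) := by
    refine QuotientGroup.nontrivial_iff.2 fun h => hlt ?_
    exact top_le_iff.mp (h ▸ hZE)
  set Y := Subgroup.center (G ⧸ Z)
  have hYB : Y ≤ B := hself ▸ Subgroup.center_le_centralizer _
  have hYne : Y ≠ B := fun h => hlt (by
    have : Subgroup.centralizer (B : Set (G ⧸ Z)) = ⊤ := by
      rw [eq_top_iff, ← h]; intro u _
      exact Subgroup.mem_centralizer_iff.mpr fun w hw => (Subgroup.mem_center_iff.mp hw u).symm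
    rw [hself] at this
    rw [← hBcomap, this, Subgroup.comap_top])
  have hYc : Nat.card Y = p := by
    obtain ⟨k, hk⟩ := IsPGroup.iff_card.mp ((hG.to_quotient Z).to_subgroup Y)
    have h1 : 1 < Nat.card Y := Finite.one_lt_card_iff_nontrivial.mpr (hG.to_quotient Z).center_nontrivial
    have h2 := CfsgLib.Fusion.MaxClass.card_mul_le_of_lt (hG.to_quotient Z) (lt_of_le_of_ne hYB hYne)
    rw [hBc, hk, ← pow_succ'] at h2
    have := (Nat.pow_le_pow_iff_right hp.out.one_lt).mp h2
    rw [hk] at h1 ⊢
    rcases Nat.eq_zero_or_pos k with rfl | h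
    · simp at h1
    · rw [show k = 1 by omega, pow_one]
  refine ⟨hZE, hZc, ?_, fun e he hec => ?_⟩
  · rw [inf_eq_right.mpr (by rw [← hBcomap]; exact Subgroup.comap_mono hYB)]
    have hle : Z ≤ Y.comap π := QuotientGroup.le_comap_mk' Z Y
    have h := Subgroup.card_eq_card_quotient_mul_card_subgroup (Z.subgroupOf (Y.comap π))
    rw [Nat.card_congr (Subgroup.subgroupOfEquivOfLe hle).toEquiv, hZc] at h
    have h3 : Nat.card (Y.comap π) = Nat.card Y * Nat.card Z := by
      conv_rhs => rw [← Subgroup.map_comap_eq_self_of_surjective hπ Y]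
      rw [← Subgroup.relIndex_bot_left, ← Subgroup.relIndex_bot_left, ← Subgroup.relIndex_bot_left,
        ← Subgroup.relIndex_comap, MonoidHom.comap_bot, QuotientGroup.ker_mk', mul_comm,
        Subgroup.relIndex_mul_relIndex _ _ _ bot_le hle]
    rw [h3, hYc, hZc, sq]
  · have hCB : Subgroup.centralizer ({e} : Set G) ≤ E := by
      intro g hg
      rw [← hBcomap, Subgroup.mem_comap, ← hself, Subgroup.mem_centralizer_iff]
      have hgen : B ≤ Y ⊔ Subgroup.zpowers (π e) := by
        refine (Subgroup.eq_of_le_of_card_ge (sup_le hYB (Subgroup.zpowers_le.mpr (Subgroup.mem_map_of_mem π he))) ?_).ge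
        have := CfsgLib.Fusion.MaxClass.card_mul_le_of_lt (hG.to_quotient Z) (lt_of_le_not_ge
          (le_sup_left : Y ≤ Y ⊔ Subgroup.zpowers (π e))
          fun h => hec (h (Subgroup.mem_sup_right (Subgroup.mem_zpowers _))))
        rw [hYc] at this
        rw [hBc, sq]; exact this
      intro b hb
      have hsub : Y ⊔ Subgroup.zpowers (π e) ≤ Subgroup.centralizer ({π g} : Set (G ⧸ Z)) := by
        refine sup_le (Subgroup.center_le_centralizer _) (Subgroup.zpowers_le.mpr ?_)
        rw [Subgroup.mem_centralizer_singleton_iff, ← map_mul, ← map_mul,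
          Subgroup.mem_centralizer_singleton_iff.mp hg]
      exact Subgroup.mem_centralizer_singleton_iff.mp (hsub (hgen hb))
    have h1 : Z < Subgroup.centralizer ({e} : Set G) := lt_of_le_not_ge (Subgroup.center_le_centralizer _) fun h =>
      hec (QuotientGroup.le_comap_mk' Z Y (h (Subgroup.mem_centralizer_singleton_iff.mpr rfl)))
    have h2 : Subgroup.centralizer ({e} : Set G) < E := lt_of_le_not_ge hCB fun h => by
      have : e ∈ Subgroup.centralizer (E : Set G) := Subgroup.mem_centralizer_iff.mpr fun w hw =>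
        Subgroup.mem_centralizer_singleton_iff.mp (h hw)
      have hz : (⟨e, he⟩ : E) ∈ Subgroup.center E := Subgroup.mem_center_iff.mpr fun w =>
        Subtype.ext (Subgroup.mem_centralizer_iff.mp this w w.2)
      have h1 : Z.subgroupOf E = Subgroup.center E := Subgroup.eq_of_le_of_card_ge
        (fun u hu => Subgroup.mem_center_iff.mpr fun w => Subtype.ext (Subgroup.mem_center_iff.mp hu w))
        (by rw [card_center_le_of_cube hE hna, Nat.card_congr (Subgroup.subgroupOfEquivOfLe hZE).toEquiv, hZc])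
      rw [← h1] at hz
      exact hec (QuotientGroup.le_comap_mk' Z Y hz)
    have h3 := CfsgLib.Fusion.MaxClass.card_mul_le_of_lt hG h1
    have h4 := CfsgLib.Fusion.MaxClass.card_mul_le_of_lt hG h2
    obtain ⟨k, hk⟩ := IsPGroup.iff_card.mp (hG.to_subgroup (Subgroup.centralizer ({e} : Set G)))
    rw [hZc, hk, ← sq] at h3
    rw [hE, hk, ← pow_succ'] at h4
    have := (Nat.pow_le_pow_iff_right hp.out.one_lt).mp h3
    have := (Nat.pow_le_pow_iff_right hp.out.one_lt).mp h4
    rw [hk]; congr 1; omega

end Abstract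

variable {Ω : Type*} [Group Ω] {S E : Subgroup Ω} {F : FusionSystem S} {p : ℕ} [hp : Fact p.Prime] [Finite S]

theorem pearl_element (hS : IsPGroup p S) (hF : F.IsSaturated p) (hp2 : p ≠ 2) (hE : F.IsEssential p E)
    (hpearl : (Nat.card E = p ^ 2 ∧ ∀ x ∈ E, x ^ p = 1 ∧ IsMulCommutative ↥E) ∨
      (Nat.card E = p ^ 3 ∧ ¬ IsMulCommutative ↥E)) :
    ∃ x : S, x ^ p = 1 ∧ x ≠ 1 ∧ Nat.card (Subgroup.centralizer ({x} : Set S)) = p ^ 2 := by
  have hES := (essential_lt hS hF hE).le
  have hne : E.subgroupOf S ≠ ⊤ := fun h =>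
    (essential_lt hS hF hE).ne (le_antisymm hES (Subgroup.subgroupOf_eq_top.mp h))
  have hcard : Nat.card (E.subgroupOf S) = Nat.card E :=
    Nat.card_congr (Subgroup.subgroupOfEquivOfLe hES).toEquiv
  have hC : Subgroup.centralizer ((E.subgroupOf S : Subgroup S) : Set S) ≤ E.subgroupOf S := fun g hg => by
    refine centralizer_le_of_centric hE.1 ⟨g.2, Subgroup.mem_centralizer_iff.mpr fun w hw => ?_⟩
    exact congrArg Subtype.val (Subgroup.mem_centralizer_iff.mp hg ⟨w, hES hw⟩ hw)
  set E' := E.subgroupOf S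
  haveI : Nontrivial S := by
    refine Finite.one_lt_card_iff_nontrivial.mp (lt_of_lt_of_le ?_ (Subgroup.card_le_card_group E'))
    rcases hpearl with h | h <;> rw [hcard, h.1] <;> exact Nat.one_lt_pow (by omega) hp.out.one_lt
  rcases hpearl with ⟨h2, hexp⟩ | ⟨h3, hna⟩
  · haveI : IsMulCommutative E' := IsPGroup.isMulCommutative_of_card_eq_prime_sq (by rw [hcard, h2])
    have hZE : Subgroup.center S ≤ E' := (Subgroup.center_le_centralizer _).trans hC
    have hnle : ¬ E' ≤ Subgroup.center S := fun h => hne (top_le_iff.mp fun u _ => hC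
      (Subgroup.mem_centralizer_iff.mpr fun w hw => (Subgroup.mem_center_iff.mp (h hw) u).symm))
    obtain ⟨x, hxE, hxZ⟩ := SetLike.not_le_iff_exists.mp hnle
    refine ⟨x, Subtype.ext (hexp x hxE).1, fun h => hxZ (h ▸ one_mem _), ?_⟩
    have hgen : Subgroup.center S ⊔ Subgroup.zpowers x = E' := by
      refine Subgroup.eq_of_le_of_card_ge (sup_le hZE (Subgroup.zpowers_le.mpr hxE)) ?_
      have h1 := CfsgLib.Fusion.MaxClass.card_mul_le_of_lt hS (lt_of_le_not_ge
        (le_sup_left : Subgroup.center S ≤ Subgroup.center S ⊔ Subgroup.zpowers x)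
        fun h => hxZ (h (Subgroup.mem_sup_right (Subgroup.mem_zpowers x))))
      obtain ⟨k, hk⟩ := IsPGroup.iff_card.mp (hS.to_subgroup (Subgroup.center S))
      have hz : 1 < Nat.card (Subgroup.center S) := Finite.one_lt_card_iff_nontrivial.mpr hS.center_nontrivial
      rw [hk] at h1 hz
      rw [hcard, h2]
      rcases Nat.eq_zero_or_pos k with rfl | hk'
      · simp at hz
      · refine le_trans ?_ h1
        rw [← pow_succ']
        exact Nat.pow_le_pow_right hp.out.pos (by omega)
    have : Subgroup.centralizer ({x} : Set S) = E' := by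
      refine le_antisymm (fun g hg => hC (Subgroup.mem_centralizer_iff.mpr fun w hw => ?_)) fun w hw => ?_
      · have hsub : Subgroup.center S ⊔ Subgroup.zpowers x ≤ Subgroup.centralizer ({g} : Set S) :=
          sup_le (Subgroup.center_le_centralizer _) (Subgroup.zpowers_le.mpr
            (Subgroup.mem_centralizer_singleton_iff.mpr (Subgroup.mem_centralizer_singleton_iff.mp hg).symm))
        exact Subgroup.mem_centralizer_singleton_iff.mp (hsub (hgen ▸ hw))
      · exact Subgroup.mem_centralizer_singleton_iff.mpr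
          (congrArg Subtype.val (‹IsMulCommutative E'›.1.1 ⟨w, hw⟩ ⟨x, hxE⟩))
    rw [this, hcard, h2]
  · have hna' : ¬ IsMulCommutative E' := fun h => hna ⟨⟨fun a b => Subtype.ext
      (congrArg (fun t : E' => ((t : S) : Ω)) (h.1.1 ⟨⟨a, hES a.2⟩, a.2⟩ ⟨⟨b, hES b.2⟩, b.2⟩))⟩⟩
    obtain ⟨hZE, hZc, hAc, helt⟩ := centralizer_of_cube hS E' (by rw [hcard, h3]) hna' hC hne
    set A0 := (Subgroup.center (S ⧸ Subgroup.center S)).comap (QuotientGroup.mk' (Subgroup.center S))
    by_contra hno
    have hsmall : ∀ e ∈ E', e ^ p = 1 → e ∈ A0 := fun e he hep => by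
      by_contra hA
      exact hno ⟨e, hep, fun h => hA (h ▸ one_mem _), helt e he hA⟩
    haveI := finite_of_le_base hES
    have hp3 := pow_mul_of_cube hp2 h3 hna
    let φ : E →* Subgroup.center E :=
      MonoidHom.mk' (fun u => ⟨u ^ p, hp3.1 u⟩) fun u v => Subtype.ext (hp3.2 u v)
    have hker : p ^ 2 ≤ Nat.card φ.ker := by
      have h := Subgroup.card_eq_card_quotient_mul_card_subgroup φ.ker
      rw [h3, Nat.card_congr (QuotientGroup.quotientKerEquivRange φ).toEquiv] at h
      have h1 : Nat.card φ.range ≤ p := (Subgroup.card_le_card_group _).trans (card_center_le_of_cube h3 hna).le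
      have h2 : p * p ^ 2 ≤ p * Nat.card φ.ker := by
        rw [← pow_succ', h]
        exact Nat.mul_le_mul_right _ h1
      exact Nat.le_of_mul_le_mul_left h2 hp.out.pos
    -- the elements of order `p` form `E' ⊓ A0`
    have hA : ∀ u : E, u ^ p = 1 ↔ (⟨u, hES u.2⟩ : S) ∈ A0 := by
      have hinj : Function.Injective (fun u : φ.ker => (⟨⟨(u : E), hES u.1.2⟩, u.1.2,
          hsmall ⟨(u : E), hES u.1.2⟩ u.1.2 (Subtype.ext (congrArg (fun t : E => (t : Ω))
            (congrArg Subtype.val (MonoidHom.mem_ker.mp u.2))))⟩ : ↥(E' ⊓ A0))) := fun u v h =>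
        Subtype.ext (Subtype.ext (congrArg (fun t : ↥(E' ⊓ A0) => ((t : S) : Ω)) h))
      have hbij := hinj.bijective_of_nat_card_le (hAc.le.trans hker)
      intro u
      refine ⟨fun h => hsmall _ u.2 (Subtype.ext (congrArg (fun t : E => (t : Ω)) h)), fun h => ?_⟩
      obtain ⟨w, hw⟩ := hbij.2 ⟨⟨u, hES u.2⟩, u.2, h⟩
      have hwu : (w : E) = u := Subtype.ext (congrArg (fun t : ↥(E' ⊓ A0) => ((t : S) : Ω)) hw)
      have hw1 : (w : E) ^ p = 1 := congrArg Subtype.val (MonoidHom.mem_ker.mp w.2)
      rwa [hwu] at hw1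
    have hcen : ∀ z : E, z ∈ Subgroup.center E → (⟨z, hES z.2⟩ : S) ∈ Subgroup.center S := fun z hz => by
      have h1 : (Subgroup.center S).subgroupOf E' = Subgroup.center E' := Subgroup.eq_of_le_of_card_ge
        (fun u hu => Subgroup.mem_center_iff.mpr fun w => Subtype.ext (Subgroup.mem_center_iff.mp hu w))
        (by rw [card_center_le_of_cube (by rw [hcard, h3]) hna',
          Nat.card_congr (Subgroup.subgroupOfEquivOfLe hZE).toEquiv, hZc])
      have h2 : (⟨⟨z, hES z.2⟩, z.2⟩ : E') ∈ Subgroup.center E' := Subgroup.mem_center_iff.mpr fun w =>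
        Subtype.ext (Subtype.ext (congrArg (fun t : E => (t : Ω))
          (Subgroup.mem_center_iff.mp hz ⟨((w : S) : Ω), w.2⟩)))
      rw [← h1] at h2
      exact h2
    let M : Subgroup (MulAut E) :=
      { carrier := {a | (∀ z ∈ Subgroup.center E, a z = z) ∧
          (∀ u : E, u ^ p = 1 → u⁻¹ * a u ∈ Subgroup.center E) ∧ ∀ u : E, (u⁻¹ * a u) ^ p = 1}
        one_mem' := ⟨fun z _ => rfl, fun u _ => by simp, fun u => by simp⟩
        mul_mem' := fun {a b} ha hb => ⟨fun z hz => by
            rw [MulAut.mul_apply, hb.1 z hz, ha.1 z hz],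
          fun u hu => by
            rw [MulAut.mul_apply, show u⁻¹ * a (b u) = (u⁻¹ * a u) * a (u⁻¹ * b u) by
              rw [map_mul, map_inv]; group]
            exact mul_mem (ha.2.1 u hu) (by rw [ha.1 _ (hb.2.1 u hu)]; exact hb.2.1 u hu),
          fun u => by
            rw [MulAut.mul_apply, show u⁻¹ * a (b u) = (u⁻¹ * a u) * a (u⁻¹ * b u) by
              rw [map_mul, map_inv]; group, hp3.2, ha.2.2 u, ← map_pow, hb.2.2 u, map_one, mul_one]⟩
        inv_mem' := fun {a} ha => ⟨fun z hz => a.injective (by rw [MulAut.apply_inv_self, ha.1 z hz]),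
          fun u hu => by
            have hv : (a⁻¹ u) ^ p = 1 := by rw [← map_pow, hu, map_one]
            have h1 := inv_mem (ha.2.1 _ hv)
            rwa [MulAut.apply_inv_self, mul_inv_rev, inv_inv] at h1,
          fun u => by
            have h1 := ha.2.2 (a⁻¹ u)
            rw [MulAut.apply_inv_self] at h1
            have h2 : ((a⁻¹ u)⁻¹ * u)⁻¹ ^ p = 1 := by rw [inv_pow, h1, inv_one]
            rwa [mul_inv_rev, inv_inv] at h2⟩ }
    refine not_essential_of_stabilizer hS hF hE M ?_ ?_ ?_
    · intro b _ a _ ha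
      refine ⟨fun z hz => ?_, fun u hu => ?_, fun u => ?_⟩
      · rw [MulAut.mul_apply, MulAut.mul_apply, ha.1 _ (map_center (b⁻¹) hz),
          MulAut.apply_inv_self]
      · rw [MulAut.mul_apply, MulAut.mul_apply,
          show u⁻¹ * b (a (b⁻¹ u)) = b ((b⁻¹ u)⁻¹ * a (b⁻¹ u)) by
            rw [map_mul, map_inv, MulAut.apply_inv_self]]
        exact map_center b (ha.2.1 _ (by rw [← map_pow, hu, map_one]))
      · rw [MulAut.mul_apply, MulAut.mul_apply,
          show u⁻¹ * b (a (b⁻¹ u)) = b ((b⁻¹ u)⁻¹ * a (b⁻¹ u)) by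
            rw [map_mul, map_inv, MulAut.apply_inv_self],
          ← map_pow, ha.2.2, map_one]
    · unfold autInducedBy
      rw [Subgroup.closure_le]
      rintro a ⟨g, hg, hga⟩
      have haval : ∀ u : E, (⟨((a u : E) : Ω), hES (a u).2⟩ : S) = ⟨g, hg⟩ * ⟨u, hES u.2⟩ * (⟨g, hg⟩ : S)⁻¹ :=
        fun u => Subtype.ext (hga u)
      refine ⟨fun z hz => Subtype.ext ?_, fun u hu => ?_, fun u => ?_⟩
      · have h := Subgroup.mem_center_iff.mp (hcen z hz) ⟨g, hg⟩
        have := haval z
        rw [h, mul_inv_cancel_right] at this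
        exact congrArg (fun t : S => (t : Ω)) this
      · -- `A/Z` is central in `S/Z`
        have hmem := (hA u).mp hu
        have h1 : (⟨(u : Ω), hES u.2⟩ : S)⁻¹ * ⟨((a u : E) : Ω), hES (a u).2⟩ ∈ Subgroup.center S := by
          rw [haval, ← QuotientGroup.eq_one_iff, ← QuotientGroup.mk'_apply, map_mul, map_mul, map_mul, map_inv,
            map_inv, Subgroup.mem_center_iff.mp hmem, mul_inv_cancel_right, inv_mul_cancel]
        exact Subgroup.mem_center_iff.mpr fun w => Subtype.ext (congrArg (fun t : S => (t : Ω))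
          (Subgroup.mem_center_iff.mp h1 ⟨w, hES w.2⟩))
      · have hA0n : A0.Normal := Subgroup.Normal.comap inferInstance _
        let N := Subgroup.normalizer (E' : Set S)
        have hgN : (⟨g, hg⟩ : S) ∈ N := by
          rw [Subgroup.mem_normalizer_iff]
          intro w
          constructor
          · intro hw
            have h1 : ((⟨g, hg⟩ * w * (⟨g, hg⟩ : S)⁻¹ : S) : Ω) = ((a ⟨(w : Ω), hw⟩ : E) : Ω) :=
              (congrArg (fun t : S => (t : Ω)) (haval ⟨(w : Ω), hw⟩)).symm
            show ((⟨g, hg⟩ * w * (⟨g, hg⟩ : S)⁻¹ : S) : Ω) ∈ E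
            rw [h1]
            exact (a ⟨(w : Ω), hw⟩).2
          · intro hw
            let v : E := ⟨(((⟨g, hg⟩ : S) * w * (⟨g, hg⟩ : S)⁻¹ : S) : Ω), hw⟩
            have h1 := congrArg (fun t : S => (t : Ω)) (haval (a⁻¹ v))
            have h2 : (w : Ω) = ((a⁻¹ v : E) : Ω) := by
              simp only [MulAut.apply_inv_self, Subgroup.coe_mul, Subgroup.coe_inv, v] at h1
              exact mul_left_cancel (mul_right_cancel h1)
            show (w : Ω) ∈ E
            rw [h2]
            exact (a⁻¹ v).2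
        have hA0E : A0 ⊓ E' < E' := lt_of_le_not_ge inf_le_right fun h => by
          have h1 := Subgroup.card_le_of_le h
          rw [hcard, h3, inf_comm, hAc] at h1
          have := (Nat.pow_le_pow_iff_right hp.out.one_lt).mp h1
          omega
        have hNA : N ≤ Subgroup.normalizer ((A0 ⊓ E' : Subgroup S) : Set S) := fun n hn => by
          rw [Subgroup.mem_normalizer_iff]
          intro w
          exact ⟨fun hw => ⟨hA0n.conj_mem _ hw.1 n, (Subgroup.mem_normalizer_iff.mp hn w).mp hw.2⟩,
            fun hw => ⟨by simpa [mul_assoc] using hA0n.conj_mem _ hw.1 n⁻¹,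
              (Subgroup.mem_normalizer_iff.mp hn w).mpr hw.2⟩⟩
        have hEN : E' ≤ N := Subgroup.le_normalizer
        have hcom : ⁅E', N⁆ ≤ E' := by
          rw [Subgroup.commutator_le]
          intro w hw n hn
          rw [show ⁅w, n⁆ = w * (n * w⁻¹ * n⁻¹) by simp [commutatorElement_def, mul_assoc]]
          exact mul_mem hw ((Subgroup.mem_normalizer_iff.mp hn _).mp (inv_mem hw))
        have hkey : ⁅E', N⁆ ≤ A0 ⊓ E' := by
          by_contra hbad
          refine hA0E.ne (CfsgLib.Fusion.Uniserial.eq_of_sup_commutator (p := p) (G := N) (hS.to_subgroup E')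
            (hS.to_subgroup N) le_rfl inf_le_right hNA (Subgroup.eq_of_le_of_card_ge (sup_le inf_le_right hcom) ?_))
          have h1 := CfsgLib.Fusion.MaxClass.card_mul_le_of_lt hS (lt_of_le_not_ge
            (le_sup_left : A0 ⊓ E' ≤ (A0 ⊓ E') ⊔ ⁅E', N⁆) fun h => hbad (le_sup_right.trans h))
          rw [inf_comm A0 E', hAc] at h1
          rw [hcard, h3, inf_comm A0 E', pow_succ']
          exact h1
        have hm : (⟨(u : Ω), hES u.2⟩ : S)⁻¹ * ⟨((a u : E) : Ω), hES (a u).2⟩ ∈ A0 := by
          rw [haval]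
          have := hkey (Subgroup.commutator_mem_commutator (inv_mem (show (⟨(u : Ω), hES u.2⟩ : S) ∈ E' from u.2)) hgN)
          rw [commutatorElement_def, inv_inv] at this
          simpa [mul_assoc] using this.1
        exact (hA _).mpr hm
    · intro a _ ha hcop
      have h1 : ∀ u : E, u ^ p = 1 → a u = u := fun u hu =>
        fixed_of_fixed_shift (hS.of_injective (Subgroup.inclusion hES) (Subgroup.inclusion_injective hES)) hcop
          (ha.1 _ (ha.2.1 u hu))
      exact MulEquiv.ext fun u =>
        fixed_of_fixed_shift (hS.of_injective (Subgroup.inclusion hES) (Subgroup.inclusion_injective hES)) hcop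
          (h1 _ (ha.2.2 u))

end CfsgLib.Fsys
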