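import Mathlib
import Cfsg.Agent.Lib.FusionSystem.PearlMaxClass
import Cfsg.Agent.Lib.FusionSystem.EssentialRankTwo
import Cfsg.Agent.Lib.PGroup.SmallCentralizerThree
import Cfsg.Agent.Lib.LocalEvenB.OrderPCubed

/-! A pearl in a group of order 27 forces exponent 3. -/

set_option autoImplicit false
set_option linter.style.haveILetI false

open Cfsg Cfsg.FusionSystem

namespace CfsgLib.Fsys

theorem card_sl_two_three : 9 < Nat.card (Matrix.SpecialLinearGroup (Fin 2) (ZMod 3)) := by
  rw [Nat.card_eq_fintype_card]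
  decide

variable {Ω : Type*} [Group Ω] {S E : Subgroup Ω} {F : FusionSystem S} [Finite S] [Fact (Nat.Prime 3)]

/-- Inversion is an automorphism of `F` on a pearl of order 9. -/
theorem exists_inversion (hE : F.IsEssential 3 E) (hcard : Nat.card E = 3 ^ 2) :
    ∃ a ∈ F.autGroup E, ∀ u : E, a u = u⁻¹ := by
  haveI := finite_of_le_base hE.1.1
  obtain ⟨hel, K, ⟨e⟩⟩ := essential_order_prime_sq hE hcard
  have hcomm : ∀ u v : E, u * v = v * u := fun u v =>
    (IsPGroup.isMulCommutative_of_card_eq_prime_sq hcard).1.1 u v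
  set m : Matrix.SpecialLinearGroup (Fin 2) (ZMod 3) := -1 with hm
  have hm1 : m ≠ 1 := by rw [hm]; decide
  have hm2 : m * m = 1 := by rw [hm]; decide
  have hmc : ∀ y, m * y = y * m := fun y => by rw [hm, neg_one_mul, mul_neg_one]
  set a : MulAut E := ((e.symm m : K) : F.autGroup E).1 with ha
  refine ⟨a, ((e.symm m : K) : F.autGroup E).2, ?_⟩
  have haa : ∀ u, a (a u) = u := fun u => by
    rw [ha, ← MulAut.mul_apply, ← Subgroup.coe_mul, ← Subgroup.coe_mul, ← map_mul, hm2, map_one]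
    rfl
  have hac : ∀ k : K, ∀ u, a ((k : F.autGroup E).1 u) = (k : F.autGroup E).1 (a u) := fun k u => by
    rw [ha, ← MulAut.mul_apply, ← MulAut.mul_apply, ← Subgroup.coe_mul, ← Subgroup.coe_mul,
      ← Subgroup.coe_mul, ← Subgroup.coe_mul]
    congr 3
    apply e.injective
    rw [map_mul, map_mul, e.apply_symm_apply, hmc]
  let P : Subgroup E :=
    { carrier := {u | a u = u}
      one_mem' := map_one a
      mul_mem' := fun {u v} (hu : a u = u) (hv : a v = v) => show a (u * v) = u * v by rw [map_mul, hu, hv]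
      inv_mem' := fun {u} (hu : a u = u) => show a u⁻¹ = u⁻¹ by rw [map_inv, hu] }
  let N : Subgroup E :=
    { carrier := {u | a u = u⁻¹}
      one_mem' := by simp
      mul_mem' := fun {u v} (hu : a u = u⁻¹) (hv : a v = v⁻¹) => show a (u * v) = (u * v)⁻¹ by
        rw [map_mul, hu, hv, mul_inv_rev, hcomm]
      inv_mem' := fun {u} (hu : a u = u⁻¹) => show a u⁻¹ = u⁻¹⁻¹ by rw [map_inv, hu] }
  have hexp : ∀ u : E, u ^ 3 = 1 := fun u => Subtype.ext (by simpa using hel.2 u u.2)
  have hsplit : ∀ u : E, u * a u ∈ P ∧ u⁻¹ * a u ∈ N := fun u => by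
    exact ⟨show a (u * a u) = u * a u by rw [map_mul, haa, hcomm],
      show a (u⁻¹ * a u) = (u⁻¹ * a u)⁻¹ by rw [map_mul, map_inv, haa, mul_inv_rev, inv_inv]⟩
  have hgen : ∀ u : E, u ∈ P ⊔ N := fun u => by
    have h2 := (P ⊔ N).mul_mem (Subgroup.mem_sup_left (hsplit u).1) (Subgroup.inv_mem _ (Subgroup.mem_sup_right (hsplit u).2))
    rw [mul_inv_rev, inv_inv, mul_assoc, mul_inv_cancel_left] at h2
    have h3 := Subgroup.inv_mem _ h2
    rwa [show (u * u)⁻¹ = u by
      have := hexp u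
      rw [pow_succ, pow_two] at this
      exact (eq_inv_of_mul_eq_one_right this).symm] at h3
  by_cases hP : P = ⊥
  · intro u
    have := (hsplit u).1
    rw [hP, Subgroup.mem_bot] at this
    exact eq_inv_of_mul_eq_one_right this
  exfalso
  have hPtop : P ≠ ⊤ := fun h => hm1 (e.symm.injective (by
    rw [map_one]
    apply Subtype.ext; apply Subtype.ext
    exact MulEquiv.ext fun u => (h ▸ Subgroup.mem_top u : u ∈ P)))
  haveI : Finite E := inferInstance
  have hpc : ∀ Q : Subgroup E, Q ≠ ⊥ → Q ≠ ⊤ → IsCyclic Q ∧ Nat.card Q = 3 := fun Q h1 h2 => by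
    have hd : Nat.card Q ∣ 3 ^ 2 := hcard ▸ Subgroup.card_subgroup_dvd_card Q
    obtain ⟨k, hk, hQ⟩ := (Nat.dvd_prime_pow (Fact.out : Nat.Prime 3)).mp hd
    interval_cases k
    · exact absurd ((Subgroup.card_le_one_iff_eq_bot Q).mp (by simp [hQ])) h1
    · exact ⟨isCyclic_of_prime_card (p := 3) (by simpa using hQ), by simpa using hQ⟩
    · exact absurd (Subgroup.eq_top_of_card_eq Q (by rw [hQ, hcard])) h2
  have hN0 : N ≠ ⊥ := fun h => hPtop (eq_top_iff.mpr fun u _ => by
    have := hgen u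
    rwa [h, sup_bot_eq] at this)
  have hNtop : N ≠ ⊤ := fun h => hP (eq_bot_iff.mpr fun u (hu : a u = u) => by
    have h1 : a u = u⁻¹ := (h ▸ Subgroup.mem_top u : u ∈ N)
    rw [hu] at h1
    have h2 := hexp u
    rw [pow_succ, pow_two] at h2
    nth_rewrite 1 [h1] at h2
    rw [inv_mul_cancel, one_mul] at h2
    exact Subgroup.mem_bot.mpr h2)
  obtain ⟨hPc, hP3⟩ := hpc P hP hPtop
  obtain ⟨hNc, hN3⟩ := hpc N hN0 hNtop
  obtain ⟨p₀, hp₀⟩ := hPc.exists_generator
  obtain ⟨n₀, hn₀⟩ := hNc.exists_generator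
  -- everything centralizing `a` is determined by the images of the two generators
  let f : K → P × N := fun k =>
    (⟨(k : F.autGroup E).1 p₀, show a _ = _ by rw [hac, show a p₀ = p₀ from p₀.2]⟩,
      ⟨(k : F.autGroup E).1 n₀, show a _ = _ by rw [hac, show a n₀ = (n₀ : E)⁻¹ from n₀.2, map_inv]⟩)
  have hf : Function.Injective f := fun k k' h => by
    apply Subtype.ext; apply Subtype.ext
    refine MulEquiv.ext fun u => ?_
    have hle : P ⊔ N ≤ MonoidHom.eqLocus (k : F.autGroup E).1.toMonoidHom (k' : F.autGroup E).1.toMonoidHom := by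
      refine sup_le ?_ ?_
      · intro w hw
        obtain ⟨i, hi⟩ := Subgroup.mem_zpowers_iff.mp (hp₀ ⟨w, hw⟩)
        have hi' : (p₀ : E) ^ i = w := congrArg Subtype.val hi
        show (k : F.autGroup E).1 w = (k' : F.autGroup E).1 w
        have h' : (k : F.autGroup E).1 (p₀ : E) = (k' : F.autGroup E).1 (p₀ : E) :=
          congrArg (fun q : P × N => (q.1 : E)) h
        rw [← hi', map_zpow, map_zpow, h']
      · intro w hw
        obtain ⟨i, hi⟩ := Subgroup.mem_zpowers_iff.mp (hn₀ ⟨w, hw⟩)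
        have hi' : (n₀ : E) ^ i = w := congrArg Subtype.val hi
        show (k : F.autGroup E).1 w = (k' : F.autGroup E).1 w
        have h' : (k : F.autGroup E).1 (n₀ : E) = (k' : F.autGroup E).1 (n₀ : E) :=
          congrArg (fun q : P × N => (q.2 : E)) h
        rw [← hi', map_zpow, map_zpow, h']
    exact hle (hgen u)
  have h9 := Nat.card_le_card_of_injective f hf
  rw [Nat.card_prod, hP3, hN3, Nat.card_congr e.toEquiv] at h9
  have := card_sl_two_three
  omega

/-- A pearl of order 9 in a group of order 27 forces exponent 3. -/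
theorem exponent_of_pearl_card_27 (hS : IsPGroup 3 S) (hF : F.IsSaturated 3) (hE : F.IsEssential 3 E)
    (hE9 : Nat.card E = 3 ^ 2) (hS27 : Nat.card S = 3 ^ 3) (hna : ¬ IsMulCommutative S) :
    Monoid.exponent S = 3 := by
  have hES := (essential_lt hS hF hE).le
  haveI := finite_of_le_base hES
  set E' := E.subgroupOf S
  have hE'c : Nat.card E' = 3 ^ 2 := by rw [Nat.card_congr (Subgroup.subgroupOfEquivOfLe hES).toEquiv, hE9]
  haveI hEab : IsMulCommutative E' := IsPGroup.isMulCommutative_of_card_eq_prime_sq hE'c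
  have hC : Subgroup.centralizer ((E' : Subgroup S) : Set S) ≤ E' := fun g hg => by
    refine centralizer_le_of_centric hE.1 ⟨g.2, Subgroup.mem_centralizer_iff.mpr fun w hw => ?_⟩
    exact congrArg Subtype.val (Subgroup.mem_centralizer_iff.mp hg ⟨w, hES hw⟩ hw)
  haveI : E'.Normal := CfsgLib.PGroup.Frattini.normal_of_isCoatom hS (by
    refine ⟨fun h => (essential_lt hS hF hE).ne (le_antisymm hES (Subgroup.subgroupOf_eq_top.mp h)), fun B hB => ?_⟩
    have h1 := CfsgLib.Fusion.MaxClass.card_mul_le_of_lt hS hB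
    rw [hE'c, ← pow_succ'] at h1
    exact Subgroup.eq_top_of_le_card B (by rw [hS27]; exact h1))
  obtain ⟨a, ha, hinv⟩ := exists_inversion hE hE9
  obtain ⟨N, g, hg, hEN, hN, hge⟩ := receptive_extend (fullyNormalized_receptive hS hF hE.2.1)
    ((mem_autGroup_iff_fn hES).1 ha) (img_autFn a)
  have hfa : ∀ u (hu : u ∈ E), autFn a u = u⁻¹ := fun u hu => by
    have := autFn_coe a ⟨u, hu⟩
    rw [hinv] at this
    exact this
  have hSn : S ≤ Subgroup.normalizer (E : Set Ω) :=
    (Subgroup.normal_subgroupOf_iff_le_normalizer hES).mp inferInstance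
  have hSN : S ≤ N := fun s hs => (hN s).2 ⟨hs, hSn hs, s, hs, fun u hu => by
    rw [hfa u hu, hfa _ ((Subgroup.mem_normalizer_iff.mp (hSn hs) u).mp hu)]
    group⟩
  obtain ⟨ψ, hψ, hψg⟩ := id hg
  let θ : S →* S := (ψ.comp (Subgroup.inclusion hSN)).codRestrict S fun u => (F.le_of_mem hψ).2 _
  have hθE : ∀ u : S, u ∈ E' → θ u = u⁻¹ := fun u hu => Subtype.ext (by
    show ψ (Subgroup.inclusion hSN u) = ((u : Ω))⁻¹
    rw [hψg, ← hfa _ (show (u : Ω) ∈ E from hu)]
    exact hge _ hu)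
  have hpow := pow_mul_of_cube (p := 3) (by norm_num) hS27 hna
  have hcube : ∀ s : S, s ^ 3 = 1 := by
    intro s
    have hZE : ∀ z ∈ Subgroup.center S, z ∈ E' := fun z hz => hC (Subgroup.center_le_centralizer _ hz)
    have hshift : s⁻¹ * θ s ∈ E' := hC (Subgroup.mem_centralizer_iff.mpr fun u hu => by
      have h1 : θ (s * u * s⁻¹) = (s * u * s⁻¹)⁻¹ := hθE _ (Subgroup.Normal.conj_mem inferInstance u hu s)
      rw [map_mul, map_mul, map_inv, hθE u hu] at h1
      have h2 : θ s * u * (θ s)⁻¹ = s * u * s⁻¹ := by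
        have := congrArg (·⁻¹) h1
        simpa [mul_assoc] using this
      calc u * (s⁻¹ * θ s) = s⁻¹ * (s * u * s⁻¹) * θ s := by group
        _ = s⁻¹ * θ s * u := by rw [← h2]; group)
    have h1 : θ (s ^ 3) = (s ^ 3)⁻¹ := hθE _ (hZE _ (hpow.1 s))
    have h2 : θ (s ^ 3) = s ^ 3 := by
      rw [map_pow, show θ s = s * (s⁻¹ * θ s) by group, hpow.2]
      have : (s⁻¹ * θ s) ^ 3 = 1 := by
        obtain ⟨hel, -⟩ := essential_order_prime_sq hE hE9
        apply Subtype.ext
        simpa using hel.2 _ (show ((s⁻¹ * θ s : S) : Ω) ∈ E from hshift)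
      rw [this, mul_one]
    rw [h2] at h1
    have h3 : (s ^ 3) ^ 2 = 1 := by rw [pow_two]; exact eq_inv_iff_mul_eq_one.mp h1
    have hord : orderOf (s ^ 3) ∣ 3 ^ 3 := hS27 ▸ orderOf_dvd_natCard _
    have h4 := Nat.dvd_gcd (orderOf_dvd_of_pow_eq_one h3) hord
    rw [show Nat.gcd 2 (3 ^ 3) = 1 by decide] at h4
    exact orderOf_eq_one_iff.mp (Nat.eq_one_of_dvd_one h4)
  haveI : Nontrivial S := Finite.one_lt_card_iff_nontrivial.mp (by rw [hS27]; norm_num)
  rcases (Nat.dvd_prime (Fact.out : Nat.Prime 3)).mp (Monoid.exponent_dvd_of_forall_pow_eq_one hcube) with h | h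
  · exact absurd (Monoid.exp_eq_one_iff.mp h) (not_subsingleton S)
  · exact h

end CfsgLib.Fsys
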