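import Mathlib
import Cfsg.Agent.Lib.FusionSystem.MetacyclicNormal
import Cfsg.Agent.Lib.FusionSystem.Normal
import Cfsg.Agent.Lib.FusionSystem.SmallElements
import Cfsg.Agent.Lib.PGroup.RankTwoPlane
import Cfsg.Agent.Lib.PGroup.OrderPCubeExtra
import Cfsg.Agent.Lib.Solvable.FrattiniFitting
import Cfsg.Agent.Lib.Fusion.Huppert
import Cfsg.Agent.Lib.Fusion.MaxClass
import Cfsg.Agent.Lib.FusionSystem.Generation

/-! `p`-groups of rank two, `p ≥ 5`, are resistant. -/

set_option autoImplicit false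
set_option linter.style.haveILetI false
set_option linter.unusedSectionVars false

open Cfsg Cfsg.FusionSystem
open scoped Pointwise commutatorElement

namespace CfsgLib.Fsys

namespace RankTwo

variable {p : ℕ} [hp : Fact p.Prime]

open CfsgLib.PGroup.RankTwoPlane (zpow_congr cast_eq_of_zpow_eq mem_zpowers_of_zpow_mem)

theorem cast_ne {a b : ℤ} (h : ¬ (p : ℤ) ∣ a - b) : (a : ZMod p) ≠ b := fun e =>
  h ((ZMod.intCast_eq_intCast_iff_dvd_sub _ _ _).mp e.symm)

/-- A `p`-power of an automorphism fixing the bottom of a cyclic group fixes all of it. -/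
theorem cyclic_fix {X : Type*} [Group X] {C : Subgroup X} [Finite C] (hC : IsPGroup p C) [IsCyclic C] {f : MulAut X}
    (hinv : ∀ c ∈ C, f c ∈ C) {z : X} (hz : z ∈ C) (hzo : orderOf z = p) (hfz : f z = z) :
    ∀ c ∈ C, (f ^ Nat.card C) c = c := by
  obtain ⟨⟨g, hg⟩, hgen⟩ := IsCyclic.exists_generator (α := C)
  have hmem : ∀ c ∈ C, ∃ i : ℤ, g ^ i = c := fun c hc => by
    obtain ⟨i, hi⟩ := Subgroup.mem_zpowers_iff.mp (hgen ⟨c, hc⟩)
    exact ⟨i, congrArg Subtype.val hi⟩
  obtain ⟨k, hk⟩ := hmem _ (hinv g hg)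
  obtain ⟨i, hi⟩ := hmem z hz
  have hzk : z ^ k = z ^ (1 : ℤ) := by
    rw [zpow_one]
    conv_rhs => rw [← hfz, ← hi, map_zpow, ← hk, ← zpow_mul]
    rw [← hi, ← zpow_mul, mul_comm]
  have hdvd : (p : ℤ) ∣ k - 1 := by
    have := cast_eq_of_zpow_eq (hzo ▸ pow_orderOf_eq_one z) (fun h => hp.out.ne_one (by rw [← hzo, h, orderOf_one])) hzk
    exact (ZMod.intCast_eq_intCast_iff_dvd_sub _ _ _).mp this.symm
  have hiter : ∀ n : ℕ, (f ^ n) g = g ^ (k ^ n) := by
    intro n
    induction n with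
    | zero => simp
    | succ n ih => rw [pow_succ', MulAut.mul_apply, ih, map_zpow, ← hk, ← zpow_mul, pow_succ']
  obtain ⟨m, hm⟩ := IsPGroup.iff_card.mp hC
  have hgm : (p : ℤ) ^ m ∣ k ^ Nat.card C - 1 := by
    have h := dvd_sub_pow_of_dvd_sub hdvd m
    rw [one_pow] at h
    rw [hm]
    exact dvd_trans (pow_dvd_pow _ (Nat.le_succ m)) h
  have hfg : (f ^ Nat.card C) g = g := by
    rw [hiter]
    conv_rhs => rw [← zpow_one g]
    rw [zpow_eq_zpow_iff_modEq, Int.modEq_comm, Int.modEq_iff_dvd]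
    refine dvd_trans ?_ hgm
    rw [← Nat.cast_pow, Int.natCast_dvd_natCast]
    exact hm ▸ (Subgroup.orderOf_coe (⟨g, hg⟩ : C) ▸ orderOf_dvd_natCard (⟨g, hg⟩ : C))
  intro c hc
  obtain ⟨j, rfl⟩ := hmem c hc
  rw [map_zpow, hfg]

end RankTwo

variable {Ω : Type*} [Group Ω] {S : Subgroup Ω} {F : FusionSystem S} {p : ℕ} [hp : Fact p.Prime] [Finite S]

open CfsgLib.PGroup.RankTwoPlane in
set_option maxHeartbeats 1000000 in
/-- The case in which the elements of order dividing `p` form an extraspecial group of order `p³`. -/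
theorem le_essential_of_omega_extraspecial (hS : IsPGroup p S) (hF : F.IsSaturated p) (hp5 : 5 ≤ p) {E : Subgroup Ω}
    (hEmem : ∀ x, x ∈ E ↔ x ∈ S ∧ x ^ p = 1) (hEc : Nat.card E = p ^ 3) (hES : E ≠ S)
    (hnab : ∃ a b : E, a * b ≠ b * a)
    (hcyc : ∀ A : Subgroup Ω, A ≤ S → ¬ IsCyclic A → ∃ B : Subgroup Ω, B ≤ A ∧ Nat.card B = p ^ 2 ∧ ∀ b ∈ B, b ^ p = 1)
    {Qe : Subgroup Ω} (hQe : F.IsEssential p Qe) : False := by
  classical
  have hp2 : p ≠ 2 := by omega
  have hES' : E ≤ S := fun x hx => ((hEmem x).1 hx).1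
  have hEexp : ∀ x ∈ E, x ^ p = 1 := fun x hx => ((hEmem x).1 hx).2
  have hEsc : F.StronglyClosed E := stronglyClosed_iff_fn.2 ⟨hES', fun P f hf x hx hxE => (hEmem _).2 ⟨hf.mem hx, by
    have hpow : ∀ j : ℕ, f (x ^ j) = f x ^ j := fun j => by
      induction j with
      | zero => rw [pow_zero, pow_zero, hf.map_one]
      | succ j ih => rw [pow_succ, pow_succ, hf.map_mul (P.pow_mem hx j) hx, ih]
    rw [← hpow, hEexp x hxE, hf.map_one]⟩⟩
  haveI := finite_of_le_base hES'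
  have hEp : IsPGroup p E := hS.to_le hES'
  obtain ⟨⟨-, hfr, hcz⟩, hZc⟩ := PGroup.OrderPCubeExtra.isExtraspecial_of_card hEc hnab
  have hqc := PGroup.Frattini.quotient_mul_comm hEp
  have hexpV : ∀ u : E ⧸ frattini E, u ^ p = 1 := PGroup.Frattini.quotient_pow_eq_one hEp
  have hcardV : Nat.card (E ⧸ frattini E) = p ^ 2 := Nat.eq_of_mul_eq_mul_right hp.out.pos (by
    have h := Subgroup.card_eq_card_quotient_mul_card_subgroup (frattini E)
    rw [hEc, show Nat.card (frattini E) = p by rw [hfr, hZc]] at h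
    rw [← h]; ring)
  -- the centre
  obtain ⟨zE, hzgen⟩ : ∃ z : E, Subgroup.zpowers z = Subgroup.center E := by
    haveI : IsCyclic (Subgroup.center E) := isCyclic_of_prime_card hZc
    obtain ⟨⟨z, hz⟩, h⟩ := IsCyclic.exists_generator (α := Subgroup.center E)
    refine ⟨z, le_antisymm (Subgroup.zpowers_le.mpr hz) fun x hx => ?_⟩
    obtain ⟨i, hi⟩ := Subgroup.mem_zpowers_iff.mp (h ⟨x, hx⟩)
    exact ⟨i, congrArg Subtype.val hi⟩
  set z : Ω := (zE : Ω) with hzdef
  have hzo : orderOf z = p := by rw [hzdef, Subgroup.orderOf_coe, ← Nat.card_zpowers, hzgen, hZc]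
  have hzp : z ^ p = 1 := hzo ▸ pow_orderOf_eq_one z
  have hz1 : z ≠ 1 := fun h => hp.out.ne_one (by rw [← hzo, h, orderOf_one])
  have hzE : z ∈ E := zE.2
  -- conjugation on `E`
  let κ : S →* MulAut E := MonoidHom.mk' (fun s => conjAut E (sc_le_normalizer hEsc s.2))
    fun s t => conjAut_mul (sc_le_normalizer hEsc s.2) (sc_le_normalizer hEsc t.2)
  have hκ : ∀ (s : S) (e : E), ((κ s e : E) : Ω) = (s : Ω) * e * (s : Ω)⁻¹ := fun s e => rfl
  let ρ : S →* MulAut (E ⧸ frattini E) := PGroup.FrattiniAct.quot.comp κ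
  have hρ : ∀ (s : S) (e : E), ρ s (e : E ⧸ frattini E) = ((κ s e : E) : E ⧸ frattini E) := fun s e => rfl
  have hzc : ∀ s ∈ S, s * z = z * s := by
    intro s hs
    have hinv : κ ⟨s, hs⟩ zE ∈ Subgroup.zpowers zE := by
      rw [hzgen, ← Subgroup.characteristic_iff_map_eq.mp (inferInstance : (Subgroup.center E).Characteristic) (κ ⟨s, hs⟩)]
      exact ⟨zE, hzgen ▸ Subgroup.mem_zpowers zE, rfl⟩
    obtain ⟨k, hk⟩ := Subgroup.mem_zpowers_iff.mp hinv
    obtain ⟨m, hm⟩ := hS ⟨s, hs⟩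
    have hiter : ∀ n : ℕ, (κ ⟨s, hs⟩ ^ n) zE = zE ^ (k ^ n) := by
      intro n
      induction n with
      | zero => simp
      | succ n ih => rw [pow_succ', MulAut.mul_apply, ih, map_zpow, ← hk, ← zpow_mul, pow_succ']
    have h1 : zE ^ (1 : ℤ) = zE ^ (k ^ p ^ m) := by
      rw [← hiter, ← map_pow, hm, map_one, zpow_one]; rfl
    have hzE1 : zE ≠ 1 := fun h => hz1 (congrArg Subtype.val h)
    have h2 := cast_eq_of_zpow_eq (p := p) (Subtype.ext hzp) hzE1 h1
    rw [Int.cast_pow, ZMod.pow_card_pow] at h2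
    have h3 : κ ⟨s, hs⟩ zE = zE := by
      rw [← hk, zpow_congr (p := p) (Subtype.ext hzp) h2.symm, zpow_one]
    exact mul_inv_eq_iff_eq_mul.mp (congrArg Subtype.val h3)
  have hfrz : ∀ e : E, e ∈ frattini E ↔ (e : Ω) ∈ Subgroup.zpowers z := fun e => by
    rw [hfr, ← hzgen]
    constructor
    · rintro ⟨i, rfl⟩; exact ⟨i, by simp [z]⟩
    · rintro ⟨i, hi⟩; exact ⟨i, Subtype.ext (by simpa [z] using hi)⟩
  -- the kernel
  let C : Subgroup Ω := S ⊓ Subgroup.centralizer (E : Set Ω)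
  let Q : Subgroup Ω := ρ.ker.map S.subtype
  have hQS : Q ≤ S := Subgroup.map_subtype_le _
  have hmemQ : ∀ (x : Ω) (hx : x ∈ S), x ∈ Q ↔ ρ ⟨x, hx⟩ = 1 := fun x hx => by
    constructor
    · rintro ⟨s, hs, rfl⟩; exact hs
    · exact fun h => ⟨⟨x, hx⟩, h, rfl⟩
  have hEQ : E ≤ Q := fun e he => (hmemQ e (hES' he)).2 (MulEquiv.ext fun u => by
    obtain ⟨f, rfl⟩ := QuotientGroup.mk'_surjective (frattini E) u
    show ((κ ⟨e, hES' he⟩ f : E) : E ⧸ frattini E) = _
    rw [show κ ⟨e, hES' he⟩ f = (⟨e, he⟩ : E) * f * (⟨e, he⟩ : E)⁻¹ from Subtype.ext rfl,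
      QuotientGroup.mk_mul, QuotientGroup.mk_mul, QuotientGroup.mk_inv, hqc ((⟨e, he⟩ : E) : E ⧸ frattini E),
      mul_inv_cancel_right]
    rfl)
  have hCQ : C ≤ Q := fun c hc => (hmemQ c hc.1).2 (MulEquiv.ext fun u => by
    obtain ⟨f, rfl⟩ := QuotientGroup.mk'_surjective (frattini E) u
    show ((κ ⟨c, hc.1⟩ f : E) : E ⧸ frattini E) = _
    rw [show κ ⟨c, hc.1⟩ f = f from Subtype.ext (by
      rw [hκ]; show c * (f : Ω) * c⁻¹ = f
      rw [← Subgroup.mem_centralizer_iff.mp hc.2 _ f.2, mul_inv_cancel_right])]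
    rfl)
  haveI := finite_of_le_base hQS
  -- generators of `E`
  obtain ⟨a, b, hab⟩ : ∃ a b : E, Subgroup.closure {a, b} = ⊤ := by
    obtain ⟨u, hu⟩ : ∃ u : E ⧸ frattini E, u ≠ 1 := by
      haveI : Nontrivial (E ⧸ frattini E) := Finite.one_lt_card_iff_nontrivial.mp (by
        rw [hcardV]; exact Nat.one_lt_pow two_ne_zero hp.out.one_lt)
      exact exists_ne 1
    obtain ⟨w, hw⟩ : ∃ w, w ∉ Subgroup.zpowers u := by
      by_contra h
      push Not at h
      have := Subgroup.card_le_of_le (show (⊤ : Subgroup (E ⧸ frattini E)) ≤ Subgroup.zpowers u from fun x _ => h x)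
      rw [Subgroup.card_top, hcardV, Nat.card_zpowers, orderOf_eq_prime (hexpV u) hu] at this
      exact absurd this (not_le.mpr (by rw [pow_two]; exact lt_mul_of_one_lt_left hp.out.pos hp.out.one_lt))
    obtain ⟨a, rfl⟩ := QuotientGroup.mk'_surjective (frattini E) u
    obtain ⟨b, rfl⟩ := QuotientGroup.mk'_surjective (frattini E) w
    refine ⟨a, b, frattini_nongenerating (eq_top_iff.mpr fun e _ => ?_)⟩
    obtain ⟨i, j, hij⟩ := exists_coords hcardV hexpV hu hw (e : E ⧸ frattini E)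
    rw [← map_zpow, ← map_zpow, ← map_mul, QuotientGroup.mk'_apply] at hij
    rw [← mul_inv_cancel_left (a ^ i * b ^ j) e]
    exact mul_mem (Subgroup.mem_sup_left (mul_mem (zpow_mem (Subgroup.subset_closure (by simp)) i)
      (zpow_mem (Subgroup.subset_closure (by simp)) j))) (Subgroup.mem_sup_right (QuotientGroup.eq.mp hij.symm))
  have hcmE : ∀ e f : E, ⁅e, f⁆ ∈ Subgroup.center E := fun e f =>
    hcz ▸ Subgroup.commutator_mem_commutator (Subgroup.mem_top e) (Subgroup.mem_top f)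
  have hdec : ∀ q ∈ Q, ∃ c ∈ C, ∃ e ∈ E, q = c * e := by
    intro q hq
    set s : S := ⟨q, hQS hq⟩
    have hρq : ρ s = 1 := (hmemQ q (hQS hq)).1 hq
    have hsh : ∀ f : E, κ s f * f⁻¹ ∈ Subgroup.center E := fun f => by
      rw [← hfr, ← QuotientGroup.eq_one_iff, QuotientGroup.mk_mul, QuotientGroup.mk_inv, ← hρ, hρq]
      exact mul_inv_cancel _
    let Φ : E →* Subgroup.center E × Subgroup.center E := MonoidHom.mk'
      (fun e => (⟨⁅e, a⁆, hcmE e a⟩, ⟨⁅e, b⁆, hcmE e b⟩)) fun e f => by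
        have key : ∀ c : E, ⁅e * f, c⁆ = ⁅e, c⁆ * ⁅f, c⁆ := fun c => by
          rw [show ⁅e * f, c⁆ = e * ⁅f, c⁆ * e⁻¹ * ⁅e, c⁆ by simp [commutatorElement_def, mul_assoc],
            Subgroup.mem_center_iff.mp (hcmE f c) e, mul_inv_cancel_right,
            Subgroup.mem_center_iff.mp (hcmE f c) ⁅e, c⁆]
        exact Prod.ext (Subtype.ext (key a)) (Subtype.ext (key b))
    have hker : Φ.ker = Subgroup.center E := by
      ext e
      rw [MonoidHom.mem_ker]
      constructor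
      · intro h
        have ha' := commutatorElement_eq_one_iff_mul_comm.mp (congrArg (fun x => ((x.1 : Subgroup.center E) : E)) h)
        have hb' := commutatorElement_eq_one_iff_mul_comm.mp (congrArg (fun x => ((x.2 : Subgroup.center E) : E)) h)
        have hle : Subgroup.closure {a, b} ≤ Subgroup.centralizer ({e} : Set E) := by
          rw [Subgroup.closure_le]
          rintro x (rfl | rfl)
          · exact Subgroup.mem_centralizer_singleton_iff.mpr ha'.symm
          · exact Subgroup.mem_centralizer_singleton_iff.mpr hb'.symm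
        refine Subgroup.mem_center_iff.mpr fun g => ?_
        exact Subgroup.mem_centralizer_singleton_iff.mp (hle (hab.ge (Subgroup.mem_top g)))
      · intro he
        refine Prod.ext (Subtype.ext ?_) (Subtype.ext ?_) <;>
          exact commutatorElement_eq_one_iff_mul_comm.mpr (Subgroup.mem_center_iff.mp he _).symm
    have hsurj : Φ.range = ⊤ := Subgroup.eq_top_of_card_eq _ (by
      have h := Subgroup.card_eq_card_quotient_mul_card_subgroup Φ.ker
      rw [Nat.card_congr (QuotientGroup.quotientKerEquivRange Φ).toEquiv, hker, hEc, hZc] at h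
      rw [Nat.card_prod, hZc]
      exact Nat.eq_of_mul_eq_mul_right hp.out.pos (by rw [← h]; ring))
    obtain ⟨e, he⟩ := (hsurj.ge (Subgroup.mem_top ((⟨_, hsh a⟩, ⟨_, hsh b⟩) : Subgroup.center E × Subgroup.center E)))
    have he' : ∀ f ∈ ({a, b} : Set E), e * f * e⁻¹ = κ s f := by
      rintro f (rfl | rfl)
      · have h1 : ⁅e, f⁆ = κ s f * f⁻¹ := congrArg (fun x => ((x.1 : Subgroup.center E) : E)) he
        exact mul_right_cancel (b := f⁻¹) (by simpa [commutatorElement_def] using h1)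
      · have h1 : ⁅e, f⁆ = κ s f * f⁻¹ := congrArg (fun x => ((x.2 : Subgroup.center E) : E)) he
        exact mul_right_cancel (b := f⁻¹) (by simpa [commutatorElement_def] using h1)
    have hall : ∀ f : E, e * f * e⁻¹ = κ s f := by
      intro f
      have hle : Subgroup.closure {a, b} ≤ MonoidHom.eqLocus (MulAut.conj e).toMonoidHom (κ s).toMonoidHom := by
        rw [Subgroup.closure_le]; exact he'
      exact hle (hab.ge (Subgroup.mem_top f))
    refine ⟨q * (e : Ω)⁻¹, ⟨S.mul_mem (hQS hq) (S.inv_mem (hES' e.2)), Subgroup.mem_centralizer_iff.mpr fun f hf => ?_⟩,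
      e, e.2, by rw [inv_mul_cancel_right]⟩
    obtain ⟨f', hf'⟩ := (MulAut.conj e).surjective ⟨f, hf⟩
    have h1 : (e : Ω) * f' * (e : Ω)⁻¹ = q * f' * q⁻¹ := congrArg Subtype.val (hall f')
    have h2 : (e : Ω) * f' * (e : Ω)⁻¹ = f := congrArg Subtype.val hf'
    rw [← h2]
    calc (e : Ω) * f' * (e : Ω)⁻¹ * (q * (e : Ω)⁻¹) = q * f' * q⁻¹ * (q * (e : Ω)⁻¹) := by rw [h1]
      _ = q * (e : Ω)⁻¹ * ((e : Ω) * f' * (e : Ω)⁻¹) := by group
  -- `C` is cyclic
  have hCE : ∀ c ∈ C, c ^ p = 1 → c ∈ Subgroup.zpowers z := fun c hc hcp => by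
    have hcE : c ∈ E := (hEmem c).2 ⟨hc.1, hcp⟩
    have : (⟨c, hcE⟩ : E) ∈ Subgroup.center E := Subgroup.mem_center_iff.mpr fun g =>
      Subtype.ext (Subgroup.mem_centralizer_iff.mp hc.2 _ g.2)
    rw [← hfr, hfrz] at this
    exact this
  haveI := finite_of_le_base (inf_le_left : C ≤ S)
  have hCcyc : IsCyclic C := by
    by_contra h
    obtain ⟨B, hBC, hBc, hBe⟩ := hcyc C inf_le_left h
    have hle : B ≤ Subgroup.zpowers z := fun b hb => hCE b (hBC hb) (hBe b hb)
    haveI := finite_of_le_base (Subgroup.zpowers_le.mpr (hES' hzE) : Subgroup.zpowers z ≤ S)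
    have := Subgroup.card_le_of_le hle
    rw [hBc, Nat.card_zpowers, hzo] at this
    exact absurd this (not_le.mpr (by rw [pow_two]; exact lt_mul_of_one_lt_left hp.out.pos hp.out.one_lt))
  have hzC : z ∈ C := ⟨hES' hzE, Subgroup.mem_centralizer_iff.mpr fun e he => (hzc e (hES' he))⟩
  -- restriction to `E`
  have hres : ∀ (P : Subgroup Ω), P ≤ S → E ≤ P → ∃ r : F.autGroup P →* MulAut E,
      ∀ (a : F.autGroup P) (e : E), ((r a e : E) : Ω) = autFn (a : MulAut P) e := by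
    intro P hPS hEP
    haveI := finite_of_le_base hPS
    have hinv : ∀ (a : F.autGroup P) (e : E), autFn (a : MulAut P) (e : Ω) ∈ E := fun a e =>
      (stronglyClosed_iff_fn.1 hEsc).2 _ _ ((mem_autGroup_iff_fn hPS).1 a.2) _ (hEP e.2) e.2
    refine ⟨MonoidHom.mk' (fun a =>
      { toFun := fun e => ⟨_, hinv a e⟩
        invFun := fun e => ⟨_, hinv a⁻¹ e⟩
        left_inv := fun e => Subtype.ext (autFn_inv_apply (a : MulAut P) (hEP e.2))
        right_inv := fun e => Subtype.ext (autFn_apply_inv (a : MulAut P) (hEP e.2))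
        map_mul' := fun e f => Subtype.ext (((mem_autGroup_iff_fn hPS).1 a.2).map_mul (hEP e.2) (hEP f.2)) })
      (fun a b => MulEquiv.ext fun e => Subtype.ext (autFn_mul (a : MulAut P) (b : MulAut P) (hEP e.2))),
      fun a e => rfl⟩
  obtain ⟨res, hres'⟩ := hres Q hQS hEQ
  let π : F.autGroup Q →* MulAut (E ⧸ frattini E) := PGroup.FrattiniAct.quot.comp res
  have hπ : ∀ (a : F.autGroup Q) (e : E), π a (e : E ⧸ frattini E) = ((res a e : E) : E ⧸ frattini E) :=
    fun a e => rfl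
  -- image of `S`
  have hρp : IsPGroup p ρ.range := hS.of_surjective _ ρ.rangeRestrict_surjective
  have hρc := MetaNormal.card_pGroup_le hcardV hexpV _ hρp
  have hτpow : ∀ s : S, ρ s ^ p = 1 := fun s => by
    obtain ⟨j, hj⟩ := IsPGroup.iff_card.mp hρp
    rw [hj] at hρc
    have hj1 : j ≤ 1 := (Nat.pow_le_pow_iff_right hp.out.one_lt).mp (hρc.trans (pow_one p).ge)
    have h : (⟨ρ s, s, rfl⟩ : ρ.range) ^ p = 1 := orderOf_dvd_iff_pow_eq_one.mp
      ((orderOf_dvd_natCard _).trans (hj ▸ by simpa using pow_dvd_pow p hj1))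
    exact congrArg Subtype.val h
  have hQeS := hQe.1.1
  haveI := finite_of_le_base hQeS
  have hQep : IsPGroup p Qe := hS.to_le hQeS
  have hzQe : z ∈ Qe := centralizer_le_of_centric hQe.1
    ⟨hES' hzE, Subgroup.mem_centralizer_iff.mpr fun q hq => hzc q (hQeS hq)⟩
  have hnotin : ∀ (t : Ω) (htS : t ∈ S) (htN : t ∈ Subgroup.normalizer (Qe : Set Ω)), t ∉ Qe →
      ∀ N : Subgroup (F.autGroup Qe), N.Normal → IsPGroup p N →
      (⟨conjAut Qe htN, autInducedBy_le_autGroup hQeS (conjAut_mem_autInducedBy htN htS)⟩ : F.autGroup Qe) ∉ N :=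
    fun t htS htN htQ N hN hNp hct => htQ (by
      have := (essential_radical hS hQe).2.le ⟨_, CfsgLib.Solvable.Cores.le_pCore (hn := hN) hNp hct, rfl⟩
      exact (conjAut_mem_inn_iff (centralizer_le_of_centric hQe.1) ⟨htS, htN⟩ hQeS).1 this)
  have hsubinv : ∀ (D : Subgroup Qe), (∀ (g : F.autGroup Qe), ∀ u ∈ D, (g : MulAut Qe) u ∈ D) →
      ∀ (g a : F.autGroup Qe), (∀ u, u⁻¹ * (a : MulAut Qe) u ∈ D) → ∀ u, u⁻¹ * ((g * a * g⁻¹ : F.autGroup Qe) : MulAut Qe) u ∈ D :=
    fun D hD g a ha u => by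
      set y := ((g⁻¹ : F.autGroup Qe) : MulAut Qe) u
      have hgy : (g : MulAut Qe) y = u := MulAut.apply_inv_self Qe _ _
      have := hD g _ (ha y)
      rw [map_mul, map_inv, hgy] at this
      exact this
  have hEinv : ∀ (g : F.autGroup Qe) (u : Qe), (u : Ω) ∈ E → (((g : MulAut Qe) u : Qe) : Ω) ∈ E := fun g u hu => by
    have := (stronglyClosed_iff_fn.1 hEsc).2 _ _ ((mem_autGroup_iff_fn hQeS).1 g.2) _ u.2 hu
    rwa [autFn_coe] at this
  -- `E` outside `Qe`
  have hA0 : ¬ E ≤ Qe → Qe ≤ E ∧ C ≤ E ∧ Nat.card Qe = p ^ 2 := by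
    intro hnle
    obtain ⟨t, htE, htN, htQ⟩ : ∃ t ∈ E, t ∈ Subgroup.normalizer (Qe : Set Ω) ∧ t ∉ Qe := by
      by_contra hno
      push Not at hno
      exact hnle (le_of_forall_normalizer hS hQeS hES' (hQeS.trans (sc_le_normalizer hEsc)) hno)
    have htS := hES' htE
    let R0 : Subgroup Qe := E.subgroupOf Qe
    let zQ : Qe := ⟨z, hzQe⟩
    have hzQp : zQ ^ p = 1 := Subtype.ext hzp
    have hzQ1 : zQ ≠ 1 := fun h => hz1 (congrArg Subtype.val h)
    let ct : F.autGroup Qe := ⟨conjAut Qe htN, autInducedBy_le_autGroup hQeS (conjAut_mem_autInducedBy htN htS)⟩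
    have hctv : ∀ u : Qe, (((ct : MulAut Qe) u : Qe) : Ω) = t * u * t⁻¹ := fun u => rfl
    have hshR : ∀ u : Qe, u⁻¹ * (ct : MulAut Qe) u ∈ R0 := fun u => by
      show ((u⁻¹ * (ct : MulAut Qe) u : Qe) : Ω) ∈ E
      rw [Subgroup.coe_mul, Subgroup.coe_inv, hctv]
      have := E.mul_mem (sc_conj hEsc (S.inv_mem (hQeS u.2)) htE) (E.inv_mem htE)
      simpa [mul_assoc] using this
    have hshz : ∀ u ∈ R0, u⁻¹ * (ct : MulAut Qe) u ∈ Subgroup.zpowers zQ := fun u hu => by
      have h1 : ⁅(⟨(u : Ω), hu⟩ : E)⁻¹, (⟨t, htE⟩ : E)⁆ ∈ Subgroup.center E := hcmE _ _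
      rw [← hfr, hfrz] at h1
      obtain ⟨i, hi⟩ := Subgroup.mem_zpowers_iff.mp h1
      refine ⟨i, Subtype.ext ?_⟩
      show ((zQ ^ i : Qe) : Ω) = _
      rw [Subgroup.coe_zpow, Subgroup.coe_mul, Subgroup.coe_inv, hctv]
      simpa [zQ, commutatorElement_def, mul_assoc] using hi
    have hctz : (ct : MulAut Qe) zQ = zQ := Subtype.ext (by
      rw [hctv]; show t * z * t⁻¹ = z
      rw [hzc t htS, mul_inv_cancel_right])
    obtain ⟨g0, hg0⟩ : ∃ g : F.autGroup Qe, (g : MulAut Qe) zQ ∉ Subgroup.zpowers zQ := by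
      by_contra hno
      push Not at hno
      have hfz : ∀ (a : MulAut Qe), a zQ = zQ → ∀ u ∈ Subgroup.zpowers zQ, a u = u := fun a ha u hu => by
        obtain ⟨i, rfl⟩ := Subgroup.mem_zpowers_iff.mp hu
        rw [map_zpow, ha]
      let M : Subgroup (F.autGroup Qe) :=
        { carrier := {a | (∀ u, u⁻¹ * (a : MulAut Qe) u ∈ R0) ∧ (∀ u ∈ R0, u⁻¹ * (a : MulAut Qe) u ∈ Subgroup.zpowers zQ) ∧
            (a : MulAut Qe) zQ = zQ}
          one_mem' := ⟨fun u => by simp, fun u _ => by simp, rfl⟩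
          mul_mem' := fun {a b} ha hb => ⟨fun u => by
              rw [Subgroup.coe_mul, MulAut.mul_apply,
                show u⁻¹ * (a : MulAut Qe) ((b : MulAut Qe) u) = (u⁻¹ * (b : MulAut Qe) u) *
                  (((b : MulAut Qe) u)⁻¹ * (a : MulAut Qe) ((b : MulAut Qe) u)) by group]
              exact mul_mem (hb.1 u) (ha.1 _),
            fun u hu => by
              rw [Subgroup.coe_mul, MulAut.mul_apply,
                show u⁻¹ * (a : MulAut Qe) ((b : MulAut Qe) u) = (u⁻¹ * (b : MulAut Qe) u) *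
                  (((b : MulAut Qe) u)⁻¹ * (a : MulAut Qe) ((b : MulAut Qe) u)) by group]
              exact mul_mem (hb.2.1 u hu) (ha.2.1 _ (hEinv b u hu)),
            by rw [Subgroup.coe_mul, MulAut.mul_apply, hb.2.2, ha.2.2]⟩
          inv_mem' := fun {a} ha => by
            refine ⟨fun u => ?_, fun u hu => ?_, ?_⟩
            · have h := inv_mem (ha.1 (((a⁻¹ : F.autGroup Qe) : MulAut Qe) u))
              rw [show (a : MulAut Qe) (((a⁻¹ : F.autGroup Qe) : MulAut Qe) u) = u from MulAut.apply_inv_self Qe _ _,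
                mul_inv_rev, inv_inv] at h
              exact h
            · have h := inv_mem (ha.2.1 _ (hEinv a⁻¹ u hu))
              rw [show (a : MulAut Qe) (((a⁻¹ : F.autGroup Qe) : MulAut Qe) u) = u from MulAut.apply_inv_self Qe _ _,
                mul_inv_rev, inv_inv] at h
              exact h
            · conv_lhs => rw [← ha.2.2]
              exact MulAut.inv_apply_self Qe _ _ }
      refine hnotin t htS htN htQ M ⟨fun a ha g => ⟨hsubinv R0 hEinv g a ha.1, fun u hu => ?_, ?_⟩⟩ ?_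
        ⟨hshR, hshz, hctz⟩
      · set y := ((g⁻¹ : F.autGroup Qe) : MulAut Qe) u
        have hgy : (g : MulAut Qe) y = u := MulAut.apply_inv_self Qe _ _
        have h := ha.2.1 y (hEinv g⁻¹ u hu)
        obtain ⟨i, hi⟩ := Subgroup.mem_zpowers_iff.mp h
        have h2 : (g : MulAut Qe) (y⁻¹ * (a : MulAut Qe) y) ∈ Subgroup.zpowers zQ := by
          rw [← hi, map_zpow]; exact Subgroup.zpow_mem _ (hno g) i
        rw [map_mul, map_inv, hgy] at h2
        exact h2
      · show ((g * a * g⁻¹ : F.autGroup Qe) : MulAut Qe) zQ = zQ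
        rw [Subgroup.coe_mul, Subgroup.coe_mul, MulAut.mul_apply, MulAut.mul_apply,
          hfz _ ha.2.2 _ (hno g⁻¹)]
        exact MulAut.apply_inv_self Qe _ _
      · refine isPGroup_of_forall_coprime fun a hcop => ?_
        have hco : (orderOf ((a : F.autGroup Qe) : MulAut Qe)).Coprime p := by
          rwa [Subgroup.orderOf_coe, Subgroup.orderOf_coe]
        have hR : ∀ u ∈ R0, ((a : F.autGroup Qe) : MulAut Qe) u = u := fun u hu =>
          fixed_of_fixed_shift hQep hco (hfz _ a.2.2.2 _ (a.2.2.1 u hu))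
        exact Subtype.ext (Subtype.ext (MulEquiv.ext fun u => fixed_of_fixed_shift hQep hco (hR _ (a.2.1 u))))
    set w := (g0 : MulAut Qe) zQ
    have hwR : w ∈ R0 := hEinv g0 zQ hzE
    have hwE : (w : Ω) ∈ E := hwR
    have hwnc : (⟨(w : Ω), hwE⟩ : E) ∉ Subgroup.center E := fun h => hg0 (by
      rw [← hfr, hfrz] at h
      obtain ⟨i, hi⟩ := Subgroup.mem_zpowers_iff.mp h
      exact ⟨i, Subtype.ext (by simpa [zQ] using hi)⟩)
    let RE : Subgroup E := Qe.subgroupOf E
    have hREne : RE ≠ ⊤ := fun h => htQ (show (⟨t, htE⟩ : E) ∈ RE from h ▸ Subgroup.mem_top _)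
    have hREc : Nat.card RE = p ^ 2 := by
      obtain ⟨k, hk, hkc⟩ := (Nat.dvd_prime_pow hp.out).mp (hEc ▸ Subgroup.card_subgroup_dvd_card RE)
      have hlt : Subgroup.center E < RE := lt_of_le_of_ne (fun u hu => by
          rw [← hfr, hfrz] at hu
          exact Subgroup.zpowers_le.mpr hzQe hu) fun h => hwnc (h ▸ w.2)
      have h1 := CfsgLib.Fusion.MaxClass.card_mul_le_of_lt hEp hlt
      rw [hZc, hkc, ← sq] at h1
      have h2 := (Nat.pow_le_pow_iff_right hp.out.one_lt).mp h1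
      have h3 : k ≠ 3 := fun h => hREne (Subgroup.eq_top_of_card_eq RE (by rw [hkc, h, hEc]))
      rw [hkc, show k = 2 by omega]
    haveI hREab := IsPGroup.isMulCommutative_of_card_eq_prime_sq (p := p) hREc
    have hRcomm : ∀ u r : E, u ∈ RE → r ∈ RE → u * r = r * u := fun u r hu hr =>
      congrArg Subtype.val (hREab.1.1 ⟨u, hu⟩ ⟨r, hr⟩)
    have hcentR : ∀ r : E, r ∈ RE → (⟨t, htE⟩ : E) * r = r * ⟨t, htE⟩ → r ∈ Subgroup.center E := by
      intro r hr htr
      have hlt : RE < Subgroup.centralizer ({r} : Set E) := lt_of_le_of_ne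
        (fun u hu => Subgroup.mem_centralizer_singleton_iff.mpr (hRcomm u r hu hr))
        fun h => htQ (show (⟨t, htE⟩ : E) ∈ RE from h ▸ Subgroup.mem_centralizer_singleton_iff.mpr htr)
      have h1 := CfsgLib.Fusion.MaxClass.card_mul_le_of_lt hEp hlt
      rw [hREc, ← pow_succ', ← hEc] at h1
      exact Subgroup.mem_center_iff.mpr fun g =>
        Subgroup.mem_centralizer_singleton_iff.mp ((Subgroup.eq_top_of_le_card _ h1).ge (Subgroup.mem_top g))
    have hzΦ : zQ ∉ frattini Qe := fun hzΦ => by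
      have hwΦ : w ∈ frattini Qe :=
        (Subgroup.characteristic_iff_comap_eq.mp (inferInstance : (frattini Qe).Characteristic) (g0 : MulAut Qe)).ge hzΦ
      let W : Subgroup Qe := frattini Qe ⊓ R0
      have hW : W = R0 := by
        have hRc : Nat.card R0 = p ^ 2 := by
          rw [← hREc]
          exact Nat.card_congr
            { toFun := fun u => ⟨⟨((u : Qe) : Ω), u.2⟩, (u : Qe).2⟩
              invFun := fun u => ⟨⟨((u : E) : Ω), u.2⟩, (u : E).2⟩
              left_inv := fun u => rfl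
              right_inv := fun u => rfl }
        refine Subgroup.eq_of_le_of_card_ge inf_le_right ?_
        have hlt : Subgroup.zpowers zQ < W := lt_of_le_of_ne (Subgroup.zpowers_le.mpr ⟨hzΦ, hzE⟩) fun h =>
          hg0 (h.ge ⟨hwΦ, hwR⟩)
        have h1 := CfsgLib.Fusion.MaxClass.card_mul_le_of_lt hQep hlt
        rw [Nat.card_zpowers, orderOf_eq_prime hzQp hzQ1, ← sq] at h1
        rw [hRc]; exact h1
      let M : Subgroup (F.autGroup Qe) := (PGroup.FrattiniAct.quot.comp (F.autGroup Qe).subtype).ker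
      refine hnotin t htS htN htQ M (MonoidHom.normal_ker _) (isPGroup_of_forall_coprime fun a hcop => ?_) ?_
      · have hco : (orderOf ((a : F.autGroup Qe) : MulAut Qe)).Coprime p := by
          rwa [Subgroup.orderOf_coe, Subgroup.orderOf_coe]
        exact Subtype.ext (Subtype.ext (PGroup.FrattiniAct.eq_one_of_quot hQep hco a.2))
      · refine MulEquiv.ext fun u => ?_
        obtain ⟨u, rfl⟩ := QuotientGroup.mk'_surjective (frattini Qe) u
        have h1 : u⁻¹ * (ct : MulAut Qe) u ∈ frattini Qe := (hW.ge (hshR u)).1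
        exact (QuotientGroup.eq.mpr h1).symm
    have hΦ : frattini Qe = ⊥ := by
      by_contra hne
      obtain ⟨⟨r, hrΦ⟩, hr⟩ := exists_prime_orderOf_dvd_card' (G := frattini Qe) p (by
        obtain ⟨k, hk⟩ := IsPGroup.iff_card.mp (hQep.to_subgroup (frattini Qe))
        rw [hk]
        exact dvd_pow_self p fun h => hne ((Subgroup.card_le_one_iff_eq_bot _).mp (by rw [hk, h, pow_zero])))
      rw [← Subgroup.orderOf_coe] at hr
      have hr' : orderOf r = p := hr
      have hrE : (r : Ω) ∈ E := (hEmem _).2 ⟨hQeS r.2, by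
        rw [← hr', ← Subgroup.orderOf_coe r, pow_orderOf_eq_one]⟩
      obtain ⟨i, hi⟩ := Subgroup.mem_zpowers_iff.mp (hshz r hrE)
      have hiz : zQ ^ i ∈ frattini Qe := by
        rw [hi]
        exact mul_mem (inv_mem hrΦ)
          ((Subgroup.characteristic_iff_comap_eq.mp (inferInstance : (frattini Qe).Characteristic) (ct : MulAut Qe)).ge hrΦ)
      have hzi : zQ ^ i = 1 := by
        by_cases hi0 : (i : ZMod p) = 0
        · rw [zpow_congr hzQp (hi0.trans Int.cast_zero.symm), zpow_zero]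
        · exact absurd (mem_zpowers_of_zpow_mem (by rw [hzQp]; exact one_mem _) hi0 hiz) hzΦ
      rw [hzi, eq_comm, inv_mul_eq_one] at hi
      have htr : t * (r : Ω) * t⁻¹ = r := by rw [← hctv, ← hi]
      have hrc := hcentR ⟨(r : Ω), hrE⟩ r.2 (Subtype.ext (mul_inv_eq_iff_eq_mul.mp htr))
      rw [← hfr, hfrz] at hrc
      obtain ⟨j, hj⟩ := Subgroup.mem_zpowers_iff.mp hrc
      have hjr : zQ ^ j = r := Subtype.ext (by simpa [zQ] using hj)
      by_cases hj0 : (j : ZMod p) = 0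
      · rw [zpow_congr hzQp (hj0.trans Int.cast_zero.symm), zpow_zero] at hjr
        rw [← hjr, orderOf_one] at hr'
        exact hp.out.ne_one hr'.symm
      · exact hzΦ (mem_zpowers_of_zpow_mem (by rw [hzQp]; exact one_mem _) hj0 (hjr ▸ hrΦ))
    have hQE : Qe ≤ E := fun u hu => (hEmem u).2 ⟨hQeS hu, by
      have h := PGroup.Frattini.pow_mem_frattini hQep (⟨u, hu⟩ : Qe)
      rw [hΦ, Subgroup.mem_bot] at h
      exact congrArg Subtype.val h⟩
    refine ⟨hQE, fun c hc => hQE (centralizer_le_of_centric hQe.1 ⟨hc.1, Subgroup.mem_centralizer_iff.mpr fun u hu =>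
      Subgroup.mem_centralizer_iff.mp hc.2 u (hQE hu)⟩), ?_⟩
    rw [← hREc, Nat.card_congr (Subgroup.subgroupOfEquivOfLe hQE).toEquiv]
  -- `E` inside `Qe`
  have hB0 : E ≤ Qe → C ≤ Qe := by
    intro hle
    refine le_of_forall_normalizer hS hQeS inf_le_left ?_ fun t htC htN => ?_
    · intro q hq
      have hconj : ∀ q ∈ Qe, ∀ c ∈ C, q * c * q⁻¹ ∈ C := fun q hq c hc => by
        refine ⟨S.mul_mem (S.mul_mem (hQeS hq) hc.1) (S.inv_mem (hQeS hq)), Subgroup.mem_centralizer_iff.mpr fun e he => ?_⟩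
        have h1 : q⁻¹ * e * q ∈ E := by simpa using sc_conj hEsc (S.inv_mem (hQeS hq)) he
        calc e * (q * c * q⁻¹) = q * ((q⁻¹ * e * q) * c) * q⁻¹ := by group
          _ = q * (c * (q⁻¹ * e * q)) * q⁻¹ := by rw [Subgroup.mem_centralizer_iff.mp hc.2 _ h1]
          _ = q * c * q⁻¹ * e := by group
      rw [Subgroup.mem_normalizer_iff]
      refine fun c => ⟨hconj q hq c, fun h => ?_⟩
      simpa [mul_assoc] using hconj q⁻¹ (Qe.inv_mem hq) _ h
    by_contra htQ
    let D : Subgroup Qe := C.subgroupOf Qe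
    have hDinv : ∀ (g : F.autGroup Qe), ∀ u ∈ D, (g : MulAut Qe) u ∈ D := fun g u hu => by
      refine ⟨hQeS ((g : MulAut Qe) u).2, Subgroup.mem_centralizer_iff.mpr fun e he => ?_⟩
      obtain ⟨e', he'⟩ := (g : MulAut Qe).surjective ⟨e, hle he⟩
      have he'E : (e' : Ω) ∈ E := by
        have := hEinv g⁻¹ ⟨e, hle he⟩ he
        rwa [← he', show (((g⁻¹ : F.autGroup Qe)) : MulAut Qe) ((g : MulAut Qe) e') = e' from MulAut.inv_apply_self Qe _ _] at this
      have h1 : e' * u = u * e' := Subtype.ext (Subgroup.mem_centralizer_iff.mp hu.2 _ he'E)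
      have h2 := congrArg (fun x : Qe => (((g : MulAut Qe) x : Qe) : Ω)) h1
      simp only [map_mul, Subgroup.coe_mul, he'] at h2
      exact h2
    let M : Subgroup (F.autGroup Qe) :=
      { carrier := {a | (∀ u, u⁻¹ * (a : MulAut Qe) u ∈ D) ∧ ∀ u ∈ D, (a : MulAut Qe) u = u}
        one_mem' := ⟨fun u => by simp, fun u _ => rfl⟩
        mul_mem' := fun {a b} ha hb => ⟨fun u => by
            rw [Subgroup.coe_mul, MulAut.mul_apply,
              show u⁻¹ * (a : MulAut Qe) ((b : MulAut Qe) u) = (u⁻¹ * (b : MulAut Qe) u) *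
                (((b : MulAut Qe) u)⁻¹ * (a : MulAut Qe) ((b : MulAut Qe) u)) by group]
            exact mul_mem (hb.1 u) (ha.1 _),
          fun u hu => by rw [Subgroup.coe_mul, MulAut.mul_apply, hb.2 u hu, ha.2 u hu]⟩
        inv_mem' := fun {a} ha => ⟨fun u => by
            have h := inv_mem (ha.1 (((a⁻¹ : F.autGroup Qe) : MulAut Qe) u))
            rw [show (a : MulAut Qe) (((a⁻¹ : F.autGroup Qe) : MulAut Qe) u) = u from MulAut.apply_inv_self Qe _ _,
              mul_inv_rev, inv_inv] at h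
            exact h,
          fun u hu => by
            conv_lhs => rw [← ha.2 u hu]
            exact MulAut.inv_apply_self Qe _ _⟩ }
    refine hnotin t htC.1 htN htQ M ⟨fun a ha g => ⟨hsubinv D hDinv g a ha.1, fun u hu => ?_⟩⟩ ?_
      ⟨fun u => ?_, fun u hu => ?_⟩
    · show ((g * a * g⁻¹ : F.autGroup Qe) : MulAut Qe) u = u
      rw [Subgroup.coe_mul, Subgroup.coe_mul, MulAut.mul_apply, MulAut.mul_apply, ha.2 _ (hDinv g⁻¹ u hu)]
      exact MulAut.apply_inv_self Qe _ _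
    · refine isPGroup_of_forall_coprime fun a hcop => ?_
      have hco : (orderOf ((a : F.autGroup Qe) : MulAut Qe)).Coprime p := by
        rwa [Subgroup.orderOf_coe, Subgroup.orderOf_coe]
      exact Subtype.ext (Subtype.ext (MulEquiv.ext fun u => fixed_of_fixed_shift hQep hco (a.2.2 _ (a.2.1 u))))
    · show ((u⁻¹ * conjAut Qe htN u : Qe) : Ω) ∈ C
      rw [Subgroup.coe_mul, Subgroup.coe_inv, conjAut_coe]
      have hu := hQeS u.2
      refine ⟨S.mul_mem (S.inv_mem hu) (S.mul_mem (S.mul_mem htC.1 hu) (S.inv_mem htC.1)), ?_⟩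
      rw [show (u : Ω)⁻¹ * (t * u * t⁻¹) = ((u : Ω)⁻¹ * t * u) * t⁻¹ by group]
      refine Subgroup.mul_mem _ (Subgroup.mem_centralizer_iff.mpr fun e he => ?_) (Subgroup.inv_mem _ htC.2)
      have h1 : (u : Ω) * e * (u : Ω)⁻¹ ∈ E := sc_conj hEsc hu he
      calc e * ((u : Ω)⁻¹ * t * u) = (u : Ω)⁻¹ * (((u : Ω) * e * (u : Ω)⁻¹) * t) * u := by group
        _ = (u : Ω)⁻¹ * (t * ((u : Ω) * e * (u : Ω)⁻¹)) * u := by rw [Subgroup.mem_centralizer_iff.mp htC.2 _ h1]
        _ = (u : Ω)⁻¹ * t * u * e := by group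
    · apply Subtype.ext
      show t * (u : Ω) * t⁻¹ = u
      haveI := hCcyc
      letI : CommGroup C := IsCyclic.commGroup
      rw [show t * (u : Ω) = u * t from congrArg Subtype.val (mul_comm (⟨t, htC⟩ : C) ⟨u, hu⟩), mul_inv_cancel_right]
  have hSQ : ¬ S ≤ Q := by
    intro hSQ
    by_cases hle : E ≤ Qe
    · refine (essential_lt hS hF hQe).not_ge fun q hq => ?_
      obtain ⟨c, hc, e, he, rfl⟩ := hdec q (hSQ hq)
      exact Qe.mul_mem (hB0 hle hc) (hle he)
    · obtain ⟨-, hCle, -⟩ := hA0 hle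
      refine hES (le_antisymm hES' fun q hq => ?_)
      obtain ⟨c, hc, e, he, rfl⟩ := hdec q (hSQ hq)
      exact E.mul_mem (hCle hc) he
  obtain ⟨x, hxS, hxQ⟩ := SetLike.not_le_iff_exists.mp hSQ
  set τ := ρ ⟨x, hxS⟩ with hτdef
  have hτ1 : τ ≠ 1 := fun h => hxQ ((hmemQ x hxS).2 h)
  have hτρ : ρ.range = Subgroup.zpowers τ := by
    have hmem : τ ∈ ρ.range := ⟨_, rfl⟩
    refine (Subgroup.eq_of_le_of_card_ge (Subgroup.zpowers_le.mpr hmem) (hρc.trans ?_)).symm
    rw [Nat.card_zpowers, orderOf_eq_prime (hτpow _) hτ1]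
  obtain ⟨v, hv1, hτv, hsh, hfix⟩ := exists_shift hcardV hexpV (hτpow _) hτ1
  have hρv : ∀ s : S, ρ s v = v := fun s => by
    obtain ⟨k, hk⟩ := Subgroup.mem_zpowers_iff.mp (hτρ.le ⟨s, rfl⟩ : ρ s ∈ Subgroup.zpowers τ)
    have hst : τ ∈ MulAction.stabilizer (MulAut (E ⧸ frattini E)) v := hτv
    rw [← hk]
    exact zpow_mem hst k
  have hρsh : ∀ (s : S) u, u⁻¹ * ρ s u ∈ Subgroup.zpowers v := fun s u => by
    obtain ⟨k, hk⟩ := (mem_powers_iff_mem_zpowers).mpr (hτρ.le ⟨s, rfl⟩ : ρ s ∈ Subgroup.zpowers τ)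
    obtain ⟨i, hi⟩ := Subgroup.mem_zpowers_iff.mp (hsh u)
    have := (pow_shift (s := v ^ i) (v := v) (y := u) hτv (by rw [hi, mul_inv_cancel_left]) (by rw [map_zpow, hτv]) k).2
    rw [← show τ ^ k = ρ s from hk, this, inv_mul_cancel_left]
    exact Subgroup.pow_mem _ (Subgroup.zpow_mem _ (Subgroup.mem_zpowers v) i) k
  obtain ⟨vE, hvE⟩ := QuotientGroup.mk'_surjective (frattini E) v
  have hzF : ∀ i : ℤ, ((zE ^ i : E) : E ⧸ frattini E) = 1 := fun i =>
    (QuotientGroup.eq_one_iff _).2 (by rw [hfr, ← hzgen]; exact Subgroup.zpow_mem _ (Subgroup.mem_zpowers _) i)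
  have hzfrE : ∀ u : E, u ∈ frattini E → ∃ i : ℤ, zE ^ i = u := fun u hu =>
    Subgroup.mem_zpowers_iff.mp (by rwa [hfr, ← hzgen] at hu)
  have hzE1 : zE ≠ 1 := fun h => hz1 (congrArg Subtype.val h)
  have hzEp : zE ^ p = 1 := Subtype.ext hzp
  have hlift : ∀ (u : E) (i : ℤ), (u : E ⧸ frattini E) = v ^ i → ∃ j : ℤ, u = vE ^ i * zE ^ j := fun u i hu => by
    rw [← hvE, QuotientGroup.mk'_apply, ← QuotientGroup.mk_zpow] at hu
    obtain ⟨j, hj⟩ := hzfrE _ (QuotientGroup.eq.mp hu.symm)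
    exact ⟨j, by rw [hj, mul_inv_cancel_left]⟩
  have hQfn : F.IsFullyNormalized Q := by
    refine fullyNormalized_of_weaklyClosed ⟨hQS, fun φ hφ => ?_⟩
    rw [Fn.range_eq_img fun u => (ofHom_coe φ u).symm]
    refine (fn_ofHom hφ).img_eq_self fun u hu => ?_
    have hf := fn_ofHom hφ
    obtain ⟨c, hc, e, he, rfl⟩ := hdec u hu
    have hfe : ∀ e' ∈ E, ofHom φ e' ∈ E := fun e' he' =>
      (stronglyClosed_iff_fn.1 hEsc).2 _ _ hf _ (hEQ he') he'
    rw [hf.map_mul (hCQ hc) (hEQ he)]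
    refine Q.mul_mem (hCQ ⟨hf.mem (hCQ hc), Subgroup.mem_centralizer_iff.mpr fun e' he' => ?_⟩) (hEQ (hfe e he))
    obtain ⟨e'', he'', rfl⟩ := (hf.mono hEQ).mem_img.1 (((hf.mono hEQ).img_eq_self hfe).ge he')
    rw [← hf.map_mul (hEQ he'') (hCQ hc), ← hf.map_mul (hCQ hc) (hEQ he''),
      Subgroup.mem_centralizer_iff.mp hc.2 _ he'']
  let L : Subgroup S := (((Subgroup.zpowers v).comap (QuotientGroup.mk' (frattini E))).map E.subtype).subgroupOf S
  have hLmem : ∀ (e : E), (⟨(e : Ω), hES' e.2⟩ : S) ∈ L ↔ (e : E ⧸ frattini E) ∈ Subgroup.zpowers v := fun e => by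
    constructor
    · rintro ⟨e', he', h⟩
      rwa [show e = e' from Subtype.ext h.symm]
    · exact fun h => ⟨e, h, rfl⟩
  have hLE : ∀ u ∈ L, ((u : S) : Ω) ∈ E := by
    rintro u ⟨e, -, he⟩
    rw [show (u : Ω) = e from he.symm]
    exact e.2
  have hρres : ∀ (s : S) (hsN : (s : Ω) ∈ Subgroup.normalizer (Q : Set Ω)),
      π ⟨conjAut Q hsN, autInducedBy_le_autGroup hQS (conjAut_mem_autInducedBy hsN s.2)⟩ = ρ s := fun s hsN => by
    refine congrArg PGroup.FrattiniAct.quot (MulEquiv.ext fun e => Subtype.ext ?_)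
    rw [hres', hκ]
    exact (autFn_coe _ (⟨(e : Ω), hEQ e.2⟩ : Q)).trans (conjAut_coe hsN _)
  have hQn : ∀ s ∈ S, s ∈ Subgroup.normalizer (Q : Set Ω) := fun s hs => by
    have hcj : ∀ s ∈ S, ∀ q ∈ Q, s * q * s⁻¹ ∈ Q := fun s hs q hq =>
      (hmemQ _ (S.mul_mem (S.mul_mem hs (hQS hq)) (S.inv_mem hs))).2 (by
        rw [show (⟨s * q * s⁻¹, S.mul_mem (S.mul_mem hs (hQS hq)) (S.inv_mem hs)⟩ : S) =
          ⟨s, hs⟩ * ⟨q, hQS hq⟩ * ⟨s, hs⟩⁻¹ from rfl, map_mul, map_mul, (hmemQ q (hQS hq)).1 hq, mul_one,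
          map_inv, mul_inv_cancel])
    rw [Subgroup.mem_normalizer_iff]
    refine fun q => ⟨hcj s hs q, fun h => ?_⟩
    simpa [mul_assoc] using hcj s⁻¹ (S.inv_mem hs) _ h
  have hCinv : ∀ (a : F.autGroup Q), ∀ u : Q, (u : Ω) ∈ C → (((a : MulAut Q) u : Q) : Ω) ∈ C := fun a u hu => by
    refine ⟨hQS ((a : MulAut Q) u).2, Subgroup.mem_centralizer_iff.mpr fun e he => ?_⟩
    obtain ⟨e', he'⟩ := (res a).surjective ⟨e, he⟩
    have h1 : (⟨(e' : Ω), hEQ e'.2⟩ : Q) * u = u * ⟨(e' : Ω), hEQ e'.2⟩ :=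
      Subtype.ext (Subgroup.mem_centralizer_iff.mp hu.2 _ e'.2)
    have h2 := congrArg (fun x : Q => (((a : MulAut Q) x : Q) : Ω)) h1
    have h3 : (((a : MulAut Q) ⟨(e' : Ω), hEQ e'.2⟩ : Q) : Ω) = e := by
      rw [← autFn_coe (a : MulAut Q) ⟨(e' : Ω), hEQ e'.2⟩, ← hres', he']
    simp only [map_mul, Subgroup.coe_mul, h3] at h2
    exact h2
  have hCfix : ∀ (a : F.autGroup Q), res a zE = zE → ∀ (c : Ω) (hc : c ∈ C),
      ((a : MulAut Q) ^ Nat.card C) ⟨c, hCQ hc⟩ = ⟨c, hCQ hc⟩ := fun a ha c hc => by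
    set C' := C.subgroupOf Q
    haveI : IsCyclic C' := isCyclic_of_surjective _ (Subgroup.subgroupOfEquivOfLe hCQ).symm.surjective
    have hfz : (a : MulAut Q) (⟨z, hEQ hzE⟩ : Q) = ⟨z, hEQ hzE⟩ := Subtype.ext (by
      rw [← autFn_coe, ← hres' a zE, ha])
    have hcf := RankTwo.cyclic_fix (p := p) (C := C') ((hS.to_le hQS).to_subgroup C')
      (fun u hu => hCinv a u hu) (z := (⟨z, hEQ hzE⟩ : Q)) hzC (by rw [← Subgroup.orderOf_coe]; exact hzo) hfz
    rw [← Nat.card_congr (Subgroup.subgroupOfEquivOfLe hCQ).toEquiv]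
    exact hcf _ hc
  have hKp : IsPGroup p ↥((Subgroup.zpowers τ).comap π) := isPGroup_of_forall_coprime fun b hcop => by
    have hπ1 : π (b : F.autGroup Q) = 1 := by
      obtain ⟨i, hi⟩ := Subgroup.mem_zpowers_iff.mp b.2
      have hp1 : π (b : F.autGroup Q) ^ p = 1 := by
        rw [← hi, ← zpow_natCast, ← zpow_mul, mul_comm, zpow_mul, zpow_natCast, hτpow, one_zpow]
      have hd : orderOf (π (b : F.autGroup Q)) ∣ orderOf b := by
        rw [← Subgroup.orderOf_coe b]; exact orderOf_map_dvd π _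
      exact orderOf_eq_one_iff.mp (Nat.eq_one_of_dvd_coprimes hcop hd (orderOf_dvd_of_pow_eq_one hp1))
    have hres1 : res (b : F.autGroup Q) = 1 := PGroup.FrattiniAct.eq_one_of_quot hEp
      (hcop.coprime_dvd_left (by rw [← Subgroup.orderOf_coe b]; exact orderOf_map_dvd res _)) hπ1
    have hfixE : ∀ e : E, autFn ((b : F.autGroup Q) : MulAut Q) (e : Ω) = e := fun e => by
      rw [← hres', hres1]; rfl
    have hcf := hCfix (b : F.autGroup Q) (by rw [hres1]; rfl)
    obtain ⟨n, hn⟩ := exists_pow_eq_self_of_coprime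
      (show (Nat.card C).Coprime (orderOf ((b : F.autGroup Q) : MulAut Q)) by
        obtain ⟨k, hk⟩ := IsPGroup.iff_card.mp (hS.to_le (inf_le_left : C ≤ S))
        rw [hk, Subgroup.orderOf_coe, Subgroup.orderOf_coe]
        exact (hcop.pow_right k).symm)
    refine Subtype.ext (Subtype.ext (MulEquiv.ext fun u => Subtype.ext ?_))
    obtain ⟨c, hc, e, he, hu⟩ := hdec u u.2
    show (((((b : F.autGroup Q) : MulAut Q)) u : Q) : Ω) = u
    rw [show u = (⟨c, hCQ hc⟩ : Q) * ⟨e, hEQ he⟩ from Subtype.ext hu, map_mul, Subgroup.coe_mul, Subgroup.coe_mul]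
    congr 1
    · rw [← hn]
      have hst : ((b : F.autGroup Q) : MulAut Q) ^ Nat.card C ∈ MulAction.stabilizer (MulAut Q) (⟨c, hCQ hc⟩ : Q) :=
        hcf c hc
      exact congrArg Subtype.val (pow_mem hst n)
    · rw [← autFn_coe]; exact hfixE ⟨e, he⟩
  -- the eigenvalue argument
  have contra : ∀ (a : F.autGroup Q) (l m β ν : ℤ) (y : E ⧸ frattini E), y ∉ Subgroup.zpowers v → π a v = v ^ l →
      (∃ j : ℤ, π a y = v ^ j * y ^ m) → res a zE = zE ^ β → (ν : ZMod p) * m = l → (ν : ZMod p) ≠ l →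
      (ν : ZMod p) ≠ β →
      ((C ≤ E) ∨ ((∀ c ∈ C, autFn (a : MulAut Q) c = c) ∧ (ν : ZMod p) ≠ 1)) → False := by
    intro a l m β ν y hy hav hay haz hνm hνl hνβ hC
    obtain ⟨c, hc⟩ := Subgroup.mem_zpowers_iff.mp (hsh y)
    have hτy : τ y = y * v ^ c := by rw [hc, mul_inv_cancel_left]
    set ν' := (ν : ZMod p).val
    have hν' : τ ^ ν' = τ ^ ν := by
      rw [← zpow_natCast]
      exact zpow_congr (hτpow _) (by push_cast; rw [ZMod.natCast_zmod_val])
    have hcomm := comm_of_card (p := p) hcardV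
    -- conjugation of `τ`
    have hconj : π a * τ = τ ^ ν * π a := by
      rw [← hν']
      obtain ⟨j, hj⟩ := hay
      obtain ⟨h1, h2⟩ := pow_shift (s := v ^ c) hτv hτy (by rw [map_zpow, hτv]) ν'
      refine MulEquiv.ext fun u => ?_
      obtain ⟨i, k, rfl⟩ := exists_coords hcardV hexpV hv1 hy u
      have e1 : (π a * τ) v = (τ ^ ν' * π a) v := by
        rw [MulAut.mul_apply, MulAut.mul_apply, hτv, hav, map_zpow, h1]
      have e2 : (π a * τ) y = (τ ^ ν' * π a) y := by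
        rw [MulAut.mul_apply, MulAut.mul_apply, hτy, map_mul, map_zpow, hav, hj, map_mul, map_zpow, map_zpow, h1, h2,
          (show Commute y _ from hcomm _ _).mul_zpow, mul_assoc]
        congr 2
        rw [← zpow_mul, ← zpow_natCast (v ^ c), ← zpow_mul, ← zpow_mul]
        refine zpow_congr (hexpV v) ?_
        push_cast
        rw [ZMod.natCast_zmod_val]
        linear_combination -(c : ZMod p) * hνm
      rw [map_mul, map_zpow, map_zpow, e1, e2, ← map_zpow, ← map_zpow, ← map_mul]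
    -- the Sylow subgroup is the preimage of `τ`
    let K : Subgroup (F.autGroup Q) := (Subgroup.zpowers τ).comap π
    obtain ⟨⟨-, TS, hTS⟩, -⟩ := fullyNormalized_good hS hF hQfn
    have hTK : (TS : Subgroup (F.autGroup Q)) ≤ K := by
      rw [hTS]
      intro α hα
      obtain ⟨s, hs, hsα⟩ := mem_autInducedBy.1 (show (α : MulAut Q) ∈ autInducedBy S Q from hα)
      have hα' : α = ⟨conjAut Q (hQn s hs), autInducedBy_le_autGroup hQS (conjAut_mem_autInducedBy (hQn s hs) hs)⟩ :=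
        Subtype.ext (MulEquiv.ext fun u => Subtype.ext (by rw [hsα u]; rfl))
      show π α ∈ Subgroup.zpowers τ
      rw [hα', hρres ⟨s, hs⟩ (hQn s hs), ← hτρ]
      exact ⟨_, rfl⟩
    have hKT : K = TS := TS.3 hKp hTK
    have hnorm : ∀ α ∈ (TS : Subgroup (F.autGroup Q)), a * α * a⁻¹ ∈ (TS : Subgroup (F.autGroup Q)) := by
      intro α hα
      rw [← hKT] at hα ⊢
      obtain ⟨i, hi⟩ := Subgroup.mem_zpowers_iff.mp (show π α ∈ Subgroup.zpowers τ from hα)
      show π (a * α * a⁻¹) ∈ Subgroup.zpowers τ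
      rw [map_mul, map_mul, map_inv, ← hi, ← conj_zpow, hconj, mul_inv_cancel_right]
      exact Subgroup.zpow_mem _ (Subgroup.zpow_mem _ (Subgroup.mem_zpowers τ) ν) i
    -- extend
    obtain ⟨N, g, hg, hQN, hN, hge⟩ := receptive_extend (fullyNormalized_receptive hS hF hQfn)
      ((mem_autGroup_iff_fn hQS).1 a.2) (img_autFn (a : MulAut Q))
    have hSN : ∀ n ∈ S, n ∈ N := fun n hn => by
      refine (hN n).2 ?_
      have hb : (⟨conjAut Q (hQn n hn), autInducedBy_le_autGroup hQS (conjAut_mem_autInducedBy (hQn n hn) hn)⟩ : F.autGroup Q)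
          ∈ (TS : Subgroup (F.autGroup Q)) := by
        rw [hTS]; exact conjAut_mem_autInducedBy (hQn n hn) hn
      have h1 := hnorm _ hb
      rw [hTS] at h1
      obtain ⟨w, hw, hwx⟩ := mem_autInducedBy.1 (show _ ∈ autInducedBy S Q from h1)
      refine ⟨hn, hQn n hn, w, hw, fun u hu => ?_⟩
      lift u to Q using hu
      have h : (((a : MulAut Q) (conjAut Q (hQn n hn) u) : Q) : Ω) = w * (((a : MulAut Q) u : Q) : Ω) * w⁻¹ := by
        rw [← hwx ((a : MulAut Q) u)]
        exact congrArg (fun y : Q => (((a : MulAut Q) (conjAut Q (hQn n hn) y) : Q) : Ω))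
          (MulAut.inv_apply_self Q (a : MulAut Q) u).symm
      rw [← conjAut_coe (hQn n hn) u, autFn_coe, autFn_coe]
      exact h
    let g' : S →* S := MonoidHom.mk' (fun s => ⟨g s, hg.mem (hSN s s.2)⟩)
      fun s s' => Subtype.ext (hg.map_mul (hSN s s.2) (hSN s' s'.2))
    have hgres : ∀ e : E, g (e : Ω) = ((res a e : E) : Ω) := fun e => by
      rw [hge _ (hEQ e.2), hres']
    have hρg : ρ (g' ⟨x, hxS⟩) = τ ^ ν := by
      have h1 : ρ (g' ⟨x, hxS⟩) * π a = π a * τ := by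
        refine MulEquiv.ext fun u => ?_
        obtain ⟨e, rfl⟩ := QuotientGroup.mk'_surjective (frattini E) u
        rw [MulAut.mul_apply, MulAut.mul_apply, QuotientGroup.mk'_apply, hπ, hρ, hτdef, hρ, hπ]
        congr 1
        apply Subtype.ext
        rw [hκ, ← hgres, ← hgres, hκ]
        exact (hg.map_conj (hSN x hxS) (hSN _ (hES' e.2))).symm
      rw [hconj] at h1
      exact mul_right_cancel h1
    set xS : S := ⟨x, hxS⟩
    obtain ⟨q, hq, hgx⟩ : ∃ q : S, (q : Ω) ∈ Q ∧ g' xS = xS ^ ν * q := ⟨(xS ^ ν)⁻¹ * g' xS, (hmemQ _ (SetLike.coe_mem _)).2 (by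
      rw [Subtype.coe_eta, map_mul, map_inv, map_zpow, hρg, ← hτdef, inv_mul_cancel]), (mul_inv_cancel_left _ _).symm⟩
    let E0 : Subgroup S := E.subgroupOf S
    haveI : E0.Normal := ⟨fun e he s => sc_conj hEsc s.2 he⟩
    have hLfix : ∀ (s : S) (u : S), u ∈ L → ⁅s, u⁆ ∈ Subgroup.center S := by
      intro s u hu
      obtain ⟨e, he, heu⟩ := hu
      obtain ⟨i, hi⟩ := Subgroup.mem_zpowers_iff.mp (show (e : E ⧸ frattini E) ∈ Subgroup.zpowers v from he)
      have h1 : κ s e * e⁻¹ ∈ frattini E := by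
        rw [← QuotientGroup.eq_one_iff, QuotientGroup.mk_mul, QuotientGroup.mk_inv, ← hρ, ← hi, map_zpow, hρv,
          mul_inv_cancel]
      rw [hfrz] at h1
      obtain ⟨k, hk⟩ := Subgroup.mem_zpowers_iff.mp h1
      have he2 : ((⁅s, u⁆ : S) : Ω) = z ^ k := by
        rw [hk, Subgroup.coe_mul, Subgroup.coe_inv, hκ]
        have hh : (e : Ω) = u := heu
        simp [commutatorElement_def, hh]
      refine Subgroup.mem_center_iff.mpr fun t => Subtype.ext ?_
      rw [Subgroup.coe_mul, Subgroup.coe_mul, he2]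
      exact (Commute.zpow_right (hzc t t.2) k).eq
    haveI : L.Normal := ⟨fun u hu s => by
      obtain ⟨e, he, heu⟩ := hu
      obtain ⟨i, hi⟩ := Subgroup.mem_zpowers_iff.mp (show (e : E ⧸ frattini E) ∈ Subgroup.zpowers v from he)
      refine ⟨κ s e, ?_, ?_⟩
      · show ((κ s e : E) : E ⧸ frattini E) ∈ Subgroup.zpowers v
        rw [← hρ, ← hi, map_zpow, hρv]
        exact Subgroup.zpow_mem _ (Subgroup.mem_zpowers v) i
      · show ((κ s e : E) : Ω) = (((s * u * s⁻¹ : S)) : Ω)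
        rw [hκ, show (e : Ω) = (u : Ω) from heu]; rfl⟩
    have hpm : ∀ (y e : S) (k : ℤ), e ∈ E0 → (y ^ k * e) ^ p = (y ^ k) ^ p := fun y e k he =>
      pow_mul_of_small (p := p) (G := S) (by omega) (E := E0) (L := L) (Z := Subgroup.center S) le_rfl
        (fun u hu => hLE u hu) (fun u hu => Subtype.ext (by simpa using hEexp _ hu))
        (fun s u hu => by
          let uE : E := ⟨(u : Ω), hu⟩
          have h1 : ((κ s uE * uE⁻¹ : E) : E ⧸ frattini E) ∈ Subgroup.zpowers v := by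
            rw [QuotientGroup.mk_mul, QuotientGroup.mk_inv, ← hρ, hcomm]
            exact hρsh s _
          exact ⟨_, h1, by
            show ((κ s uE * uE⁻¹ : E) : Ω) = ((⁅s, u⁆ : S) : Ω)
            rw [Subgroup.coe_mul, Subgroup.coe_inv, hκ]
            simp [uE, commutatorElement_def]⟩)
        hLfix he k
    -- adjust the element
    obtain ⟨d, hd, e1, he1, hgx1, hxpE⟩ : ∃ d : S, (d : Ω) ∈ C ∧ ∃ e : S, e ∈ E0 ∧ g' (xS * d) = (xS * d) ^ ν * e ∧
        (xS * d) ^ p ∈ E0 := by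
      rcases hC with hCle | ⟨hCfix, hν1⟩
      · have hQE : ∀ u ∈ Q, u ∈ E := fun u hu => by
          obtain ⟨c, hc, e, he, rfl⟩ := hdec u hu
          exact E.mul_mem (hCle hc) he
        refine ⟨1, C.one_mem, q, hQE _ hq, by rw [mul_one, hgx], ?_⟩
        rw [mul_one]
        exact hQE _ ((hmemQ _ (xS ^ p).2).2 (by rw [Subtype.coe_eta, map_pow]; exact hτpow _))
      · obtain ⟨c', hc', e', he', hqce⟩ := hdec _ hq
        have hCcomm : ∀ u w : Ω, u ∈ C → w ∈ C → Commute u w := fun u w hu hw => by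
          haveI := hCcyc
          letI : CommGroup C := IsCyclic.commGroup
          exact congrArg Subtype.val (mul_comm (⟨u, hu⟩ : C) ⟨w, hw⟩)
        have hgC : ∀ u ∈ C, g u = u := fun u hu => by rw [hge u (hCQ hu)]; exact hCfix u hu
        have hxC : ∀ u ∈ C, Commute x u := by
          intro u hu
          have hu' : x * u * x⁻¹ ∈ C := by
            refine ⟨S.mul_mem (S.mul_mem hxS hu.1) (S.inv_mem hxS), Subgroup.mem_centralizer_iff.mpr fun e he => ?_⟩
            have h1 : x⁻¹ * e * x ∈ E := by simpa using sc_conj hEsc (S.inv_mem hxS) he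
            calc e * (x * u * x⁻¹) = x * ((x⁻¹ * e * x) * u) * x⁻¹ := by group
              _ = x * (u * (x⁻¹ * e * x)) * x⁻¹ := by rw [Subgroup.mem_centralizer_iff.mp hu.2 _ h1]
              _ = x * u * x⁻¹ * e := by group
          have h2 : g x * u * (g x)⁻¹ = x * u * x⁻¹ := by
            rw [← hgC _ hu', hg.map_conj (hSN x hxS) (hSN u hu.1), hgC u hu]
          have h3 : g x = x ^ ν * (c' * e') := by
            have h := congrArg Subtype.val hgx
            rw [Subgroup.coe_mul, Subgroup.coe_zpow, hqce] at h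
            exact h
          have hqu : Commute (c' * e') u :=
            (hCcomm c' u hc' hu).mul_left (Subgroup.mem_centralizer_iff.mp hu.2 e' he')
          have h4 : x ^ (ν - 1) * u = u * x ^ (ν - 1) := by
            rw [h3, show x ^ ν * (c' * e') * u * (x ^ ν * (c' * e'))⁻¹ =
              x ^ ν * ((c' * e') * u * (c' * e')⁻¹) * (x ^ ν)⁻¹ by group, hqu.eq, mul_inv_cancel_right] at h2
            calc x ^ (ν - 1) * u = x⁻¹ * (x ^ ν * u * (x ^ ν)⁻¹) * x ^ ν := by group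
              _ = x⁻¹ * (x * u * x⁻¹) * x ^ ν := by rw [h2]
              _ = u * x ^ (ν - 1) := by group
          have hxpQ : x ^ p ∈ Q := (hmemQ _ (S.pow_mem hxS p)).2 (by
            rw [show (⟨x ^ p, S.pow_mem hxS p⟩ : S) = ⟨x, hxS⟩ ^ p from rfl, map_pow]; exact hτpow _)
          obtain ⟨c1, hc1, f1, hf1, hxp1⟩ := hdec _ hxpQ
          have h5 : x ^ p ∈ Subgroup.centralizer ({u} : Set Ω) := Subgroup.mem_centralizer_singleton_iff.mpr (by
            rw [hxp1]
            exact ((hCcomm c1 u hc1 hu).mul_left (Subgroup.mem_centralizer_iff.mp hu.2 f1 hf1)).eq)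
          exact Subgroup.mem_centralizer_singleton_iff.mp (mem_zpowers_of_zpow_mem h5 (i := ν - 1)
            (by push_cast; exact sub_ne_zero.mpr hν1) (Subgroup.mem_centralizer_singleton_iff.mpr h4))
        obtain ⟨m', hm'⟩ := IsPGroup.iff_card.mp (hS.to_le (inf_le_left : C ≤ S))
        obtain ⟨u, w, huw⟩ : IsCoprime (ν - 1) ((p : ℤ) ^ m') := by
          refine IsCoprime.pow_right ((Nat.prime_iff_prime_int.mp hp.out).coprime_iff_not_dvd.mpr fun hd => hν1 ?_).symm
          have := (ZMod.intCast_zmod_eq_zero_iff_dvd _ _).mpr hd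
          push_cast at this
          exact sub_eq_zero.mp this
        have hCpow : ∀ k ∈ C, (k ^ u) ^ (ν - 1) = k := fun k hk => by
          have hkp : k ^ ((p : ℤ) ^ m') = 1 := by
            rw [← Nat.cast_pow, zpow_natCast, ← hm']
            exact congrArg Subtype.val (pow_card_eq_one' (x := (⟨k, hk⟩ : C)))
          conv_rhs => rw [← zpow_one k, ← huw, zpow_add, mul_comm w, zpow_mul k _ w, hkp, one_zpow, mul_one]
          rw [← zpow_mul]
        set dS : S := ⟨c' ^ u, S.zpow_mem hc'.1 u⟩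
        have hdC : c' ^ u ∈ C := C.zpow_mem hc' u
        have hxd : Commute xS dS := Subtype.ext (hxC _ hdC).eq
        have hgd : g' dS = dS := Subtype.ext (hgC _ hdC)
        have hgx1 : g' (xS * dS) = (xS * dS) ^ ν * ⟨e', hES' he'⟩ := by
          rw [map_mul, hgx, hgd, hxd.mul_zpow]
          apply Subtype.ext
          simp only [Subgroup.coe_mul, Subgroup.coe_zpow, hqce, dS]
          rw [show x ^ ν * (c' * e') * c' ^ u = x ^ ν * (c' * (e' * c' ^ u)) by group,
            Subgroup.mem_centralizer_iff.mp hdC.2 e' he', ← mul_assoc c',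
            show c' * c' ^ u = (c' ^ u) ^ ν by
              conv_lhs => rw [show c' = (c' ^ u) ^ (ν - 1) from (hCpow c' hc').symm]
              rw [hCpow c' hc']
              calc c' * c' ^ u = (c' ^ u) ^ (ν - 1) * (c' ^ u) := by rw [hCpow c' hc']
                _ = _ := by rw [← zpow_add_one, sub_add_cancel]]
          group
          rfl
        refine ⟨dS, hdC, ⟨e', hES' he'⟩, he', hgx1, ?_⟩
        -- the `p`-th power lies in `E`
        set x1 := xS * dS
        have hx1Q : ((x1 ^ p : S) : Ω) ∈ Q := (hmemQ _ (SetLike.coe_mem _)).2 (by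
          rw [Subtype.coe_eta, map_pow]; exact hτpow _)
        obtain ⟨c2, hc2, e2, he2, hx1p⟩ := hdec _ hx1Q
        set c2S : S := ⟨c2, hc2.1⟩
        set e2S : S := ⟨e2, hES' he2⟩
        have hsplit : x1 ^ p = c2S * e2S := Subtype.ext hx1p
        have h6 : c2S * g' e2S = c2S ^ ν * e2S ^ ν := by
          have h7 : g' (x1 ^ p) = (x1 ^ p) ^ ν := by
            rw [map_pow, hgx1, hpm x1 ⟨e', hES' he'⟩ ν he', ← zpow_natCast, ← zpow_mul, mul_comm, zpow_mul, zpow_natCast]
          rw [hsplit, map_mul, show g' c2S = c2S from Subtype.ext (hgC _ hc2),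
            (show Commute c2S e2S from Subtype.ext (Subgroup.mem_centralizer_iff.mp hc2.2 e2 he2).symm).mul_zpow] at h7
          exact h7
        have hge2 : ((g' e2S : S) : Ω) ∈ E := by
          show g e2 ∈ E
          rw [hgres ⟨e2, he2⟩]
          exact SetLike.coe_mem _
        have h8 : c2S ^ (ν - 1) ∈ E0 := by
          have h9 : g' e2S * (e2S ^ ν)⁻¹ = c2S ^ (ν - 1) := by
            rw [zpow_sub_one, ((Commute.refl c2S).zpow_left ν).inv_right.eq, eq_inv_mul_iff_mul_eq, ← mul_assoc, h6,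
              mul_inv_cancel_right]
          rw [← h9]
          exact E0.mul_mem hge2 (E0.inv_mem (E0.zpow_mem he2 ν))
        have h10 : c2 ∈ E := by
          have h11 : (c2 ^ u) ^ (ν - 1) ∈ E := by
            rw [← zpow_mul, mul_comm, zpow_mul]
            exact E.zpow_mem h8 u
          rwa [hCpow c2 hc2] at h11
        show ((x1 ^ p : S) : Ω) ∈ E
        rw [hx1p]
        exact E.mul_mem h10 he2
    set x1 := xS * d with hx1
    have hρx1 : ρ x1 = τ := by
      rw [hx1, map_mul, show ρ d = 1 from (hmemQ _ d.2).1 (hCQ hd), mul_one]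
    set w : E := ⟨((x1 ^ p : S) : Ω), hxpE⟩
    have hwfix : τ (w : E ⧸ frattini E) = w := by
      rw [← hρx1, hρ]
      congr 1
      apply Subtype.ext
      rw [hκ]
      show (x1 : Ω) * ((x1 ^ p : S) : Ω) * (x1 : Ω)⁻¹ = ((x1 ^ p : S) : Ω)
      rw [Subgroup.coe_pow, ← pow_succ', pow_succ, mul_inv_cancel_right]
    obtain ⟨i, hi⟩ := Subgroup.mem_zpowers_iff.mp (hfix _ hwfix)
    obtain ⟨j, hwj⟩ := hlift w i hi.symm
    obtain ⟨n, hvn⟩ := hlift (res a vE) l (by rw [← hπ, ← QuotientGroup.mk'_apply, hvE, hav])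
    have hzcm : ∀ u : E, Commute zE u := fun u =>
      (Subgroup.mem_center_iff.mp (hzgen.le (Subgroup.mem_zpowers zE)) u).symm
    have hgw : res a w = w ^ ν := by
      apply Subtype.ext
      rw [← hgres, Subgroup.coe_zpow]
      show ((g' (x1 ^ p) : S) : Ω) = ((x1 ^ p : S) : Ω) ^ ν
      rw [map_pow, hgx1, hpm x1 e1 ν he1, ← zpow_natCast, ← zpow_mul, mul_comm, zpow_mul, zpow_natCast,
        Subgroup.coe_zpow]
    rw [hwj, map_mul, map_zpow, map_zpow, hvn, haz, (show Commute (vE ^ l) (zE ^ n) from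
      ((hzcm _).symm).zpow_right n).mul_zpow, mul_assoc, ← zpow_mul, ← zpow_mul, ← zpow_mul, ← zpow_add,
      (show Commute (vE ^ i) (zE ^ j) from ((hzcm _).symm).zpow_right j).mul_zpow, ← zpow_mul, ← zpow_mul] at hgw
    have hvEp : vE ^ p = 1 := Subtype.ext (by simpa using hEexp _ vE.2)
    have h2 : v ^ (l * i) = v ^ (i * ν) := by
      have := congrArg (fun u : E => (u : E ⧸ frattini E)) hgw
      simpa [QuotientGroup.mk_mul, hzF, QuotientGroup.mk_zpow, show (vE : E ⧸ frattini E) = v from hvE] using this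
    have hi0 : (i : ZMod p) = 0 := by
      have h := cast_eq_of_zpow_eq (hexpV v) hv1 h2
      push_cast at h
      by_contra hne
      exact hνl (mul_left_cancel₀ hne (by linear_combination -h))
    rw [zpow_congr hvEp (a := l * i) (b := 0) (by push_cast; rw [hi0, mul_zero]), zpow_zero, one_mul,
      zpow_congr hvEp (a := i * ν) (b := 0) (by push_cast; rw [hi0, zero_mul]), zpow_zero, one_mul] at hgw
    have hj0 : (j : ZMod p) = 0 := by
      have h := cast_eq_of_zpow_eq hzEp hzE1 hgw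
      push_cast at h
      rw [hi0, mul_zero, zero_add] at h
      by_contra hne
      exact hνβ (mul_left_cancel₀ hne (by linear_combination -h))
    have hw1 : w = 1 := by
      rw [hwj, zpow_congr hvEp (hi0.trans Int.cast_zero.symm), zpow_zero, one_mul,
        zpow_congr hzEp (hj0.trans Int.cast_zero.symm), zpow_zero]
    have hx1E : (x1 : Ω) ∈ E := (hEmem _).2 ⟨x1.2, by
      have := congrArg (fun u : E => (u : Ω)) hw1
      simpa [w] using this⟩
    exact hτ1 (hρx1 ▸ (hmemQ _ x1.2).1 (hEQ hx1E))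
  -- two-sided inverse of `2`
  obtain ⟨k2, hk2⟩ : ∃ k, p = 2 * k + 1 := hp.out.odd_of_ne_two hp2
  set m : ℤ := ((k2 + 1 : ℕ) : ℤ)
  have h2m : ((2 : ℤ) : ZMod p) * (m : ZMod p) = 1 := by
    have h : ((2 * (k2 + 1) : ℕ) : ZMod p) = ((1 + p : ℕ) : ZMod p) := by congr 1; omega
    push_cast at h
    rw [ZMod.natCast_self, add_zero] at h
    simpa [m] using h
  have hne' : ∀ a b : ℤ, ¬ (p : ℤ) ∣ a - b → (a : ZMod p) ≠ b := fun a b h => RankTwo.cast_ne h
  have hndvd : ∀ k : ℕ, 0 < k → k < p → ¬ (p : ℤ) ∣ (k : ℤ) := fun k h1 h2 h => by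
    have := Nat.le_of_dvd h1 (Int.natCast_dvd_natCast.mp h)
    omega
  -- automorphisms of `Q` fix the line
  have hB : ∀ a : F.autGroup Q, π a v ∈ Subgroup.zpowers v := by
    intro a0
    by_contra hmov
    have hxN : x ∈ Subgroup.normalizer (Q : Set Ω) := hQn x hxS
    have hτA : τ ∈ π.range := ⟨_, hρres ⟨x, hxS⟩ hxN⟩
    obtain ⟨h, ⟨a, rfl⟩, hhv, hhy⟩ := exists_diag hcardV hexpV π.range hτA ⟨a0, rfl⟩ hτ1 hv1 hτv hsh hmov 2 m h2m
    set y := π a0 v
    obtain ⟨yE, hyE⟩ := QuotientGroup.mk'_surjective (frattini E) y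
    obtain ⟨n, hn⟩ := hlift (res a vE) 2 (by rw [← hπ, ← QuotientGroup.mk'_apply, hvE, hhv])
    obtain ⟨n', hn'⟩ : ∃ n' : ℤ, res a yE = yE ^ m * zE ^ n' := by
      have h1 : (res a yE : E ⧸ frattini E) = (yE : E ⧸ frattini E) ^ m := by
        rw [← hπ, ← QuotientGroup.mk'_apply, hyE, hhy]
      rw [← QuotientGroup.mk_zpow] at h1
      obtain ⟨j, hj⟩ := hzfrE _ (QuotientGroup.eq.mp h1.symm)
      exact ⟨j, by rw [hj, mul_inv_cancel_left]⟩
    have hzcm : ∀ u : E, Commute zE u := fun u =>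
      (Subgroup.mem_center_iff.mp (hzgen.le (Subgroup.mem_zpowers zE)) u).symm
    set c := ⁅vE, yE⁆ with hc
    have hcc : ∀ u : E, Commute c u := fun u => (Subgroup.mem_center_iff.mp (hcmE vE yE) u).symm
    have hc1 : c ≠ 1 := fun h => hv1 (by
      rw [← hvE, QuotientGroup.mk'_apply, QuotientGroup.eq_one_iff, hfr]
      refine Subgroup.mem_center_iff.mpr fun u => ?_
      obtain ⟨i, j, hij⟩ := exists_coords hcardV hexpV hv1 hmov (u : E ⧸ frattini E)
      rw [← hvE, ← hyE, ← map_zpow, ← map_zpow, ← map_mul, QuotientGroup.mk'_apply] at hij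
      obtain ⟨r, hr⟩ := hzfrE _ (QuotientGroup.eq.mp hij.symm)
      have hcv : Commute vE yE := commutatorElement_eq_one_iff_commute.mp h
      have hu : Commute vE u := by
        rw [← mul_inv_cancel_left (vE ^ i * yE ^ j) u, ← hr]
        exact (((Commute.refl vE).zpow_right i).mul_right (hcv.zpow_right j)).mul_right ((hzcm vE).symm.zpow_right r)
      exact hu.symm.eq)
    have hbil : ∀ i j : ℤ, ⁅vE ^ i, yE ^ j⁆ = c ^ (i * j) := fun i j => by
      have h1 : vE * yE ^ j * vE⁻¹ = c ^ j * yE ^ j := by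
        rw [← conj_zpow, show vE * yE * vE⁻¹ = c * yE by rw [hc, commutatorElement_def]; group, (hcc yE).mul_zpow]
      have h2 : yE ^ j * vE * (yE ^ j)⁻¹ = (c ^ j)⁻¹ * vE := by
        calc yE ^ j * vE * (yE ^ j)⁻¹ = (c ^ j)⁻¹ * (c ^ j * yE ^ j) * vE * (yE ^ j)⁻¹ := by group
          _ = _ := by rw [← h1]; group
      have h3 : yE ^ j * vE ^ i * (yE ^ j)⁻¹ = (c ^ (i * j))⁻¹ * vE ^ i := by
        rw [← conj_zpow, h2, (((hcc vE).zpow_left j).inv_left).mul_zpow, inv_zpow, ← zpow_mul, mul_comm j]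
      rw [commutatorElement_def, show vE ^ i * yE ^ j * (vE ^ i)⁻¹ * (yE ^ j)⁻¹ =
        vE ^ i * (yE ^ j * vE ^ i * (yE ^ j)⁻¹)⁻¹ by group, h3, mul_inv_rev, inv_inv, mul_inv_cancel_left]
    have hcz : res a c = c := by
      rw [hc, map_commutatorElement, hn, hn']
      have e : ⁅vE ^ (2 : ℤ) * zE ^ n, yE ^ m * zE ^ n'⁆ = ⁅vE ^ (2 : ℤ), yE ^ m⁆ := by
        have h4 := hzcm
        simp only [commutatorElement_def]
        calc vE ^ (2 : ℤ) * zE ^ n * (yE ^ m * zE ^ n') * (vE ^ (2 : ℤ) * zE ^ n)⁻¹ * (yE ^ m * zE ^ n')⁻¹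
            = vE ^ (2 : ℤ) * (zE ^ n * (yE ^ m * zE ^ n')) * (zE ^ n)⁻¹ * (vE ^ (2 : ℤ))⁻¹ * (yE ^ m * zE ^ n')⁻¹ := by group
          _ = vE ^ (2 : ℤ) * yE ^ m * (zE ^ n' * (vE ^ (2 : ℤ))⁻¹) * (zE ^ n')⁻¹ * (yE ^ m)⁻¹ := by
            rw [((h4 _).zpow_left n).eq]; group
          _ = _ := by rw [((h4 _).zpow_left n').eq]; group
      rw [e, hbil, zpow_congr (b := 1) (Subtype.ext (by simpa using hEexp _ c.2) : c ^ p = 1) (by
        push_cast; simpa using h2m), zpow_one]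
    obtain ⟨k, hk⟩ := Subgroup.mem_zpowers_iff.mp (hzgen.ge (hcmE vE yE))
    have hk0 : (k : ZMod p) ≠ 0 := fun h => hc1 (by
      rw [hc, ← hk, zpow_congr hzEp (h.trans Int.cast_zero.symm), zpow_zero])
    have hafix : res a zE = zE := by
      have hz : zE ∈ Subgroup.zpowers c := mem_zpowers_of_zpow_mem (by rw [hzEp]; exact one_mem _) hk0
        (hk.symm ▸ Subgroup.mem_zpowers c)
      obtain ⟨r, hr⟩ := Subgroup.mem_zpowers_iff.mp hz
      rw [← hr, map_zpow, hcz]
    obtain ⟨M, hM⟩ := IsPGroup.iff_card.mp (hS.to_le (inf_le_left : C ≤ S))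
    have hit : ∀ (u : E ⧸ frattini E) (r : ℤ), π a u = u ^ r → π (a ^ Nat.card C) u = u ^ r := fun u r hu => by
      have hi : ∀ N : ℕ, (π a ^ N) u = u ^ (r ^ N) := fun N => by
        induction N with
        | zero => simp
        | succ N ih => rw [pow_succ', MulAut.mul_apply, ih, map_zpow, hu, ← zpow_mul, pow_succ']
      rw [map_pow, hi, hM]
      exact zpow_congr (hexpV u) (by push_cast; rw [ZMod.pow_card_pow])
    refine contra (a ^ Nat.card C) 2 m 1 4 y hmov (hit v 2 hhv) ⟨0, by rw [zpow_zero, one_mul]; exact hit y m hhy⟩ ?_ ?_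
      (hne' 4 2 ?_) (hne' 4 1 ?_) (Or.inr ⟨fun c hc => ?_, hne' 4 1 ?_ |>.trans_eq Int.cast_one⟩)
    · rw [zpow_one, map_pow]
      have hst : res a ∈ MulAction.stabilizer (MulAut E) zE := hafix
      exact pow_mem hst _
    · push_cast at h2m ⊢; linear_combination 2 * h2m
    · simpa using hndvd 2 two_pos (by omega)
    · simpa using hndvd 3 three_pos (by omega)
    · rw [show c = ((⟨c, hCQ hc⟩ : Q) : Ω) from rfl, autFn_coe, Subgroup.coe_pow, hCfix a hafix c hc]
    · simpa using hndvd 3 three_pos (by omega)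
  -- conclusion
  by_cases hle : E ≤ Qe
  · -- `Qe = C E`
    have hQQe : Q ≤ Qe := fun q hq => by
      obtain ⟨c, hc, e, he, rfl⟩ := hdec q hq
      exact Qe.mul_mem (hB0 hle hc) (hle he)
    have hQeQ : Qe ≤ Q := fun s hs => by
      by_contra hsQ
      refine (essential_lt hS hF hQe).not_ge fun r hr => ?_
      obtain ⟨i, hi⟩ := Subgroup.mem_zpowers_iff.mp (hτρ.le ⟨⟨s, hQeS hs⟩, rfl⟩ : ρ ⟨s, hQeS hs⟩ ∈ Subgroup.zpowers τ)
      obtain ⟨j, hj⟩ := Subgroup.mem_zpowers_iff.mp (hτρ.le ⟨⟨r, hr⟩, rfl⟩ : ρ ⟨r, hr⟩ ∈ Subgroup.zpowers τ)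
      have hi0 : (i : ZMod p) ≠ 0 := fun h => hsQ ((hmemQ s (hQeS hs)).2 (by
        rw [← hi, zpow_congr (hτpow _) (h.trans Int.cast_zero.symm), zpow_zero]))
      set u := ((j : ZMod p) * (i : ZMod p)⁻¹).val
      have h1 : ρ ((⟨s, hQeS hs⟩ : S) ^ u)⁻¹ * ρ ⟨r, hr⟩ = 1 := by
        rw [map_inv, map_pow, inv_mul_eq_one, ← hi, ← hj, ← zpow_natCast, ← zpow_mul]
        exact zpow_congr (hτpow _) (by
          push_cast
          rw [ZMod.natCast_zmod_val, mul_left_comm, mul_inv_cancel₀ hi0, mul_one])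
      rw [← map_mul] at h1
      have h2 : (s ^ u)⁻¹ * r ∈ Qe := hQQe ((hmemQ _ (SetLike.coe_mem ((⟨s, hQeS hs⟩ : S) ^ u)⁻¹ |> fun h => S.mul_mem h hr)).2 h1)
      simpa using Qe.mul_mem (Qe.pow_mem hs u) h2
    have hQeq : Qe = Q := le_antisymm hQeQ hQQe
    subst hQeq
    have hxN := hQn x hxS
    refine hnotin x hxS hxN hxQ ((Subgroup.zpowers τ).comap π) ⟨fun a ha g => ?_⟩ hKp ?_
    · obtain ⟨i, hi⟩ := Subgroup.mem_zpowers_iff.mp (show π a ∈ Subgroup.zpowers τ from ha)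
      show π (g * a * g⁻¹) ∈ Subgroup.zpowers τ
      rw [map_mul, map_mul, map_inv, ← hi, ← conj_zpow]
      refine Subgroup.zpow_mem _ ?_ i
      -- a conjugate of `τ` fixes `v` and shifts into its line
      set σ := π g * τ * (π g)⁻¹ with hσ
      have hσv : σ v = v := by
        obtain ⟨r, hr⟩ := Subgroup.mem_zpowers_iff.mp (hB g⁻¹)
        rw [hσ, MulAut.mul_apply, MulAut.mul_apply, ← map_inv, ← hr, map_zpow τ, hτv, hr, map_inv, MulAut.apply_inv_self]
      obtain ⟨y0, hy0⟩ : ∃ y, y ∉ Subgroup.zpowers v := by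
        by_contra h
        push Not at h
        exact hτ1 (MulEquiv.ext fun u => by
          obtain ⟨r, rfl⟩ := Subgroup.mem_zpowers_iff.mp (h u)
          rw [map_zpow, hτv]; rfl)
      have hσsh : y0⁻¹ * σ y0 ∈ Subgroup.zpowers v := by
        set y1 := (π g)⁻¹ y0
        have hgy : π g y1 = y0 := MulAut.apply_inv_self _ _ _
        obtain ⟨r, hr⟩ := Subgroup.mem_zpowers_iff.mp (hsh y1)
        rw [hσ, MulAut.mul_apply, MulAut.mul_apply, ← hgy, MulAut.inv_apply_self, ← map_inv, ← map_mul, ← hr, map_zpow]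
        exact Subgroup.zpow_mem _ (hB g) r
      obtain ⟨r, hr⟩ := Subgroup.mem_zpowers_iff.mp hσsh
      obtain ⟨c0, hc0⟩ := Subgroup.mem_zpowers_iff.mp (hsh y0)
      have hτy0 : τ y0 = y0 * v ^ c0 := by rw [hc0, mul_inv_cancel_left]
      have hc00 : (c0 : ZMod p) ≠ 0 := fun h => hy0 (hfix _ (by
        rw [hτy0, zpow_congr (hexpV v) (h.trans Int.cast_zero.symm), zpow_zero, mul_one]))
      obtain ⟨e1, e2⟩ := pow_shift (s := v ^ c0) hτv hτy0 (by rw [map_zpow, hτv]) ((r : ZMod p) * (c0 : ZMod p)⁻¹).val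
      rw [show σ = τ ^ ((r : ZMod p) * (c0 : ZMod p)⁻¹).val from MulEquiv.ext fun u => by
        obtain ⟨i, j, rfl⟩ := exists_coords hcardV hexpV hv1 hy0 u
        rw [map_mul, map_mul, map_zpow, map_zpow, map_zpow, map_zpow, hσv, e1, e2,
          show σ y0 = y0 * v ^ r by rw [hr, mul_inv_cancel_left]]
        congr 3
        rw [← zpow_natCast, ← zpow_mul]
        refine zpow_congr (hexpV v) ?_
        push_cast
        rw [ZMod.natCast_zmod_val, mul_left_comm, mul_inv_cancel₀ hc00, mul_one]]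
      exact Subgroup.pow_mem _ (Subgroup.mem_zpowers τ) _
    · show π _ ∈ Subgroup.zpowers τ
      rw [hρres ⟨x, hxS⟩ hxN]
      exact Subgroup.mem_zpowers τ
  · -- `Qe` has order `p ^ 2`
    obtain ⟨hQeE, hCle, hQec⟩ := hA0 hle
    have hQsubE : Q ≤ E := fun q hq => by
      obtain ⟨c, hc, e, he, rfl⟩ := hdec q hq
      exact E.mul_mem (hCle hc) he
    haveI hQeab := IsPGroup.isMulCommutative_of_card_eq_prime_sq (p := p) hQec
    have hQeexp : ∀ u : Qe, u ^ p = 1 := fun u => Subtype.ext (by simpa using hEexp _ (hQeE u.2))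
    obtain ⟨t, htE, htN, htQ⟩ : ∃ t ∈ E, t ∈ Subgroup.normalizer (Qe : Set Ω) ∧ t ∉ Qe := by
      by_contra hno
      push Not at hno
      exact hle (le_of_forall_normalizer hS hQeS hES' (hQeS.trans (sc_le_normalizer hEsc)) hno)
    have htS := hES' htE
    let zQ : Qe := ⟨z, hzQe⟩
    have hzQp : zQ ^ p = 1 := Subtype.ext hzp
    have hzQ1 : zQ ≠ 1 := fun h => hz1 (congrArg Subtype.val h)
    set τR : MulAut Qe := conjAut Qe htN with hτR
    have hτRA : τR ∈ F.autGroup Qe := autInducedBy_le_autGroup hQeS (conjAut_mem_autInducedBy htN htS)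
    have hAIp := isPGroup_autInducedBy (P := Qe) hS
    have hAIc := MetaNormal.card_pGroup_le hQec hQeexp _ hAIp
    have hτR1 : τR ≠ 1 := fun h => htQ (centralizer_le_of_centric hQe.1 ⟨htS,
      Subgroup.mem_centralizer_iff.mpr fun u hu => by
        have h1 : t * u * t⁻¹ = u := congrArg (fun f : MulAut Qe => ((f ⟨u, hu⟩ : Qe) : Ω)) h
        exact (mul_inv_eq_iff_eq_mul.mp h1).symm⟩)
    have hτRp : τR ^ p = 1 := by
      obtain ⟨j, hj⟩ := IsPGroup.iff_card.mp hAIp
      rw [hj] at hAIc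
      have hj1 : j ≤ 1 := (Nat.pow_le_pow_iff_right hp.out.one_lt).mp (hAIc.trans (pow_one p).ge)
      have h : (⟨τR, conjAut_mem_autInducedBy htN htS⟩ : autInducedBy S Qe) ^ p = 1 := orderOf_dvd_iff_pow_eq_one.mp
        ((orderOf_dvd_natCard _).trans (hj ▸ by simpa using pow_dvd_pow p hj1))
      exact congrArg Subtype.val h
    have hAIeq : autInducedBy S Qe = Subgroup.zpowers τR :=
      (Subgroup.eq_of_le_of_card_ge (Subgroup.zpowers_le.mpr (conjAut_mem_autInducedBy htN htS))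
        (hAIc.trans (by rw [Nat.card_zpowers, orderOf_eq_prime hτRp hτR1]))).symm
    have hτRz : τR zQ = zQ := Subtype.ext (by
      show t * z * t⁻¹ = z
      rw [hzc t htS, mul_inv_cancel_right])
    obtain ⟨v', hv'1, hv'fix, hv'sh, hv'all⟩ := exists_shift hQec hQeexp hτRp hτR1
    have hzv : Subgroup.zpowers zQ = Subgroup.zpowers v' := Subgroup.eq_of_le_of_card_ge
      (Subgroup.zpowers_le.mpr (hv'all _ hτRz)) (by
        rw [Nat.card_zpowers, Nat.card_zpowers, orderOf_eq_prime hzQp hzQ1, orderOf_eq_prime (hQeexp _) hv'1])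
    have hRsh : ∀ u, u⁻¹ * τR u ∈ Subgroup.zpowers zQ := fun u => hzv ▸ hv'sh u
    obtain ⟨g0, hg0, hg0z⟩ : ∃ g ∈ F.autGroup Qe, g zQ ∉ Subgroup.zpowers zQ := by
      by_contra hno
      push Not at hno
      have hfz : ∀ (a : MulAut Qe), a zQ = zQ → ∀ u ∈ Subgroup.zpowers zQ, a u = u := fun a ha u hu => by
        obtain ⟨i, rfl⟩ := Subgroup.mem_zpowers_iff.mp hu
        rw [map_zpow, ha]
      let M : Subgroup (F.autGroup Qe) :=
        { carrier := {a | (∀ u, u⁻¹ * (a : MulAut Qe) u ∈ Subgroup.zpowers zQ) ∧ (a : MulAut Qe) zQ = zQ}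
          one_mem' := ⟨fun u => by simp, rfl⟩
          mul_mem' := fun {a b} ha hb => ⟨fun u => by
              rw [Subgroup.coe_mul, MulAut.mul_apply,
                show u⁻¹ * (a : MulAut Qe) ((b : MulAut Qe) u) = (u⁻¹ * (b : MulAut Qe) u) *
                  (((b : MulAut Qe) u)⁻¹ * (a : MulAut Qe) ((b : MulAut Qe) u)) by group]
              exact mul_mem (hb.1 u) (ha.1 _),
            by rw [Subgroup.coe_mul, MulAut.mul_apply, hb.2, ha.2]⟩
          inv_mem' := fun {a} ha => by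
            refine ⟨fun u => ?_, ?_⟩
            · have h := inv_mem (ha.1 (((a⁻¹ : F.autGroup Qe) : MulAut Qe) u))
              rw [show (a : MulAut Qe) (((a⁻¹ : F.autGroup Qe) : MulAut Qe) u) = u from MulAut.apply_inv_self Qe _ _,
                mul_inv_rev, inv_inv] at h
              exact h
            · conv_lhs => rw [← ha.2]
              exact MulAut.inv_apply_self Qe _ _ }
      refine hnotin t htS htN htQ M ⟨fun a ha g => ⟨fun u => ?_, ?_⟩⟩ ?_ ⟨hRsh, hτRz⟩
      · set y := ((g⁻¹ : F.autGroup Qe) : MulAut Qe) u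
        have hgy : (g : MulAut Qe) y = u := MulAut.apply_inv_self Qe _ _
        obtain ⟨i, hi⟩ := Subgroup.mem_zpowers_iff.mp (ha.1 y)
        have h2 : (g : MulAut Qe) (y⁻¹ * (a : MulAut Qe) y) ∈ Subgroup.zpowers zQ := by
          rw [← hi, map_zpow]; exact Subgroup.zpow_mem _ (hno g g.2) i
        rw [map_mul, map_inv, hgy] at h2
        exact h2
      · show ((g * a * g⁻¹ : F.autGroup Qe) : MulAut Qe) zQ = zQ
        rw [Subgroup.coe_mul, Subgroup.coe_mul, MulAut.mul_apply, MulAut.mul_apply,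
          hfz _ ha.2 _ (hno _ (g⁻¹).2)]
        exact MulAut.apply_inv_self Qe _ _
      · refine isPGroup_of_forall_coprime fun a hcop => ?_
        have hco : (orderOf ((a : F.autGroup Qe) : MulAut Qe)).Coprime p := by
          rwa [Subgroup.orderOf_coe, Subgroup.orderOf_coe]
        exact Subtype.ext (Subtype.ext (MulEquiv.ext fun u =>
          fixed_of_fixed_shift hQep hco (hfz _ a.2.2 _ (a.2.1 u))))
    obtain ⟨h, hhA, hhz, hhy⟩ := exists_diag hQec hQeexp (F.autGroup Qe) hτRA hg0 hτR1 hzQ1 hτRz hRsh hg0z 2 m h2m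
    set yQ := g0 zQ
    obtain ⟨c, hc⟩ := Subgroup.mem_zpowers_iff.mp (hRsh yQ)
    have hτy : τR yQ = yQ * zQ ^ c := by rw [hc, mul_inv_cancel_left]
    have hqcomm := comm_of_card (p := p) hQec
    have hconj : h * τR = τR ^ 4 * h := by
      obtain ⟨e1, e2⟩ := pow_shift (s := zQ ^ c) hτRz hτy (by rw [map_zpow, hτRz]) 4
      refine MulEquiv.ext fun u => ?_
      obtain ⟨i, j, rfl⟩ := exists_coords hQec hQeexp hzQ1 hg0z u
      have f1 : (h * τR) zQ = (τR ^ 4 * h) zQ := by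
        rw [MulAut.mul_apply, MulAut.mul_apply, hτRz, hhz, map_zpow, e1]
      have f2 : (h * τR) yQ = (τR ^ 4 * h) yQ := by
        rw [MulAut.mul_apply, MulAut.mul_apply, hτy, map_mul, map_zpow, hhz, hhy, map_zpow, e2,
          (show Commute yQ _ from hqcomm _ _).mul_zpow]
        congr 1
        rw [← zpow_mul, ← zpow_natCast, ← zpow_mul, ← zpow_mul]
        refine zpow_congr (hQeexp zQ) ?_
        push_cast at h2m ⊢
        linear_combination -2 * (c : ZMod p) * h2m
      rw [map_mul, map_zpow, map_zpow, f1, f2, ← map_zpow, ← map_zpow, ← map_mul]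
    obtain ⟨N, g, hg, hQN, hN, hge⟩ := receptive_extend (fullyNormalized_receptive hS hF hQe.2.1)
      ((mem_autGroup_iff_fn hQeS).1 hhA) (img_autFn h)
    have hEnQe : ∀ n ∈ E, n ∈ Subgroup.normalizer (Qe : Set Ω) := fun n hn => by
      have hc' : ∀ n ∈ E, ∀ u ∈ Qe, n * u * n⁻¹ ∈ Qe := fun n hn u hu => by
        have h1 : ⁅(⟨n, hn⟩ : E), (⟨u, hQeE hu⟩ : E)⁆ ∈ Subgroup.center E := hcmE _ _
        rw [← hfr, hfrz] at h1
        have h2 := Qe.mul_mem (Subgroup.zpowers_le.mpr hzQe h1) hu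
        simpa [commutatorElement_def] using h2
      rw [Subgroup.mem_normalizer_iff]
      refine fun u => ⟨hc' n hn u, fun h => ?_⟩
      simpa [mul_assoc] using hc' n⁻¹ (E.inv_mem hn) _ h
    have hEN : E ≤ N := fun n hn => by
      refine (hN n).2 ?_
      obtain ⟨i, hi⟩ := Subgroup.mem_zpowers_iff.mp (hAIeq.le (conjAut_mem_autInducedBy (hEnQe n hn) (hES' hn)))
      have h1 : h * conjAut Qe (hEnQe n hn) * h⁻¹ ∈ autInducedBy S Qe := by
        rw [hAIeq, ← hi, ← conj_zpow, hconj, mul_inv_cancel_right]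
        exact Subgroup.zpow_mem _ (Subgroup.pow_mem _ (Subgroup.mem_zpowers τR) 4) i
      obtain ⟨w, hw, hwx⟩ := mem_autInducedBy.1 h1
      refine ⟨hES' hn, hEnQe n hn, w, hw, fun u hu => ?_⟩
      lift u to Qe using hu
      have h2 : ((h (conjAut Qe (hEnQe n hn) u) : Qe) : Ω) = w * ((h u : Qe) : Ω) * w⁻¹ := by
        rw [← hwx (h u)]
        exact congrArg (fun y : Qe => ((h (conjAut Qe (hEnQe n hn) y) : Qe) : Ω))
          (MulAut.inv_apply_self Qe h u).symm
      rw [← conjAut_coe (hEnQe n hn) u, autFn_coe, autFn_coe]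
      exact h2
    have hgQ : Fn F Q g := hg.mono (hQsubE.trans hEN)
    have himg : img g Q = Q := hgQ.img_eq_self fun u hu =>
      hEQ ((stronglyClosed_iff_fn.1 hEsc).2 _ _ hg u (hEN (hQsubE hu)) (hQsubE hu))
    obtain ⟨α, hα, hαg⟩ : ∃ α ∈ F.autGroup Q, ∀ u ∈ Q, autFn α u = g u := by
      obtain ⟨α, hα, hαx⟩ := exists_aut_of_fn hgQ himg
      exact ⟨α, hα, fun u hu => (autFn_coe α ⟨u, hu⟩).trans (hαx ⟨u, hu⟩)⟩
    set a : F.autGroup Q := ⟨α, hα⟩
    have hrg : ∀ e : E, ((res a e : E) : Ω) = g e := fun e => (hres' a e).trans (hαg _ (hEQ e.2))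
    have hgQe : ∀ u : Qe, g (u : Ω) = ((h u : Qe) : Ω) := fun u => by rw [hge _ u.2, autFn_coe]
    have hrz : res a zE = zE ^ (2 : ℤ) := Subtype.ext (by
      rw [hrg, Subgroup.coe_zpow]
      show g ((zQ : Qe) : Ω) = _
      rw [hgQe, hhz]; simp [zQ, z])
    set yE : E := ⟨(yQ : Ω), hQeE yQ.2⟩
    set tE : E := ⟨t, htE⟩
    set yb : E ⧸ frattini E := (yE : E ⧸ frattini E) with hyb
    set tb : E ⧸ frattini E := (tE : E ⧸ frattini E) with htb
    have hfQe : ∀ u : E, u ∈ frattini E → (u : Ω) ∈ Qe := fun u hu =>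
      Subgroup.zpowers_le.mpr hzQe ((hfrz u).1 hu)
    have hyb1 : yb ≠ 1 := fun h => hg0z (by
      obtain ⟨i, hi⟩ := hzfrE yE ((QuotientGroup.eq_one_iff _).1 h)
      exact ⟨i, Subtype.ext (by simpa [zQ, z, yE] using congrArg Subtype.val hi)⟩)
    have htyb : tb ∉ Subgroup.zpowers yb := fun h => by
      obtain ⟨i, hi⟩ := Subgroup.mem_zpowers_iff.mp h
      rw [hyb, htb, ← QuotientGroup.mk_zpow] at hi
      have h1 := hfQe _ (QuotientGroup.eq.mp hi)
      rw [Subgroup.coe_mul, Subgroup.coe_inv, Subgroup.coe_zpow] at h1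
      exact htQ (by simpa [yE, tE] using Qe.mul_mem (Qe.zpow_mem yQ.2 i) h1)
    have hay : π a yb = yb ^ m := by
      rw [hyb, hπ, ← QuotientGroup.mk_zpow]
      congr 1
      apply Subtype.ext
      rw [hrg, Subgroup.coe_zpow]
      show g (yQ : Ω) = _
      rw [hgQe, hhy, Subgroup.coe_zpow]
    have hyv : yb ∉ Subgroup.zpowers v := fun hmem => by
      obtain ⟨i, hi⟩ := Subgroup.mem_zpowers_iff.mp hmem
      have hτyb : τ yb = yb := by rw [← hi, map_zpow, hτv]
      have hxn : ∀ (s : S), ρ s yb = yb → ∀ u : Qe, (s : Ω) * u * (s : Ω)⁻¹ ∈ Qe := by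
        intro s hs u
        rw [hyb, hρ] at hs
        have h1 := hfQe _ (QuotientGroup.eq.mp hs)
        have h2 : (s : Ω) * (yQ : Ω) * (s : Ω)⁻¹ ∈ Qe := by
          rw [Subgroup.coe_mul, Subgroup.coe_inv, hκ] at h1
          have h3 := Qe.inv_mem (Qe.mul_mem h1 (Qe.inv_mem yQ.2))
          simpa [yE, mul_assoc] using h3
        obtain ⟨i, j, rfl⟩ := exists_coords hQec hQeexp hzQ1 hg0z u
        rw [Subgroup.coe_mul, Subgroup.coe_zpow, Subgroup.coe_zpow,
          show (s : Ω) * ((zQ : Ω) ^ i * (yQ : Ω) ^ j) * (s : Ω)⁻¹ = ((s : Ω) * (zQ : Ω) * (s : Ω)⁻¹) ^ i *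
            ((s : Ω) * (yQ : Ω) * (s : Ω)⁻¹) ^ j by rw [conj_zpow, conj_zpow]; group,
          show (s : Ω) * (zQ : Ω) * (s : Ω)⁻¹ = z by
            show (s : Ω) * z * (s : Ω)⁻¹ = z
            rw [hzc s s.2, mul_inv_cancel_right]]
        exact Qe.mul_mem (Qe.zpow_mem hzQe i) (Qe.zpow_mem h2 j)
      have hτinv : ρ (⟨x, hxS⟩ : S)⁻¹ yb = yb := by
        rw [map_inv, ← hτdef]
        conv_lhs => rw [← hτyb]
        exact MulAut.inv_apply_self _ τ yb
      have hxNQ : x ∈ Subgroup.normalizer (Qe : Set Ω) := by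
        rw [Subgroup.mem_normalizer_iff]
        refine fun u => ⟨fun hu => hxn ⟨x, hxS⟩ hτyb ⟨u, hu⟩, fun hu => ?_⟩
        have := hxn (⟨x, hxS⟩ : S)⁻¹ hτinv ⟨_, hu⟩
        simpa [mul_assoc] using this
      obtain ⟨k, hk⟩ := (mem_powers_iff_mem_zpowers).mpr (hAIeq.le (conjAut_mem_autInducedBy hxNQ hxS))
      have htk : ∀ k : ℕ, ∀ u : Qe, (((τR ^ k) u : Qe) : Ω) = t ^ k * u * (t ^ k)⁻¹ := fun k u => by
        induction k with
        | zero => simp
        | succ k ih =>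
          rw [pow_succ', MulAut.mul_apply, hτR, conjAut_coe, ← hτR, ih, pow_succ']
          group
      refine hxQ (hEQ ?_)
      have hmem : (t ^ k)⁻¹ * x ∈ Qe := centralizer_le_of_centric hQe.1 ⟨S.mul_mem (S.inv_mem (S.pow_mem htS k)) hxS,
        Subgroup.mem_centralizer_iff.mpr fun u hu => by
          have h1 := congrArg (fun f : MulAut Qe => ((f ⟨u, hu⟩ : Qe) : Ω)) hk
          simp only [htk, conjAut_coe] at h1
          calc u * ((t ^ k)⁻¹ * x) = (t ^ k)⁻¹ * (t ^ k * u * (t ^ k)⁻¹) * x := by group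
            _ = (t ^ k)⁻¹ * (x * u * x⁻¹) * x := by rw [h1]
            _ = (t ^ k)⁻¹ * x * u := by group⟩
      simpa using E.mul_mem (E.pow_mem htE k) (hQeE hmem)
    -- the image of `t`
    obtain ⟨s0, hs0⟩ : ∃ s : ℤ, π a tb = tb ^ (4 : ℕ) * yb ^ s := by
      have hgt : g t ∈ Subgroup.normalizer (Qe : Set Ω) := by
        have hgtE : g t ∈ E := (stronglyClosed_iff_fn.1 hEsc).2 _ _ hg t (hEN htE) htE
        exact hEnQe _ hgtE
      have hgtS : g t ∈ S := hg.mem (hEN htE)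
      have hmem : (t ^ 4)⁻¹ * g t ∈ Qe := centralizer_le_of_centric hQe.1 ⟨S.mul_mem (S.inv_mem (S.pow_mem htS 4)) hgtS,
        Subgroup.mem_centralizer_iff.mpr fun u hu => by
          obtain ⟨u', hu'⟩ := h.surjective ⟨u, hu⟩
          have h1 : g t * u * (g t)⁻¹ = t ^ 4 * u * (t ^ 4)⁻¹ := by
            have h2 := congrArg (fun f : MulAut Qe => ((f u' : Qe) : Ω)) hconj
            simp only [MulAut.mul_apply, hu', ← hgQe] at h2
            rw [hτR, conjAut_coe, hg.map_conj (hEN htE) (hQN u'.2), hgQe, hu'] at h2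
            rw [h2, ← hτR]
            have htk : ∀ k : ℕ, (((τR ^ k) ⟨u, hu⟩ : Qe) : Ω) = t ^ k * u * (t ^ k)⁻¹ := fun k => by
              induction k with
              | zero => simp
              | succ k ih =>
                rw [pow_succ', MulAut.mul_apply, hτR, conjAut_coe, ← hτR, ih, pow_succ']
                group
            exact htk 4
          calc u * ((t ^ 4)⁻¹ * g t) = (t ^ 4)⁻¹ * (t ^ 4 * u * (t ^ 4)⁻¹) * g t := by group
            _ = (t ^ 4)⁻¹ * (g t * u * (g t)⁻¹) * g t := by rw [h1]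
            _ = (t ^ 4)⁻¹ * g t * u := by group⟩
      obtain ⟨i, j, hij⟩ := exists_coords hQec hQeexp hzQ1 hg0z ⟨_, hmem⟩
      refine ⟨j, ?_⟩
      have h3 : res a tE = tE ^ 4 * (zE ^ i * yE ^ j) := by
        apply Subtype.ext
        have h4 := congrArg Subtype.val hij
        rw [Subgroup.coe_mul, Subgroup.coe_zpow, Subgroup.coe_zpow] at h4
        rw [hrg, Subgroup.coe_mul, Subgroup.coe_pow, Subgroup.coe_mul, Subgroup.coe_zpow, Subgroup.coe_zpow]
        show g t = t ^ 4 * (z ^ i * (yQ : Ω) ^ j)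
        rw [show z ^ i * (yQ : Ω) ^ j = (t ^ 4)⁻¹ * g t from h4.symm, mul_inv_cancel_left]
      rw [htb, hπ, h3, QuotientGroup.mk_mul, QuotientGroup.mk_mul, QuotientGroup.mk_pow, hzF, one_mul,
        QuotientGroup.mk_zpow]
    have hvcomm := comm_of_card (p := p) hcardV
    obtain ⟨i, j, hij⟩ := exists_coords hcardV hexpV hyb1 htyb v
    have hj0 : (j : ZMod p) ≠ 0 := fun h => by
      rw [zpow_congr (hexpV tb) (h.trans Int.cast_zero.symm), zpow_zero, mul_one] at hij
      have hi0 : (i : ZMod p) ≠ 0 := fun h => hv1 (by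
        rw [hij, zpow_congr (hexpV yb) (h.trans Int.cast_zero.symm), zpow_zero])
      exact hyv (mem_zpowers_of_zpow_mem (by rw [hexpV]; exact one_mem _) hi0 (hij ▸ Subgroup.mem_zpowers v))
    obtain ⟨k, hk⟩ := Subgroup.mem_zpowers_iff.mp (hB a)
    have hk4 : (k : ZMod p) = ((4 : ℤ) : ZMod p) := by
      have h1 : π a v = yb ^ (m * i + s0 * j) * tb ^ ((4 : ℤ) * j) := by
        rw [hij, map_mul, map_zpow, map_zpow, hay, hs0, (show Commute (tb ^ 4) (yb ^ s0) from hvcomm _ _).mul_zpow,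
          hvcomm ((tb ^ 4) ^ j), ← mul_assoc, ← zpow_mul, ← zpow_mul, ← zpow_add, ← zpow_natCast, ← zpow_mul]
        rfl
      have h2 : π a v = yb ^ (i * k) * tb ^ (j * k) := by
        rw [← hk, hij, (show Commute (yb ^ i) (tb ^ j) from hvcomm _ _).mul_zpow, ← zpow_mul, ← zpow_mul]
      rw [h1] at h2
      have h3 : tb ^ (j * k - 4 * j) ∈ Subgroup.zpowers yb := ⟨m * i + s0 * j - i * k, by
        show yb ^ (m * i + s0 * j - i * k) = tb ^ (j * k - 4 * j)
        rw [zpow_sub, zpow_sub, eq_mul_inv_iff_mul_eq, hvcomm (yb ^ (m * i + s0 * j)), mul_assoc, h2,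
          inv_mul_cancel_left]⟩
      by_contra hne
      refine htyb (mem_zpowers_of_zpow_mem (by rw [hexpV]; exact one_mem _) ?_ h3)
      push_cast at hne ⊢
      rw [mul_comm (4 : ZMod p), ← mul_sub]
      exact mul_ne_zero hj0 (sub_ne_zero.mpr hne)
    refine contra a 4 m 2 8 yb hyv (hk.symm.trans (zpow_congr (hexpV v) hk4)) ⟨0, by rw [zpow_zero, one_mul]; exact hay⟩
      hrz ?_ (hne' 8 4 ?_) (hne' 8 2 ?_) (Or.inl hCle)
    · push_cast at h2m ⊢; linear_combination 4 * h2m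
    · simpa using hndvd 4 (by norm_num) (by omega)
    · show ¬ (p : ℤ) ∣ (6 : ℤ)
      intro hd
      have h6 : p ∣ 2 * 3 := Int.natCast_dvd_natCast.mp hd
      rcases hp.out.dvd_mul.mp h6 with h | h <;> have := Nat.le_of_dvd (by norm_num) h <;> omega

theorem RankTwo.card_le_cube {X : Type*} [Group X] [Finite X] (hX : IsPGroup p X) (hp2 : p ≠ 2)
    (hexp : ∀ x : X, x ^ p = 1)
    (hrk : ∀ A : Subgroup X, Cfsg.IsElementaryAbelian p A → Nat.card A ≤ p ^ 2) : Nat.card X ≤ p ^ 3 := by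
  haveI : Fintype X := Fintype.ofFinite X
  by_cases hc : IsCyclic X
  · have := Nat.le_of_dvd hp.out.pos
      ((IsCyclic.exponent_eq_card (α := X)).symm ▸ Monoid.exponent_dvd_of_forall_pow_eq_one hexp)
    exact this.trans (Nat.le_self_pow three_ne_zero p)
  obtain ⟨A, -, hAn, hA, hAc⟩ := CfsgLib.Fusion.NormalRankTwo.exists_normal_rankTwo hX hp2 (S := (⊤ : Subgroup X))
    (fun h => hc (isCyclic_of_surjective _ (Subgroup.topEquiv (G := X)).surjective))
  haveI := hAn
  haveI := hX.isNilpotent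
  have hcentA : ∀ a : X, a ∈ Subgroup.centralizer (A : Set X) → a ∈ A := fun a ha =>
    CfsgLib.Fusion.RankTwoOmega.card_le_sq hrk hA hAc le_rfl ha (hexp a)
  by_cases hcen : A ≤ Subgroup.center X
  · have : A = ⊤ := top_unique fun a _ => hcentA a (Subgroup.mem_centralizer_iff.mpr fun e he =>
      (Subgroup.mem_center_iff.mp (hcen he) a).symm)
    rw [this, Subgroup.card_top] at hAc
    rw [hAc]
    exact Nat.pow_le_pow_right hp.out.pos (by norm_num)
  obtain ⟨a, haA, hac⟩ := SetLike.not_le_iff_exists.mp hcen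
  have hne := CfsgLib.Solvable.FrattiniFitting.inf_center_ne_bot A (fun h => by
    rw [h, Subgroup.card_bot] at hAc
    exact absurd hAc.symm (Nat.one_lt_pow two_ne_zero hp.out.one_lt).ne')
  haveI := (Subgroup.nontrivial_iff_ne_bot _).mpr hne
  obtain ⟨⟨z, hz⟩, hz1⟩ := exists_ne (1 : ↥(A ⊓ Subgroup.center X))
  have hz1' : z ≠ 1 := fun h => hz1 (Subtype.ext h)
  have hza : a ∉ Subgroup.zpowers z := fun h => hac (Subgroup.zpowers_le.mpr hz.2 h)
  set C := Subgroup.centralizer ({a} : Set X)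
  have hCA : C ≤ A := fun u hu => hcentA u (by
    refine Subgroup.mem_centralizer_iff.mpr fun e he => ?_
    have hlt : Subgroup.zpowers z < Subgroup.zpowers z ⊔ Subgroup.zpowers a := lt_of_le_of_ne le_sup_left fun h =>
      hza (h ▸ Subgroup.mem_sup_right (Subgroup.mem_zpowers a))
    have h1 := CfsgLib.Fusion.MaxClass.card_mul_le_of_lt hX hlt
    rw [Nat.card_zpowers, orderOf_eq_prime (hexp z) hz1', ← sq] at h1
    have hgen : Subgroup.zpowers z ⊔ Subgroup.zpowers a = A := Subgroup.eq_of_le_of_card_ge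
      (sup_le (Subgroup.zpowers_le.mpr hz.1) (Subgroup.zpowers_le.mpr haA)) (by rw [hAc]; exact h1)
    have hle : Subgroup.zpowers z ⊔ Subgroup.zpowers a ≤ Subgroup.centralizer ({u} : Set X) := sup_le
      (Subgroup.zpowers_le.mpr (Subgroup.mem_centralizer_singleton_iff.mpr (Subgroup.mem_center_iff.mp hz.2 u).symm))
      (Subgroup.zpowers_le.mpr (Subgroup.mem_centralizer_singleton_iff.mpr (Subgroup.mem_centralizer_singleton_iff.mp hu).symm))
    exact Subgroup.mem_centralizer_singleton_iff.mp (hle (hgen.ge he)))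
  have h1 := CfsgLib.OddOrder.SCNTransitivity.relIndex_centralizer_le (P := (⊤ : Subgroup X)) (hX.to_subgroup ⊤)
    le_top (by rw [Subgroup.normalizer_eq_top]) hAc haA
  rw [Subgroup.relIndex_top_right] at h1
  rw [← Subgroup.card_mul_index C, pow_succ]
  exact Nat.mul_le_mul ((Subgroup.card_le_of_le hCA).trans hAc.le) h1

/-- A `p`-group of rank two, `p ≥ 5`, other than the extraspecial group of order `p³` and exponent `p` is resistant. -/
theorem normal_of_rankTwo (hS : IsPGroup p S) (hF : F.IsSaturated p) (hp5 : 5 ≤ p)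
    (hrank3 : ∀ E : Subgroup Ω, E ≤ S → Cfsg.IsElementaryAbelian p E → Nat.card E ≤ p ^ 2)
    (hnotE : ¬ (Nat.card S = p ^ 3 ∧ Monoid.exponent ↥S = p)) : F.IsNormal S := by
  have hp2 : p ≠ 2 := by omega
  have hrk : ∀ A : Subgroup S, Cfsg.IsElementaryAbelian p A → Nat.card A ≤ p ^ 2 := fun A hA => by
    rw [← Subgroup.card_map_of_injective (f := S.subtype) S.subtype_injective]
    refine hrank3 _ (Subgroup.map_subtype_le A) ⟨⟨⟨?_⟩⟩, ?_⟩
    · rintro ⟨_, u, hu, rfl⟩ ⟨_, w, hw, rfl⟩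
      exact Subtype.ext (congrArg (fun g : A => ((g : S) : Ω)) (hA.1.1.1 ⟨u, hu⟩ ⟨w, hw⟩))
    · rintro _ ⟨u, hu, rfl⟩
      rw [← map_pow, hA.2 u hu, map_one]
  have hsc : F.StronglyClosed S := stronglyClosed_iff_fn.2 ⟨le_rfl, fun P f hf x hx _ => hf.mem hx⟩
  by_cases hsmall : CfsgLib.Fusion.Huppert.SmallOmega p ↥S
  · exact normal_of_metacyclic hS hF hp2 hsc (CfsgLib.Fusion.Huppert.isMetacyclic (by omega) hS hsmall)
  set O : Subgroup S := Subgroup.closure {x : S | x ^ p = 1}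
  have hOexp : ∀ g ∈ O, g ^ p = 1 := CfsgLib.Fusion.RankTwoOmega.pow_eq_one_of_mem_closure (by omega) hS hrk
  have hOc : Nat.card O = p ^ 3 := by
    refine le_antisymm (RankTwo.card_le_cube (hS.to_subgroup O) hp2 (fun x => Subtype.ext (hOexp x x.2)) fun A hA => ?_) ?_
    · rw [← Subgroup.card_map_of_injective (f := O.subtype) O.subtype_injective]
      refine hrk _ ⟨⟨⟨?_⟩⟩, ?_⟩
      · rintro ⟨_, u, hu, rfl⟩ ⟨_, w, hw, rfl⟩
        exact Subtype.ext (congrArg (fun g : A => ((g : O) : S)) (hA.1.1.1 ⟨u, hu⟩ ⟨w, hw⟩))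
      · rintro _ ⟨u, hu, rfl⟩
        rw [← map_pow, hA.2 u hu, map_one]
    · obtain ⟨j, hj⟩ := IsPGroup.iff_card.mp (hS.to_subgroup O)
      have h : p ^ 2 < Nat.card O := not_le.mp hsmall
      rw [hj] at h ⊢
      exact Nat.pow_le_pow_right hp.out.pos ((Nat.pow_lt_pow_iff_right hp.out.one_lt).mp h)
  set E : Subgroup Ω := O.map S.subtype
  have hEc : Nat.card E = p ^ 3 := by rw [Subgroup.card_map_of_injective S.subtype_injective, hOc]
  have hEmem : ∀ x, x ∈ E ↔ x ∈ S ∧ x ^ p = 1 := fun x => by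
    constructor
    · rintro ⟨u, hu, rfl⟩
      exact ⟨u.2, by simpa using congrArg Subtype.val (hOexp u hu)⟩
    · rintro ⟨hx, hxp⟩
      exact ⟨⟨x, hx⟩, Subgroup.subset_closure (Subtype.ext (by simpa using hxp)), rfl⟩
  have hnab : ∃ a b : E, a * b ≠ b * a := by
    by_contra h
    push Not at h
    have := hrank3 E (Subgroup.map_subtype_le O) ⟨⟨⟨h⟩⟩, fun a ha => ((hEmem a).1 ha).2⟩
    rw [hEc] at this
    exact absurd this (not_le.mpr (Nat.pow_lt_pow_right hp.out.one_lt (by norm_num)))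
  have hES : E ≠ S := fun h => hnotE ⟨h ▸ hEc, by
    rcases (Nat.dvd_prime hp.out).mp (Monoid.exponent_dvd_of_forall_pow_eq_one (G := S) fun x => Subtype.ext (by
      simpa using ((hEmem x).1 (h.ge x.2)).2)) with h1 | h1
    · exfalso
      have hc : Nat.card S = p ^ 3 := h ▸ hEc
      have hsub : Subsingleton S := ⟨fun a b => by
        have ha := Monoid.pow_exponent_eq_one a
        have hb := Monoid.pow_exponent_eq_one b
        rw [h1, pow_one] at ha hb
        rw [ha, hb]⟩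
      rw [@Nat.card_of_subsingleton _ 1 hsub] at hc
      exact absurd hc (Nat.one_lt_pow three_ne_zero hp.out.one_lt).ne
    · exact h1⟩
  have hcyc : ∀ A : Subgroup Ω, A ≤ S → ¬ IsCyclic A → ∃ B : Subgroup Ω, B ≤ A ∧ Nat.card B = p ^ 2 ∧ ∀ b ∈ B, b ^ p = 1 := by
    intro A hAS hA
    haveI := finite_of_le_base hAS
    obtain ⟨B, -, -, hB, hBc⟩ := CfsgLib.Fusion.NormalRankTwo.exists_normal_rankTwo (hS.to_le hAS) hp2
      (S := (⊤ : Subgroup A)) (fun h => hA (isCyclic_of_surjective _ (Subgroup.topEquiv (G := A)).surjective))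
    refine ⟨B.map A.subtype, Subgroup.map_subtype_le B, by rw [Subgroup.card_map_of_injective A.subtype_injective, hBc], ?_⟩
    rintro _ ⟨u, hu, rfl⟩
    rw [← map_pow, hB.2 u hu, map_one]
  refine normal_of_generators hS hF le_rfl Subgroup.le_normalizer fun P hP => ?_
  rcases hP with rfl | hP
  · exact ⟨le_rfl, fun α hα x hx => autFn_mem α hx⟩
  · exact (le_essential_of_omega_extraspecial hS hF hp5 hEmem hEc hES hnab hcyc hP).elim

end CfsgLib.Fsys
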