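import Cfsg.Agent.Lib.FusionSystem.MaxClassRealize.WrMain
import Cfsg.Agent.Lib.FusionSystem.Normal
import Cfsg.Agent.Lib.Fusion.Transfer
import Cfsg.Agent.Lib.FusionSystem.RankTwoTwo

/-
Simple 2-fusion systems on dihedral, quasi-dihedral and wreathed groups: all candidate subgroups move, so the
system is determined by its 2-group.
-/
set_option autoImplicit false
set_option linter.style.haveILetI false
set_option linter.unusedSectionVars false

namespace CfsgLib.Fsys.RankTwoSimple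

open Cfsg CfsgLib.Fsys CfsgLib.Fsys.MaxClassRealize CfsgLib.Involution CfsgLib.Involution.Wreathed
open Cfsg.FusionSystem (centralizerIn normalizerIn)

universe u

variable {Ω : Type u} [Group Ω] {S : Subgroup Ω} [Finite S] {F : FusionSystem S}

/-! ### Consequences of simplicity -/

section Normal

variable {p : ℕ} [Fact p.Prime] (hS : IsPGroup p S) (hsimple : F.IsSimple p)
include hS hsimple

theorem eq_of_normal {Q : Subgroup Ω} (hQ : F.IsNormal Q) :
    Q = ⊥ ∨ (Q = S ∧ ∀ P, (innerFusionSystem Q).Hom P = F.Hom P) := by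
  have hQS : Q ≤ S := hQ.1
  haveI := finite_of_le_base hQS
  refine hsimple.2.2 Q _ ⟨(normal_iff_inner_weaklyNormal hS hsimple.1 hQS).1 hQ, fun α hα => ?_⟩
  rw [innerFusionSystem_eq_autSystem, autGroup_autSystem] at hα
  obtain ⟨t, rfl⟩ := hα
  have htN : (t : Ω) ∈ Subgroup.normalizer ((Q ⊔ centralizerIn S Q : Subgroup Ω) : Set Ω) :=
    Subgroup.le_normalizer (Subgroup.mem_sup_left t.2)
  refine ⟨conjAut _ htN, autInducedBy_le_autGroup (sup_le hQS centralizerIn_le)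
    (conjAut_mem_autInducedBy htN (hQS t.2)), fun x => ?_, fun c hc => ?_⟩
  · rw [conjAut_coe]; rfl
  · rw [conjAut_coe, (mem_centralizerIn.1 hc).2 _ t.2, mul_inv_cancel_right, inv_mul_cancel]
    exact one_mem _

theorem center_bot (hcard : Nat.card S ≠ p) : F.center = ⊥ := by
  rcases eq_of_normal hS hsimple (central_normal (center_central (F := F))) with h | ⟨h, -⟩
  · exact h
  · exfalso
    refine hcard ((simple_iff_of_abelian hS hsimple.1 fun x hx y hy => ?_).1 hsimple).1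
    obtain ⟨g, -, hge, hgfix⟩ := (central_iff_fn.1 (center_central (F := F))).2 S _ (fn_conj le_rfl hx)
    have h1 : x * y * x⁻¹ = y := (hge y hy).symm.trans (hgfix y (h.ge hy))
    exact mul_inv_eq_iff_eq_mul.1 h1

theorem not_normal_base (hcard : Nat.card S ≠ p) : ¬ F.IsNormal S := by
  intro hN
  obtain ⟨h, -⟩ | ⟨-, hin⟩ := (eq_of_normal hS hsimple hN).imp_left fun h => And.intro h trivial
  · exact hsimple.2.1 h
  haveI : Nontrivial S := (Subgroup.nontrivial_iff_ne_bot _).2 hsimple.2.1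
  haveI := hS.center_nontrivial
  obtain ⟨z, hz⟩ := exists_ne (1 : Subgroup.center S)
  have hzc : ∀ s ∈ S, Commute s ((z : S) : Ω) := fun s hs =>
    congrArg Subtype.val (Subgroup.mem_center_iff.1 z.2 ⟨s, hs⟩)
  have hcen := RankTwoTwo.central_zpowers hS hsimple.1 (z : S).2 hzc fun R hR hzR α hα => by
    obtain ⟨φ, hφ, hφf⟩ := (mem_autGroup_iff_fn hR).1 hα
    rw [← hin] at hφ
    obtain ⟨-, g, hg, hφg⟩ := hφ
    rw [← hφf ⟨_, hzR⟩, hφg]
    show g * ((z : S) : Ω) * g⁻¹ = _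
    rw [(hzc g hg).eq, mul_inv_cancel_right]
  have h' := le_center hcen (Subgroup.mem_zpowers _)
  rw [center_bot hS hsimple hcard, Subgroup.mem_bot] at h'
  exact hz (Subtype.ext (Subtype.ext h'))

end Normal

/-- A realizable simple system on a group of order at least four is realized by a simple non-abelian group. -/
theorem exists_simple_group (hS : IsPGroup 2 S) (hsimple : F.IsSimple 2) (h4 : 4 ≤ Nat.card S)
    (hreal : F.IsRealizable 2) :
    ∃ (G : Type u) (_ : Group G) (_ : Finite G) (ι : S →* G), F.IsRealizedBy ι ∧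
      (∃ T : Sylow 2 G, (T : Subgroup G) = ι.range) ∧ _root_.commutator G = ⊤ := by
  classical
  haveI : Fact (Nat.Prime 2) := ⟨Nat.prime_two⟩
  let P : ℕ → Prop := fun n => ∃ (G : Type u) (_ : Group G) (_ : Finite G) (ι : S →* G), F.IsRealizedBy ι ∧
    (∃ T : Sylow 2 G, (T : Subgroup G) = ι.range) ∧ Nat.card G = n
  have hex : ∃ n, P n := by
    obtain ⟨G, iG, hfin, ι, hr, hT⟩ := hreal
    exact ⟨_, G, iG, hfin, ι, hr, hT, rfl⟩
  obtain ⟨G, iG, hfin, ι, hr, hT, hn⟩ := Nat.find_spec hex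
  refine ⟨G, iG, hfin, ι, hr, hT, ?_⟩
  have hnorm : ∀ N : Subgroup G, N.Normal → N = ⊥ ∨ N = ⊤ := by
    intro N hN
    by_contra hne
    push Not at hne
    obtain ⟨L, iL, hL, ι', hr', hT', hlt⟩ := exists_smaller_realization hsimple hr hT hne.1 hne.2
    exact Nat.find_min hex (hn ▸ hlt) ⟨L, iL, hL, ι', hr', hT', rfl⟩
  refine (hnorm _ inferInstance).resolve_left fun hbot => ?_
  -- an abelian group
  have hab : ∀ a b : G, a * b = b * a := fun a b => commutatorElement_eq_one_iff_mul_comm.1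
    (Subgroup.mem_bot.1 (hbot ▸ Subgroup.commutator_mem_commutator (Subgroup.mem_top a) (Subgroup.mem_top b)))
  have hprime : ∀ g : G, g ≠ 1 → Subgroup.zpowers g = ⊤ := fun g hg =>
    (hnorm _ ⟨fun v hv w => by rwa [hab w v, mul_inv_cancel_right]⟩).resolve_left
      (mt Subgroup.zpowers_eq_bot.1 hg)
  haveI : IsSimpleGroup G :=
    { exists_pair_ne := by
        haveI : Nontrivial S := Finite.one_lt_card_iff_nontrivial.1 (by omega)
        obtain ⟨a, b, hab⟩ := exists_pair_ne S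
        exact ⟨ι a, ι b, hr.1.ne hab⟩
      eq_bot_or_eq_top_of_normal := hnorm }
  haveI : Nontrivial G := IsSimpleGroup.toNontrivial
  letI : CommGroup G := { iG with mul_comm := hab }
  have hp := IsSimpleGroup.prime_card (α := G)
  have hle : Nat.card S ≤ Nat.card G := Nat.card_le_card_of_injective ι hr.1
  have hdvd : Nat.card S ∣ Nat.card G := by
    rw [Nat.card_congr (MonoidHom.ofInjective hr.1).toEquiv]
    exact Subgroup.card_subgroup_dvd_card _
  rcases (Nat.dvd_prime hp).1 hdvd with h | h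
  · omega
  · obtain ⟨k, hk⟩ := hS.exists_card_eq
    rw [h] at hk
    rw [hk] at hp
    obtain rfl : k = 1 := (Nat.Prime.pow_eq_iff hp).1 rfl |>.2
    rw [pow_one] at hk
    omega

/-! ### The focal argument -/

theorem commutator_le_of_index_two {X : Type*} [Group X] {M : Subgroup X} (hM : M.index = 2) :
    ∀ a b : X, a * b * a⁻¹ * b⁻¹ ∈ M := by
  intro a b
  simp only [Subgroup.mul_mem_iff_of_index_two hM, inv_mem_iff]
  tauto

/-- If every essential subgroup lies in a subgroup of index two, no perfect group realizes the system. -/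
theorem false_of_essential_le (hS : IsPGroup 2 S) (hF : F.IsSaturated 2) (htop : IsPGroup 2 (MulAut S))
    {G : Type*} [Group G] [Finite G] {ι : S →* G} (hι : F.IsRealizedBy ι) {T : Sylow 2 G}
    (hT : (T : Subgroup G) = ι.range) (hG : _root_.commutator G = ⊤) (M : Subgroup S) (hM : M.index = 2)
    (hess : ∀ E : Subgroup Ω, F.IsEssential 2 E → E ≤ hat M) : False := by
  haveI : Fact (Nat.Prime 2) := ⟨Nat.prime_two⟩
  have hMS : hat M ≤ S := hat_le M
  have hcomm : ∀ x ∈ S, ∀ s ∈ S, x⁻¹ * (s * x * s⁻¹) ∈ hat M := fun x hx s hs => by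
    refine mem_hat.2 ⟨S.mul_mem (S.inv_mem hx) (S.mul_mem (S.mul_mem hs hx) (S.inv_mem hs)), ?_⟩
    have := commutator_le_of_index_two hM (⟨x, hx⟩ : S)⁻¹ ⟨s, hs⟩
    convert this using 1
    exact Subtype.ext (by simp [mul_assoc])
  let C : Subgroup Ω → (Ω → Ω) → Prop := fun P f => ∀ x ∈ P, x⁻¹ * f x ∈ hat M
  let E := predSystem F C (fun P f g he _ h x hx => he x hx ▸ h x hx)
    (fun P hP s hs x hx => hcomm x (hP hx) s hs)
    (fun P R f g _ _ hfR hf hg x hx => by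
      have := (hat M).mul_mem (hf x hx) (hg _ (hfR x hx))
      simpa [mul_assoc] using this)
    (fun P f g hf _ hgf h y hy => by
      obtain ⟨x, hx, rfl⟩ := hf.mem_img.1 hy
      rw [hgf x hx]
      simpa using (hat M).inv_mem (h x hx))
  have hle : F ≤ E := by
    refine alperin hS hF E (fun α hα => ?_) fun P hP hPe α hα => ?_
    · refine (mem_autGroup_iff_fn le_rfl).2 (fn_predSystem.2 ⟨(mem_autGroup_iff_fn le_rfl).1 hα, fun x hx => ?_⟩)
      obtain ⟨-, R, hR⟩ := fullyAutomized_top hF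
      have htop' : (R : Subgroup (F.autGroup S)) = ⊤ :=
        R.3 ((htop.to_subgroup (F.autGroup S)).of_equiv Subgroup.topEquiv.symm) le_top |>.symm
      have h1 : (⟨α, hα⟩ : F.autGroup S) ∈ (autInducedBy S S).subgroupOf (F.autGroup S) := by
        rw [← hR, htop']; exact Subgroup.mem_top _
      obtain ⟨g, hg, hgα⟩ := mem_autInducedBy.1 h1
      rw [show autFn α x = g * x * g⁻¹ from (autFn_coe α ⟨x, hx⟩).trans (hgα ⟨x, hx⟩)]
      exact hcomm x hx g hg
    · refine (mem_autGroup_iff_fn hP.le).2 (fn_predSystem.2 ⟨(mem_autGroup_iff_fn hP.le).1 hα, fun x hx => ?_⟩)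
      exact (hat M).mul_mem ((hat M).inv_mem (hess P hPe hx)) (hess P hPe (autFn_mem α hx))
  -- the focal subgroup
  have hfoc : (T : Subgroup G).focalSubgroup ≤ M.map ι := by
    rw [Subgroup.focalSubgroup_def, Subgroup.closure_le]
    rintro _ ⟨hy, a, ha, w, rfl⟩
    have hai : a⁻¹ ∈ ι.range := hT ▸ (T : Subgroup G).inv_mem ha
    have hci : w * a⁻¹ * w⁻¹ ∈ ι.range := by
      rw [← hT]
      have := (T : Subgroup G).mul_mem ((T : Subgroup G).inv_mem ha) hy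
      simpa [commutatorElement_def, mul_assoc] using this
    obtain ⟨b, hb⟩ := hai
    obtain ⟨c, hc⟩ := hci
    let θ : S ≃* ι.range := MonoidHom.ofInjective hι.1
    have hbS : Subgroup.zpowers (b : Ω) ≤ S := Subgroup.zpowers_le.2 b.2
    let ψ : Subgroup.zpowers (b : Ω) →* G :=
      (MulAut.conj w).toMonoidHom.comp (ι.comp (Subgroup.inclusion hbS))
    have hψ : ∀ v, ψ v ∈ ι.range := by
      rintro ⟨_, k, rfl⟩
      refine ⟨c ^ k, ?_⟩
      show ι (c ^ k) = w * ι ⟨(b : Ω) ^ k, _⟩ * w⁻¹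
      rw [map_zpow, hc, show (⟨(b : Ω) ^ k, hbS ⟨k, rfl⟩⟩ : S) = b ^ k from Subtype.ext (S.coe_zpow b k).symm,
        map_zpow, hb, ← conj_zpow]
    let φ : Subgroup.zpowers (b : Ω) →* Ω := S.subtype.comp (θ.symm.toMonoidHom.comp (ψ.codRestrict _ hψ))
    have hι' : ∀ v, ι ⟨φ v, (θ.symm ⟨ψ v, hψ v⟩).2⟩ = ψ v := fun v => by
      show ((θ (θ.symm ⟨ψ v, hψ v⟩) : ι.range) : G) = _
      rw [MulEquiv.apply_symm_apply]
    have hφ : φ ∈ F.Hom (Subgroup.zpowers (b : Ω)) :=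
      (hι.2 _ hbS φ fun v => (θ.symm ⟨ψ v, hψ v⟩).2).2 ⟨w, fun v => hι' v⟩
    have hm : (b : Ω)⁻¹ * φ ⟨b, Subgroup.mem_zpowers _⟩ ∈ hat M := by
      have h1 := (fn_predSystem.1 (fn_of_le hle (fn_ofHom hφ))).2 (b : Ω) (Subgroup.mem_zpowers _)
      rwa [ofHom_apply φ (Subgroup.mem_zpowers (b : Ω))] at h1
    have hφb : φ ⟨b, Subgroup.mem_zpowers _⟩ = c := by
      refine congrArg Subtype.val (show θ.symm ⟨ψ _, hψ _⟩ = c from θ.symm_apply_eq.2 (Subtype.ext ?_))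
      show w * ι ⟨(b : Ω), _⟩ * w⁻¹ = ι c
      rw [hc, ← hb]
    rw [hφb] at hm
    obtain ⟨hmS, hmM⟩ := mem_hat.1 hm
    refine ⟨⟨_, hmS⟩, hmM, ?_⟩
    show ι (b⁻¹ * c) = _
    rw [map_mul, map_inv, hb, hc, commutatorElement_def, inv_inv]
    group
  have hall : (T : Subgroup G) ≤ M.map ι := by
    refine le_trans ?_ hfoc
    rw [← Subgroup.commutator_inf_eq_focalSubgroup T, hG, top_inf_eq]
  have hMtop : M = ⊤ := by
    refine eq_top_iff.2 fun s _ => ?_
    obtain ⟨s', hs', e⟩ := hall (hT ▸ ⟨s, rfl⟩ : ι s ∈ (T : Subgroup G))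
    rwa [← hι.1 e]
  rw [hMtop, Subgroup.index_top] at hM
  omega

/-- The comparison criterion, with the realizing homomorphism. -/
theorem realized_of_odd (hS : IsPGroup 2 S) (hF : F.IsSaturated 2) (htop : IsPGroup 2 (MulAut S))
    {G : Type} [Group G] [Finite G] (ι : S →* G) (hι : Function.Injective ι) (T : Sylow 2 G)
    (hT : (T : Subgroup G) = ι.range)
    (h : ∀ R, Cand S R → OddLE F (pullSys ι hι) R ∧ OddLE (pullSys ι hι) F R) : F.IsRealizedBy ι := by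
  haveI : Fact (Nat.Prime 2) := ⟨Nat.prime_two⟩
  have hE : (pullSys ι hι).IsSaturated 2 := realized_saturated (pullSys_realized ι hι) ⟨T, hT⟩
  have h1 := le_of_oddLE hS hF htop fun R hR => (h R hR).1
  have h2 := le_of_oddLE hS hE htop fun R hR => (h R hR).2
  refine ⟨hι, fun P hP φ hφ => ?_⟩
  rw [show φ ∈ F.Hom P ↔ φ ∈ (pullSys ι hι).Hom P from ⟨fun k => h1 P k, fun k => h2 P k⟩,
    (pullSys_realized ι hι).2 P hP φ hφ]

/-! ### Cyclic subgroups of index two -/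

/-- The subgroup of index two containing the candidates of one kind. -/
def parityM {X : Type*} [Group X] {x y : X} {K : ℕ} {s0 s1 : ℤ} (h : MCGen x y K s0 s1) (i : ℤ) :
    Subgroup X where
  carrier := {g | ∃ n : ℤ, g = x ^ (2 * n) ∨ g = x ^ (2 * n + i) * y}
  one_mem' := ⟨0, Or.inl (by simp)⟩
  mul_mem' := by
    rintro _ _ ⟨m, rfl | rfl⟩ ⟨n, rfl | rfl⟩
    · exact ⟨m + n, Or.inl (by rw [← zpow_add]; ring_nf)⟩
    · exact ⟨m + n, Or.inr (by rw [h.x_mul_xy]; ring_nf)⟩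
    · refine ⟨m + (2 * (K : ℤ) * s1 - 1) * n, Or.inr ?_⟩
      rw [h.xy_mul_x]; ring_nf
    · refine ⟨m + (2 * (K : ℤ) * s1 - 1) * n + (K : ℤ) * (s1 * i + s0), Or.inl ?_⟩
      rw [h.xy_mul_xy]
      congr 1
      ring
  inv_mem' := by
    rintro _ ⟨n, rfl | rfl⟩
    · exact ⟨-n, Or.inl (by rw [← zpow_neg]; ring_nf)⟩
    · refine ⟨n - (K : ℤ) * (s1 * (2 * n + i) + s0), Or.inr ?_⟩
      rw [h.xy_inv]
      congr 2
      ring

theorem parityM_x {X : Type*} [Group X] {x y : X} {K : ℕ} {s0 s1 : ℤ} (h : MCGen x y K s0 s1) (i k : ℤ) :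
    x ^ k ∈ parityM h i ↔ (2 : ℤ) ∣ k := by
  constructor
  · rintro ⟨n, e | e⟩
    · obtain ⟨q, hq⟩ := (h.zpow_eq_iff _ _).1 e
      exact ⟨n + 2 * (K : ℤ) * q, by linarith⟩
    · exact absurd e.symm (h.xy_ne _ _)
  · rintro ⟨n, rfl⟩
    exact ⟨n, Or.inl rfl⟩

theorem parityM_xy {X : Type*} [Group X] {x y : X} {K : ℕ} {s0 s1 : ℤ} (h : MCGen x y K s0 s1) (i k : ℤ) :
    x ^ k * y ∈ parityM h i ↔ (2 : ℤ) ∣ k - i := by
  constructor
  · rintro ⟨n, e | e⟩
    · exact absurd e (h.xy_ne _ _)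
    · obtain ⟨q, hq⟩ := (h.xy_eq_iff _ _).1 e
      exact ⟨n + 2 * (K : ℤ) * q, by linarith⟩
  · rintro ⟨n, hn⟩
    exact ⟨n, Or.inr (by rw [show 2 * n + i = k by omega])⟩

theorem parityM_index {X : Type*} [Group X] {x y : X} {K : ℕ} {s0 s1 : ℤ} (h : MCGen x y K s0 s1) (i : ℤ) :
    (parityM h i).index = 2 := by
  rw [Subgroup.index_eq_two_iff]
  refine ⟨x, fun g => ?_⟩
  rcases h.normal_form g with ⟨k, rfl⟩ | ⟨k, rfl⟩
  · rw [← zpow_add_one, parityM_x, parityM_x]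
    rcases Int.even_or_odd' k with ⟨q, rfl | rfl⟩
    · exact Or.inr ⟨dvd_mul_right _ _, by omega⟩
    · exact Or.inl ⟨⟨q + 1, by ring⟩, by omega⟩
  · conv in x ^ k * y * x => rw [show x ^ k * y * x = x ^ k * y * x ^ (1 : ℤ) by rw [zpow_one]]
    rw [h.xy_mul_x, parityM_xy, parityM_xy]
    obtain ⟨q, hq⟩ | ⟨q, hq⟩ := Int.even_or_odd (k - i)
    · refine Or.inr ⟨⟨q, by omega⟩, fun hd => ?_⟩
      rw [mul_one, mul_assoc] at hd
      omega
    · refine Or.inl ⟨⟨q + (K : ℤ) * s1, ?_⟩, by omega⟩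
      linear_combination hq

theorem R_le_parityM {X : Type*} [Group X] {x y : X} {K : ℕ} {s0 s1 : ℤ} (h : MCGen x y K s0 s1)
    (hbig : 2 ≤ K ∨ (2 : ℤ) ∣ s0 ∧ (2 : ℤ) ∣ s1) {i j : ℤ} (hij : (2 : ℤ) ∣ i - j) : h.R i ≤ parityM h j := by
  have hstep : (2 : ℤ) ∣ h.step i := by
    unfold MCGen.step
    split
    · exact dvd_mul_right _ _
    · next hn =>
      rcases hbig with hK | ⟨h0, h1⟩
      · obtain ⟨e, he⟩ := h.kpow
        rcases e with _ | e
        · simp at he; omega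
        · exact ⟨2 ^ e, by rw [he]; push_cast; ring⟩
      · exact absurd (dvd_add (dvd_mul_of_dvd_left h1 _) h0) hn
  rintro g ⟨n, rfl | rfl⟩
  · exact (parityM_x h _ _).2 (dvd_mul_of_dvd_left hstep _)
  · refine (parityM_xy h _ _).2 ?_
    rw [add_sub_assoc]
    exact dvd_add (dvd_mul_of_dvd_left hstep _) hij

theorem mc_cand (hS : IsPGroup 2 S) {x y : S} {K : ℕ} {s0 s1 : ℤ} (h : MCGen x y K s0 s1) {R : Subgroup Ω}
    (hR : Cand S R) : ∃ i : ℤ, R = hat (h.R i) := by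
  obtain ⟨h1, h2, h3⟩ := cand_subgroupOf hR
  obtain ⟨i, hi, -⟩ := h.candidates h1 h2 h3
  exact ⟨i, by rw [← hi, hat_subgroupOf hR.lt.le]⟩

/-- With a perfect realizing group every candidate moves. -/
theorem mc_both (hS : IsPGroup 2 S) (hF : F.IsSaturated 2) {x y : S} {K : ℕ} {s0 s1 : ℤ}
    (h : MCGen x y K s0 s1) (hbig : 2 ≤ K ∨ (2 : ℤ) ∣ s0 ∧ (2 : ℤ) ∣ s1)
    {G : Type*} [Group G] [Finite G] {ι : S →* G} (hι : F.IsRealizedBy ι) {T : Sylow 2 G}
    (hT : (T : Subgroup G) = ι.range) (hG : _root_.commutator G = ⊤) (j : ℤ) :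
    ¬ IsPGroup 2 (autF F (h.R j)) := by
  intro hp
  refine false_of_essential_le hS hF (h.mulAut_isPGroup hbig) hι hT hG (parityM h (j + 1))
    (parityM_index h _) fun E hE => ?_
  obtain ⟨i, rfl⟩ := mc_cand hS h (essential_cand hS hF hE)
  by_cases hij : (2 : ℤ) ∣ i - j
  · exfalso
    obtain ⟨s, hs⟩ := h.conj_R (i := j) (j := i) hij
    refine (essential_not_isPGroup hS hF hE).2.2 ?_
    rw [← hs, ← img_conj_hat]
    exact isPGroup_autGroup_conj (hat_le _) s.2 ((autF_isPGroup F _).1 hp)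
  · exact Subgroup.map_mono (R_le_parityM h hbig (by omega))

theorem mc_realized (hS : IsPGroup 2 S) (hF : F.IsSaturated 2) {x y : S} {K : ℕ} {s0 s1 : ℤ}
    (h : MCGen x y K s0 s1) (hbig : 2 ≤ K ∨ (2 : ℤ) ∣ s0 ∧ (2 : ℤ) ∣ s1)
    {G₀ : Type*} [Group G₀] [Finite G₀] {ι₀ : S →* G₀} (hι₀ : F.IsRealizedBy ι₀) {T₀ : Sylow 2 G₀}
    (hT₀ : (T₀ : Subgroup G₀) = ι₀.range) (hG₀ : _root_.commutator G₀ = ⊤)
    {G : Type} [Group G] [Finite G] (ι : S →* G) (hι : Function.Injective ι) (T : Sylow 2 G)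
    (hT : (T : Subgroup G) = ι.range) (hG : _root_.commutator G = ⊤) : F.IsRealizedBy ι := by
  haveI : Fact (Nat.Prime 2) := ⟨Nat.prime_two⟩
  have hE : (pullSys ι hι).IsSaturated 2 := realized_saturated (pullSys_realized ι hι) ⟨T, hT⟩
  refine realized_of_odd hS hF (h.mulAut_isPGroup hbig) ι hι T hT fun R hR => ?_
  obtain ⟨i, rfl⟩ := mc_cand hS h hR
  have h1 := mc_both hS hF h hbig hι₀ hT₀ hG₀ i
  have h2 := mc_both hS hE h hbig (pullSys_realized ι hι) hT hG i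
  obtain ⟨M, a, b, htrio, -⟩ := h.trio_R i (hbig.imp_right fun k => dvd_add (dvd_mul_of_dvd_left k.2 _) k.1)
  exact ⟨oddLE_hat fun φ _ hodd => htrio.mem_of_odd (inn_le_autF _ _) h2 hodd,
    oddLE_hat fun φ _ hodd => htrio.mem_of_odd (inn_le_autF _ _) h1 hodd⟩

/-! ### Wreathed groups -/

/-- The subgroup of index two containing the candidates other than the base. -/
def evenM {X : Type*} [Group X] {x y z : X} {K : ℕ} (h : WrGen x y z K) : Subgroup X where
  carrier := {g | ∃ c d : ℤ, (2 : ℤ) ∣ c - d ∧ (g = W x y c d ∨ g = W x y c d * z)}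
  one_mem' := ⟨0, 0, by simp, Or.inl (W_zero h).symm⟩
  mul_mem' := by
    rintro _ _ ⟨a, b, hab, rfl | rfl⟩ ⟨c, d, hcd, rfl | rfl⟩
    · exact ⟨_, _, by omega, Or.inl (W_mul h a b c d)⟩
    · exact ⟨_, _, by omega, Or.inr (W_mul_Wz h a b c d)⟩
    · exact ⟨_, _, by omega, Or.inr (Wz_mul_W h a b c d)⟩
    · exact ⟨_, _, by omega, Or.inl (Wz_mul_Wz h a b c d)⟩
  inv_mem' := by
    rintro _ ⟨a, b, hab, rfl | rfl⟩
    · exact ⟨-a, -b, by omega, Or.inl (W_inv h a b)⟩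
    · exact ⟨-b, -a, by omega, Or.inr (Wz_inv h a b)⟩

theorem evenM_index {X : Type*} [Group X] {x y z : X} {K : ℕ} (h : WrGen x y z K) : (evenM h).index = 2 := by
  have hW : ∀ a b : ℤ, W x y a b ∈ evenM h ↔ (2 : ℤ) ∣ a - b := by
    refine fun a b => ⟨?_, fun hd => ⟨a, b, hd, Or.inl rfl⟩⟩
    rintro ⟨c, d, hcd, e | e⟩
    · obtain ⟨⟨q, hq⟩, ⟨r, hr⟩⟩ := (W_eq_iff h _ _ _ _).1 e
      rw [mul_assoc] at hq hr
      omega
    · exact absurd e (W_ne_Wz h _ _ _ _)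
  have hz : z ∈ evenM h := ⟨0, 0, by simp, Or.inr (by rw [W_zero h, one_mul])⟩
  rw [Subgroup.index_eq_two_iff]
  refine ⟨W x y 1 0, fun g => ?_⟩
  rcases normal_form h g with ⟨a, b, rfl⟩ | ⟨a, b, rfl⟩
  · rw [W_mul h, hW, hW]
    by_cases hd : (2 : ℤ) ∣ a - b
    · exact Or.inr ⟨hd, by omega⟩
    · exact Or.inl ⟨by omega, hd⟩
  · rw [Wz_mul_W h, Subgroup.mul_mem_cancel_right _ hz, Subgroup.mul_mem_cancel_right _ hz, hW, hW]
    by_cases hd : (2 : ℤ) ∣ a - b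
    · exact Or.inr ⟨hd, by omega⟩
    · exact Or.inl ⟨by omega, hd⟩

theorem sub_le_evenM {X : Type*} [Group X] {x y z : X} {K : ℕ} (h : WrGen x y z K) (t : ℤ) :
    WreathedAut.sub h t ≤ evenM h := by
  rintro g ⟨c, d, ⟨⟨q, hq⟩, rfl⟩ | ⟨⟨q, hq⟩, rfl⟩⟩
  · exact ⟨c, d, ⟨(K : ℤ) * q, by rw [hq]; ring⟩, Or.inl rfl⟩
  · exact ⟨c, d, ⟨(K : ℤ) * q + t, by linarith⟩, Or.inr rfl⟩

theorem wr_both (hS : IsPGroup 2 S) (hF : F.IsSaturated 2) (hS' : Cfsg.IsWreathed S) {x y z : S} {K : ℕ}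
    (h : WrGen x y z K) {G : Type*} [Group G] [Finite G] {ι : S →* G} (hι : F.IsRealizedBy ι) {T : Sylow 2 G}
    (hT : (T : Subgroup G) = ι.range) (hG : _root_.commutator G = ⊤) :
    ¬ IsPGroup 2 (autF F (base h)) ∧ ¬ IsPGroup 2 (autF F (WreathedAut.sub h 0)) := by
  constructor <;> intro hp
  · refine false_of_essential_le hS hF (WreathedSimple.aut_isPGroup hS') hι hT hG (evenM h) (evenM_index h)
      fun E hE => ?_
    have hc := essential_cand hS hF hE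
    obtain ⟨h1, h2, h3⟩ := cand_subgroupOf hc
    rcases WreathedAut.cases_of_aut h h2 h3 with hX | ⟨t, hX⟩
    · exfalso
      refine (essential_not_isPGroup hS hF hE).2.2 ?_
      rw [← hat_subgroupOf hc.lt.le, hX]
      exact (autF_isPGroup F _).1 hp
    · rw [← hat_subgroupOf hc.lt.le, hX]
      exact Subgroup.map_mono (sub_le_evenM h t)
  · refine false_of_essential_le hS hF (WreathedSimple.aut_isPGroup hS') hι hT hG (base h) (base_index h)
      fun E hE => ?_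
    have hc := essential_cand hS hF hE
    obtain ⟨h1, h2, h3⟩ := cand_subgroupOf hc
    rcases WreathedAut.cases_of_aut h h2 h3 with hX | ⟨t, hX⟩
    · rw [← hat_subgroupOf hc.lt.le, hX]
    · exfalso
      refine (essential_not_isPGroup hS hF hE).2.2 ?_
      obtain ⟨s, hs⟩ := Wr.sub_conj h t
      rw [← hat_subgroupOf hc.lt.le, hX, ← hs, ← img_conj_hat]
      exact isPGroup_autGroup_conj (hat_le _) s.2 ((autF_isPGroup F _).1 hp)

theorem wr_realized (hS : IsPGroup 2 S) (hF : F.IsSaturated 2) (hS' : Cfsg.IsWreathed S) {x y z : S} {K : ℕ}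
    (h : WrGen x y z K)
    {G₀ : Type*} [Group G₀] [Finite G₀] {ι₀ : S →* G₀} (hι₀ : F.IsRealizedBy ι₀) {T₀ : Sylow 2 G₀}
    (hT₀ : (T₀ : Subgroup G₀) = ι₀.range) (hG₀ : _root_.commutator G₀ = ⊤)
    {G : Type} [Group G] [Finite G] (ι : S →* G) (hι : Function.Injective ι) (T : Sylow 2 G)
    (hT : (T : Subgroup G) = ι.range) (hG : _root_.commutator G = ⊤) :
    ∃ ι' : S →* G, F.IsRealizedBy ι' ∧ (T : Subgroup G) = ι'.range := by
  haveI : Fact (Nat.Prime 2) := ⟨Nat.prime_two⟩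
  haveI := Wr.base_normal h
  have hE : (pullSys ι hι).IsSaturated 2 := realized_saturated (pullSys_realized ι hι) ⟨T, hT⟩
  obtain ⟨x1, y1, h1, hx1, hy1, α, hα, hαx, hαy, hαu⟩ :=
    Wr.exists_adapted hS hF h (wr_both hS hF hS' h hι₀ hT₀ hG₀).1
  obtain ⟨x2, y2, h2, hx2, hy2, β, hβ, hβx, hβy, hβu⟩ :=
    Wr.exists_adapted hS hE h (wr_both hS hE hS' h (pullSys_realized ι hι) hT hG).1
  rw [autF_pull] at hβ hβu
  obtain ⟨θ, hθ⟩ := Wr.exists_iso h1 h2
  let ι' : S →* G := ι.comp θ.toMonoidHom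
  have hι' : Function.Injective ι' := hι.comp θ.injective
  have hT' : (T : Subgroup G) = ι'.range := by
    show _ = (ι.comp θ.toMonoidHom).range
    rw [MonoidHom.range_comp, MonoidHom.range_eq_top.2 θ.surjective, ← MonoidHom.range_eq_map, hT]
  have hE' : (pullSys ι' hι').IsSaturated 2 := realized_saturated (pullSys_realized ι' hι') ⟨T, hT'⟩
  refine ⟨ι', realized_of_odd hS hF (WreathedSimple.aut_isPGroup hS') ι' hι' T hT' fun R hR => ?_, hT'⟩
  obtain ⟨-, h2', h3⟩ := cand_subgroupOf hR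
  rcases WreathedAut.cases_of_aut h h2' h3 with hX | ⟨t, hX⟩
  swap
  · obtain ⟨s, hs⟩ := Wr.sub_conj h t
    rw [← hat_subgroupOf hR.lt.le, hX, ← hs, ← img_conj_hat]
    have a := (wr_both hS hF hS' h hι₀ hT₀ hG₀).2
    have b := (wr_both hS hE' hS' h (pullSys_realized ι' hι') hT' hG).2
    obtain ⟨M, p, q, htrio, -⟩ := Wr.trio_sub h
    exact ⟨oddLE_conj (hat_le _) s.2 (oddLE_hat fun φ _ hodd => htrio.mem_of_odd (inn_le_autF _ _) b hodd),
      oddLE_conj (hat_le _) s.2 (oddLE_hat fun φ _ hodd => htrio.mem_of_odd (inn_le_autF _ _) a hodd)⟩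
  rw [← hat_subgroupOf hR.lt.le, hX]
  have hb1 := Wr.base_congr h h1 hx1 hy1
  have hb2 := Wr.base_congr h h2 hx2 hy2
  have hmap : (base h).map θ.toMonoidHom = base h := by
    conv_lhs => rw [← hb1]
    rw [(Wr.map_base h1 h2 hθ).1, hb2]
  let r : base h ≃* base h := (restr θ (base h)).trans (MulEquiv.subgroupCongr hmap)
  have hr : ∀ v : base h, ((r v : base h) : S) = θ v := fun v => rfl
  have hW1 : W x1 y1 1 0 = x1 ∧ W x1 y1 0 1 = y1 ∧ W x2 y2 1 0 = x2 ∧ W x2 y2 0 1 = y2 := by simp [W]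
  have hex : θ x1 = x2 := by rw [← hW1.1, (hθ 1 0).1, hW1.2.2.1]
  have hey : θ y1 = y2 := by rw [← hW1.2.1, (hθ 0 1).1, hW1.2.2.2]
  have hαβ : MulAut.congr r α = β := by
    refine MulEquiv.ext fun v => ?_
    have hrx : r ⟨x1, hx1⟩ = ⟨x2, hx2⟩ := Subtype.ext ((hr _).trans hex)
    have hry : r ⟨y1, hy1⟩ = ⟨y2, hy2⟩ := Subtype.ext ((hr _).trans hey)
    obtain ⟨u, rfl⟩ := r.surjective v
    show r (α (r.symm (r u))) = _
    rw [MulEquiv.symm_apply_apply]
    obtain ⟨a, b, hab⟩ : ∃ a b : ℤ, (u : S) = W x1 y1 a b := by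
      have hu : (u : S) ∈ base h1 := hb1.symm ▸ u.2
      exact hu
    have hu : u = (⟨x1, hx1⟩ : base h) ^ a * (⟨y1, hy1⟩ : base h) ^ b := Subtype.ext hab
    have eαx : α ⟨x1, hx1⟩ = (⟨y1, hy1⟩ : base h)⁻¹ := Subtype.ext hαx
    have eαy : α ⟨y1, hy1⟩ = ⟨x1, hx1⟩ * (⟨y1, hy1⟩ : base h)⁻¹ := Subtype.ext hαy
    have eβx : β ⟨x2, hx2⟩ = (⟨y2, hy2⟩ : base h)⁻¹ := Subtype.ext hβx
    have eβy : β ⟨y2, hy2⟩ = ⟨x2, hx2⟩ * (⟨y2, hy2⟩ : base h)⁻¹ := Subtype.ext hβy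
    rw [hu]
    simp only [map_mul, map_zpow, eαx, eαy, map_inv, hrx, hry, eβx, eβy]
  have hG' : ∀ ψ : MulAut (base h), ψ ∈ autG ι' (base h) ↔ MulAut.congr r ψ ∈ autG ι (base h) :=
    fun ψ => Wr.autG_transport ι θ r hr
  constructor
  · refine oddLE_hat fun φ hφ hodd => ?_
    obtain ⟨n, rfl⟩ := Subgroup.mem_zpowers_iff.1 (hαu φ hφ hodd)
    rw [autF_pull, hG', map_zpow, hαβ]
    exact Subgroup.zpow_mem _ hβ n
  · refine oddLE_hat fun φ hφ hodd => ?_
    rw [autF_pull, hG'] at hφ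
    obtain ⟨n, hn⟩ := Subgroup.mem_zpowers_iff.1 (hβu _ hφ (by rwa [MulEquiv.orderOf_eq]))
    rw [← hαβ, ← map_zpow] at hn
    rw [← (MulAut.congr r).injective hn]
    exact Subgroup.zpow_mem _ hα n

end CfsgLib.Fsys.RankTwoSimple
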