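import Cfsg.Agent.Lib.FusionSystem.WreathedSimple

/-
Simplicity of 2-fusion systems, with the Sylow 2-subgroup read off from a homomorphism of a smaller group.
-/

set_option autoImplicit false

namespace CfsgLib.Fsys.SylowImage

open Cfsg

theorem quasiDihedral_congr {A B : Type*} [Group A] [Group B] (e : A ≃* B) (h : IsQuasiDihedral A) :
    IsQuasiDihedral B := by
  obtain ⟨n, hn, hc, x, y, hx, hy, hxy⟩ := h
  exact ⟨n, hn, by rw [← Nat.card_congr e.toEquiv, hc], e x, e y, by rw [e.orderOf_eq, hx],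
    by rw [e.orderOf_eq, hy], by rw [← map_inv, ← map_mul, ← map_mul, hxy, map_pow]⟩

theorem wreathed_congr {A B : Type*} [Group A] [Group B] (e : A ≃* B) (h : IsWreathed A) :
    IsWreathed B := by
  obtain ⟨n, hn, hc, x, y, z, hx, hxy, hd, hz, hzxy⟩ := h
  refine ⟨n, hn, by rw [← Nat.card_congr e.toEquiv, hc], e x, e y, e z, by rw [e.orderOf_eq, hx],
    by rw [← map_mul, hxy, map_mul], ?_, by rw [e.orderOf_eq, hz],
    by rw [← map_inv, ← map_mul, ← map_mul, hzxy]⟩
  change Subgroup.zpowers (e.toMonoidHom x) ⊓ Subgroup.zpowers (e.toMonoidHom y) = ⊥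
  rw [← MonoidHom.map_zpowers, ← MonoidHom.map_zpowers, ← Subgroup.map_inf _ _ _ e.injective, hd,
    Subgroup.map_bot]

variable {A G : Type*} [Group A] [Finite A] [Group G] [Finite G]

/-- A homomorphism faithful on a Sylow subgroup, with odd relative order, identifies Sylow subgroups. -/
theorem sylow_equiv {p : ℕ} [Fact p.Prime] (φ : A →* G) (P : Sylow p A)
    (hker : ∀ x ∈ P, φ x = 1 → x = 1) {a b : ℕ} (hb : ¬ p ∣ b)
    (hcard : Nat.card G * a = Nat.card A * b) (S : Sylow p G) :
    Nonempty ((P : Subgroup A) ≃* (S : Subgroup G)) := by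
  set f : (P : Subgroup A) →* G := φ.comp (P : Subgroup A).subtype with hf
  have hinj : Function.Injective f := (injective_iff_map_eq_one f).2 fun x hx =>
    Subtype.ext (hker x x.2 hx)
  obtain ⟨Q, hQ⟩ := ((P.2.of_equiv (MonoidHom.ofInjective hinj)) : IsPGroup p f.range).exists_le_sylow
  have hc : Nat.card f.range = Nat.card (P : Subgroup A) :=
    (Nat.card_congr (MonoidHom.ofInjective hinj).toEquiv).symm
  obtain ⟨m, hm⟩ := Q.2.exists_card_eq
  have hco : Nat.Coprime (Nat.card (Q : Subgroup G)) ((P : Subgroup A).index * b) := by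
    rw [hm]
    exact Nat.Coprime.pow_left _ ((Nat.Prime.coprime_iff_not_dvd Fact.out).2
      (Nat.Prime.not_dvd_mul Fact.out P.not_dvd_index hb))
  have hdvd : Nat.card (Q : Subgroup G) ∣ Nat.card (P : Subgroup A) := by
    refine hco.dvd_of_dvd_mul_right ?_
    rw [← mul_assoc, Subgroup.card_mul_index, ← hcard]
    exact Dvd.dvd.mul_right (Subgroup.card_subgroup_dvd_card _) a
  have he : f.range = (Q : Subgroup G) :=
    Subgroup.eq_of_le_of_card_ge hQ (hc ▸ Nat.le_of_dvd Nat.card_pos hdvd)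
  exact ⟨(MonoidHom.ofInjective hinj).trans ((MulEquiv.subgroupCongr he).trans (Sylow.equiv Q S))⟩

/-- Simple fusion from a quasi-dihedral or wreathed Sylow subgroup of a mapped group. -/
theorem isSimple [IsSimpleGroup G] (φ : A →* G) (P : Sylow 2 A)
    (hker : ∀ x ∈ P, φ x = 1 → x = 1) {a b : ℕ} (hb : ¬ 2 ∣ b)
    (hcard : Nat.card G * a = Nat.card A * b)
    (hP : IsQuasiDihedral (P : Subgroup A) ∨ IsWreathed (P : Subgroup A)) (S : Sylow 2 G) :
    (groupFusionSystem (S : Subgroup G)).IsSimple 2 := by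
  haveI := Fact.mk Nat.prime_two
  obtain ⟨e⟩ := sylow_equiv φ P hker hb hcard S
  have hS : IsQuasiDihedral (S : Subgroup G) ∨ IsWreathed (S : Subgroup G) :=
    hP.imp (quasiDihedral_congr e) (wreathed_congr e)
  have hna : ¬ IsMulCommutative G := fun hc => by
    obtain ⟨u, v, huv⟩ := (CfsgLib.Involution.QWSimple.exists_closure_sup hS).2
    exact huv (Subtype.ext (hc.is_comm.comm (u : G) (v : G)))
  rcases hS with hS | hS
  · exact DihedralSimple.quasiDihedral hna S hS
  · exact WreathedSimple.wreathed hna S hS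

end CfsgLib.Fsys.SylowImage
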