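import Cfsg.Agent.Lib.FusionSystem.MaxClassRealize.ModelsSD
import Cfsg.Agent.Lib.FusionSystem.MaxClassRealize.ModelsW
import Cfsg.Agent.Lib.Classical.Dickson.MaxExcl
import Cfsg.Agent.Lib.Classical.SLBasic
import Cfsg.Agent.Lib.FusionSystem.SimpleViaSylowImage
import Cfsg.Agent.Lib.Involution.PSL3Involution
import Cfsg.Agent.Lib.Classical.SLOrders

/-
Projective special linear groups of degree two and three with prescribed Sylow 2-subgroups.
-/
set_option autoImplicit false
set_option linter.style.haveILetI false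

namespace CfsgLib.Fsys.RankTwoSimpleGroups

open Matrix CfsgLib.Classical.Dickson CfsgLib.Fsys.MaxClassRealize CfsgLib.Involution
open scoped MatrixGroups

theorem commutator_eq_top {G : Type*} [Group G] [IsSimpleGroup G] (h : ∃ a b : G, a * b ≠ b * a) :
    _root_.commutator G = ⊤ := by
  refine (IsSimpleGroup.eq_bot_or_eq_top_of_normal _ inferInstance).resolve_left fun e => ?_
  obtain ⟨a, b, hab⟩ := h
  exact hab (commutatorElement_eq_one_iff_mul_comm.1
    (Subgroup.mem_bot.1 (e ▸ Subgroup.commutator_mem_commutator (Subgroup.mem_top a) (Subgroup.mem_top b))))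

theorem sylow_card {G : Type*} [Group G] [Finite G] (T : Sylow 2 G) {a c o : ℕ} (hc : Odd c) (ho : Odd o)
    (h : c * Nat.card G = 2 ^ a * o) : Nat.card (T : Subgroup G) = 2 ^ a := by
  haveI : Fact (Nat.Prime 2) := ⟨Nat.prime_two⟩
  rw [T.card_eq_multiplicity]
  congr 1
  have hz : ∀ v : ℕ, Odd v → v.factorization 2 = 0 := fun v hv =>
    Nat.factorization_eq_zero_of_not_dvd fun hd => Nat.not_even_iff_odd.2 hv (even_iff_two_dvd.2 hd)
  have h1 : (c * Nat.card G).factorization 2 = (2 ^ a * o).factorization 2 := by rw [h]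
  rw [Nat.factorization_mul hc.pos.ne' Nat.card_pos.ne', Nat.factorization_mul (by positivity) ho.pos.ne',
    Finsupp.add_apply, Finsupp.add_apply, hz c hc, hz o ho, Nat.prime_two.factorization_pow,
    Finsupp.single_eq_same] at h1
  omega

/-- Sylow 2-subgroups of order at least eight in `PSL(2,q)` are dihedral. -/
theorem psl2_dihedral {F : Type*} [Field F] [Fintype F] (hodd : Fintype.card F % 2 = 1)
    (h16 : 16 ∣ Fintype.card F ^ 2 - 1) (S : Sylow 2 (ProjectiveSpecialLinearGroup (Fin 2) F)) :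
    ∃ m : ℕ, 4 ≤ m ∧ Nonempty (↥(S : Subgroup (ProjectiveSpecialLinearGroup (Fin 2) F)) ≃* DihedralGroup m) := by
  classical
  obtain ⟨p, hp⟩ := CharP.exists F
  haveI : Fact p.Prime := ⟨CharP.char_is_prime F p⟩
  have hpodd : p ≠ 2 := by
    rintro rfl
    obtain ⟨n, -, hn⟩ := FiniteField.card F 2
    rw [hn] at hodd
    have : 2 ∣ 2 ^ (n : ℕ) := dvd_pow_self 2 n.pos.ne'
    omega
  set T := (S : Subgroup (ProjectiveSpecialLinearGroup (Fin 2) F))
  set q := Fintype.card F with hqdef
  have hG : Nat.card (ProjectiveSpecialLinearGroup (Fin 2) F) = Nat.card (sln F) := by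
    rw [← range_toPGL' (F := F)]
    exact Nat.card_congr
      (MonoidHom.ofInjective ProjectiveSpecialLinearGroup.toPGL_injective).toEquiv
  have hsln : 2 * Nat.card (sln F) = (q + 1) * q * (q - 1) := card_sln_odd hodd
  obtain ⟨n, hn⟩ : ∃ n, Nat.card T = 2 ^ n := IsPGroup.iff_card.mp S.isPGroup'
  have hmax : ¬ 2 ^ (n + 1) ∣ Nat.card (sln F) := by
    intro hd
    have h1 := S.not_dvd_index
    rw [← hG, ← T.card_mul_index, hn, pow_succ] at hd
    exact h1 (Nat.dvd_of_mul_dvd_mul_left (by positivity) hd)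
  have h8 : 8 ≤ Nat.card T := by
    rw [hn]
    by_contra hlt
    apply hmax
    have h8' : 8 ∣ Nat.card (sln F) := by
      have h2 : 16 ∣ 2 * Nat.card (sln F) := by
        rw [hsln, mul_right_comm, ← Nat.sq_sub_sq, one_pow]
        exact Dvd.dvd.mul_right h16 q
      omega
    have : n + 1 ≤ 3 := by
      by_contra hgt
      have : 2 ^ 3 ≤ 2 ^ n := Nat.pow_le_pow_right (by norm_num) (by omega)
      omega
    exact (pow_dvd_pow 2 this).trans h8'
  have hpT : ¬ p ∣ Nat.card T := by
    rw [hn]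
    intro hd
    exact hpodd ((Nat.prime_dvd_prime_iff_eq Fact.out Nat.prime_two).mp
      ((Fact.out : p.Prime).dvd_of_dvd_pow hd))
  have hdihedral : ∃ m, 4 ≤ m ∧ Nonempty (T ≃* DihedralGroup m) := by
    let e := inPGLEquiv T
    have hcard : Nat.card (inPGL T) = Nat.card T := (Nat.card_congr e.toEquiv).symm
    have hle : inPGL T ≤ sln F := by
      rw [← range_toPGL' (F := F)]
      exact Subgroup.map_le_range _ _
    cases kind p (inPGL T) with
    | fixed x h =>
      exfalso
      apply hmax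
      have h1 : inPGL T ≤ stabIn (sln F) x := fun g hg => ⟨hle hg, h g hg⟩
      have h2 := Subgroup.card_dvd_of_le h1
      rw [hcard, hn] at h2
      rw [← card_stabIn le_rfl x, pow_succ]
      exact mul_dvd_mul h2 (show 2 ∣ q + 1 by omega)
    | cyclic c hc hp' =>
      exfalso
      apply hmax
      have hcG : c ∈ inPGL T := hc ▸ Subgroup.mem_zpowers c
      obtain ⟨a, -, ha⟩ := hcG
      have hord : orderOf a = orderOf c := by
        rw [← ha, orderOf_injective _ ProjectiveSpecialLinearGroup.toPGL_injective]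
      have hgcd : Nat.gcd 2 (q - 1) = 2 := Nat.gcd_eq_left (by omega)
      have h1 := psl_order_dvd p (hord ▸ hp')
      rw [hord, ← Nat.card_zpowers, ← hc, hcard, hn, ← hqdef, hgcd] at h1
      rcases h1 with h1 | h1
      · have e : Nat.card (sln F) = (q - 1) / 2 * (q + 1) * q := by
          have e1 : q - 1 = 2 * ((q - 1) / 2) := by omega
          apply Nat.eq_of_mul_eq_mul_left two_pos
          rw [hsln]
          nth_rewrite 1 [e1]
          ring
        rw [e, pow_succ]
        exact dvd_mul_of_dvd_left (mul_dvd_mul h1 (by omega)) q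
      · have e : Nat.card (sln F) = (q + 1) / 2 * (q - 1) * q := by
          have e1 : q + 1 = 2 * ((q + 1) / 2) := by omega
          apply Nat.eq_of_mul_eq_mul_left two_pos
          rw [hsln]
          nth_rewrite 1 [e1]
          ring
        rw [e, pow_succ]
        exact dvd_mul_of_dvd_left (mul_dvd_mul h1 (by omega)) q
    | dihedral c hc hp' h2 hf =>
      obtain ⟨f⟩ := hf
      refine ⟨orderOf c, ?_, ⟨e.trans f⟩⟩
      have := Nat.card_congr f.toEquiv
      rw [hcard, DihedralGroup.nat_card] at this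
      omega
    | a4 h =>
      exfalso
      have := Nat.card_congr h.some.toEquiv
      rw [hcard, hn, nat_card_alternatingGroup] at this
      simp [Nat.factorial] at this
      have h3 : 3 ∣ 2 ^ n := ⟨4, by omega⟩
      exact absurd (Nat.prime_three.dvd_of_dvd_pow h3) (by norm_num)
    | s4 h =>
      exfalso
      have := Nat.card_congr h.some.toEquiv
      rw [hcard, hn, Nat.card_perm] at this
      simp [Nat.factorial] at this
      have h3 : 3 ∣ 2 ^ n := ⟨8, by omega⟩
      exact absurd (Nat.prime_three.dvd_of_dvd_pow h3) (by norm_num)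
    | a5 h =>
      exfalso
      have := Nat.card_congr h.some.toEquiv
      rw [hcard, hn, nat_card_alternatingGroup] at this
      simp [Nat.factorial] at this
      have h3 : 3 ∣ 2 ^ n := ⟨20, by omega⟩
      exact absurd (Nat.prime_three.dvd_of_dvd_pow h3) (by norm_num)
    | pgl A h hA =>
      exfalso
      apply hpT
      rw [← hcard, Nat.card_congr (Subgroup.equivMapOfInjective (inPGL T) (MulAut.conj h).toMonoidHom
        (MulAut.conj h).injective).toEquiv, hA]
      exact (dvd_card_ratPSL p A).trans (Subgroup.card_dvd_of_le fun g hg => by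
        obtain ⟨a, rfl⟩ := hg
        exact ⟨SpecialLinearGroup.toPGL a, rfl⟩)
    | psl A hA' h hA =>
      exfalso
      apply hpT
      rw [← hcard, Nat.card_congr (Subgroup.equivMapOfInjective (inPGL T) (MulAut.conj h).toMonoidHom
        (MulAut.conj h).injective).toEquiv, hA]
      exact dvd_card_ratPSL p A
  exact hdihedral

/-- A group `PSL(2,q)` with dihedral Sylow 2-subgroups of prescribed order. -/
theorem exists_psl2 (e : ℕ) :
    ∃ (K : Type) (_ : Field K) (_ : Fintype K),
      Fintype.card K % 8 = 1 ∧ Odd (Fintype.card K) ∧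
      _root_.commutator (ProjectiveSpecialLinearGroup (Fin 2) K) = ⊤ ∧
      ∃ T : Sylow 2 (ProjectiveSpecialLinearGroup (Fin 2) K),
        Nonempty (↥(T : Subgroup (ProjectiveSpecialLinearGroup (Fin 2) K)) ≃* DihedralGroup (4 * 2 ^ e)) := by
  obtain ⟨F, iF, iFt, w, m, hc, h5, hw, hm, hq⟩ := five_field (e + 1)
  classical
  have hm0 := hm.pos
  have hq8 : Fintype.card F % 8 = 1 := by
    rw [hq, show 4 * 2 ^ (e + 1) * m + 1 = 8 * (2 ^ e * m) + 1 by rw [pow_succ]; ring]
    omega
  have hodd : Fintype.card F % 2 = 1 := by omega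
  have h16 : 16 ∣ Fintype.card F ^ 2 - 1 := by
    rw [show Fintype.card F = 8 * (2 ^ e * m) + 1 by rw [hq, pow_succ]; ring,
      show (8 * (2 ^ e * m) + 1) ^ 2 = 16 * (4 * (2 ^ e * m) ^ 2 + 2 ^ e * m) + 1 by ring, Nat.add_sub_cancel]
    exact dvd_mul_right _ _
  haveI : IsSimpleGroup (ProjectiveSpecialLinearGroup (Fin 2) F) :=
    CfsgLib.Classical.psl_fin_isSimpleGroup le_rfl fun _ => by
      rw [hq]; have : 1 ≤ 2 ^ (e + 1) * m := Nat.mul_pos (by positivity) hm0; nlinarith
  let T : Sylow 2 (ProjectiveSpecialLinearGroup (Fin 2) F) := default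
  obtain ⟨k, hk, ⟨f⟩⟩ := psl2_dihedral hodd h16 T
  have hG : Nat.card (ProjectiveSpecialLinearGroup (Fin 2) F) = Nat.card (sln F) := by
    rw [← range_toPGL' (F := F)]
    exact Nat.card_congr
      (MonoidHom.ofInjective ProjectiveSpecialLinearGroup.toPGL_injective).toEquiv
  have hcard := sylow_card T (a := e + 3) (c := 1)
    (o := (2 * 2 ^ (e + 1) * m + 1) * (4 * 2 ^ (e + 1) * m + 1) * m) odd_one
    ((Odd.mul ⟨2 ^ (e + 1) * m, by ring⟩ ⟨2 * 2 ^ (e + 1) * m, by ring⟩).mul hm)
    (by
      rw [one_mul, hG]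
      refine Nat.eq_of_mul_eq_mul_left two_pos ?_
      rw [card_sln_odd hodd, hq, Nat.add_sub_cancel]
      ring)
  rw [Nat.card_congr f.toEquiv, DihedralGroup.nat_card] at hcard
  obtain rfl : k = 4 * 2 ^ e := by
    rw [pow_add] at hcard; omega
  haveI : NeZero (4 * 2 ^ e) := ⟨by positivity⟩
  refine ⟨F, iF, iFt, hq8, Nat.odd_iff.2 hodd, commutator_eq_top ?_, T, ⟨f⟩⟩
  refine ⟨(f.symm (DihedralGroup.r 1) : ProjectiveSpecialLinearGroup (Fin 2) F),
    (f.symm (DihedralGroup.sr 0) : ProjectiveSpecialLinearGroup (Fin 2) F), fun e' => ?_⟩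
  have := f.symm.injective ((map_mul f.symm _ _).trans ((Subtype.ext e').trans (map_mul f.symm _ _).symm))
  rw [DihedralGroup.r_mul_sr, DihedralGroup.sr_mul_r] at this
  injection this with h1
  have h2 : ((2 : ℕ) : ZMod (4 * 2 ^ e)) = 0 := by
    push_cast
    linear_combination -h1
  rw [ZMod.natCast_eq_zero_iff] at h2
  have := Nat.le_of_dvd two_pos h2
  omega

section Three

variable {F : Type*} [Field F] [Fintype F]

open CfsgLib in
/-- Sylow 2-subgroups of `PSL(3,q)` are those of `GL(2,q)`, `q` odd. -/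
theorem psl3_sylow (hodd : Fintype.card F % 2 = 1) (P : Sylow 2 (GL (Fin 2) F))
    (S : Sylow 2 (ProjectiveSpecialLinearGroup (Fin 3) F)) :
    Nonempty (↥(P : Subgroup (GL (Fin 2) F)) ≃* ↥(S : Subgroup (ProjectiveSpecialLinearGroup (Fin 3) F))) := by
  haveI := Fact.mk Nat.prime_two
  set Z := Subgroup.center (Matrix.SpecialLinearGroup (Fin 3) F)
  let π : Matrix.SpecialLinearGroup (Fin 3) F →* Matrix.ProjectiveSpecialLinearGroup (Fin 3) F :=
    QuotientGroup.mk' Z
  let φ := π.comp (PSL3Involution.blockHom (F := F))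
  have hinj : Function.Injective (PSL3Involution.blockHom (F := F)) := by
    intro A B h
    have e := fun i j => congrArg (fun y : Matrix.SpecialLinearGroup (Fin 3) F => y.1 i j) h
    refine Units.ext (Matrix.ext fun i j => ?_)
    fin_cases i <;> fin_cases j
    · simpa [PSL3Involution.blockHom_coe] using e 1 1
    · simpa [PSL3Involution.blockHom_coe] using e 1 2
    · simpa [PSL3Involution.blockHom_coe] using e 2 1
    · simpa [PSL3Involution.blockHom_coe] using e 2 2
  have hker : ∀ x ∈ P, φ x = 1 → x = 1 := by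
    intro x hx h1
    have hz : PSL3Involution.blockHom x ∈ Z :=
      (QuotientGroup.eq_one_iff (PSL3Involution.blockHom x)).1 h1
    obtain ⟨k, hk⟩ := P.2 ⟨x, hx⟩
    have hk' : x ^ 2 ^ k = 1 := congrArg Subtype.val hk
    have ho : orderOf x ∣ 3 := by
      rw [← orderOf_injective _ hinj x, ← Subgroup.orderOf_mk _ hz]
      refine (orderOf_dvd_natCard _).trans ?_
      rw [CfsgLib.Classical.card_center_sl 3 (by omega)]
      exact Nat.gcd_dvd_left _ _
    rw [← orderOf_eq_one_iff]
    exact Nat.eq_one_of_dvd_coprimes (Nat.Coprime.pow_left k (show Nat.Coprime 2 3 by norm_num))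
      (orderOf_dvd_of_pow_eq_one hk') ho
  refine Fsys.SylowImage.sylow_equiv φ P hker (a := Nat.gcd 3 (Fintype.card F - 1))
    (b := Fintype.card F ^ 2 * (Fintype.card F ^ 2 + Fintype.card F + 1)) ?_ ?_ S
  · rw [← Nat.even_iff.trans Nat.dvd_iff_mod_eq_zero.symm]
    have : Odd (Fintype.card F) := Nat.odd_iff.2 hodd
    simp [parity_simps, this, Nat.not_even_iff_odd.2 this]
  · have h1 := CfsgLib.Classical.card_psl_mul (F := F) rfl 3 (by omega)
    have h2 := CfsgLib.Classical.card_sl_mul (F := F) rfl 3 (by omega)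
    have h3 := GL2SylowTwo.card_gl_two (F := F)
    obtain ⟨r, hr⟩ : ∃ r, Fintype.card F = r + 1 :=
      ⟨Fintype.card F - 1, by have := Fintype.card_pos (α := F); omega⟩
    have hr0 : 0 < r := by have := Fintype.one_lt_card (α := F); omega
    rw [mul_comm, h1]
    refine Nat.eq_of_mul_eq_mul_left hr0 ?_
    rw [hr, Nat.add_sub_cancel] at h2
    rw [h2, h3, hr, Nat.add_sub_cancel, Fin.prod_univ_three]
    simp only [Fin.val_zero, Fin.val_one, Fin.val_two, pow_zero, pow_one]
    have e1 : (r + 1) ^ 3 - 1 = r * ((r + 1) ^ 2 + (r + 1) + 1) := by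
      rw [Nat.sub_eq_iff_eq_add (Nat.one_le_pow _ _ (by omega))]; ring
    have e2 : (r + 1) ^ 3 - (r + 1) = (r + 1) * (r * (r + 2)) := by
      rw [Nat.sub_eq_iff_eq_add (Nat.le_self_pow (by omega) _)]; ring
    have e3 : (r + 1) ^ 3 - (r + 1) ^ 2 = (r + 1) ^ 2 * r := by
      rw [Nat.sub_eq_iff_eq_add (Nat.pow_le_pow_right (by omega) (by omega))]; ring
    rw [e1, e2, e3]; ring

end Three

theorem noncomm_of_sylow {G : Type*} [Group G] (T : Subgroup G) (h : Cfsg.IsQuasiDihedral T ∨ Cfsg.IsWreathed T) :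
    ∃ a b : G, a * b ≠ b * a := by
  obtain ⟨u, v, huv⟩ := (CfsgLib.Involution.QWSimple.exists_closure_sup h).2
  exact ⟨u, v, fun e => huv (Subtype.ext e)⟩

/-- A group `PSL(3,q)` with quasi-dihedral Sylow 2-subgroups of prescribed order. -/
theorem exists_psl3_qd {e : ℕ} (he : 1 ≤ e) :
    ∃ (K : Type) (_ : Field K) (_ : Fintype K), Odd (Fintype.card K) ∧
      _root_.commutator (ProjectiveSpecialLinearGroup (Fin 3) K) = ⊤ ∧
      ∃ T : Sylow 2 (ProjectiveSpecialLinearGroup (Fin 3) K),
        Nat.card (T : Subgroup (ProjectiveSpecialLinearGroup (Fin 3) K)) = 8 * 2 ^ e ∧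
        Cfsg.IsQuasiDihedral (T : Subgroup (ProjectiveSpecialLinearGroup (Fin 3) K)) := by
  obtain ⟨p, j, hp, hpj, hp4⟩ := exists_prime_three (e + 1) (by omega)
  haveI : Fact p.Prime := ⟨hp⟩
  haveI : NeZero p := ⟨hp.ne_zero⟩
  haveI : Finite (GL (Fin 2) (ZMod p)) :=
    Finite.of_injective (fun g => (g : Matrix (Fin 2) (Fin 2) (ZMod p))) Units.val_injective
  have hq : Fintype.card (ZMod p) = p := ZMod.card p
  haveI : IsSimpleGroup (ProjectiveSpecialLinearGroup (Fin 3) (ZMod p)) :=
    CfsgLib.Classical.psl_fin_isSimpleGroup (by omega) (by omega)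
  let P : Sylow 2 (GL (Fin 2) (ZMod p)) := default
  let T : Sylow 2 (ProjectiveSpecialLinearGroup (Fin 3) (ZMod p)) := default
  obtain ⟨d, hd⟩ : ∃ d, p - 1 = 2 * (2 * d + 1) := ⟨p / 4, by omega⟩
  have hcard := sylow_card P (a := e + 3) (c := 1) (o := (2 * j + 1) * (2 * d + 1) * (2 * d + 1) * p) odd_one
    ((((odd_two_mul_add_one j).mul (odd_two_mul_add_one d)).mul (odd_two_mul_add_one d)).mul
      (Nat.odd_iff.2 (by omega)))
    (by rw [one_mul, GL2SylowTwo.card_gl_two, hq, hpj, hd, pow_succ, pow_add]; ring)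
  obtain ⟨f⟩ := psl3_sylow (by rw [hq]; omega) P T
  have hqd := SylowImage.quasiDihedral_congr f (GL2SylowTwo.quasiDihedral_of_three_mod_four (by rw [hq]; exact hp4) P)
  refine ⟨ZMod p, inferInstance, inferInstance, by rw [hq]; exact Nat.odd_iff.2 (by omega),
    commutator_eq_top (noncomm_of_sylow _ (Or.inl hqd)), T, ?_, hqd⟩
  rw [← Nat.card_congr f.toEquiv, hcard, pow_add]; ring

/-- A group `PSL(3,q)` with wreathed Sylow 2-subgroups of prescribed order. -/
theorem exists_psl3_wr (i : ℕ) :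
    ∃ (K : Type) (_ : Field K) (_ : Fintype K), Odd (Fintype.card K) ∧
      _root_.commutator (ProjectiveSpecialLinearGroup (Fin 3) K) = ⊤ ∧
      ∃ T : Sylow 2 (ProjectiveSpecialLinearGroup (Fin 3) K),
        Nat.card (T : Subgroup (ProjectiveSpecialLinearGroup (Fin 3) K)) = 32 * (2 ^ i) ^ 2 ∧
        Cfsg.IsWreathed (T : Subgroup (ProjectiveSpecialLinearGroup (Fin 3) K)) := by
  obtain ⟨F, iF, iFt, w, m, hc, h5, hw, hm, hq⟩ := five_field i
  haveI : Finite (GL (Fin 2) F) :=
    Finite.of_injective (fun g => (g : Matrix (Fin 2) (Fin 2) F)) Units.val_injective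
  have hq4 : Fintype.card F % 4 = 1 := by
    rw [hq, mul_assoc]; omega
  haveI : IsSimpleGroup (ProjectiveSpecialLinearGroup (Fin 3) F) :=
    CfsgLib.Classical.psl_fin_isSimpleGroup (by omega) (by omega)
  let P : Sylow 2 (GL (Fin 2) F) := default
  let T : Sylow 2 (ProjectiveSpecialLinearGroup (Fin 3) F) := default
  have hcard := sylow_card P (a := 2 * i + 5) (c := 1) (o := (2 * 2 ^ i * m + 1) * m * m * Fintype.card F) odd_one
    ((((Odd.mul ⟨2 ^ i * m, by ring⟩ hm)).mul hm).mul (Nat.odd_iff.2 (by omega)))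
    (by rw [one_mul, GL2SylowTwo.card_gl_two, hq, Nat.add_sub_cancel, pow_add, mul_comm 2 i, pow_mul]; ring)
  obtain ⟨f⟩ := psl3_sylow (by omega) P T
  have hwr := SylowImage.wreathed_congr f (GL2SylowTwo.wreathed_of_one_mod_four hq4 P)
  refine ⟨F, iF, iFt, Nat.odd_iff.2 (by omega), commutator_eq_top (noncomm_of_sylow _ (Or.inr hwr)), T, ?_, hwr⟩
  rw [← Nat.card_congr f.toEquiv, hcard, pow_add, mul_comm 2 i, pow_mul]; ring

end CfsgLib.Fsys.RankTwoSimpleGroups
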