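import Cfsg.Agent.Lib.FusionSystem.WeakNormalExt
import Cfsg.Agent.Lib.FusionSystem.GroupNormal
import Cfsg.Agent.Lib.FusionSystem.Hyperfocal
import Cfsg.Agent.Lib.FusionSystem.PPowerIndex

/-! Generation of a saturated system modulo a strongly closed subgroup. -/

set_option autoImplicit false

namespace CfsgLib.Fsys.Red

open Cfsg Cfsg.FusionSystem
open Cfsg.FusionSystem (centralizerIn normalizerIn)
open scoped Pointwise

/-- The Frattini argument at the intersection of a Sylow subgroup and a normal subgroup. -/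
theorem exists_normalizer_mul {G : Type*} [Group G] [Finite G] {p : ℕ} [Fact p.Prime] (R : Sylow p G)
    (B : Subgroup G) [B.Normal] (g : G) :
    ∃ n b : G, b ∈ B ∧ (∀ x ∈ (R : Subgroup G) ⊓ B, n * x * n⁻¹ ∈ (R : Subgroup G) ⊓ B) ∧ g = n * b := by
  obtain ⟨R', hR'⟩ := (exists_sylow_iff (inf_le_right : (R : Subgroup G) ⊓ B ≤ B)).2 (isSylowIn_inter_normal R)
  have h := Sylow.normalizer_sup_eq_top R'
  have e : (R' : Subgroup B).map B.subtype = (R : Subgroup G) ⊓ B := by
    rw [hR', Subgroup.subgroupOf_map_subtype, inf_assoc, inf_idem]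
  have hg : g ∈ ((Subgroup.normalizer (((R' : Subgroup B).map B.subtype : Subgroup G) : Set G) ⊔ B :
      Subgroup G) : Set G) := by
    rw [h]
    exact Subgroup.mem_top _
  rw [Subgroup.mul_normal] at hg
  obtain ⟨n, hn, b, hb, rfl⟩ := hg
  refine ⟨n, b, hb, fun x hx => ?_, rfl⟩
  rw [e] at hn
  exact (Subgroup.mem_normalizer_iff.1 hn x).1 hx

variable {Ω : Type*} [Group Ω] {S T : Subgroup Ω} [Finite S] {F : FusionSystem S} {p : ℕ} [Fact p.Prime]

/-- A subsystem containing the automizers of the subgroups containing `T`, and the automorphisms that are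
trivial modulo `T`, is everything. -/
theorem le_of_mod (hS : IsPGroup p S) (hF : F.IsSaturated p) (hT : F.StronglyClosed T) (D : FusionSystem S)
    (htop : ∀ P : Subgroup Ω, T ≤ P → P ≤ S → F.autGroup P ≤ D.autGroup P)
    (hmod : ∀ P : Subgroup Ω, P ≤ S → ∀ α ∈ F.autGroup P, (∀ x ∈ P, x⁻¹ * autFn α x ∈ T) → α ∈ D.autGroup P) :
    F ≤ D := by
  classical
  refine le_of_automizers hS hF D (htop S hT.1 le_rfl) fun P hPS hP hbig => ?_
  by_cases hTP : T ≤ P
  · exact htop P hTP hPS.le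
  haveI := finite_of_le_base hPS.le
  obtain ⟨hA, hfc⟩ := fullyNormalized_good hS hF hP
  have hT' : ∀ (α : MulAut P), α ∈ F.autGroup P → ∀ x ∈ P, x ∈ T → autFn α x ∈ T := fun α hα x hx hxT =>
    sc_apply hT ((mem_autGroup_iff_fn hPS.le).1 hα) hx hxT
  let B : Subgroup (F.autGroup P) :=
    { carrier := {a | ∀ x ∈ P, x⁻¹ * autFn (a : MulAut P) x ∈ T}
      one_mem' := fun x hx => by simp [autFn_id (P := P) hx]
      mul_mem' := fun {a b} ha hb x hx => by
        have h := T.mul_mem (hb x hx) (ha _ (autFn_mem (b : MulAut P) hx))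
        show x⁻¹ * autFn ((a : MulAut P) * (b : MulAut P)) x ∈ T
        rw [autFn_mul _ _ hx]
        simpa [mul_assoc] using h
      inv_mem' := fun {a} ha x hx => by
        have h := T.inv_mem (ha _ (autFn_mem (a : MulAut P)⁻¹ hx))
        rw [autFn_apply_inv _ hx, mul_inv_rev, inv_inv] at h
        exact h }
  haveI hBn : B.Normal := ⟨fun b hb a x hx => by
    set z := autFn (a : MulAut P)⁻¹ x with hz
    have hzP : z ∈ P := autFn_mem _ hx
    have hbz : autFn (b : MulAut P) z ∈ P := autFn_mem _ hzP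
    have h := hT' a a.2 _ (P.mul_mem (P.inv_mem hzP) hbz) (hb z hzP)
    have hf := (mem_autGroup_iff_fn hPS.le).1 a.2
    rw [hf.map_mul (P.inv_mem hzP) hbz, hf.map_inv hzP, hz, autFn_apply_inv _ hx] at h
    show x⁻¹ * autFn ((a : MulAut P) * (b : MulAut P) * (a : MulAut P)⁻¹) x ∈ T
    rw [autFn_mul _ _ hx, autFn_mul _ _ (autFn_mem _ hx)]
    exact h⟩
  obtain ⟨-, R, hR⟩ := hA
  intro α hα
  obtain ⟨n, b, hb, hn, e⟩ := exists_normalizer_mul R B ⟨α, hα⟩
  rw [show α = (n : MulAut P) * (b : MulAut P) from congrArg Subtype.val e]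
  refine mul_mem ?_ (hmod P hPS.le _ b.2 hb)
  have hlt : P < T ⊔ P := lt_of_le_of_ne le_sup_right fun h => hTP (h.symm ▸ le_sup_left)
  obtain ⟨m, hm, hmN, hmP⟩ := exists_mem_normalizer_not_mem hS (sup_le hT.1 hPS.le) hlt
  have hmTP : m ∈ (T : Set Ω) * (P : Set Ω) := by
    rw [← Subgroup.coe_mul_of_right_le_normalizer_left T P (hPS.le.trans (sc_le_normalizer hT))]
    exact hm
  obtain ⟨t, ht, x₀, hx₀, rfl⟩ := hmTP
  have hm' : t * x₀ * x₀⁻¹ ∈ Subgroup.normalizer (P : Set Ω) :=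
    Subgroup.mul_mem _ hmN.2 (Subgroup.inv_mem _ (Subgroup.le_normalizer hx₀))
  rw [mul_inv_cancel_right] at hm'
  have htN : t ∈ normalizerIn S P := ⟨hT.1 ht, hm'⟩
  have htP : t ∉ P := fun h => hmP (P.mul_mem h hx₀)
  have hcB : (⟨conjAut P htN.2, autInducedBy_le_autGroup hPS.le (conjAut_mem_autInducedBy htN.2 htN.1)⟩ :
      F.autGroup P) ∈ (R : Subgroup (F.autGroup P)) ⊓ B := by
    refine ⟨?_, fun x hx => ?_⟩
    · show _ ∈ (R : Subgroup (F.autGroup P))
      rw [hR]
      exact conjAut_mem_autInducedBy htN.2 htN.1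
    · show x⁻¹ * autFn (conjAut P htN.2) x ∈ T
      rw [autFn_coe (conjAut P _) ⟨x, hx⟩, conjAut_coe]
      have h := T.mul_mem (sc_conj hT (S.inv_mem (hPS.le hx)) ht) (T.inv_mem ht)
      simpa [mul_assoc] using h
  have h1 : n * _ * n⁻¹ ∈ (R : Subgroup (F.autGroup P)) := (hn _ hcB).1
  rw [hR] at h1
  obtain ⟨N, g, hPN, hg, hgn⟩ := extAut_of_receptive (fullyCentralized_receptive hS hF hfc) n.2 htN htP h1
  refine (mem_autGroup hPS.le).2 (mem_hom_of_fn ((hbig N g ?_ hg).mono hPN.le) fun x => (hgn x).symm)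
  haveI := finite_of_le_base hg.le
  exact Set.Finite.card_lt_card (Set.toFinite (N : Set Ω)) hPN

end CfsgLib.Fsys.Red
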