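import Cfsg.Agent.Lib.FusionSystem.ReductionChain
import Cfsg.Agent.Lib.FusionSystem.NormalCentralizerClosed

/-! The reduced system of a normal subsystem with small centralizer has it at `p`-power index. -/

set_option autoImplicit false

namespace CfsgLib.Fsys.Red

open Cfsg Cfsg.FusionSystem CfsgLib.Fsys.WNR
open Cfsg.FusionSystem (centralizerIn normalizerIn)

universe u

variable {Ω : Type u} [Group Ω] {S T : Subgroup Ω} [Finite S] {F : FusionSystem S} {E : FusionSystem T}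
  {p : ℕ} [Fact p.Prime]

omit [Finite S] [Fact p.Prime] in
theorem centralized_of_le (hE : E.IsSubsystemOf F) {X : Subgroup Ω} (hC : Centralized F E X)
    {C : FusionSystem (centralizerIn S X)} (h : F.IsCentralizerSystem X C) : E.IsSubsystemOf C :=
  fun P φ hφ => by rw [h P]; exact hC P hφ

/-- `E` has `p`-power index in a system over `T C_S(T)` with the same automizer of `T`. -/
theorem pPowerIndex_reduced (hS : IsPGroup p S) (hE : E.IsNormalIn F p)
    (hfix : fixedSubgroup p F E ≤ T) {F₀ : FusionSystem (T ⊔ centralizerIn S T)}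
    (hs : F₀.IsSaturated p) (hsub₀ : F₀.IsSubsystemOf F) (hsub : E.IsSubsystemOf F₀)
    (haut : F₀.autGroup T = E.autGroup T) : E.HasPPowerIndexIn F₀ p := by
  classical
  have hT := hE.1.2.2.2.1
  have hTS := hT.1
  have hRS : T ⊔ (centralizerIn S T) ≤ S := sup_le hTS centralizerIn_le
  haveI := finite_of_le_base hRS
  haveI := finite_of_le_base hTS
  have hRp := hS.to_le hRS
  have hwn := weaklyNormal_between hS hE.1 hs hsub₀ hsub
  obtain ⟨D, hD⟩ := exists_centralizerSystem F hTS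
  have hfoc : D.focalSubgroup ≤ T := (focal_le_fixedSubgroup hS hE hD).trans hfix
  have hmove : ∀ {R : Subgroup Ω} {g : Ω → Ω}, Fn D R g → ∀ x ∈ R, x⁻¹ * g x ∈ T := fun {R g} hg x hx => by
    obtain ⟨φ, hφ, hφg⟩ := hg
    exact hfoc (Subgroup.subset_closure ⟨R, φ, ⟨x, hx⟩, hφ, by rw [← hφg ⟨x, hx⟩]⟩)
  have hdec : ∀ {x : Ω}, x ∈ T ⊔ (centralizerIn S T) → ∃ u ∈ T, ∃ d ∈ (centralizerIn S T), x = u * d := fun hx =>
    mem_sup_of_commute (fun a ha b hb => (mem_centralizerIn.1 hb).2 a ha) hx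
  have hconjT : ∀ {x t : Ω}, x ∈ T ⊔ (centralizerIn S T) → t ∈ T → x⁻¹ * t * x ∈ T := fun {x t} hx ht => by
    simpa using sc_conj hT (S.inv_mem (hRS hx)) ht
  let G : FusionSystem (T ⊔ (centralizerIn S T)) := predSystem F₀ (fun P f => ∀ x ∈ P, x⁻¹ * f x ∈ T)
    (fun P f g he _ h x hx => he x hx ▸ h x hx)
    (fun P hP s hs' x hx => by
      obtain ⟨t, ht, c, hc, rfl⟩ := hdec hs'
      obtain ⟨u, hu, d, hd, e⟩ := hdec (hP hx)
      have hz : d⁻¹ * (c * d * c⁻¹) ∈ T := hmove (fn_conj (F := D) (P := (centralizerIn S T)) le_rfl hc) d hd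
      have hcu : c * u * c⁻¹ = u := by
        rw [← (mem_centralizerIn.1 hc).2 u hu, mul_inv_cancel_right]
      have hce : c * x * c⁻¹ = x * (d⁻¹ * (c * d * c⁻¹)) := by
        rw [e, show c * (u * d) * c⁻¹ = (c * u * c⁻¹) * (c * d * c⁻¹) by group, hcu]
        group
      have key : x⁻¹ * (t * c * x * (t * c)⁻¹) = (x⁻¹ * t * x) * (d⁻¹ * (c * d * c⁻¹)) * t⁻¹ := by
        calc x⁻¹ * (t * c * x * (t * c)⁻¹) = x⁻¹ * t * (c * x * c⁻¹) * t⁻¹ := by group
          _ = _ := by rw [hce]; group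
      rw [key]
      exact T.mul_mem (T.mul_mem (hconjT (hP hx) ht) hz) (T.inv_mem ht))
    (fun P R f g _ _ hm h h' x hx => by
      have := T.mul_mem (h x hx) (h' _ (hm x hx))
      simpa [mul_assoc] using this)
    (fun P f g hf _ hgf h y hy => by
      obtain ⟨x, hx, rfl⟩ := hf.mem_img.1 hy
      rw [hgf x hx]
      simpa using T.inv_mem (h x hx))
  have hle : F₀ ≤ G := by
    refine le_of_mod hRp hs hwn.2.2.2.1 G (fun P hTP hP α hα => ?_) fun P hP α hα h => ?_
    · have hαf := (mem_autGroup_iff_fn hP).1 hα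
      refine (mem_autGroup_iff_fn hP).2 (fn_predSystem.2 ⟨hαf, fun x hx => ?_⟩)
      have hαT := hαf.mono hTP
      obtain ⟨a, ha, hae⟩ := exists_aut_of_fn hαT
        (hαT.img_eq_self fun t ht => sc_apply hwn.2.2.2.1 hαf (hTP ht) ht)
      rw [haut] at ha
      obtain ⟨β, hβ, hβT, hβC⟩ := hE.2 a ha
      have hβf := (mem_autGroup_iff_fn hRS).1 hβ
      have hβi := (mem_autGroup_iff_fn hRS).1 (inv_mem hβ)
      have hg : Fn F P (autFn β⁻¹ ∘ autFn α) :=
        (Fn.of_subsystem hsub₀ hαf).comp hβi fun y hy => hP (autFn_mem α hy)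
      have hgT : ∀ t ∈ T, (autFn β⁻¹ ∘ autFn α) t = t := fun t ht => by
        have hb : autFn β t = autFn α t := by
          refine (autFn_coe β ⟨t, Subgroup.mem_sup_left ht⟩).trans ?_
          exact (hβT ⟨t, ht⟩).trans (hae ⟨t, ht⟩)
        show autFn β⁻¹ (autFn α t) = t
        rw [← hb, autFn_inv_apply β (Subgroup.mem_sup_left ht)]
      have hgD : Fn D (P ⊓ (centralizerIn S T)) (autFn β⁻¹ ∘ autFn α) :=
        fn_centralizer_of_fix hD inf_le_right (hg.mono (sup_le inf_le_left hTP)) hgT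
      obtain ⟨u, hu, d, hd, rfl⟩ := hdec (hP hx)
      have hdP : d ∈ P := by simpa using P.mul_mem (P.inv_mem (hTP hu)) hx
      have h1 := hmove hgD d ⟨hdP, hd⟩
      have hgd : (autFn β⁻¹ ∘ autFn α) d ∈ (centralizerIn S T) := ((fn_centralizer hD).1 hgD).2.1 d ⟨hdP, hd⟩
      have h2 := (hβC ⟨_, Subgroup.mem_sup_right hgd⟩ hgd).1
      rw [← autFn_coe] at h2
      change ((autFn β⁻¹ ∘ autFn α) d)⁻¹ * autFn β (autFn β⁻¹ (autFn α d)) ∈ T at h2
      rw [autFn_apply_inv β (hP (autFn_mem α hdP))] at h2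
      have h3 : d⁻¹ * autFn α d ∈ T := by simpa [mul_assoc] using T.mul_mem h1 h2
      have h4 : d⁻¹ * (u⁻¹ * autFn α u) * d ∈ T :=
        hconjT (Subgroup.mem_sup_right hd) (T.mul_mem (T.inv_mem hu) (sc_apply hwn.2.2.2.1 hαf (hTP hu) hu))
      rw [hαf.map_mul (hTP hu) hdP,
        show (u * d)⁻¹ * (autFn α u * autFn α d) = d⁻¹ * (u⁻¹ * autFn α u) * d * (d⁻¹ * autFn α d) by group]
      exact T.mul_mem h4 h3
    · exact (mem_autGroup_iff_fn hP).2 (fn_predSystem.2 ⟨(mem_autGroup_iff_fn hP).1 hα, h⟩)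
  refine ⟨hsub, hyperfocal_le_of_coprime fun P hP α hα _ x => ?_, fun P hP α hα => ?_⟩
  · rw [← autFn_coe]
    exact (fn_predSystem.1 (fn_of_le hle ((mem_autGroup_iff_fn hP).1 hα))).2 x x.2
  · have hαF₀ : α ∈ F₀.autGroup P := Subgroup.map_subtype_le _ hα
    obtain ⟨a, ha, e, he, hfe⟩ :=
      Invariant.frattini hwn.2.2 hP ((mem_autGroup_iff_fn (hP.trans le_sup_left)).1 hαF₀)
    rw [haut] at ha
    exact (mem_autGroup_iff_fn hP).2 ((he.comp ((mem_autGroup_iff_fn le_rfl).1 ha) fun x hx => he.mem hx).congr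
      fun x hx => (hfe x hx).symm)

end CfsgLib.Fsys.Red
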