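import Cfsg.Agent.Lib.FusionSystem.ReductionStep
import Cfsg.Prelude.Def_Local

/-! The reduction to the automizer of a normal subsystem with `p`-solvable quotient. -/

set_option autoImplicit false

namespace CfsgLib.Fsys.Red

open Cfsg Cfsg.FusionSystem CfsgLib.Fsys.WNR
open Cfsg.FusionSystem (centralizerIn normalizerIn)

universe u

variable {Ω : Type u} [Group Ω] {S T : Subgroup Ω} [Finite S] {F : FusionSystem S} {E : FusionSystem T}
  {p : ℕ} [Fact p.Prime]

omit [Fact p.Prime] in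
theorem pow_relIndex_mem {G : Type*} [Group G] {A B : Subgroup G} [hA : A.Normal] {a : G}
    (ha : a ∈ B) : a ^ A.relIndex B ∈ A := by
  have h : ((QuotientGroup.mk (s := A.subgroupOf B) ⟨a, ha⟩) : B ⧸ A.subgroupOf B) ^ (A.subgroupOf B).index = 1 := by
    rw [Subgroup.index]
    exact pow_card_eq_one'
  rw [← QuotientGroup.mk_pow, QuotientGroup.eq_one_iff] at h
  exact h

omit [Finite S] in
theorem baseOf_top (hT : F.StronglyClosed T) : baseOf hT (F.autGroup T) = S :=
  le_antisymm (fun _ hx => (mem_baseOf.1 hx).1)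
    fun x hx => mem_baseOf.2 ⟨hx, conjT_mem hT ⟨x, hx⟩ hx hT.1⟩

/-- The first stage is the system itself. -/
theorem stage_top (hS : IsPGroup p S) (hE : E.IsWeaklyNormalIn F p) :
    ∃ F' : FusionSystem (baseOf hE.2.2.2.1 (F.autGroup T)), Stage p F E hE.2.2.2.1 (F.autGroup T) F' := by
  have key : ∀ (R : Subgroup Ω), R = S → ∃ F' : FusionSystem R, F'.IsSaturated p ∧ F'.IsInvariantIn F ∧
      E.IsSubsystemOf F' ∧ F'.autGroup T = F.autGroup T ∧ ∀ {U V : Subgroup Ω} {A : FusionSystem U}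
        {B : FusionSystem V}, A.IsResidualLimitOf F p → B.IsResidualLimitOf F' p →
          ∀ P : Subgroup Ω, A.Hom P = B.Hom P := by
    rintro R rfl
    exact ⟨F, hE.2.1, (weaklyNormal_self hE.2.1).2.2, hE.2.2.1, rfl,
      fun hA hB => residualLimit_unique hA hB hS hE.2.1⟩
  obtain ⟨F', h1, h2, h3, h4, h5⟩ := key _ (baseOf_top hE.2.2.2.1)
  exact ⟨F', h1, h2, h3, h4, h5⟩

/-- All stages exist, for a `p`-solvable quotient. -/
theorem exists_stage (hS : IsPGroup p S) (hE : E.IsWeaklyNormalIn F p)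
    [hn : ((E.autGroup T).subgroupOf (F.autGroup T)).Normal]
    (hsolv : IsPSolvable p (↥(F.autGroup T) ⧸ (E.autGroup T).subgroupOf (F.autGroup T))) :
    ∃ F' : FusionSystem (baseOf hE.2.2.2.1 (E.autGroup T)), Stage p F E hE.2.2.2.1 (E.autGroup T) F' := by
  obtain ⟨n, H, h0, hlast, hmono, hnor, hidx⟩ := hsolv
  haveI := finite_of_le_base hE.2.2.2.1.1
  set N := (E.autGroup T).subgroupOf (F.autGroup T) with hN
  have hEF : E.autGroup T ≤ F.autGroup T := autGroup_mono' hE.2.2.1 T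
  let L : Fin (n + 1) → Subgroup (F.autGroup T) := fun i => (H i).comap (QuotientGroup.mk' N)
  let K : Fin (n + 1) → Subgroup (MulAut T) := fun i => (L i).map (F.autGroup T).subtype
  have hK0 : K 0 = E.autGroup T := by
    show (L 0).map _ = _
    simp only [L, h0, MonoidHom.comap_bot, QuotientGroup.ker_mk']
    exact Subgroup.map_subgroupOf_eq_of_le hEF
  have hKl : K (Fin.last n) = F.autGroup T := by
    show (L _).map _ = _
    simp only [L, hlast, Subgroup.comap_top, ← MonoidHom.range_eq_map, Subgroup.range_subtype]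
  have hEK : ∀ i, E.autGroup T ≤ K i := fun i => by
    rw [← hK0]
    exact Subgroup.map_mono (Subgroup.comap_mono (hmono (Fin.zero_le i)))
  have hconj : ∀ i, ∀ β ∈ F.autGroup T, ∀ k ∈ K i, β * k * β⁻¹ ∈ K i := by
    rintro i β hβ _ ⟨k, hk, rfl⟩
    haveI := hnor i
    exact ⟨⟨β, hβ⟩ * k * ⟨β, hβ⟩⁻¹, (Subgroup.Normal.comap (hnor i) (QuotientGroup.mk' N)).conj_mem k hk _, rfl⟩
  suffices key : ∀ i, ∃ F' : FusionSystem (baseOf hE.2.2.2.1 (K i)), Stage p F E hE.2.2.2.1 (K i) F' from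
    hK0 ▸ key 0
  intro i
  induction i using Fin.reverseInduction with
  | last => exact hKl.symm ▸ stage_top hS hE
  | cast i ih =>
    obtain ⟨F', hF'⟩ := ih
    have hle : K i.castSucc ≤ K i.succ := Subgroup.map_mono (Subgroup.comap_mono (hmono (Fin.castSucc_le_succ i)))
    haveI := hnor i.castSucc
    rcases hidx i with ⟨m, hm⟩ | hc
    · refine step_power hS hE hF' hle (hEK _) (hconj _) ?_
      rintro _ ⟨a, ha, rfl⟩
      refine ⟨m, a ^ p ^ m, ?_, map_pow _ _ _⟩
      show QuotientGroup.mk' N (a ^ p ^ m) ∈ H i.castSucc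
      rw [map_pow, ← hm]
      exact pow_relIndex_mem ha
    · refine step_coprime hS hE hF' hle (hEK _) (hconj _) ?_
      rintro _ ⟨a, ha, rfl⟩ k ⟨b, hb, hbe⟩
      refine ⟨a, ?_, rfl⟩
      have hb' : b = a ^ p ^ k := Subtype.ext (by rw [SubmonoidClass.coe_pow]; exact hbe)
      have h1 : QuotientGroup.mk' N a ^ p ^ k ∈ H i.castSucc := by rw [← map_pow, ← hb']; exact hb
      have h2 : QuotientGroup.mk' N a ^ (H i.castSucc).relIndex (H i.succ) ∈ H i.castSucc := pow_relIndex_mem ha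
      have hg : Nat.gcd (p ^ k) ((H i.castSucc).relIndex (H i.succ)) = 1 := hc.symm.pow_left k
      show QuotientGroup.mk' N a ∈ H i.castSucc
      have hb2 := Nat.gcd_eq_gcd_ab (p ^ k) ((H i.castSucc).relIndex (H i.succ))
      rw [hg, Nat.cast_one] at hb2
      rw [show QuotientGroup.mk' N a = QuotientGroup.mk' N a ^ (1 : ℤ) from (zpow_one _).symm, hb2,
        zpow_add, zpow_mul, zpow_mul, zpow_natCast, zpow_natCast]
      exact mul_mem (zpow_mem h1 _) (zpow_mem h2 _)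

/-- The bottom of the chain is over `T C_S(T)`. -/
theorem baseOf_bot (hS : IsPGroup p S) (hE : E.IsWeaklyNormalIn F p) :
    baseOf hE.2.2.2.1 (E.autGroup T) = T ⊔ centralizerIn S T := by
  have hT := hE.2.2.2.1
  haveI := finite_of_le_base hT.1
  refine le_antisymm (fun x hx => ?_) (sup_le (fun t ht => ?_) fun c hc => ?_)
  · obtain ⟨hxS, hxE⟩ := mem_baseOf.1 hx
    obtain ⟨-, R, hR⟩ := fullyAutomized_top (p := p) hE.1
    let A : Subgroup (E.autGroup T) := (((⊤ : Subgroup S).map (conjT hT))).subgroupOf (E.autGroup T)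
    have hA : IsPGroup p A := ((hS.to_subgroup ⊤).map _).comap_of_injective _ (Subgroup.subtype_injective _)
    have hRA : (R : Subgroup (E.autGroup T)) ≤ A := by
      intro a ha
      rw [hR] at ha
      obtain ⟨t, ht, hte⟩ := mem_autInducedBy.1 (Subgroup.mem_subgroupOf.1 ha)
      refine ⟨⟨t, hT.1 ht⟩, trivial, mulAut_ext fun y hy => ?_⟩
      rw [autFn_conjT hT _ hy, Subgroup.coe_subtype, autFn_coe (a : MulAut T) ⟨y, hy⟩, hte]
    have hmem : (⟨_, hxE⟩ : E.autGroup T) ∈ (R : Subgroup (E.autGroup T)) := by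
      rw [← R.3 hA hRA]
      exact ⟨⟨x, hxS⟩, trivial, rfl⟩
    rw [hR] at hmem
    obtain ⟨t, ht, hte⟩ := mem_autInducedBy.1 (Subgroup.mem_subgroupOf.1 hmem)
    have hc : t⁻¹ * x ∈ centralizerIn S T := mem_centralizerIn.2 ⟨S.mul_mem (S.inv_mem (hT.1 ht)) hxS,
      fun y hy => by
        have h := hte ⟨y, hy⟩
        change x * y * x⁻¹ = t * y * t⁻¹ at h
        calc y * (t⁻¹ * x) = t⁻¹ * (t * y * t⁻¹) * x := by group
          _ = t⁻¹ * x * y := by rw [← h]; group⟩
    have := (T ⊔ centralizerIn S T).mul_mem (Subgroup.mem_sup_left ht) (Subgroup.mem_sup_right hc)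
    rwa [mul_inv_cancel_left] at this
  · exact mem_baseOf.2 ⟨hT.1 ht, conjT_mem hT ⟨t, hT.1 ht⟩ ht le_rfl⟩
  · refine mem_baseOf.2 ⟨centralizerIn_le hc, ?_⟩
    rw [show conjT hT ⟨c, centralizerIn_le hc⟩ = 1 from mulAut_ext fun t ht => by
      rw [autFn_conjT hT _ ht, autFn_id ht]
      show c * t * c⁻¹ = t
      rw [← (mem_centralizerIn.1 hc).2 t ht, mul_inv_cancel_right]]
    exact one_mem _

/-- The reduced system. -/
theorem exists_reduced (hS : IsPGroup p S) (hE : E.IsWeaklyNormalIn F p)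
    [hn : ((E.autGroup T).subgroupOf (F.autGroup T)).Normal]
    (hsolv : IsPSolvable p (↥(F.autGroup T) ⧸ (E.autGroup T).subgroupOf (F.autGroup T))) :
    ∃ F₀ : FusionSystem (T ⊔ centralizerIn S T), F₀.IsNormalIn F p ∧ E.IsSubsystemOf F₀ ∧
      F₀.autGroup T = E.autGroup T ∧ ∀ {U V : Subgroup Ω} {A : FusionSystem U} {B : FusionSystem V},
        A.IsResidualLimitOf F p → B.IsResidualLimitOf F₀ p → ∀ P : Subgroup Ω, A.Hom P = B.Hom P := by
  have key : ∀ R : Subgroup Ω, baseOf hE.2.2.2.1 (E.autGroup T) = R → ∃ F₀ : FusionSystem R,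
      F₀.IsSaturated p ∧ F₀.IsInvariantIn F ∧ E.IsSubsystemOf F₀ ∧ F₀.autGroup T = E.autGroup T ∧
      ∀ {U V : Subgroup Ω} {A : FusionSystem U} {B : FusionSystem V},
        A.IsResidualLimitOf F p → B.IsResidualLimitOf F₀ p → ∀ P : Subgroup Ω, A.Hom P = B.Hom P := by
    rintro _ rfl
    obtain ⟨F', h⟩ := exists_stage hS hE hsolv
    exact ⟨F', h.1, h.2, h.3, h.4, h.5⟩
  obtain ⟨F₀, hs, hi, hsub, haut, hlim⟩ := key _ (baseOf_bot hS hE)
  refine ⟨F₀, ?_, hsub, haut, hlim⟩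
  clear hsub haut hlim
  revert hi hs F₀
  generalize hR : T ⊔ centralizerIn S T = R
  intro F₀ hs hi
  refine ⟨⟨hs, hE.2.1, hi⟩, fun α hα => ?_⟩
  have hRS : R ≤ S := hi.2.1.1
  haveI := finite_of_le_base hRS
  have hcR : centralizerIn S R ≤ R := fun c hc => hR ▸ Subgroup.mem_sup_right (mem_centralizerIn.2
    ⟨(mem_centralizerIn.1 hc).1, fun y hy => (mem_centralizerIn.1 hc).2 y (hR ▸ Subgroup.mem_sup_left hy)⟩)
  have hsup : R ⊔ centralizerIn S R = R := sup_eq_left.2 hcR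
  have hαf : Fn F R (autFn α) := Fn.of_subsystem hi.1 ((mem_autGroup_iff_fn le_rfl).1 hα)
  have hf : Fn F (R ⊔ centralizerIn S R) (autFn α) := by
    rw [hsup]
    exact hαf
  haveI := finite_of_le_base hf.le
  obtain ⟨β, hβ, hβe⟩ := exists_aut_of_fn hf (hf.img_eq_self fun x hx => by
    rw [hsup] at hx ⊢
    exact autFn_mem α hx)
  refine ⟨β, hβ, fun x => by rw [hβe]; exact autFn_coe α x, fun c hc => ?_⟩
  rw [hβe c]
  have hcR' : (c : Ω) ∈ R := hcR hc
  refine ⟨R.mul_mem (R.inv_mem hcR') (autFn_mem α hcR'), ?_⟩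
  intro y hy
  have hcc := (mem_centralizerIn.1 hc).2
  have hαc := (mem_centralizerIn.1 (hαf.map_centralizer le_rfl (img_autFn α) hcR' hc)).2
  have h2 : y * (c : Ω)⁻¹ = (c : Ω)⁻¹ * y := (Commute.inv_right (show Commute y (c : Ω) from hcc y hy)).eq
  rw [← mul_assoc, h2, mul_assoc, hαc y hy, ← mul_assoc]

end CfsgLib.Fsys.Red
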