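import Cfsg.Agent.Lib.FusionSystem.ReductionAlperin
import Cfsg.Agent.Lib.FusionSystem.PPowerExistence

/-! Invariant subsystems seen from intermediate systems; transport of systems of `p`-power index. -/

set_option autoImplicit false

namespace CfsgLib.Fsys.Red

open Cfsg Cfsg.FusionSystem
open Cfsg.FusionSystem (centralizerIn normalizerIn)

variable {Ω : Type*} [Group Ω] {S S₁ T : Subgroup Ω} [Finite S] {F : FusionSystem S} {E : FusionSystem T}
  {p : ℕ} [Fact p.Prime]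

/-- A weakly normal subsystem is weakly normal in every saturated subsystem containing it. -/
theorem weaklyNormal_between (hS : IsPGroup p S) (hE : E.IsWeaklyNormalIn F p) {F₁ : FusionSystem S₁}
    (hs : F₁.IsSaturated p) (hsub : F₁.IsSubsystemOf F) (hEsub : E.IsSubsystemOf F₁) :
    E.IsWeaklyNormalIn F₁ p := by
  classical
  have hEi := hE.2.2
  have hT := hEi.2.1
  have hS₁S : S₁ ≤ S := subsystem_le hsub
  have hTS₁ : T ≤ S₁ := subsystem_le hEsub
  haveI := finite_of_le_base hS₁S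
  haveI := finite_of_le_base hT.1
  have hS₁p := hS.to_le hS₁S
  have hTp := hS.to_le hT.1
  have hT₁ : F₁.StronglyClosed T := stronglyClosed_iff_fn.2
    ⟨hTS₁, fun P f hf x hx hxT => sc_apply hT (Fn.of_subsystem hsub hf) hx hxT⟩
  have hA : F₁.autGroup T ≤ F.autGroup T := autGroup_mono' hsub T
  refine ⟨hE.1, hs, hEsub, hT₁, fun P hP φ hφ α hα => hEi.2.2.1 P hP φ hφ α (hA hα), fun P hP φ hφ => ?_⟩
  let G : Subgroup Ω → (Ω → Ω) → Prop := fun U f =>
    ∃ α ∈ F₁.autGroup T, ∃ e : Ω → Ω, Fn E U e ∧ ∀ x ∈ U, f x = autFn α (e x)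
  have hmem : ∀ {U : Subgroup Ω} {f : Ω → Ω}, U ≤ T → Fn F₁ U f → ∀ x ∈ U, f x ∈ T :=
    fun hU hf x hx => sc_apply hT₁ hf hx (hU hx)
  have hcomp : ∀ {U V : Subgroup Ω} {f g : Ω → Ω}, (∀ x ∈ U, f x ∈ V) → G U f → G V g → G U (g ∘ f) := by
    rintro U V f g hm ⟨α, hα, a, ha, hfa⟩ ⟨β, hβ, b, hb, hgb⟩
    obtain ⟨χ, hχ, hχe⟩ := Invariant.aut hEi hb.le hb (inv_mem (hA hα))
    have hfT : ∀ x ∈ U, f x ∈ T := fun x hx => hb.le (hm x hx)
    refine ⟨β * α, mul_mem hβ hα, χ ∘ a, ha.comp hχ fun x hx => ?_, fun x hx => ?_⟩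
    · rw [← autFn_inv_apply α (ha.mem hx), ← hfa x hx]
      exact mem_img_of_mem (hm x hx)
    · have h := hχe _ (hm x hx)
      rw [hfa x hx, autFn_inv_apply α (ha.mem hx), ← hfa x hx] at h
      show g (f x) = autFn (β * α) (χ (a x))
      rw [h, autFn_mul _ _ (autFn_mem _ (hb.mem (hm x hx))), autFn_apply_inv α (hb.mem (hm x hx)),
        hgb _ (hm x hx)]
  have hinv : ∀ {U : Subgroup Ω} {f g : Ω → Ω}, Fn F₁ U f → (∀ x ∈ U, g (f x) = x) → G U f →
      G (img f U) g := by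
    rintro U f g hf hgf ⟨α, hα, a, ha, hfa⟩
    obtain ⟨k, hk, hka, -⟩ := ha.exists_inv
    obtain ⟨χ, hχ, hχe⟩ := Invariant.aut hEi ha.img_le_base hk (hA hα)
    have hi : img (autFn α) (img a U) = img f U := by
      rw [← ha.img_comp]
      exact img_congr fun x hx => (hfa x hx).symm
    rw [hi] at hχ
    refine ⟨α⁻¹, inv_mem hα, χ, hχ, fun y hy => ?_⟩
    obtain ⟨x, hx, rfl⟩ := hf.mem_img.1 hy
    rw [hgf x hx, hfa x hx, hχe _ (mem_img_of_mem hx), hka x hx, autFn_inv_apply α (ha.le hx)]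
  have key : ∀ f : Ω → Ω, Fn F₁ P f → G P f := by
    refine induction_down (S := T) (C := fun U => ∀ f : Ω → Ω, Fn F₁ U f → G U f) P hP ?_
    intro U hU ih f hf
    rcases eq_or_lt_of_le hU with rfl | hlt
    · obtain ⟨α, hα, hαe⟩ := exists_aut_of_fn hf (hf.img_eq_self (hmem le_rfl hf))
      exact ⟨α, hα, id, fn_id le_rfl, fun x hx => (hαe ⟨x, hx⟩).symm.trans (autFn_coe α ⟨x, hx⟩).symm⟩
    obtain ⟨U₀, hUU₀, hU₀⟩ := exists_fullyNormalized (F := F₁) (hU.trans hTS₁)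
    obtain ⟨hU₀A, hU₀c⟩ := fullyNormalized_good hS₁p hs hU₀
    have hr := fullyCentralized_receptive hS₁p hs hU₀c
    have hU₀T : U₀ ≤ T := by
      obtain ⟨g, hg, rfl⟩ := isConj_iff.1 hUU₀
      exact img_le (hmem hU hg)
    have hVT : img f U ≤ T := img_le (hmem hU hf)
    have hlt' : ∀ V : Subgroup Ω, V ≤ T → Nat.card V = Nat.card U → V < T := fun V hV hc =>
      lt_of_le_of_ne hV fun e => hlt.ne (eq_of_le_of_card le_rfl hU (by rw [← hc, e]))
    have hbig : ∀ V : Subgroup Ω, V ≤ T → Nat.card V = Nat.card U → F₁.IsConj V U₀ →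
        ∃ g, Fn F₁ V g ∧ img g V = U₀ ∧ G V g := by
      intro V hV hc hVU₀
      obtain ⟨g, hg, -, hgi⟩ := exists_normalizer_map hS₁p hU₀A hr hVU₀
      have hle : normalizerIn T V ≤ normalizerIn S₁ V := inf_le_inf hTS₁ le_rfl
      have hVN : V ≤ normalizerIn T V := le_normalizerIn hV
      obtain ⟨α, hα, e, he, hge⟩ := ih (normalizerIn T V) normalizerIn_le (by
        rw [← hc]
        haveI := finite_of_le_base (normalizerIn_le : normalizerIn T V ≤ T)
        exact Set.Finite.card_lt_card (Set.toFinite (normalizerIn T V : Set Ω))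
          (lt_normalizerIn hTp (hlt' V hV hc))) g (hg.mono hle)
      exact ⟨g, hg.mono (hVN.trans hle), hgi, α, hα, e, he.mono hVN, fun x hx => hge x (hVN hx)⟩
    obtain ⟨g₁, hg₁, hg₁i, hG₁⟩ := hbig U hU rfl hUU₀
    obtain ⟨g₂, hg₂, hg₂i, hG₂⟩ := hbig (img f U) hVT hf.card_img
      (isConj_trans (isConj_symm (isConj_of_fn hf)) hUU₀)
    obtain ⟨k₁, hk₁, hk₁g, hk₁i⟩ := hg₁.exists_inv
    obtain ⟨k₂, hk₂, hk₂g, hk₂i⟩ := hg₂.exists_inv
    rw [hg₁i] at hk₁ hk₁i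
    rw [hg₂i] at hk₂ hk₂i
    have hG₂' : G U₀ k₂ := hg₂i ▸ hinv hg₂ hk₂g hG₂
    have hm0 : ∀ x ∈ U₀, f (k₁ x) ∈ img f U := fun x hx => mem_img_of_mem (hk₁i.le (mem_img_of_mem hx))
    have hmid : Fn F₁ U₀ (g₂ ∘ (f ∘ k₁)) :=
      (hk₁.comp hf fun x hx => hk₁i.le (mem_img_of_mem hx)).comp hg₂ hm0
    obtain ⟨a, ha, hae⟩ := exists_aut_of_fn hmid
      (hmid.img_eq_self fun x hx => hg₂i.le (mem_img_of_mem (hm0 x hx)))
    haveI := finite_of_le_base (hU₀T.trans hTS₁)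
    -- automorphisms of the fully normalised subgroup
    have hGa : G U₀ (autFn a) := by
      have hEU : E.autGroup U₀ ≤ F₁.autGroup U₀ := autGroup_mono' hEsub U₀
      let B : Subgroup (F₁.autGroup U₀) := (E.autGroup U₀).subgroupOf (F₁.autGroup U₀)
      haveI : B.Normal := ⟨fun b hb c =>
        Invariant.conj_mem hEi hU₀T (autGroup_mono' hsub U₀ c.2) hb⟩
      obtain ⟨-, R, hR⟩ := hU₀A
      obtain ⟨n, b, hb, hn, e⟩ := exists_normalizer_mul R B ⟨a, ha⟩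
      have hae' : a = (n : MulAut U₀) * (b : MulAut U₀) := congrArg Subtype.val e
      have hGb : G U₀ (autFn (b : MulAut U₀)) :=
        ⟨1, one_mem _, _, (mem_autGroup_iff_fn hU₀T).1 hb, fun x hx =>
          (autFn_id (hU₀T (autFn_mem (b : MulAut U₀) hx))).symm⟩
      obtain ⟨t, -, htN, htU⟩ := exists_mem_normalizer_not_mem hTp le_rfl
        (hlt' U₀ hU₀T (isConj_card hUU₀))
      have ht₁ : t ∈ normalizerIn S₁ U₀ := ⟨hTS₁ htN.1, htN.2⟩
      have hcB : (⟨conjAut U₀ htN.2, autInducedBy_le_autGroup (hU₀T.trans hTS₁)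
          (conjAut_mem_autInducedBy htN.2 ht₁.1)⟩ : F₁.autGroup U₀) ∈ (R : Subgroup (F₁.autGroup U₀)) ⊓ B := by
        refine ⟨?_, autInducedBy_le_autGroup hU₀T (conjAut_mem_autInducedBy htN.2 htN.1)⟩
        show _ ∈ (R : Subgroup (F₁.autGroup U₀))
        rw [hR]
        exact conjAut_mem_autInducedBy htN.2 ht₁.1
      have h1 : n * _ * n⁻¹ ∈ (R : Subgroup (F₁.autGroup U₀)) := (hn _ hcB).1
      rw [hR] at h1
      obtain ⟨s, hs', hsx⟩ := mem_autInducedBy.1 h1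
      obtain ⟨N, g, hg, hUN, hN, hge⟩ :=
        receptive_extend hr ((mem_autGroup_iff_fn (hU₀T.trans hTS₁)).1 n.2) (img_autFn _)
      have htmem : t ∈ N := by
        refine (hN t).2 ⟨ht₁.1, htN.2, s, hs', fun x hx => ?_⟩
        lift x to U₀ using hx
        have h := hsx ((n : MulAut U₀) x)
        change ((((n : MulAut U₀) * conjAut U₀ htN.2 * (n : MulAut U₀)⁻¹) ((n : MulAut U₀) x) : U₀) : Ω) = _ at h
        simp only [MulAut.mul_apply, MulAut.inv_apply_self] at h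
        rw [← conjAut_coe htN.2 x, autFn_coe, autFn_coe]
        exact h
      have hW : U₀ < U₀ ⊔ Subgroup.zpowers t := lt_of_le_of_ne le_sup_left fun e =>
        htU (e.symm ▸ (le_sup_right : Subgroup.zpowers t ≤ _) (Subgroup.mem_zpowers t))
      have hWT : U₀ ⊔ Subgroup.zpowers t ≤ T := sup_le hU₀T (Subgroup.zpowers_le.2 htN.1)
      obtain ⟨α, hα, u, hu, hgu⟩ := ih _ hWT (by
        rw [← isConj_card hUU₀]
        haveI := finite_of_le_base hWT
        exact Set.Finite.card_lt_card (Set.toFinite ((U₀ ⊔ Subgroup.zpowers t : Subgroup Ω) : Set Ω)) hW)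
        g (hg.mono (sup_le hUN (Subgroup.zpowers_le.2 htmem)))
      have hGn : G U₀ (autFn (n : MulAut U₀)) :=
        ⟨α, hα, u, hu.mono hW.le, fun x hx => by rw [← hge x hx, hgu x (hW.le hx)]⟩
      obtain ⟨α', hα', u', hu', he'⟩ := hcomp (fun x hx => autFn_mem _ hx) hGb hGn
      exact ⟨α', hα', u', hu', fun x hx => by rw [hae', autFn_mul _ _ hx]; exact he' x hx⟩
    obtain ⟨α, hα, e, he, hfe⟩ := hcomp (fun x hx => autFn_mem a (hg₁i.le (mem_img_of_mem hx)))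
      (hcomp (fun x hx => hg₁i.le (mem_img_of_mem hx)) hG₁ hGa) hG₂'
    refine ⟨α, hα, e, he, fun x hx => ?_⟩
    rw [← hfe x hx]
    show f x = k₂ (autFn a (g₁ x))
    rw [autFn_coe a ⟨g₁ x, hg₁i.le (mem_img_of_mem hx)⟩, hae]
    show f x = k₂ (g₂ (f (k₁ (g₁ x))))
    rw [hk₁g x hx, hk₂g _ (mem_img_of_mem hx)]
  obtain ⟨α, hα, e, he, hfe⟩ := key _ (fn_ofHom hφ)
  obtain ⟨φ₀, hφ₀, hφ₀e⟩ := id he
  refine ⟨α, hα, φ₀, hφ₀, fun x hx => ?_⟩
  rw [← ofHom_coe φ x, hfe x x.2, ← hφ₀e x]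
  exact autFn_coe α ⟨φ₀ x, hx⟩

omit [Finite S] in
/-- A saturated system of `p`-power index contains the saturated subsystems on smaller subgroups. -/
theorem subsystem_le_pPowerIndex {F₁ : FusionSystem S₁} (hTp : IsPGroup p T) (hTfin : Finite T) (hEs : E.IsSaturated p)
    (hEF : E.IsSubsystemOf F) (hTS₁ : T ≤ S₁) (hi : F₁.HasPPowerIndexIn F p) : E.IsSubsystemOf F₁ := by
  let D : FusionSystem T := predSystem E (fun P f => Fn F₁ P f) (fun _ _ _ he _ h => h.congr he)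
    (fun _ hP _ hs => fn_conj (hP.trans hTS₁) (hTS₁ hs)) (fun _ _ _ _ _ _ hm h h' => h.comp h' hm)
    (fun P f g hf _ hgf h => by
      obtain ⟨k, hk, hkf, -⟩ := h.exists_inv
      exact hk.congr fun y hy => by
        obtain ⟨x, hx, rfl⟩ := hf.mem_img.1 hy
        rw [hkf x hx, hgf x hx])
  have hle : E ≤ D := by
    have hstep : ∀ P, E.IsFullyAutomized p P → E.autGroup P ≤ D.autGroup P := by
      intro P hA α hα
      refine (mem_autGroup_iff_fn hA.1).2 (fn_predSystem.2 ⟨(mem_autGroup_iff_fn hA.1).1 hα, ?_⟩)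
      refine (mem_autGroup_iff_fn (hA.1.trans hTS₁)).1 ?_
      obtain ⟨β, hβ, γ, hγ, rfl⟩ := exists_residual_decomp hTp hEs hA hα
      refine mul_mem (hi.2.2 P (hA.1.trans hTS₁)
        (CfsgLib.Fusion.Basic.pResidual_map_subtype_mono (autGroup_mono' hEF P) ⟨β, hβ, rfl⟩)) ?_
      obtain ⟨s, hs, hse⟩ := mem_autInducedBy.1 hγ
      exact autInducedBy_le_autGroup (hA.1.trans hTS₁) (mem_autInducedBy.2 ⟨s, hTS₁ hs, hse⟩)
    exact le_of_automizers hTp hEs D (hstep T (fullyAutomized_top hEs))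
      fun P _ hP _ => hstep P (fullyNormalized_good hTp hEs hP).1
  exact fun P φ hφ => mem_hom_iff.2 (hle P hφ).2

/-- Transport of a system of `p`-power index by an automorphism preserving the coprime automizers. -/
theorem pPower_transport_of {R : Subgroup Ω} (hS : IsPGroup p S) {F' : FusionSystem R}
    (hRS : R ≤ S) {F₁ : FusionSystem S₁} (hs : F₁.IsSaturated p) (hi : F₁.HasPPowerIndexIn F' p)
    {α : MulAut S₁} (hα : α ∈ F.autGroup S₁)
    (htr : ∀ (Q : Subgroup Ω) (g : Ω → Ω), Q ≤ S₁ → Fn F' Q g → (∀ x ∈ Q, g x ∈ Q) →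
      ∃ χ : Ω → Ω, Fn F' (img (autFn α) Q) χ ∧ ∀ x ∈ Q, χ (autFn α x) = autFn α (g x))
    {P : Subgroup Ω} {g : Ω → Ω} (hg : Fn F₁ P g) :
    ∃ χ : Ω → Ω, Fn F₁ (img (autFn α) P) χ ∧ ∀ x ∈ P, χ (autFn α x) = autFn α (g x) := by
  have hTS : S₁ ≤ R := subsystem_le hi.1
  haveI := finite_of_le_base (hTS.trans hRS)
  haveI := finite_of_le_base hRS
  have hf : Fn F S₁ (autFn α) := (mem_autGroup_iff_fn (hTS.trans hRS)).1 hα
  have hinv : ∀ x ∈ S₁, autFn α x ∈ S₁ := fun x hx => autFn_mem α hx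
  let C : Subgroup Ω → (Ω → Ω) → Prop := fun P g =>
    ∃ χ : Ω → Ω, Fn F₁ (img (autFn α) P) χ ∧ ∀ x ∈ P, χ (autFn α x) = autFn α (g x)
  let D := predSystem F₁ C
    (fun P f g he _ h => by
      obtain ⟨χ, hχ, hχe⟩ := h
      exact ⟨χ, hχ, fun x hx => by rw [hχe x hx, he x hx]⟩)
    (fun P hP s hs => ⟨fun y => autFn α s * y * (autFn α s)⁻¹,
      fn_conj (img_le fun x hx => hinv _ (hP hx)) (hinv _ hs),
      fun x hx => (hf.map_conj hs (hP hx)).symm⟩)
    (fun P R f g hf' _ hm h h' => by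
      obtain ⟨χ, hχ, hχe⟩ := h
      obtain ⟨χ', hχ', hχ'e⟩ := h'
      refine ⟨χ' ∘ χ, hχ.comp hχ' fun y hy => ?_, fun x hx => ?_⟩
      · obtain ⟨x, hx, rfl⟩ := (hf.mono hf'.le).mem_img.1 hy
        rw [hχe x hx]
        exact mem_img_of_mem (hm x hx)
      · show χ' (χ (autFn α x)) = autFn α (g (f x))
        rw [hχe x hx, hχ'e _ (hm x hx)])
    (fun P f g hf' _ hgf h => by
      obtain ⟨χ, hχ, hχe⟩ := h
      obtain ⟨χ', hχ', hχ'χ, -⟩ := hχ.exists_inv
      have hi : img χ (img (autFn α) P) = img (autFn α) (img f P) := by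
        rw [← (hf.mono hf'.le).img_comp, ← hf'.img_comp]
        exact img_congr fun x hx => hχe x hx
      rw [hi] at hχ'
      refine ⟨χ', hχ', fun y hy => ?_⟩
      obtain ⟨x, hx, rfl⟩ := hf'.mem_img.1 hy
      rw [← hχe x hx, hχ'χ _ (mem_img_of_mem hx), hgf x hx])
  have hle : F₁ ≤ D := le_of_pResidual (F := F') (hS.to_le (hTS.trans hRS)) hs hi.1 fun Q hQ => by
    rw [Subgroup.map_le_iff_le_comap]
    refine (Subgroup.closure_le _).2 fun β hβ => ?_
    have hc : Nat.Coprime (orderOf (β : MulAut Q)) p := by rw [Subgroup.orderOf_coe]; exact hβ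
    have hβE : (β : MulAut Q) ∈ F₁.autGroup Q := mem_of_coprime hi hQ β.2 hc
    show (β : MulAut Q) ∈ D.autGroup Q
    refine (mem_autGroup_iff_fn hQ).2 (fn_predSystem.2 ⟨(mem_autGroup_iff_fn hQ).1 hβE, ?_⟩)
    obtain ⟨e, he, -⟩ := exists_transport (hQ.trans (hTS.trans hRS)) (hf.mono hQ) rfl
    have hQ' : img (autFn α) Q ≤ S₁ := img_le fun x hx => hinv _ (hQ hx)
    obtain ⟨χ, hχ, hχe⟩ := htr Q _ hQ
      ((mem_autGroup_iff_fn (hQ.trans hTS)).1 β.2) fun x hx => autFn_mem _ hx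
    have hconj : ∀ y : ↥(img (autFn α) Q), autFn (MulAut.congr e (β : MulAut Q)) y = χ y := fun y => by
      obtain ⟨x, rfl⟩ := e.surjective y
      rw [autFn_coe, show (MulAut.congr e (β : MulAut Q)) (e x) = e ((β : MulAut Q) x) by simp [MulAut.congr],
        he, he, hχe x x.2, autFn_coe]
    have hτ' : MulAut.congr e (β : MulAut Q) ∈ F'.autGroup (img (autFn α) Q) :=
      (mem_autGroup_iff_fn (hQ'.trans hTS)).2 (hχ.congr fun y hy => (hconj ⟨y, hy⟩).symm)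
    have hτ : MulAut.congr e (β : MulAut Q) ∈ F₁.autGroup (img (autFn α) Q) :=
      mem_of_coprime hi hQ' hτ' (by
        show Nat.Coprime (orderOf ((MulAut.congr e).toMonoidHom (β : MulAut Q))) p
        rw [orderOf_injective _ (MulAut.congr e).injective]
        exact hc)
    refine ⟨_, (mem_autGroup_iff_fn hQ').1 hτ, fun x hx => ?_⟩
    lift x to Q using hx
    rw [← he x, autFn_coe]
    simp [MulAut.congr, he]
  exact ((fn_predSystem.1 (fn_of_le hle hg))).2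

/-- Transport of a system of `p`-power index in an invariant subsystem. -/
theorem pPower_transport {R : Subgroup Ω} (hS : IsPGroup p S) {F' : FusionSystem R}
    (hF' : F'.IsInvariantIn F) {F₁ : FusionSystem S₁} (hs : F₁.IsSaturated p) (hi : F₁.HasPPowerIndexIn F' p)
    {α : MulAut R} (hα : α ∈ F.autGroup R) (hinv : ∀ x ∈ S₁, autFn α x ∈ S₁) {P : Subgroup Ω} {g : Ω → Ω}
    (hg : Fn F₁ P g) :
    ∃ χ : Ω → Ω, Fn F₁ (img (autFn α) P) χ ∧ ∀ x ∈ P, χ (autFn α x) = autFn α (g x) := by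
  have hRS : R ≤ S := hF'.2.1.1
  have hTS : S₁ ≤ R := subsystem_le hi.1
  haveI := finite_of_le_base (hTS.trans hRS)
  have hf : Fn F S₁ (autFn α) := ((mem_autGroup_iff_fn hRS).1 hα).mono hTS
  obtain ⟨a, ha, hae⟩ := exists_aut_of_fn hf (hf.img_eq_self hinv)
  have he : ∀ x ∈ S₁, autFn a x = autFn α x := fun x hx => (autFn_coe a ⟨x, hx⟩).trans (hae ⟨x, hx⟩)
  obtain ⟨χ, hχ, hχe⟩ := pPower_transport_of hS hRS hs hi ha (fun Q g' hQ hg' hm => by
    obtain ⟨χ, hχ, hχe⟩ := Invariant.aut hF' (hQ.trans hTS) hg' hα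
    rw [← img_congr fun x hx => he x (hQ hx)] at hχ
    exact ⟨χ, hχ, fun x hx => by rw [he x (hQ hx), hχe x hx, he _ (hQ (hm x hx))]⟩) hg
  rw [img_congr fun x hx => he x (hg.le hx)] at hχ
  exact ⟨χ, hχ, fun x hx => by rw [← he x (hg.le hx), hχe x hx, he _ (hg.mem hx)]⟩

end CfsgLib.Fsys.Red
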