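import Cfsg.Agent.Lib.FusionSystem.PPowerIndex
import Cfsg.Agent.Lib.Coprime.Action
import Cfsg.Prelude.Def_FusionReduction
import Mathlib.GroupTheory.SemidirectProduct

/-! Residual limits; the hyperfocal subgroup of a subsystem of `p`-power index. -/

set_option autoImplicit false

namespace CfsgLib.Fsys

open Cfsg Cfsg.FusionSystem
open scoped commutatorElement

universe u

variable {Ω : Type u} [Group Ω] {S : Subgroup Ω} [Finite S] {F : FusionSystem S} {p : ℕ} [Fact p.Prime]

omit [Fact p.Prime] in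
/-- Restriction of an automorphism to an invariant subgroup. -/
theorem exists_aut_restrict {P R : Subgroup Ω} (hP : P ≤ S) (hR : R ≤ P) {α : MulAut P} (hα : α ∈ F.autGroup P)
    (hinv : ∀ x ∈ R, autFn α x ∈ R) :
    ∃ β ∈ F.autGroup R, orderOf β ∣ orderOf α ∧ ∀ x : R, ((β x : R) : Ω) = ((α ⟨x, hR x.2⟩ : P) : Ω) := by
  have hf := ((mem_autGroup_iff_fn hP).1 hα).mono hR
  haveI := finite_of_le_base (hR.trans hP)
  obtain ⟨β, hβ, hβe⟩ := exists_aut_of_fn hf (hf.img_eq_self hinv)
  have he : ∀ x : R, ((β x : R) : Ω) = ((α ⟨x, hR x.2⟩ : P) : Ω) := fun x =>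
    (hβe x).trans (autFn_coe α ⟨x, hR x.2⟩)
  refine ⟨β, hβ, orderOf_dvd_of_pow_eq_one (MulEquiv.ext fun x => Subtype.ext ?_), he⟩
  have hpow : ∀ (n : ℕ) (x : R), (((β ^ n) x : R) : Ω) = (((α ^ n) ⟨x, hR x.2⟩ : P) : Ω) := by
    intro n
    induction n with
    | zero => intro x; rfl
    | succ n ih =>
      intro x
      rw [pow_succ, pow_succ, MulAut.mul_apply, MulAut.mul_apply, ih]
      congr 2
      exact Subtype.ext (he x)
  rw [hpow, pow_orderOf_eq_one]
  rfl

/-- A subsystem of `p`-power index has the same hyperfocal subgroup. -/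
theorem hyperfocal_eq_of_pPowerIndex (hS : IsPGroup p S) (hF : F.IsSaturated p) {T : Subgroup Ω}
    {E : FusionSystem T} (hEi : E.HasPPowerIndexIn F p) :
    E.hyperfocalSubgroup p = F.hyperfocalSubgroup p := by
  have hTS : T ≤ S := subsystem_le hEi.1
  haveI := finite_of_le_base hTS
  refine le_antisymm (hyperfocal_le_of_coprime fun P hP α hα hc x => ?_)
    (hyperfocal_le_of_coprime fun P hP α hα hc x => ?_)
  · refine Subgroup.subset_closure ⟨P, ⟨α, autGroup_mono' hEi.1 P hα⟩, x, hP.trans hTS,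
      Subgroup.subset_closure ?_, rfl⟩
    show Nat.Coprime (orderOf (⟨α, autGroup_mono' hEi.1 P hα⟩ : F.autGroup P)) p
    rwa [← Subgroup.orderOf_coe]
  classical
  haveI := finite_of_le_base hP
  haveI : Finite (MulAut P) := Finite.of_injective (fun f : MulAut P => (f : P → P)) DFunLike.coe_injective
  set H := F.hyperfocalSubgroup p
  set R := P ⊓ H with hR
  have hRT : R ≤ T := inf_le_right.trans hEi.2.1
  have hdisp : ∀ γ ∈ Subgroup.zpowers α, ∀ y : P, (y : Ω)⁻¹ * ((γ y : P) : Ω) ∈ R := by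
    intro γ hγ y
    refine ⟨P.mul_mem (P.inv_mem y.2) (γ y).2, ?_⟩
    have hγF : γ ∈ F.autGroup P := (Subgroup.zpowers_le.2 hα) hγ
    refine Subgroup.subset_closure ⟨P, ⟨γ, hγF⟩, y, hP, Subgroup.subset_closure ?_, rfl⟩
    show Nat.Coprime (orderOf (⟨γ, hγF⟩ : F.autGroup P)) p
    rw [← Subgroup.orderOf_coe]
    exact Nat.Coprime.coprime_dvd_left (orderOf_dvd_of_mem_zpowers hγ) hc
  have hin : ∀ γ ∈ Subgroup.zpowers α, ∀ y : P, (y : Ω) ∈ R →
      (y : Ω)⁻¹ * ((γ y : P) : Ω) ∈ E.hyperfocalSubgroup p := by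
    intro γ hγ y hy
    have hinv : ∀ z ∈ R, autFn γ z ∈ R := fun z hz => by
      rw [autFn_coe γ ⟨z, hz.1⟩]
      have := R.mul_mem hz (hdisp γ hγ ⟨z, hz.1⟩)
      rwa [mul_inv_cancel_left] at this
    obtain ⟨β, hβ, hβd, hβe⟩ := exists_aut_restrict hP inf_le_left ((Subgroup.zpowers_le.2 hα) hγ) hinv
    have hβc : Nat.Coprime (orderOf β) p :=
      Nat.Coprime.coprime_dvd_left (hβd.trans (orderOf_dvd_of_mem_zpowers hγ)) hc
    have hβE : β ∈ E.autGroup R := mem_of_coprime hEi hRT hβ hβc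
    refine Subgroup.subset_closure ⟨R, ⟨β, hβE⟩, ⟨y, hy⟩, hRT, Subgroup.subset_closure ?_, ?_⟩
    · show Nat.Coprime (orderOf (⟨β, hβE⟩ : E.autGroup R)) p
      rwa [← Subgroup.orderOf_coe]
    · show _ = (y : Ω)⁻¹ * ((β ⟨y, hy⟩ : R) : Ω)
      rw [hβe]
  -- the semidirect product with the cyclic group
  let A := Subgroup.zpowers α
  let X := P ⋊[A.subtype] A
  haveI : Finite X := Finite.of_equiv _ SemidirectProduct.equivProd.symm
  let K : Subgroup X := (SemidirectProduct.inl : P →* X).range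
  let A' : Subgroup X := (SemidirectProduct.inr : A →* X).range
  let M : Subgroup Ω → Subgroup X := fun U => (U.subgroupOf P).map (SemidirectProduct.inl : P →* X)
  have hcomm : ∀ (y : P) (γ : A), ⁅(SemidirectProduct.inl y : X), SemidirectProduct.inr γ⁆ =
      SemidirectProduct.inl (y * (γ : MulAut P) y⁻¹) := fun y γ => by
    rw [commutatorElement_def, map_mul, show ((γ : MulAut P) y⁻¹) = A.subtype γ y⁻¹ from rfl,
      SemidirectProduct.inl_aut, map_inv, map_inv]
    simp [mul_assoc]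
  have hAK : A' ≤ Subgroup.normalizer (K : Set X) := by
    haveI : K.Normal := by
      show (SemidirectProduct.inl : P →* X).range.Normal
      rw [SemidirectProduct.range_inl_eq_ker_rightHom]
      infer_instance
    rw [Subgroup.normalizer_eq_top K]
    exact le_top
  have hcop : (Nat.card A').Coprime (Nat.card K) := by
    rw [Nat.card_congr (MonoidHom.ofInjective SemidirectProduct.inr_injective).toEquiv.symm,
      Nat.card_congr (MonoidHom.ofInjective SemidirectProduct.inl_injective).toEquiv.symm, Nat.card_zpowers]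
    obtain ⟨n, hn⟩ := IsPGroup.iff_card.1 (hS.to_le hP)
    rw [hn]
    exact hc.pow_right n
  haveI := CfsgLib.Coprime.isSolvable_zpowers α
  have hsol : Group.IsSolvable A' ∨ Group.IsSolvable K := Or.inl
    (Group.isSolvable_of_surjective (f := (SemidirectProduct.inr : A →* X).rangeRestrict)
      (SemidirectProduct.inr : A →* X).rangeRestrict_surjective)
  have h1 : ⁅K, A'⁆ ≤ M R := Subgroup.commutator_le.2 (by
    rintro _ ⟨y, rfl⟩ _ ⟨γ, rfl⟩
    rw [hcomm]
    refine ⟨_, ?_, rfl⟩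
    have := hdisp γ γ.2 y⁻¹
    show ((y * (γ : MulAut P) y⁻¹ : P) : Ω) ∈ R
    simpa using this)
  have h2 : ⁅⁅K, A'⁆, A'⁆ ≤ M (E.hyperfocalSubgroup p) := Subgroup.commutator_le.2 (by
    intro k hk _ ha
    obtain ⟨γ, rfl⟩ := ha
    obtain ⟨y, hy, rfl⟩ := h1 hk
    rw [hcomm]
    refine ⟨_, ?_, rfl⟩
    have := hin γ γ.2 y⁻¹ (R.inv_mem hy)
    show ((y * (γ : MulAut P) y⁻¹ : P) : Ω) ∈ E.hyperfocalSubgroup p
    simpa using this)
  rw [CfsgLib.Coprime.commutator_commutator_self hAK hcop hsol] at h2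
  have h3 := h2 (Subgroup.commutator_mem_commutator (⟨x⁻¹, rfl⟩ : (SemidirectProduct.inl x⁻¹ : X) ∈ K)
    (⟨⟨α, Subgroup.mem_zpowers α⟩, rfl⟩ : (SemidirectProduct.inr (⟨α, Subgroup.mem_zpowers α⟩ : A) : X) ∈ A'))
  rw [hcomm] at h3
  obtain ⟨z, hz, hze⟩ := h3
  rw [SemidirectProduct.inl_injective hze] at hz
  simpa using Subgroup.mem_subgroupOf.1 hz

/-- Saturated subsystems of `p`-power index on one subgroup are equal, and so are their `p'`-residuals. -/
theorem residual_pair_eq (hS : IsPGroup p S) {H : Subgroup Ω} {D₁ D₂ D₁' D₂' : FusionSystem H}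
    (h1 : D₁.IsSaturated p) (h1i : D₁.HasPPowerIndexIn F p) (h2 : D₂.IsSaturated p) (h2i : D₂.HasPPowerIndexIn F p)
    (h1' : D₁.IsPPrimeResidual p D₁') (h2' : D₂.IsPPrimeResidual p D₂') : D₁ = D₂ ∧ D₁' = D₂' := by
  have hTS : H ≤ S := subsystem_le h1i.1
  haveI := finite_of_le_base hTS
  have e : D₁ = D₂ := system_ext fun P => Set.Subset.antisymm
    (le_of_pResidual (hS.to_le hTS) h1 h1i.1 h2i.2.2 P) (le_of_pResidual (hS.to_le hTS) h2 h2i.1 h1i.2.2 P)
  subst e
  exact ⟨rfl, system_ext fun P => Set.Subset.antisymm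
    (h1'.2.2 _ h2'.1 h2'.2.1 P) (h2'.2.2 _ h1'.1 h1'.2.1 P)⟩

omit [Finite S] [Fact p.Prime] in
theorem self_pPowerIndex (h : F.hyperfocalSubgroup p ≤ S) : F.HasPPowerIndexIn F p :=
  ⟨fun _ _ hφ => hφ, h, fun _ _ => Subgroup.map_subtype_le _⟩

/-- The residual limit is determined by the system. -/
theorem residualLimit_unique {U V : Subgroup Ω} {A : FusionSystem U} {B : FusionSystem V}
    (hA : A.IsResidualLimitOf F p) (hB : B.IsResidualLimitOf F p) (hS : IsPGroup p S) (hF : F.IsSaturated p) :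
    ∀ P : Subgroup Ω, A.Hom P = B.Hom P := by
  suffices key : ∀ {U S : Subgroup Ω} {A : FusionSystem U} {F : FusionSystem S} {q : ℕ},
      A.IsResidualLimitOf F q → q = p → Finite S → IsPGroup p S → F.IsSaturated p → ∀ {V : Subgroup Ω}
        {B : FusionSystem V}, B.IsResidualLimitOf F p → ∀ P : Subgroup Ω, A.Hom P = B.Hom P from
    key hA rfl inferInstance hS hF hB
  intro U S A F q hA
  induction hA with
  | stable F q hh hres =>
    rintro rfl hfin hS hF V B hB
    generalize hq : q = r at hB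
    induction hB with
    | stable => exact fun _ => rfl
    | step F' q' D D' hD hD' _ ih =>
      subst hq
      have hDs := hD.1
      have hDi := hD.2
      clear * - hh hres hfin hS hF hDs hDi hD' ih
      revert D D'
      rw [hh]
      intro D D' hD' ih hDs hDi
      obtain ⟨-, rfl⟩ := residual_pair_eq (F := F') hS hDs hDi hF (self_pPowerIndex hh.le) hD' hres
      exact ih (A := D') hh hres hfin hS hF rfl
  | step F q D D' hD hD' hlim ih =>
    rintro rfl hfin hS hF V B hB
    have hHS := subsystem_le hD.2.1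
    have hfinH := finite_of_le_base hHS
    cases hB with
    | stable _ _ hh hres =>
      have hh' := hh
      have hDs := hD.1
      have hDi := hD.2
      clear hD
      revert D D' hHS hfinH
      rw [hh]
      intro D D' hD' hlim ih _ hfinH hDs hDi
      obtain ⟨-, rfl⟩ := residual_pair_eq (F := F) hS hDs hDi hF (self_pPowerIndex hh'.le) hD' hres
      exact ih rfl hfinH hS hF (IsResidualLimitOf.stable _ _ hh' hres)
    | step _ _ D₁ D₁' hD₁ hD₁' hlim₁ =>
      obtain ⟨-, rfl⟩ := residual_pair_eq (F := F) hS hD.1 hD.2 hD₁.1 hD₁.2 hD' hD₁'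
      exact ih rfl hfinH (hS.to_le hHS) hD'.1 hlim₁

/-- A saturated subsystem of `p`-power index has the same residual limit. -/
theorem residualLimit_eq_of_pPowerIndex (hS : IsPGroup p S) (hF : F.IsSaturated p) {T : Subgroup Ω}
    {E : FusionSystem T} (hEs : E.IsSaturated p) (hEi : E.HasPPowerIndexIn F p) {U V : Subgroup Ω}
    {A : FusionSystem U} {B : FusionSystem V} (hA : A.IsResidualLimitOf F p) (hB : B.IsResidualLimitOf E p) :
    ∀ P : Subgroup Ω, A.Hom P = B.Hom P := by
  have hTS : T ≤ S := subsystem_le hEi.1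
  haveI := finite_of_le_base hTS
  have hTp := hS.to_le hTS
  have heq := hyperfocal_eq_of_pPowerIndex hS hF hEi
  cases hA with
  | stable _ _ hh hres =>
    obtain rfl : T = S := le_antisymm hTS (hh ▸ hEi.2.1)
    obtain rfl : E = F := system_ext fun P => Set.Subset.antisymm
      (le_of_pResidual hS hEs hEi.1 (self_pPowerIndex hh.le).2.2 P)
      (le_of_pResidual hS hF (fun _ _ h => h) hEi.2.2 P)
    exact residualLimit_unique (IsResidualLimitOf.stable _ _ hh hres) hB hS hF
  | step _ _ D D' hD hD' hlim =>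
    haveI hfinH := finite_of_le_base (subsystem_le hD.2.1)
    cases hB with
    | stable _ _ hh hres =>
      have hDs := hD.1
      have hDi := hD.2
      clear hD
      revert D D' hfinH
      rw [← heq, hh]
      intro D D' hD' hlim _ hDs hDi
      obtain ⟨-, rfl⟩ := residual_pair_eq (F := F) hS hDs hDi hEs hEi hD' hres
      exact residualLimit_unique hlim (IsResidualLimitOf.stable _ _ hh hres) hTp hEs
    | step _ _ D₁ D₁' hD₁ hD₁' hlim₁ =>
      have hD₁F : D₁.HasPPowerIndexIn F p := by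
        refine ⟨fun P φ hφ => hEi.1 P (hD₁.2.1 P hφ), heq ▸ le_rfl, fun P hP => ?_⟩
        rw [Subgroup.map_le_iff_le_comap]
        refine (Subgroup.closure_le _).2 fun a ha => ?_
        have hc : Nat.Coprime (orderOf (a : MulAut P)) p := by rw [Subgroup.orderOf_coe]; exact ha
        exact mem_of_coprime hD₁.2 hP (mem_of_coprime hEi (hP.trans (subsystem_le hD₁.2.1)) a.2 hc) hc
      have hD₁s := hD₁.1
      clear hD₁
      revert D₁ D₁'
      rw [heq]
      intro D₁ D₁' hD₁' hlim₁ hD₁F hD₁s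
      obtain ⟨-, rfl⟩ := residual_pair_eq (F := F) hS hD.1 hD.2 hD₁s hD₁F hD' hD₁'
      exact residualLimit_unique hlim hlim₁ (hS.to_le (subsystem_le hD.2.1)) hD'.1

end CfsgLib.Fsys
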