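import Cfsg.Agent.Lib.FusionSystem.ReductionInvariant
import Cfsg.Agent.Lib.FusionSystem.ResidualLimit
import Cfsg.Agent.Lib.FusionSystem.CharacterNormal

/-! The residual limit exists, lies in the system, and is that of every subsystem of index prime to `p`. -/

set_option autoImplicit false

namespace CfsgLib.Fsys.Red

open Cfsg Cfsg.FusionSystem CfsgLib.Fsys.WNR
open Cfsg.FusionSystem (centralizerIn normalizerIn)

universe u

variable {Ω : Type u} [Group Ω] {S : Subgroup Ω} [Finite S] {F : FusionSystem S} {p : ℕ} [Fact p.Prime]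

/-- An invariant subsystem of an invariant subsystem, stable under the larger automizer, is invariant. -/
theorem invariant_trans {R S₁ : Subgroup Ω} {F' : FusionSystem R} {F₁ : FusionSystem S₁}
    (hF' : F'.IsInvariantIn F) (h₁ : F₁.IsInvariantIn F') (hS₁ : F.StronglyClosed S₁)
    (htr : ∀ α ∈ F.autGroup R, ∀ (P : Subgroup Ω) (g : Ω → Ω), Fn F₁ P g →
      ∃ χ : Ω → Ω, Fn F₁ (img (autFn α) P) χ ∧ ∀ x ∈ P, χ (autFn α x) = autFn α (g x)) :
    F₁.IsInvariantIn F := by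
  have hRS : R ≤ S := hF'.2.1.1
  have hSR : S₁ ≤ R := h₁.2.1.1
  haveI := finite_of_le_base hRS
  haveI := finite_of_le_base hS₁.1
  have hα : ∀ {α : MulAut R}, α ∈ F.autGroup R → ∀ {x : Ω}, x ∈ S₁ → autFn α x ∈ S₁ := fun {α} ha x hx =>
    sc_apply hS₁ ((mem_autGroup_iff_fn hRS).1 ha) (hSR hx) hx
  have hdec : ∀ {P : Subgroup Ω} {f : Ω → Ω}, P ≤ S₁ → Fn F P f →
      ∃ α ∈ F.autGroup R, ∃ β ∈ F'.autGroup S₁, ∃ g, Fn F₁ P g ∧
        ∀ x ∈ P, f x = autFn α (autFn β (g x)) := by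
    intro P f hP hf
    obtain ⟨α, ha, u, hu, hfu⟩ := Invariant.frattini hF' (hP.trans hSR) hf
    obtain ⟨β, hb, g, hg, hug⟩ := Invariant.frattini h₁ hP hu
    exact ⟨α, ha, β, hb, g, hg, fun x hx => by rw [hfu x hx, hug x hx]⟩
  refine ⟨fun P φ h => hF'.1 P (h₁.1 P h), hS₁, fun P hP φ hφ γ hγ => ?_, fun P hP φ hφ => ?_⟩
  · obtain ⟨α, ha, β, hb, g, hg, hge⟩ := hdec le_rfl ((mem_autGroup_iff_fn hS₁.1).1 hγ)
    obtain ⟨δ, hd, hde⟩ := exists_aut_of_fn (Fn.of_subsystem h₁.1 hg)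
      ((Fn.of_subsystem h₁.1 hg).img_eq_self fun x hx => hg.mem hx)
    have hd' : β * δ ∈ F'.autGroup S₁ := mul_mem hb hd
    have he : ∀ x ∈ S₁, autFn γ x = autFn α (autFn (β * δ) x) := fun x hx => by
      rw [hge x hx, autFn_mul _ _ hx, show autFn δ x = g x from (autFn_coe δ ⟨x, hx⟩).trans (hde ⟨x, hx⟩)]
    obtain ⟨χ, hχ, hχe⟩ := Invariant.aut h₁ hP (fn_ofHom hφ) hd'
    obtain ⟨χ', hχ', hχ'e⟩ := htr α ha _ χ hχ
    have e : (P.subgroupOf S₁).map (S₁.subtype.comp γ.toMonoidHom) =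
        img (autFn α) (img (autFn (β * δ)) P) := by
      have h1 : img (autFn α) (img (autFn (β * δ)) P) = img (autFn γ) P := by
        rw [← ((mem_autGroup_iff_fn hSR).1 hd' |>.mono hP).img_comp]
        exact img_congr fun x hx => (he x (hP hx)).symm
      rw [h1]
      refine le_antisymm ?_ (img_le fun x hx => ⟨⟨x, hP hx⟩, hx, (autFn_coe γ ⟨x, hP hx⟩).symm⟩)
      rintro _ ⟨x, hx, rfl⟩
      show ((γ x : S₁) : Ω) ∈ _
      rw [← autFn_coe]
      exact mem_img_of_mem hx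
    rw [← e] at hχ'
    obtain ⟨ψ, hψ, hψe⟩ := hχ'
    refine ⟨ψ, hψ, fun x hφx hαx => ?_⟩
    rw [hψe]
    show χ' ((γ ⟨(x : Ω), hP x.2⟩ : S₁) : Ω) = _
    rw [← autFn_coe, ← autFn_coe γ ⟨φ x, hφx⟩]
    show χ' (autFn γ x) = autFn γ (φ x)
    rw [he _ (hP x.2), hχ'e _ (mem_img_of_mem x.2), hχe _ x.2, he _ hφx, ofHom_coe]
  · obtain ⟨α, ha, β, hb, g, hg, hge⟩ := hdec hP (fn_ofHom hφ)
    obtain ⟨α₀, hα₀, hα₀e⟩ := exists_aut_of_fn (((mem_autGroup_iff_fn hRS).1 ha).mono hSR)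
      ((((mem_autGroup_iff_fn hRS).1 ha).mono hSR).img_eq_self fun x hx => hα ha hx)
    obtain ⟨φ₀, hφ₀, hφ₀g⟩ := id hg
    refine ⟨α₀ * β, mul_mem hα₀ (autGroup_mono' hF'.1 S₁ hb), φ₀, hφ₀, fun x hx => ?_⟩
    rw [← ofHom_coe φ x, hge x x.2, ← hφ₀g x, autFn_coe β ⟨φ₀ x, hx⟩, MulAut.mul_apply, hα₀e]

omit [Finite S] [Fact p.Prime] in
/-- Being of index prime to `p` composes. -/
theorem primeToP_trans {R R' : FusionSystem S} (h : R.HasPrimeToPIndexIn F p)
    (h' : R'.HasPrimeToPIndexIn R p) : R'.HasPrimeToPIndexIn F p := by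
  refine ⟨fun P φ hφ => h.1 P (h'.1 P hφ), fun P hP => ?_⟩
  rw [Subgroup.map_le_iff_le_comap, Subgroup.closure_le]
  rintro a ⟨k, hk⟩
  have haR : (a : MulAut P) ∈ R.autGroup P := h.2 P hP ⟨a, Subgroup.subset_closure ⟨k, hk⟩, rfl⟩
  exact h'.2 P hP ⟨⟨_, haR⟩, Subgroup.subset_closure ⟨k, by rw [← hk, ← Subgroup.orderOf_coe ⟨_, haR⟩, ← Subgroup.orderOf_coe a]⟩, rfl⟩

/-- The residual is its own residual. -/
theorem pPrimeResidual_self {R : FusionSystem S} (hS : IsPGroup p S) (hR : F.IsPPrimeResidual p R) :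
    R.IsPPrimeResidual p R := by
  obtain ⟨R', hR'⟩ := exists_pPrimeResidual hS hR.1
  obtain rfl : R' = R := system_ext fun P => Set.Subset.antisymm (hR'.2.1.1 P)
    (hR.2.2 R' hR'.1 (primeToP_trans hR.2.1 hR'.2.1) P)
  exact hR'

omit [Fact p.Prime] in
theorem hyperfocal_mono {T : Subgroup Ω} {E : FusionSystem T} (hE : E.IsSubsystemOf F) :
    E.hyperfocalSubgroup p ≤ F.hyperfocalSubgroup p := by
  haveI := finite_of_le_base (subsystem_le hE)
  refine (Subgroup.closure_le _).2 ?_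
  rintro _ ⟨P, α, x, hP, hα, rfl⟩
  obtain ⟨a, ha, hae⟩ := CfsgLib.Fusion.Basic.pResidual_map_subtype_mono (autGroup_mono' hE P) ⟨α, hα, rfl⟩
  have hae' : (a : MulAut P) = (α : MulAut P) := hae
  exact Subgroup.subset_closure ⟨P, a, x, hP.trans (subsystem_le hE), ha, by rw [hae']⟩

/-- Residual limits exist. -/
theorem exists_residualLimit (hS : IsPGroup p S) (hF : F.IsSaturated p) :
    ∃ (U : Subgroup Ω) (L : FusionSystem U), L.IsResidualLimitOf F p ∧ L.IsSubsystemOf F := by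
  suffices key : ∀ (n : ℕ) {S : Subgroup Ω} [Finite S] {F : FusionSystem S}, Nat.card S = n → IsPGroup p S →
      F.IsSaturated p → ∃ (U : Subgroup Ω) (L : FusionSystem U), L.IsResidualLimitOf F p ∧ L.IsSubsystemOf F from
    key _ rfl hS hF
  clear hS hF
  intro n
  induction n using Nat.strong_induction_on with
  | _ n ih =>
  intro S _ F hn hS hF
  have hHS : F.hyperfocalSubgroup p ≤ S := CfsgLib.Fsys.hyperfocal_le
  haveI := finite_of_le_base hHS
  obtain ⟨D, hD⟩ : ∃ D : FusionSystem (F.hyperfocalSubgroup p), F.IsPResidual p D :=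
    exists_pPowerIndex hS hF hHS le_rfl
  obtain ⟨D', hD'⟩ := exists_pPrimeResidual (hS.to_le hHS) hD.1
  have hsub : D'.IsSubsystemOf F := fun P φ h => hD.2.1 P (hD'.2.1.1 P h)
  by_cases hcase : D'.hyperfocalSubgroup p = F.hyperfocalSubgroup p
  · exact ⟨_, D', .step F p D D' hD hD' (.stable D' p hcase (pPrimeResidual_self (hS.to_le hHS) hD')), hsub⟩
  -- the hyperfocal subgroup shrinks
  have hle : D'.hyperfocalSubgroup p ≤ F.hyperfocalSubgroup p := CfsgLib.Fsys.hyperfocal_le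
  have hlt := lt_of_le_of_ne hle hcase
  haveI := finite_of_le_base (hle.trans hHS)
  obtain ⟨D₂, hD₂⟩ : ∃ D₂ : FusionSystem (D'.hyperfocalSubgroup p), D'.IsPResidual p D₂ :=
    exists_pPowerIndex (hS.to_le hHS) hD'.1 hle le_rfl
  obtain ⟨D₂', hD₂'⟩ := exists_pPrimeResidual (hS.to_le (hle.trans hHS)) hD₂.1
  have hcard : Nat.card (D'.hyperfocalSubgroup p) < n := by
    rw [← hn]
    exact (Set.Finite.card_lt_card (Set.toFinite (F.hyperfocalSubgroup p : Set Ω)) hlt).trans_le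
      (Subgroup.card_le_of_le hHS)
  obtain ⟨U, L, hL, hLs⟩ := ih _ hcard (F := D₂') rfl (hS.to_le (hle.trans hHS)) hD₂'.1
  exact ⟨U, L, .step F p D D' hD hD' (.step D' p D₂ D₂' hD₂ hD₂' hL),
    fun P φ h => hsub P (hD₂.2.1 P (hD₂'.2.1.1 P (hLs P h)))⟩

/-- A residual limit is a subsystem. -/
theorem residualLimit_subsystem {U : Subgroup Ω} {L : FusionSystem U} (hL : L.IsResidualLimitOf F p)
    (hS : IsPGroup p S) (hF : F.IsSaturated p) : L.IsSubsystemOf F := by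
  obtain ⟨V, L', hL', hsub⟩ := exists_residualLimit hS hF
  exact fun P φ h => hsub P (residualLimit_unique hL hL' hS hF P ▸ h)

/-- The residual limit of a system is that of its `p'`-residual. -/
theorem residualLimit_eq_of_residual (hS : IsPGroup p S) (hF : F.IsSaturated p) {R : FusionSystem S}
    (hR : F.IsPPrimeResidual p R) {U V : Subgroup Ω} {A : FusionSystem U} {B : FusionSystem V}
    (hA : A.IsResidualLimitOf F p) (hB : B.IsResidualLimitOf R p) : ∀ P : Subgroup Ω, A.Hom P = B.Hom P := by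
  suffices key : ∀ (n : ℕ) {S : Subgroup Ω} [Finite S] {F R : FusionSystem S}, Nat.card S = n → IsPGroup p S →
      F.IsSaturated p → F.IsPPrimeResidual p R → ∀ {U V : Subgroup Ω} {A : FusionSystem U} {B : FusionSystem V},
      A.IsResidualLimitOf F p → B.IsResidualLimitOf R p → ∀ P : Subgroup Ω, A.Hom P = B.Hom P from
    key _ rfl hS hF hR hA hB
  clear hS hF hR hA hB
  intro n
  induction n using Nat.strong_induction_on with
  | _ n ih =>
  intro S _ F R hn hS hF hR U V A B hA hB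
  have hHS : F.hyperfocalSubgroup p ≤ S := CfsgLib.Fsys.hyperfocal_le
  haveI := finite_of_le_base hHS
  have hHp := hS.to_le hHS
  obtain ⟨D, hD⟩ : ∃ D : FusionSystem (F.hyperfocalSubgroup p), F.IsPResidual p D :=
    exists_pPowerIndex hS hF hHS le_rfl
  by_cases hcase : F.hyperfocalSubgroup p = S
  · -- `D` is `F`
    obtain ⟨D', hD'⟩ := exists_pPrimeResidual hHp hD.1
    have key : ∀ {H : Subgroup Ω} (D₀ D₀' : FusionSystem H), H = S → D₀.IsSaturated p →
        D₀.HasPPowerIndexIn F p → D₀.IsPPrimeResidual p D₀' → ∀ {W : Subgroup Ω} {L : FusionSystem W},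
        L.IsResidualLimitOf R p → L.IsResidualLimitOf D₀' p := by
      intro H D₀ D₀' hH h1 h2 h3 W L hL
      subst hH
      obtain rfl : D₀ = F := system_ext fun P => Set.Subset.antisymm (h2.1 P)
        (le_of_pResidual hS hF (fun _ _ h => h) h2.2.2 P)
      obtain rfl : D₀' = R := system_ext fun P => Set.Subset.antisymm (h3.2.2 R hR.1 hR.2.1 P)
        (hR.2.2 D₀' h3.1 h3.2.1 P)
      exact hL
    exact residualLimit_unique hA (.step F p D D' hD hD' (key D D' hcase hD.1 hD.2 hD' hB)) hS hF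
  -- the hyperfocal subgroup is proper
  have hlt : Nat.card (F.hyperfocalSubgroup p) < n := by
    rw [← hn]
    exact Set.Finite.card_lt_card (Set.toFinite (S : Set Ω)) (SetLike.coe_ssubset_coe.2 (lt_of_le_of_ne hHS hcase))
  have hRn : R.IsNormalIn F p := residual_normal hS (weaklyNormal_self hF) hR
  have hconj : ∀ s ∈ S, ∀ x ∈ F.hyperfocalSubgroup p, s * x * s⁻¹ ∈ F.hyperfocalSubgroup p :=
    fun s hs x hx => hyperfocal_conj hS hs hx
  obtain ⟨RH, hRHs, hRHi⟩ := exists_pPowerIndex hS hR.1 hHS (hyperfocal_mono hR.2.1.1)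
  have hRHn : RH.IsNormalIn R p := pPowerIndex_normal hS hR.1 hconj hRHs hRHi
  have hsc := stronglyClosed_of_hyperfocal_le hS hF hHS hconj le_rfl
  have hRHF : RH.IsWeaklyNormalIn F p := ⟨hRHs, hF, invariant_trans hRn.1.2.2 hRHn.1.2.2 hsc
    fun α hα P g hg => pPower_transport hS hRn.1.2.2 hRHs hRHi hα
      (fun x hx => sc_apply hsc (fn_autS hα) (hHS hx) hx) hg⟩
  have hRHD : RH.IsWeaklyNormalIn D p := weaklyNormal_between hS hRHF hD.1 hD.2.1
    (subsystem_le_pPowerIndex hHp inferInstance hRHs hRHF.2.2.1 le_rfl hD.2)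
  have hidx : RH.HasPrimeToPIndexIn D p := ⟨hRHD.2.2.1, fun P hP =>
    opAut_le_of_weaklyNormal hHp (weaklyNormal_self hD.1) hRHD.2.2 hP⟩
  obtain ⟨R₀, hR₀⟩ := exists_pPrimeResidual hHp hRHs
  obtain ⟨D', hD'⟩ := exists_pPrimeResidual hHp hD.1
  have hidx' : D'.HasPrimeToPIndexIn RH p := by
    refine ⟨hD'.2.2 RH hRHs hidx, fun Q hQ => ?_⟩
    rw [Subgroup.map_le_iff_le_comap, Subgroup.closure_le]
    rintro a ⟨k, hk⟩
    have haD : (a : MulAut Q) ∈ D.autGroup Q := autGroup_mono' hidx.1 Q a.2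
    exact hD'.2.1.2 Q hQ ⟨⟨_, haD⟩, Subgroup.subset_closure
      ⟨k, by rw [← hk, ← Subgroup.orderOf_coe ⟨_, haD⟩, ← Subgroup.orderOf_coe a]⟩, rfl⟩
  obtain rfl : R₀ = D' := system_ext fun P => Set.Subset.antisymm
    (hR₀.2.2 D' hD'.1 hidx' P)
    (hD'.2.2 R₀ hR₀.1 (primeToP_trans hidx hR₀.2.1) P)
  obtain ⟨L₁, A₁, hA₁, -⟩ := exists_residualLimit hHp hR₀.1
  obtain ⟨L₂, A₂, hA₂, -⟩ := exists_residualLimit hHp hD.1
  obtain ⟨L₃, A₃, hA₃, -⟩ := exists_residualLimit hHp hRHs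
  intro P
  rw [residualLimit_eq_of_pPowerIndex hS hF hD.1 hD.2 hA hA₂ P,
    residualLimit_eq_of_pPowerIndex hS hR.1 hRHs hRHi hB hA₃ P,
    ih _ hlt rfl hHp hD.1 hD' hA₂ hA₁ P, ih _ hlt rfl hHp hRHs hR₀ hA₃ hA₁ P]

/-- A saturated subsystem of index prime to `p` has the same residual limit. -/
theorem residualLimit_eq_of_primeToP (hS : IsPGroup p S) (hF : F.IsSaturated p) {E : FusionSystem S}
    (hEs : E.IsSaturated p) (hEi : E.HasPrimeToPIndexIn F p) {U V : Subgroup Ω} {A : FusionSystem U}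
    {B : FusionSystem V} (hA : A.IsResidualLimitOf F p) (hB : B.IsResidualLimitOf E p) :
    ∀ P : Subgroup Ω, A.Hom P = B.Hom P := by
  obtain ⟨R, hR⟩ := exists_pPrimeResidual hS hF
  obtain ⟨R', hR'⟩ := exists_pPrimeResidual hS hEs
  obtain rfl : R' = R := system_ext fun P => Set.Subset.antisymm
    (hR'.2.2 R hR.1 ⟨hR.2.2 E hEs hEi, fun Q hQ => by
      rw [Subgroup.map_le_iff_le_comap, Subgroup.closure_le]
      rintro a ⟨k, hk⟩
      have haF : (a : MulAut Q) ∈ F.autGroup Q := autGroup_mono' hEi.1 Q a.2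
      exact hR.2.1.2 Q hQ ⟨⟨_, haF⟩, Subgroup.subset_closure
        ⟨k, by rw [← hk, ← Subgroup.orderOf_coe ⟨_, haF⟩, ← Subgroup.orderOf_coe a]⟩, rfl⟩⟩ P)
    (hR.2.2 R' hR'.1 (primeToP_trans hEi hR'.2.1) P)
  obtain ⟨W, L, hL, -⟩ := exists_residualLimit hS hR'.1
  intro P
  rw [residualLimit_eq_of_residual hS hF hR hA hL P, residualLimit_eq_of_residual hS hEs hR' hB hL P]

end CfsgLib.Fsys.Red
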