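import Cfsg.Agent.Lib.FusionSystem.ReductionResidual

/-! The two kinds of step of the reduction to the automizer of a normal subsystem. -/

set_option autoImplicit false

namespace CfsgLib.Fsys.Red

open Cfsg Cfsg.FusionSystem CfsgLib.Fsys.WNR
open Cfsg.FusionSystem (centralizerIn normalizerIn)

universe u

variable {Ω : Type u} [Group Ω] {S T : Subgroup Ω} [Finite S] {F : FusionSystem S} {E : FusionSystem T}
  {p : ℕ} [Fact p.Prime]

/-- The action of `S` on a strongly closed subgroup. -/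
def conjT (hT : F.StronglyClosed T) : S →* MulAut T :=
  T.normalizerMonoidHom.comp (Subgroup.inclusion (sc_le_normalizer hT))

omit [Finite S] in
theorem autFn_conjT (hT : F.StronglyClosed T) (s : S) {t : Ω} (ht : t ∈ T) :
    autFn (conjT hT s) t = s * t * (s : Ω)⁻¹ :=
  autFn_coe (conjT hT s) ⟨t, ht⟩

omit [Finite S] in
theorem conjT_mem (hT : F.StronglyClosed T) (s : S) {R : Subgroup Ω} (hs : (s : Ω) ∈ R) {F' : FusionSystem R}
    (hTR : T ≤ R) : conjT hT s ∈ F'.autGroup T :=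
  autInducedBy_le_autGroup hTR (mem_autInducedBy.2 ⟨(s : Ω), hs, fun _ => rfl⟩)

/-- The elements of `S` acting on `T` through `K`. -/
def baseOf (hT : F.StronglyClosed T) (K : Subgroup (MulAut T)) : Subgroup Ω :=
  (K.comap (conjT hT)).map S.subtype

omit [Finite S] in
theorem mem_baseOf {hT : F.StronglyClosed T} {K : Subgroup (MulAut T)} {x : Ω} :
    x ∈ baseOf hT K ↔ ∃ hx : x ∈ S, conjT hT ⟨x, hx⟩ ∈ K :=
  ⟨fun ⟨y, hy, e⟩ => e ▸ ⟨y.2, hy⟩, fun ⟨hx, h⟩ => ⟨⟨x, hx⟩, h, rfl⟩⟩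

/-- The invariants carried along the reduction. -/
structure Stage (p : ℕ) (F : FusionSystem S) (E : FusionSystem T) (hT : F.StronglyClosed T)
    (K : Subgroup (MulAut T)) (F' : FusionSystem (baseOf hT K)) : Prop where
  saturated : F'.IsSaturated p
  invariant : F'.IsInvariantIn F
  contains : E.IsSubsystemOf F'
  autGroup_eq : F'.autGroup T = K
  limit : ∀ {U V : Subgroup Ω} {A : FusionSystem U} {B : FusionSystem V},
    A.IsResidualLimitOf F p → B.IsResidualLimitOf F' p → ∀ P : Subgroup Ω, A.Hom P = B.Hom P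

/-- Transport of the system cut out by a character of an invariant subsystem. -/
theorem character_transport {R : Subgroup Ω} [Finite R] (hS : IsPGroup p S) (hE : E.IsInvariantIn F)
    {F' : FusionSystem R} (hF' : F'.IsInvariantIn F) {hTR : T ≤ R} {K : Subgroup (MulAut T)}
    (hconj : ∀ β ∈ F.autGroup T, ∀ k ∈ K, β * k * β⁻¹ ∈ K)
    (hw : E.IsWeaklyNormalIn F' p) (hK : IsCharKernel F' E p K)
    {α : MulAut R} (hα : α ∈ F.autGroup R) {P : Subgroup Ω} {g : Ω → Ω}
    (hg : Fn (characterSystem p F' E hTR K) P g) :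
    ∃ χ : Ω → Ω, Fn (characterSystem p F' E hTR K) (img (autFn α) P) χ ∧
      ∀ x ∈ P, χ (autFn α x) = autFn α (g x) := by
  have hRS : R ≤ S := hF'.2.1.1
  have hRp := hS.to_le hRS
  have hT : F.StronglyClosed T := hE.2.1
  have hαf : Fn F R (autFn α) := (mem_autGroup_iff_fn hRS).1 hα
  let D : FusionSystem R := predSystem F'
    (fun P g => ∃ χ : Ω → Ω, Fn (characterSystem p F' E hTR K) (img (autFn α) P) χ ∧
      ∀ x ∈ P, χ (autFn α x) = autFn α (g x))
    (fun P f g he _ h => by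
      obtain ⟨χ, hχ, hχe⟩ := h
      exact ⟨χ, hχ, fun x hx => by rw [hχe x hx, he x hx]⟩)
    (fun P hP s hs => ⟨fun y => autFn α s * y * (autFn α s)⁻¹,
      fn_conj (img_le fun x hx => autFn_mem α (hP hx)) (autFn_mem α hs),
      fun x hx => (hαf.map_conj hs (hP hx)).symm⟩)
    (fun P R' f g hf' _ hm h h' => by
      obtain ⟨χ, hχ, hχe⟩ := h
      obtain ⟨χ', hχ', hχ'e⟩ := h'
      refine ⟨χ' ∘ χ, hχ.comp hχ' fun y hy => ?_, fun x hx => ?_⟩
      · obtain ⟨x, hx, rfl⟩ := (hαf.mono hf'.le).mem_img.1 hy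
        rw [hχe x hx]
        exact mem_img_of_mem (hm x hx)
      · show χ' (χ (autFn α x)) = autFn α (g (f x))
        rw [hχe x hx, hχ'e _ (hm x hx)])
    (fun P f g hf' _ hgf h => by
      obtain ⟨χ, hχ, hχe⟩ := h
      obtain ⟨χ', hχ', hχ'χ, -⟩ := hχ.exists_inv
      have hi : img χ (img (autFn α) P) = img (autFn α) (img f P) := by
        rw [← (hαf.mono hf'.le).img_comp, ← hf'.img_comp]
        exact img_congr fun x hx => hχe x hx
      rw [hi] at hχ'
      refine ⟨χ', hχ', fun y hy => ?_⟩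
      obtain ⟨x, hx, rfl⟩ := hf'.mem_img.1 hy
      rw [← hχe x hx, hχ'χ _ (mem_img_of_mem hx), hgf x hx])
  have hD : KernelBase p F' E hTR K D := by
    refine ⟨fun P hP => opAut_closure fun τ hτ ⟨k, hk⟩ => ?_, fun a ha => ?_⟩
    · refine (mem_autGroup_iff_fn hP.1.1).2 (fn_predSystem.2 ⟨(mem_autGroup_iff_fn hP.1.1).1 hτ, ?_⟩)
      have hf := hαf.mono hP.1.1
      have hPS : P ≤ S := hP.1.1.trans hRS
      haveI := finite_of_le_base hPS
      obtain ⟨e, he, -⟩ := exists_transport hPS hf rfl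
      have hQR : img (autFn α) P ≤ R := img_le fun x hx => autFn_mem α (hP.1.1 hx)
      obtain ⟨χ, hχ, hχe⟩ := Invariant.aut hF' hP.1.1 ((mem_autGroup_iff_fn hP.1.1).1 hτ) hα
      have hτ' : MulAut.congr e τ ∈ F'.autGroup (img (autFn α) P) :=
        (mem_autGroup_iff_fn hQR).2 (hχ.congr fun y hy => by
          obtain ⟨x, hx⟩ := e.surjective ⟨y, hy⟩
          have hyx : y = ((e x : _) : Ω) := by rw [hx]
          rw [hyx, autFn_coe, show (MulAut.congr e τ) (e x) = e (τ x) by simp [MulAut.congr], he, he,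
            hχe x x.2, autFn_coe])
      have hcl : InClass F' E (img (autFn α) P) := by
        refine ⟨centric_img hF' hP.1 hf, ?_⟩
        rw [img_inf_sc hT hf]
        exact centric_img hE hP.2 (hf.mono inf_le_left)
      refine ⟨_, (mem_autGroup_iff_fn hQR).1 (characterSystem_base.1 _ hcl
        (mem_opAut_of_pow hτ' (k := k) (by rw [← map_pow, hk, map_one]))), fun x hx => ?_⟩
      lift x to P using hx
      rw [← he x, autFn_coe]
      simp [MulAut.congr, he]
    · obtain ⟨haF, b, hb, hbe⟩ := ha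
      obtain ⟨β, hβ, hβe⟩ : ∃ β ∈ F.autGroup T, ∀ t ∈ T, autFn β t = autFn α t := by
        haveI := finite_of_le_base hT.1
        obtain ⟨β, hβ, hβe⟩ := exists_aut_of_fn (hαf.mono hTR)
          ((hαf.mono hTR).img_eq_self fun t ht => sc_apply hT hαf (hTR ht) ht)
        exact ⟨β, hβ, fun t ht => (autFn_coe β ⟨t, ht⟩).trans (hβe ⟨t, ht⟩)⟩
      refine (mem_autGroup_iff_fn le_rfl).2 (fn_predSystem.2 ⟨fn_autS haF, ?_⟩)
      have hmem : α * a * α⁻¹ ∈ liftKernel hTR F' K := by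
        refine ⟨Invariant.conj_mem hF' le_rfl hα haF, β * b * β⁻¹, hconj β hβ b hb, fun t ht => ?_⟩
        have hi : autFn β⁻¹ t = autFn α⁻¹ t := by
          conv_rhs => rw [← autFn_apply_inv β ht, hβe _ (autFn_mem β⁻¹ ht),
            autFn_inv_apply α (hTR (autFn_mem β⁻¹ ht))]
        rw [autFn_mul _ _ ht, autFn_mul _ _ (autFn_mem _ ht), autFn_mul _ _ (hTR ht),
          autFn_mul _ _ (autFn_mem _ (hTR ht)), hbe _ (autFn_mem _ ht), hβe, hi]
        rw [← hbe _ (autFn_mem _ ht)]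
        exact autFn_mem b (autFn_mem _ ht)
      rw [img_autFn]
      exact ⟨_, (mem_autGroup_iff_fn le_rfl).1 (characterSystem_base.2 hmem), fun x hx => by
        rw [autFn_mul _ _ (autFn_mem α hx), autFn_inv_apply α hx, autFn_mul _ _ hx]⟩
  exact (fn_predSystem.1 (characterSystem_min hD hg)).2

variable {hT : F.StronglyClosed T}

/-- A step of index prime to `p`. -/
theorem step_coprime (hS : IsPGroup p S) (hE : E.IsWeaklyNormalIn F p) {K K' : Subgroup (MulAut T)}
    {F' : FusionSystem (baseOf hT K')} (h : Stage p F E hT K' F') (hKK' : K ≤ K')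
    (hEK : E.autGroup T ≤ K) (hconj : ∀ β ∈ F.autGroup T, ∀ k ∈ K, β * k * β⁻¹ ∈ K)
    (hpow : ∀ α ∈ K', ∀ k : ℕ, α ^ p ^ k ∈ K → α ∈ K) :
    ∃ F₁ : FusionSystem (baseOf hT K), Stage p F E hT K F₁ := by
  classical
  have hbase : baseOf hT K = baseOf hT K' := le_antisymm
    (fun x hx => by
      obtain ⟨hxS, hxK⟩ := mem_baseOf.1 hx
      exact mem_baseOf.2 ⟨hxS, hKK' hxK⟩)
    (fun x hx => by
      obtain ⟨hxS, hxK⟩ := mem_baseOf.1 hx
      obtain ⟨k, hk⟩ := hS ⟨x, hxS⟩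
      exact mem_baseOf.2 ⟨hxS, hpow _ hxK k (by rw [← map_pow, hk, map_one]; exact K.one_mem)⟩)
  rw [show (∃ F₁ : FusionSystem (baseOf hT K), Stage p F E hT K F₁) ↔
      ∃ F₁ : FusionSystem (baseOf hT K'), F₁.IsSaturated p ∧ F₁.IsInvariantIn F ∧ E.IsSubsystemOf F₁ ∧
        F₁.autGroup T = K ∧ ∀ {U V : Subgroup Ω} {A : FusionSystem U} {B : FusionSystem V},
          A.IsResidualLimitOf F p → B.IsResidualLimitOf F₁ p → ∀ P : Subgroup Ω, A.Hom P = B.Hom P by
    rw [← hbase]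
    exact ⟨fun ⟨G, hG⟩ => ⟨G, hG.1, hG.2, hG.3, hG.4, hG.5⟩,
      fun ⟨G, h1, h2, h3, h4, h5⟩ => ⟨G, h1, h2, h3, h4, h5⟩⟩]
  have hRS : baseOf hT K' ≤ S := h.invariant.2.1.1
  haveI := finite_of_le_base hRS
  haveI := finite_of_le_base hT.1
  have hRp := hS.to_le hRS
  have hTR : T ≤ baseOf hT K' := subsystem_le h.contains
  have hw := weaklyNormal_between hS hE h.saturated h.invariant.1 h.contains
  have hK : IsCharKernel F' E p K := by
    refine ⟨hKK'.trans h.autGroup_eq.ge, fun α hα => hconj α (autGroup_mono' h.invariant.1 T hα), hEK, ?_⟩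
    rw [h.autGroup_eq]
    exact hpow
  have hsat := characterSystem_saturated (hTS := hTR) hRp hw hK
  refine ⟨characterSystem p F' E hTR K, hsat,
    invariant_trans h.invariant (characterSystem_invariant hRp hw hK) h.invariant.2.1
      (fun α hα P g hg => character_transport hS hE.2.2 h.invariant hconj hw hK hα hg),
    le_characterSystem hRp hw hK, ?_, ?_⟩
  · have hTn := hw.2.2.2.1
    have hchar : ∀ {β : MulAut T}, β ∈ (characterSystem p F' E hTR K).autGroup T → β ∈ K := fun {β} hβ => by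
      have hf := (mem_autGroup_iff_fn hTR).1 hβ
      exact (fn_predSystem.1 (characterSystem_min (kernelSystem_base hRp hw hK) hf)).2 T le_rfl
        (centric_top E) β ((mem_autGroup_iff_fn hTR).2 (characterSystem_le hf)) id (fn_id le_rfl) fun _ _ => rfl
    refine le_antisymm (fun β hβ => hchar hβ) fun β hβ => ?_
    obtain ⟨a, ha, g, hg, hge⟩ := characterSystem_decomp hRp hw hK ((mem_autGroup_iff_fn hTR).1 (hK.le hβ))
    obtain ⟨a', ha', ha'e⟩ := exists_restr hTn ha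
    have hgT : ∀ x ∈ T, g x ∈ T := fun x hx => sc_apply hTn (characterSystem_le hg) hx hx
    obtain ⟨d, hd, hde⟩ := exists_aut_of_fn hg (hg.img_eq_self hgT)
    have hβe : β = a' * d := mulAut_ext fun x hx => by
      rw [autFn_mul _ _ hx, autFn_coe d ⟨x, hx⟩, hde, ha'e _ (hgT x hx)]
      exact hge x hx
    have ha'K : a' ∈ K := by
      have := mul_mem hβ (inv_mem (hchar hd))
      rwa [hβe, mul_inv_cancel_right] at this
    refine (mem_autGroup_iff_fn hTR).2 ((hg.comp ((mem_autGroup_iff_fn le_rfl).1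
      (characterSystem_base.2 ⟨ha, a', ha'K, ha'e⟩)) fun x hx => hg.mem hx).congr fun x hx => (hge x hx).symm)
  · intro U V A B hA hB P
    obtain ⟨W, L, hL, -⟩ := exists_residualLimit hRp h.saturated
    rw [h.limit hA hL P, residualLimit_eq_of_primeToP hRp h.saturated hsat
      (characterSystem_primeToP hRp hw hK) hL hB P]

/-- A step of `p`-power index. -/
theorem step_power (hS : IsPGroup p S) (hE : E.IsWeaklyNormalIn F p) {K K' : Subgroup (MulAut T)}
    {F' : FusionSystem (baseOf hT K')} (h : Stage p F E hT K' F') (hKK' : K ≤ K')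
    (hEK : E.autGroup T ≤ K) (hconj : ∀ β ∈ F.autGroup T, ∀ k ∈ K, β * k * β⁻¹ ∈ K)
    (hpow : ∀ α ∈ K', ∃ k : ℕ, α ^ p ^ k ∈ K) :
    ∃ F₁ : FusionSystem (baseOf hT K), Stage p F E hT K F₁ := by
  classical
  have hRS : baseOf hT K' ≤ S := h.invariant.2.1.1
  haveI := finite_of_le_base hRS
  haveI := finite_of_le_base hT.1
  have hRp := hS.to_le hRS
  have hTR : T ≤ baseOf hT K' := subsystem_le h.contains
  have hle : baseOf hT K ≤ baseOf hT K' := fun x hx => by
    obtain ⟨hxS, hxK⟩ := mem_baseOf.1 hx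
    exact mem_baseOf.2 ⟨hxS, hKK' hxK⟩
  have hInn : ∀ {t : Ω} (ht : t ∈ T), conjT hT ⟨t, hT.1 ht⟩ ∈ K := fun ht =>
    hEK (conjT_mem hT ⟨_, hT.1 ht⟩ ht le_rfl)
  have hTR₁ : T ≤ baseOf hT K := fun t ht => mem_baseOf.2 ⟨hT.1 ht, hInn ht⟩
  have hres : (pResidual p (F'.autGroup T)).map (F'.autGroup T).subtype ≤ K := by
    rw [Subgroup.map_le_iff_le_comap]
    refine (Subgroup.closure_le _).2 fun a ha => ?_
    show (a : MulAut T) ∈ K
    obtain ⟨k, hk⟩ := hpow _ (h.autGroup_eq.le a.2)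
    have hc : Nat.Coprime (orderOf (a : MulAut T)) p := by rw [Subgroup.orderOf_coe]; exact ha
    obtain ⟨m, hm⟩ := exists_pow_eq_self_of_coprime (hc.symm.pow_left k)
    exact hm ▸ pow_mem hk m
  have hnormal : ∀ s ∈ S, ∀ x ∈ baseOf hT K, s * x * s⁻¹ ∈ baseOf hT K := fun s hs x hx => by
    obtain ⟨hxS, hxK⟩ := mem_baseOf.1 hx
    refine mem_baseOf.2 ⟨S.mul_mem (S.mul_mem hs hxS) (S.inv_mem hs), ?_⟩
    have h1 := hconj _ (conjT_mem (F' := F) hT ⟨s, hs⟩ hs hT.1) _ hxK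
    rw [← map_inv, ← map_mul, ← map_mul] at h1
    exact h1
  have hT' : F'.StronglyClosed T := stronglyClosed_iff_fn.2
    ⟨hTR, fun P f hf x hx hxT => sc_apply hT (Fn.of_subsystem h.invariant.1 hf) hx hxT⟩
  have hhyp : F'.hyperfocalSubgroup p ≤ baseOf hT K := fun x hx => by
    obtain ⟨a, ha, hae⟩ := hyperfocal_acts hRp h.saturated hT' hx
    have hxR : x ∈ baseOf hT K' := CfsgLib.Fsys.hyperfocal_le hx
    refine mem_baseOf.2 ⟨hRS hxR, ?_⟩
    have e : conjT hT ⟨x, hRS hxR⟩ = a := mulAut_ext fun t ht => by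
      rw [autFn_conjT hT _ ht, autFn_coe a ⟨t, ht⟩, hae]
    rw [e]
    exact sup_le hres ((inn_le_autInducedBy le_rfl).trans ((autInducedBy_le_autGroup le_rfl).trans hEK)) ha
  obtain ⟨F₁, hs, hi⟩ := exists_pPowerIndex hRp h.saturated hle hhyp
  haveI := finite_of_le_base (hle.trans hRS)
  have hn := pPowerIndex_normal hRp h.saturated (fun s hs' x hx => hnormal s (hRS hs') x hx) hs hi
  have hsc : F.StronglyClosed (baseOf hT K) := stronglyClosed_iff_fn.2 ⟨hle.trans hRS, fun P f hf x hx hxR => by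
    obtain ⟨α, hα, g, hg, hge⟩ :=
      Invariant.frattini h.invariant (inf_le_right : P ⊓ baseOf hT K' ≤ _) (hf.mono inf_le_left)
    have hgx : g x ∈ baseOf hT K := sc_apply hn.1.2.2.2.1 hg ⟨hx, hle hxR⟩ hxR
    rw [hge x ⟨hx, hle hxR⟩]
    have hαf := (mem_autGroup_iff_fn hRS).1 hα
    obtain ⟨β, hβ, hβe⟩ : ∃ β ∈ F.autGroup T, ∀ t ∈ T, autFn β t = autFn α t := by
      obtain ⟨β, hβ, hβe⟩ := exists_aut_of_fn (hαf.mono hTR)
        ((hαf.mono hTR).img_eq_self fun t ht => sc_apply hT hαf (hTR ht) ht)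
      exact ⟨β, hβ, fun t ht => (autFn_coe β ⟨t, ht⟩).trans (hβe ⟨t, ht⟩)⟩
    obtain ⟨hyS, hyK⟩ := mem_baseOf.1 hgx
    refine mem_baseOf.2 ⟨hαf.mem (hg.mem ⟨hx, hle hxR⟩), ?_⟩
    have e : conjT hT ⟨autFn α (g x), hαf.mem (hg.mem ⟨hx, hle hxR⟩)⟩ = β * conjT hT ⟨g x, hyS⟩ * β⁻¹ := by
      refine mulAut_ext fun t ht => ?_
      have hu : autFn β⁻¹ t ∈ T := autFn_mem _ ht
      rw [autFn_conjT hT _ ht, autFn_mul _ _ ht, autFn_mul _ _ hu, autFn_conjT hT _ hu]
      show autFn α (g x) * t * (autFn α (g x))⁻¹ = autFn β (g x * autFn β⁻¹ t * (g x)⁻¹)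
      have hm : g x * autFn β⁻¹ t * (g x)⁻¹ ∈ T := sc_conj hT hyS hu
      rw [hβe _ hm, hαf.map_conj (hle hgx) (hTR hu), ← hβe _ hu, autFn_apply_inv β ht]
    rw [e]
    exact hconj β hβ _ hyK⟩
  refine ⟨F₁, hs, invariant_trans h.invariant hn.1.2.2 hsc (fun α hα P g hg =>
    pPower_transport hS h.invariant hs hi hα
      (fun x hx => sc_apply hsc ((mem_autGroup_iff_fn hRS).1 hα) (hle hx) hx) hg),
    subsystem_le_pPowerIndex (hS.to_le hT.1) inferInstance hE.1 h.contains hTR₁ hi, ?_, ?_⟩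
  · have hT₁ : F₁.StronglyClosed T := stronglyClosed_iff_fn.2 ⟨hTR₁, fun P f hf x hx hxT =>
      sc_apply hT' (Fn.of_subsystem hi.1 hf) hx hxT⟩
    have hA₁ := (fullyNormalized_good (hS.to_le (hle.trans hRS)) hs
      (fullyNormalized_of_weaklyClosed (weaklyClosed_of_stronglyClosed hT₁))).1
    have hA' := (fullyNormalized_good hRp h.saturated
      (fullyNormalized_of_weaklyClosed (weaklyClosed_of_stronglyClosed hT'))).1
    refine le_antisymm (fun α hα => ?_) fun α hα => ?_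
    · obtain ⟨β, hβ, γ, hγ, rfl⟩ := exists_residual_decomp (hS.to_le (hle.trans hRS)) hs hA₁ hα
      refine mul_mem (hres (CfsgLib.Fusion.Basic.pResidual_map_subtype_mono (autGroup_mono' hi.1 T)
        ⟨β, hβ, rfl⟩)) ?_
      obtain ⟨s, hs', hse⟩ := mem_autInducedBy.1 hγ
      obtain ⟨hsS, hsK⟩ := mem_baseOf.1 hs'
      convert hsK using 1
      exact mulAut_ext fun t ht => by rw [autFn_conjT hT _ ht, autFn_coe γ ⟨t, ht⟩, hse]
    · obtain ⟨β, hβ, γ, hγ, rfl⟩ := exists_residual_decomp hRp h.saturated hA'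
        (show α ∈ F'.autGroup T from h.autGroup_eq.symm ▸ hKK' hα)
      have hγK : γ ∈ K := by
        have := mul_mem (inv_mem (hres ⟨β, hβ, rfl⟩)) hα
        simpa using this
      refine mul_mem (hi.2.2 T hTR₁ ⟨β, hβ, rfl⟩) ?_
      obtain ⟨s, hs', hse⟩ := mem_autInducedBy.1 hγ
      have hse' : conjT hT ⟨s, hRS hs'⟩ = γ := mulAut_ext fun t ht => by
        rw [autFn_conjT hT _ ht, autFn_coe γ ⟨t, ht⟩, hse]
      rw [← hse'] at hγK ⊢
      exact conjT_mem hT ⟨s, hRS hs'⟩ (mem_baseOf.2 ⟨hRS hs', hγK⟩) hTR₁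
  · intro U V A B hA hB P
    obtain ⟨W, L, hL, -⟩ := exists_residualLimit hRp h.saturated
    rw [h.limit hA hL P, residualLimit_eq_of_pPowerIndex hRp h.saturated hs hi hL hB P]

end CfsgLib.Fsys.Red
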