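import Cfsg.Agent.Lib.FusionSystem.SectionFree
/-
Factor systems of section-free systems by normal subgroups are section-free.
-/
set_option autoImplicit false

namespace CfsgLib.Fsys

open Cfsg
open Cfsg.FusionSystem (centralizerIn normalizerIn imageAlong preimageAlong)

universe u v

variable {Ω : Type u} [Group Ω] {S : Subgroup Ω} {F : FusionSystem S} {Q : Subgroup Ω}
  {Ω' : Type v} [Group Ω'] {S' : Subgroup Ω'} {θ : S →* Ω'}

theorem preimageAlong_eq_map (A : Subgroup Ω') : preimageAlong θ A = (A.comap θ).map S.subtype := by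
  ext x
  rw [mem_preimageAlong]
  constructor
  · rintro ⟨hx, h⟩
    exact ⟨⟨x, hx⟩, show θ ⟨x, hx⟩ ∈ A by rwa [← th_apply hx], rfl⟩
  · rintro ⟨⟨y, hy⟩, h, rfl⟩
    exact ⟨hy, by
      rw [show (S.subtype ⟨y, hy⟩ : Ω) = y from rfl, th_apply hy]
      exact h⟩

variable [Finite S]

theorem card_preimageAlong {A : Subgroup Ω'} (hA : A ≤ θ.range) :
    Nat.card (preimageAlong θ A) * Nat.card θ.range = Nat.card A * Nat.card S := by
  have : Finite θ.range := Finite.of_surjective θ.rangeRestrict θ.rangeRestrict_surjective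
  rw [preimageAlong_eq_map, Subgroup.card_subtype]
  have h1 := Subgroup.card_mul_index (A.comap θ)
  have h2 : Nat.card A * (A.subgroupOf θ.range).index = Nat.card θ.range := by
    rw [← Nat.card_congr (Subgroup.subgroupOfEquivOfLe hA).toEquiv]
    exact Subgroup.card_mul_index _
  have h3 : (A.comap θ).index = (A.subgroupOf θ.range).index := Subgroup.index_comap A θ
  rw [← h1, ← h2, h3]
  ring

/-- The factor system of a section-free system by a normal subgroup is section-free. -/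
theorem factor_sectionFree {p : ℕ} [Fact p.Prime] (hS : IsPGroup p S) (hF : F.IsSaturated p) (hQ : F.IsNormal Q)
    {H : Type*} [Group H] (hfree : F.IsSectionFree p H) {E : FusionSystem S'} (hE : F.IsFactorSystem Q θ E) :
    E.IsSectionFree p H := by
  intro Rb hRbn hRbc M hM L _ ι hL hinv
  have hQs := normal_stronglyClosed hQ
  have hrange : θ.range = S' := factor_range hE
  have hker : ∀ x ∈ S, th θ x = 1 ↔ x ∈ Q := fun x hx => factor_ker hE hx
  have hfinS' : Finite S' := hrange ▸ Finite.of_surjective θ.rangeRestrict θ.rangeRestrict_surjective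
  have hfin' : Finite (normalizerIn S' Rb) := finite_of_le_base normalizerIn_le
  set R := preimageAlong θ Rb with hRdef
  have hRS : R ≤ S := preimageAlong_le
  have hQle : ∀ A : Subgroup Ω', Q ≤ preimageAlong θ A := fun A x hx =>
    mem_preimageAlong.2 ⟨hQ.1 hx, ((hker x (hQ.1 hx)).2 hx).symm ▸ A.one_mem⟩
  have hQR := hQle Rb
  have hRim : imageAlong θ R = Rb := imageAlong_preimageAlong (hrange ▸ hRbn.1)
  have hpre : ∀ {X : Subgroup Ω}, Q ≤ X → X ≤ S → preimageAlong θ (imageAlong θ X) = X := by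
    intro X hQX hXS
    refine le_antisymm (fun x hx => ?_) (le_preimageAlong hXS)
    obtain ⟨hxS, hxi⟩ := mem_preimageAlong.1 hx
    obtain ⟨y, hy, hyS, he⟩ := mem_imageAlong.1 hxi
    have : y⁻¹ * x ∈ Q := (hker _ (S.mul_mem (S.inv_mem hyS) hxS)).1 (by
      rw [th_mul (S.inv_mem hyS) hxS, th_inv hyS, he, inv_mul_cancel])
    simpa using X.mul_mem hy (hQX this)
  have hnorm : ∀ {X : Subgroup Ω}, Q ≤ X → X ≤ S →
      normalizerIn S X = preimageAlong θ (normalizerIn S' (imageAlong θ X)) := by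
    intro X hQX hXS
    have : Finite X := finite_of_le_base hXS
    ext n
    rw [mem_preimageAlong]
    constructor
    · rintro ⟨hnS, hn⟩
      refine ⟨hnS, ?_⟩
      have hXI : imageAlong θ X ≤ S' := hrange ▸ (by
        intro y hy
        obtain ⟨x, -, hxS, rfl⟩ := mem_imageAlong.1 hy
        exact th_mem_range hxS)
      have : Finite (imageAlong θ X) := finite_of_le_base hXI
      refine ⟨hrange.le (th_mem_range hnS), mem_normalizer_of_map_le fun y hy => ?_⟩
      obtain ⟨x, hx, hxS, rfl⟩ := mem_imageAlong.1 hy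
      rw [← th_conj hnS hxS]
      exact th_mem_imageAlong ((mem_normalizer_iff'.1 hn).1 x hx) (S.mul_mem (S.mul_mem hnS hxS) (S.inv_mem hnS))
    · rintro ⟨hnS, hn⟩
      refine ⟨hnS, mem_normalizer_of_map_le fun x hx => ?_⟩
      rw [← hpre hQX hXS]
      refine mem_preimageAlong.2 ⟨S.mul_mem (S.mul_mem hnS (hXS hx)) (S.inv_mem hnS), ?_⟩
      rw [th_conj hnS (hXS hx)]
      exact (mem_normalizer_iff'.1 hn.2).1 _ (th_mem_imageAlong hx (hXS hx))
  have hkerf : ∀ {D : Subgroup Ω} {f : Ω → Ω}, Fn F D f → ∀ x ∈ D, th θ x = 1 → th θ (f x) = 1 :=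
    fun hf x hx h => sc_th_one hQs hker hf hx h
  -- maps of the factor system induced by maps of `F`
  have hind : ∀ {D : Subgroup Ω} {f : Ω → Ω}, Fn F D f → Q ≤ D →
      ∃ f' : Ω' → Ω', Fn E (imageAlong θ D) f' ∧ ∀ x ∈ D, f' (th θ x) = th θ (f x) := by
    intro D f hf hQD
    obtain ⟨φ', hφ'⟩ := exists_inducedHom hf fun x hx h => hkerf hf x hx h
    refine ⟨ofHom φ', (factor_fn hQs hE).2 ⟨?_, f, ?_, ?_⟩, fun x hx => hφ' x hx⟩
    · intro y hy
      obtain ⟨x, -, hxS, rfl⟩ := mem_imageAlong.1 hy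
      exact hrange.le (th_mem_range hxS)
    · rwa [hpre hQD hf.le]
    · rw [hpre hQD hf.le]
      exact fun x hx => hφ' x hx
  have hRbc' : ∀ c ∈ S, (∀ y ∈ R, y * c = c * y) → th θ c ∈ Rb := fun c hcS hc => by
    refine hRbc.2 Rb (isConj_refl hRbn.1) (mem_centralizerIn.2 ⟨hrange.le (th_mem_range hcS), fun y hy => ?_⟩)
    rw [← hRim] at hy
    obtain ⟨x, hx, hxS, rfl⟩ := mem_imageAlong.1 hy
    rw [← th_mul hxS hcS, ← th_mul hcS hxS, hc x hx]
  have hconj : ∀ {R' : Subgroup Ω}, F.IsConj R R' → Q ≤ R' ∧ E.IsConj Rb (imageAlong θ R') := by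
    intro R' hR'
    obtain ⟨χ, hχ, rfl⟩ := isConj_iff.1 hR'
    refine ⟨fun q hq => ?_, ?_⟩
    · obtain ⟨x, hx, rfl⟩ := (hχ.mono hQR).mem_img.1 ((sc_img hQs hQR hχ).ge hq)
      exact mem_img_of_mem (hQR hx)
    · obtain ⟨f', hf', he⟩ := hind hχ hQR
      rw [hRim] at hf'
      refine isConj_iff.2 ⟨f', hf', le_antisymm (img_le fun y hy => ?_) fun y hy => ?_⟩
      · rw [← hRim] at hy
        obtain ⟨x, hx, hxS, rfl⟩ := mem_imageAlong.1 hy
        rw [he x hx]
        exact th_mem_imageAlong (mem_img_of_mem hx) (hχ.mem hx)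
      · obtain ⟨z, hz, hzS, rfl⟩ := mem_imageAlong.1 hy
        obtain ⟨x, hx, rfl⟩ := hχ.mem_img.1 hz
        rw [← he x hx]
        exact mem_img_of_mem (mem_preimageAlong.1 hx).2
  have hRc : F.IsCentric R := by
    refine ⟨hRS, fun R' hR' c hc => ?_⟩
    obtain ⟨hQR', hR'b⟩ := hconj hR'
    have hR'S := isConj_le_right hR'
    have hcS := (mem_centralizerIn.1 hc).1
    have h := hRbc.2 _ hR'b (mem_centralizerIn.2 ⟨hrange.le (th_mem_range hcS), fun y hy => by
      obtain ⟨x, hx, hxS, rfl⟩ := mem_imageAlong.1 hy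
      rw [← th_mul hxS hcS, ← th_mul hcS hxS, (mem_centralizerIn.1 hc).2 x hx]⟩)
    rw [← hpre hQR' hR'S]
    exact mem_preimageAlong.2 ⟨hcS, h⟩
  have hRn : F.IsFullyNormalized R := by
    refine ⟨hRS, fun R' hR' => ?_⟩
    obtain ⟨hQR', hR'b⟩ := hconj hR'
    have hle := hRbn.2 _ hR'b
    have hrpos : 0 < Nat.card θ.range := by
      have : Finite θ.range := Finite.of_surjective θ.rangeRestrict θ.rangeRestrict_surjective
      exact Nat.card_pos
    rw [hnorm hQR hRS, hnorm hQR' (isConj_le_right hR'), hRim]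
    refine Nat.le_of_mul_le_mul_right ?_ hrpos
    rw [card_preimageAlong (hrange ▸ normalizerIn_le), card_preimageAlong (hrange ▸ normalizerIn_le)]
    exact Nat.mul_le_mul_right _ hle
  have hNR : normalizerIn S R = preimageAlong θ (normalizerIn S' Rb) := by rw [hnorm hQR hRS, hRim]
  obtain ⟨N, hN⟩ := exists_normalizerSystem F hRn.1
  obtain ⟨G, _, ιG, hG⟩ := exists_normalizer_model hS hF hRn hRc hN
  have : Finite G := hG.1
  obtain ⟨hGinj, hGreal⟩ := hG.2.1
  have hRN := normalizerSystem_normal hN hRn.1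
  have hQN : N.IsNormal Q := by
    refine normal_iff_fn.2 ⟨hQR.trans (le_normalizerIn hRS), fun D f hf => ?_⟩
    obtain ⟨g, hg, hge, -⟩ := (normal_iff_fn.1 hRN).2 D f hf
    exact ⟨g, hg.mono (sup_le_sup le_rfl hQR), hge,
      sc_img hQs (hQR.trans le_sup_right) (hg.of_subsystem (normalizerSystem_sub hN))⟩
  have := normalizerSystem_finite (S := S) (Q := R)
  obtain ⟨pQ, hpQ, -⟩ := exists_model_proj (hQ := hQN) hG
  obtain ⟨pR, hpR, -⟩ := exists_model_proj (hQ := hRN) hG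
  have hQNS : Q ≤ normalizerIn S R := hQN.1
  have hRNS : R ≤ normalizerIn S R := le_normalizerIn hRS
  set Qi := (Q.subgroupOf (normalizerIn S R)).map ιG with hQi
  have hQin : Qi.Normal := by
    refine ⟨?_⟩
    rintro _ ⟨q, hq, rfl⟩ g
    exact ⟨⟨_, hQNS (aFn_mem (pQ g) hq)⟩, aFn_mem (pQ g) hq, eq_mul_inv_iff_mul_eq.2 (hpQ g _ hq).symm⟩
  let θN : normalizerIn S R →* normalizerIn S' Rb :=
    (θ.comp (Subgroup.inclusion (normalizerIn_le (P := R)))).codRestrict _ fun x => by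
      have h : (x : Ω) ∈ preimageAlong θ (normalizerIn S' Rb) := hNR ▸ x.2
      have h2 := (mem_preimageAlong.1 h).2
      rw [th_apply (α := θ) (normalizerIn_le x.2)] at h2
      exact h2
  have hθN : ∀ x : normalizerIn S R, (θN x : Ω') = th θ (x : Ω) := fun x => (th_apply (normalizerIn_le x.2)).symm
  have hθs : Function.Surjective θN := by
    rintro ⟨y, hy⟩
    obtain ⟨⟨x, hx⟩, rfl⟩ := (hrange.ge (normalizerIn_le hy) : y ∈ θ.range)
    have hxn : x ∈ normalizerIn S R := hNR ▸ mem_preimageAlong.2 ⟨hx, (th_apply (α := θ) hx).symm ▸ hy⟩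
    exact ⟨⟨x, hxn⟩, Subtype.ext rfl⟩
  have hθk : ∀ x : normalizerIn S R, θN x = 1 ↔ (x : Ω) ∈ Q := fun x => by
    rw [← hker _ (normalizerIn_le x.2), ← hθN]
    exact ⟨fun h => congrArg Subtype.val h, fun h => Subtype.ext h⟩
  have hkle : θN.ker ≤ ((QuotientGroup.mk' Qi).comp ιG).ker := fun x hx =>
    (QuotientGroup.eq_one_iff _).2 (Subgroup.mem_map_of_mem ιG (show x ∈ Q.subgroupOf _ from (hθk x).1 hx))
  let ιb : normalizerIn S' Rb →* G ⧸ Qi := θN.liftOfSurjective hθs ⟨(QuotientGroup.mk' Qi).comp ιG, hkle⟩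
  have hιb : ∀ x, ιb (θN x) = QuotientGroup.mk' Qi (ιG x) := fun x =>
    MonoidHom.liftOfRightInverse_comp_apply _ _ (Function.rightInverse_surjInv hθs) ⟨_, hkle⟩ x
  have hinjb : Function.Injective ιb := by
    refine (injective_iff_map_eq_one _).2 fun y hy => ?_
    obtain ⟨x, rfl⟩ := hθs y
    rw [hιb] at hy
    obtain ⟨q, hq, hqe⟩ := (QuotientGroup.eq_one_iff _).1 hy
    exact (hθk x).2 (hGinj hqe ▸ hq)
  have hreal : M.IsRealizedBy ιb := by
    refine ⟨hinjb, fun P hP φ hφS => ⟨fun hφ => ?_, ?_⟩⟩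
    · obtain ⟨-, -, g', hg', hg'e, hg'i⟩ := (fn_normalizerSystem hM).1 (fn_ofHom hφ)
      obtain ⟨hD', f, hf, hfe⟩ := (factor_fn hQs hE).1 hg'
      set D := preimageAlong θ (P ⊔ Rb) with hDdef
      have hRD : R ≤ D := fun x hx =>
        mem_preimageAlong.2 ⟨hRS hx, Subgroup.mem_sup_right (mem_preimageAlong.1 hx).2⟩
      have hfR : img f R = R := (hf.mono hRD).img_eq_self fun x hx => by
        refine mem_preimageAlong.2 ⟨hf.mem (hRD hx), ?_⟩
        rw [← hfe x (hRD hx)]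
        exact hg'i.le (mem_img_of_mem (mem_preimageAlong.1 hx).2)
      have hDN : D ≤ normalizerIn S R := fun x hx => by
        rw [hNR]
        exact mem_preimageAlong.2 ⟨preimageAlong_le hx,
          sup_le hP (le_normalizerIn hRbn.1) (mem_preimageAlong.1 hx).2⟩
      have hfN : Fn N D f := (fn_normalizerSystem hN).2 ⟨hDN,
        fun x hx => hf.map_normalizer hRD hfR hx (hDN hx).2, f, by rw [sup_eq_left.2 hRD]; exact hf,
        fun x _ => rfl, hfR⟩
      obtain ⟨ψ, hψ, hψe⟩ := id hfN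
      obtain ⟨g, hg⟩ := (hGreal _ hDN ψ (N.le_of_mem hψ).2).1 hψ
      refine ⟨QuotientGroup.mk' Qi g, fun y => ?_⟩
      obtain ⟨x, hx⟩ := hθs ⟨(y : Ω'), hP y.2⟩
      have hxy : th θ (x : Ω) = (y : Ω') := (hθN x).symm.trans (congrArg Subtype.val hx)
      have hxD : (x : Ω) ∈ D :=
        mem_preimageAlong.2 ⟨normalizerIn_le x.2, hxy ▸ Subgroup.mem_sup_left y.2⟩
      have hy : (⟨φ y, hφS y⟩ : normalizerIn S' Rb) = θN ⟨ψ ⟨x, hxD⟩, (N.le_of_mem hψ).2 _⟩ := Subtype.ext <| by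
        rw [hθN]
        show φ y = th θ (ψ ⟨x, hxD⟩)
        rw [hψe, ← hfe _ hxD, hxy, hg'e _ y.2, ofHom_coe]
      rw [hy, ← hx, hιb, hιb, hg, map_mul, map_mul, map_inv]
    · rintro ⟨γ, hγ⟩
      obtain ⟨g, rfl⟩ := QuotientGroup.mk'_surjective Qi γ
      have hDS : preimageAlong θ P ≤ normalizerIn S R := fun x hx => by
        rw [hNR]
        exact mem_preimageAlong.2 ⟨preimageAlong_le hx, hP (mem_preimageAlong.1 hx).2⟩
      set D := preimageAlong θ P with hDdef
      have hex : ∀ x : D, ∃ z : normalizerIn S R, ιG z = g * ιG ⟨(x : Ω), hDS x.2⟩ * g⁻¹ := fun x => by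
        have hxP := (mem_preimageAlong.1 x.2).2
        obtain ⟨w, hw⟩ := hθs ⟨_, hφS ⟨_, hxP⟩⟩
        have h1 := hγ ⟨_, hxP⟩
        rw [← hw, hιb, show (⟨((⟨_, hxP⟩ : P) : Ω'), hP hxP⟩ : normalizerIn S' Rb) = θN ⟨(x : Ω), hDS x.2⟩
          from Subtype.ext (hθN ⟨(x : Ω), hDS x.2⟩).symm, hιb, ← map_inv, ← map_mul, ← map_mul] at h1
        obtain ⟨q, hq, hqe⟩ := QuotientGroup.eq.1 h1
        exact ⟨w * q, by rw [map_mul, hqe, mul_inv_cancel_left]⟩
      choose z hz using hex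
      let ψ : D →* Ω := MonoidHom.mk' (fun x => (z x : Ω)) fun a b => congrArg Subtype.val <|
        show z (a * b) = z a * z b from hGinj <| by
          rw [map_mul, hz, hz, hz]
          show g * ιG (⟨(a : Ω), hDS a.2⟩ * ⟨(b : Ω), hDS b.2⟩) * g⁻¹ = _
          rw [map_mul]
          group
      have hψ : Fn N D (ofHom ψ) := fn_ofHom ((hGreal _ hDS ψ fun x => (z x).2).2 ⟨g, hz⟩)
      obtain ⟨-, -, k, hk, hke, hki⟩ := (fn_normalizerSystem hN).1 hψ
      obtain ⟨f', hf', hf'e⟩ := hind hk (hQR.trans le_sup_right)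
      have hPS' : P ≤ θ.range := hrange ▸ hP.trans normalizerIn_le
      have hle : P ⊔ Rb ≤ imageAlong θ (D ⊔ R) := sup_le
        (fun y hy => by
          rw [← imageAlong_preimageAlong (α := θ) hPS'] at hy
          obtain ⟨x, hx, hxS, rfl⟩ := mem_imageAlong.1 hy
          exact th_mem_imageAlong (Subgroup.mem_sup_left hx) hxS)
        (fun y hy => by
          rw [← hRim] at hy
          obtain ⟨x, hx, hxS, rfl⟩ := mem_imageAlong.1 hy
          exact th_mem_imageAlong (Subgroup.mem_sup_right hx) hxS)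
      have key : ∀ y (hy : y ∈ P), f' y = φ ⟨y, hy⟩ := fun y hy => by
        obtain ⟨x, hx⟩ := hθs ⟨y, hP hy⟩
        have hxy : th θ (x : Ω) = y := (hθN x).symm.trans (congrArg Subtype.val hx)
        have hxD : (x : Ω) ∈ D := mem_preimageAlong.2 ⟨normalizerIn_le x.2, hxy.symm ▸ hy⟩
        have h1 : θN (z ⟨x, hxD⟩) = ⟨φ ⟨y, hy⟩, hφS _⟩ := hinjb <| by
          rw [hιb, hz, hγ ⟨y, hy⟩, show (⟨((⟨y, hy⟩ : P) : Ω'), hP hy⟩ : normalizerIn S' Rb) = θN x from hx.symm,
            hιb, map_mul, map_mul, map_inv]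
        refine (congrArg f' hxy.symm).trans ?_
        rw [hf'e _ (Subgroup.mem_sup_left hxD), hke _ hxD, ofHom_apply ψ hxD]
        exact (hθN _).symm.trans (congrArg Subtype.val h1)
      refine mem_hom_of_fn ((fn_normalizerSystem hM).2 ⟨hP, fun y hy => key y hy ▸ hφS ⟨y, hy⟩, f', hf'.mono hle,
        fun y hy => rfl, (hf'.mono (le_sup_right.trans hle)).img_eq_self fun y hy => ?_⟩) fun y => (key y y.2).symm
      obtain ⟨x, hx, hxS, rfl⟩ := mem_imageAlong.1 (hRim.ge hy)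
      rw [hf'e x (Subgroup.mem_sup_right hx)]
      exact (mem_preimageAlong.1 (hki.le (mem_img_of_mem hx))).2
  have hTb : ∃ TT : Sylow p (G ⧸ Qi), (TT : Subgroup (G ⧸ Qi)) = ιb.range := by
    obtain ⟨TT, hT⟩ := hG.2.2.1
    refine ⟨TT.mapSurjective (QuotientGroup.mk'_surjective Qi), le_antisymm ?_ ?_⟩
    · rintro _ ⟨x, hx, rfl⟩
      obtain ⟨y, rfl⟩ := hT.le hx
      exact ⟨θN y, hιb y⟩
    · rintro _ ⟨y, rfl⟩
      obtain ⟨x, rfl⟩ := hθs y
      exact ⟨ιG x, hT.ge ⟨x, rfl⟩, (hιb x).symm⟩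
  have hRbn' : ((Rb.subgroupOf (normalizerIn S' Rb)).map ιb).Normal := by
    have hn : ((R.subgroupOf (normalizerIn S R)).map ιG).Normal := by
      refine ⟨?_⟩
      rintro _ ⟨q, hq, rfl⟩ g
      exact ⟨⟨_, hRNS (aFn_mem (pR g) hq)⟩, aFn_mem (pR g) hq, eq_mul_inv_iff_mul_eq.2 (hpR g _ hq).symm⟩
    convert hn.map _ (QuotientGroup.mk'_surjective Qi) using 1
    refine le_antisymm ?_ ?_
    · rintro _ ⟨y, hy, rfl⟩
      obtain ⟨x, rfl⟩ := hθs y
      exact ⟨ιG x, ⟨x, mem_preimageAlong.2 ⟨normalizerIn_le x.2, hθN x ▸ hy⟩, rfl⟩, (hιb x).symm⟩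
    · rintro _ ⟨_, ⟨x, hx, rfl⟩, rfl⟩
      exact ⟨θN x, show (θN x : Ω') ∈ Rb from (hθN x).symm ▸ (mem_preimageAlong.1 hx).2, hιb x⟩
  have : Finite (G ⧸ Qi) := inferInstance
  obtain ⟨K, hK, hmod⟩ := exists_quotient_model hreal hTb (le_normalizerIn hRbn.1) hRbn' fun c hc =>
    hRbc.2 Rb (isConj_refl hRbn.1)
      (mem_centralizerIn.2 ⟨normalizerIn_le (mem_centralizerIn.1 hc).1, (mem_centralizerIn.1 hc).2⟩)
  obtain ⟨e, -⟩ := model_unique ((IsPGroup.of_surjective (hS.to_le normalizerIn_le) θN hθs))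
    (model_constrained hmod) hmod hL
  exact hfree R hRn hRc N hN G ιG hG (involves_of_surjective
    (e := e.toMonoidHom.comp ((QuotientGroup.mk' K).comp (QuotientGroup.mk' Qi)))
    (e.surjective.comp ((QuotientGroup.mk'_surjective K).comp (QuotientGroup.mk'_surjective Qi))) hinv)

end CfsgLib.Fsys
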