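import Cfsg.Agent.Lib.FusionSystem.SectionFree
import Cfsg.Agent.Lib.FusionSystem.Group
import Cfsg.Agent.Lib.Components.QdRankTwo
/-
A finite group involves `Qd(p)` exactly when some centric local model of its fusion system does.
-/
set_option autoImplicit false

namespace CfsgLib.Fsys

open Cfsg
open Cfsg.FusionSystem (centralizerIn normalizerIn)
open CfsgLib.LocalEven.SylowIn (IsSylowIn)
open scoped Pointwise

universe u

theorem involves_of_hom {H : Type*} [Group H] {L : Type*} [Group L] (K : Subgroup L) (χ : K →* H)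
    (hχ : Function.Surjective χ) : Involves H L := by
  have e : (χ.ker.map K.subtype).subgroupOf K = χ.ker :=
    Subgroup.comap_map_eq_self_of_injective K.subtype_injective χ.ker
  have hn : ((χ.ker.map K.subtype).subgroupOf K).Normal := by
    rw [e]
    infer_instance
  exact ⟨K, χ.ker.map K.subtype, hn,
    ⟨(QuotientGroup.quotientMulEquivOfEq e).trans (QuotientGroup.quotientKerEquivOfSurjective χ hχ)⟩⟩

theorem map_sylow_eq_top {A B : Type*} [Group A] [Group B] [Finite A] {q : ℕ} [Fact q.Prime] (f : A →* B)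
    (hf : Function.Surjective f) (hB : IsPGroup q B) (U : Sylow q A) : (U : Subgroup A).map f = ⊤ :=
  ((U.mapSurjective hf).3 (hB.of_equiv Subgroup.topEquiv.symm) le_top).symm

section Cover

variable {p : ℕ} [Fact p.Prime] {G : Type*} [Group G] [Finite G] {Q₀ : Type*} [Group Q₀]

/-- Lifting a section with a fixed-point-free involution to the normalizer of a centric `p`-subgroup. -/
theorem exists_centric_cover (hp : p ≠ 2) (V : Subgroup Q₀) (hVn : V.Normal) (hV : IsPGroup p V)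
    (hVc : ∀ a ∈ V, ∀ b ∈ V, a * b = b * a) (z : Q₀) (hz2 : z * z = 1) (hzV : ∀ v ∈ V, z * v * z⁻¹ = v⁻¹)
    (hCV : Subgroup.centralizer (V : Set Q₀) ≤ V) (hdec : ∀ g : Q₀, ∃ t ∈ V, z * (t⁻¹ * g) = t⁻¹ * g * z)
    {K : Subgroup G} (f : K →* Q₀) (hf : Function.Surjective f) :
    ∃ Qp : Subgroup G, IsPGroup p Qp ∧
      (∀ P : Subgroup G, IsPGroup p P → P ≤ Subgroup.centralizer (Qp : Set G) → P ≤ Qp) ∧
      ∃ (X : Subgroup G) (χ : X →* Q₀), X ≤ Subgroup.normalizer (Qp : Set G) ∧ Function.Surjective χ := by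
  have hp2 : Nat.Coprime p 2 := (Fact.out : p.Prime).coprime_iff_not_dvd.2 fun h =>
    hp ((Nat.prime_dvd_prime_iff_eq Fact.out Nat.prime_two).1 h)
  have hfix : ∀ v ∈ V, z * v * z⁻¹ = v → v = 1 := fun v hv h => by
    rw [hzV v hv, inv_eq_iff_mul_eq_one] at h
    obtain ⟨k, hk⟩ := hV ⟨v, hv⟩
    have hk' : v ^ p ^ k = 1 := congrArg Subtype.val hk
    exact orderOf_eq_one_iff.1 (Nat.eq_one_of_dvd_coprimes (hp2.pow_left k) (orderOf_dvd_of_pow_eq_one hk')
      (orderOf_dvd_of_pow_eq_one (by rw [pow_two]; exact h)))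
  set Cz := Subgroup.centralizer ({z} : Set Q₀) with hCz
  have hCzV : ∀ m ∈ Cz, (∀ v ∈ V, m * v = v * m) → m = 1 := fun m hm h => by
    have hmV := hCV (Subgroup.mem_centralizer_iff.2 fun v hv => (h v hv).symm)
    refine hfix m hmV ?_
    rw [← Subgroup.mem_centralizer_singleton_iff.1 hm, mul_inv_cancel_right]
  -- the preimage of `V` and its Sylow subgroup
  let M : Subgroup K := V.comap f
  have hMn : M.Normal := hVn.comap f
  let fM : M →* V := f.subgroupComap V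
  have hfM : Function.Surjective fM := fun v => by
    obtain ⟨x, hx⟩ := hf v
    exact ⟨⟨x, show f x ∈ V from hx ▸ v.2⟩, Subtype.ext hx⟩
  obtain ⟨U₀⟩ := (inferInstance : Nonempty (Sylow p M))
  have hU₀V : ∀ v ∈ V, ∃ u ∈ (U₀ : Subgroup M).map M.subtype, f u = v := fun v hv => by
    obtain ⟨u, hu, hue⟩ := (map_sylow_eq_top fM hfM hV U₀).ge (Subgroup.mem_top ⟨v, hv⟩)
    exact ⟨u, ⟨u, hu, rfl⟩, congrArg Subtype.val hue⟩
  let U₁ : Subgroup K := (U₀ : Subgroup M).map M.subtype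
  have hK₁ : ∀ q : Q₀, ∃ k ∈ Subgroup.normalizer (U₁ : Set K), f k = q := fun q => by
    obtain ⟨k, rfl⟩ := hf q
    have htop := Sylow.normalizer_sup_eq_top U₀
    have hk : k ∈ ((Subgroup.normalizer (U₁ : Set K) : Subgroup K) : Set K) * (M : Set K) := by
      rw [← Subgroup.mul_normal, htop]
      exact Set.mem_univ _
    obtain ⟨n, hn, m, hm, rfl⟩ := hk
    obtain ⟨u, hu, hue⟩ := hU₀V (f m) hm
    exact ⟨n * u, Subgroup.mul_mem _ hn (Subgroup.le_normalizer hu), by rw [map_mul, map_mul, hue]⟩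
  let U : Subgroup G := U₁.map K.subtype
  let K₁ : Subgroup G := (Subgroup.normalizer (U₁ : Set K)).map K.subtype
  have hK₁K : K₁ ≤ K := Subgroup.map_subtype_le _
  let f₁ : K₁ →* Q₀ := f.comp (Subgroup.inclusion hK₁K)
  have hUK₁ : U ≤ K₁ := Subgroup.map_mono Subgroup.le_normalizer
  have hK₁U : K₁ ≤ Subgroup.normalizer (U : Set G) := Subgroup.le_normalizer_map K.subtype
  have hf₁ : Function.Surjective f₁ := fun q => by
    obtain ⟨k, hk, rfl⟩ := hK₁ q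
    exact ⟨⟨k, k, hk, rfl⟩, rfl⟩
  have hfU : ∀ v ∈ V, ∃ u : K₁, (u : G) ∈ U ∧ f₁ u = v := fun v hv => by
    obtain ⟨u, hu, hue⟩ := hU₀V v hv
    exact ⟨⟨u, u, Subgroup.le_normalizer hu, rfl⟩, ⟨u, hu, rfl⟩, hue⟩
  have hfUV : ∀ u : K₁, (u : G) ∈ U → f₁ u ∈ V := by
    rintro ⟨u, hu'⟩ ⟨u', ⟨m, -, rfl⟩, hue⟩
    have e : (Subgroup.inclusion hK₁K ⟨u, hu'⟩ : K) = (m : K) := Subtype.ext hue.symm
    show f _ ∈ V
    rw [e]
    exact m.2
  have hUp : IsPGroup p U := (U₀.2.map _).map _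
  -- the centralizer of `U` and its Sylow subgroup
  set C := Subgroup.centralizer (U : Set G) with hC
  have hNC : ∀ g ∈ Subgroup.normalizer (U : Set G), g ∈ Subgroup.normalizer (C : Set G) := fun g hg => by
    refine mem_normalizer_of_map_le fun c hc => Subgroup.mem_centralizer_iff.2 fun y hy => ?_
    have hy' := Subgroup.mem_centralizer_iff.1 hc _ ((mem_normalizer_iff'.1 hg).2 y hy)
    calc y * (g * c * g⁻¹) = g * (g⁻¹ * y * g * c) * g⁻¹ := by group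
      _ = g * (c * (g⁻¹ * y * g)) * g⁻¹ := by rw [hy']
      _ = g * c * g⁻¹ * y := by group
  obtain ⟨PC, hPC, -⟩ := CfsgLib.LocalEven.SylowIn.exists_isSylowIn C (U := (⊥ : Subgroup G)) bot_le (IsPGroup.of_bot (p := p))
  have hPCC : PC ≤ C := hPC.1
  have hUPC : U ≤ Subgroup.normalizer (PC : Set G) := fun u hu => by
    refine mem_normalizer_of_map_le fun c hc => ?_
    have h := Subgroup.mem_centralizer_iff.1 (hPCC hc) u hu
    rwa [h, mul_inv_cancel_right]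
  set H := Subgroup.normalizer (PC : Set G) ⊓ (K₁ ⊔ C) with hH
  have hUH : U ≤ H := le_inf hUPC (hUK₁.trans le_sup_left)
  have hcovK : ∀ k : K₁, ∃ c ∈ C, c * (k : G) ∈ H := fun k => by
    have h1 : IsSylowIn p (PC.map (MulAut.conj (k : G)).toMonoidHom) C := by
      have h2 := hPC.map_conj (k : G)
      rwa [show C.map (MulAut.conj (k : G)).toMonoidHom = C from
        (CfsgLib.LocalEven.SylowIn.map_conj_eq_iff).2 (hNC _ (hK₁U k.2))] at h2
    obtain ⟨c, hc, hce⟩ := IsSylowIn.conjugate h1 hPC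
    refine ⟨c, hc, ?_, Subgroup.mul_mem _ (Subgroup.mem_sup_right hc) (Subgroup.mem_sup_left k.2)⟩
    show c * (k : G) ∈ Subgroup.normalizer (PC : Set G)
    rw [← CfsgLib.LocalEven.SylowIn.map_conj_eq_iff, ← CfsgLib.LocalEven.SylowIn.map_conj_conj]
    exact hce.symm
  have hsupU : K₁ ⊔ C ≤ Subgroup.normalizer (U : Set G) :=
    sup_le hK₁U (Subgroup.centralizer_le_normalizer _)
  have hconjU : ∀ h ∈ H, ∀ u ∈ U, h * u * h⁻¹ ∈ U := fun h hh u hu =>
    (mem_normalizer_iff'.1 (hsupU hh.2)).1 u hu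
  -- the action on `V`
  have hact : ∀ h : H, ∃ m : Cz, ∀ u : K₁, (u : G) ∈ U → ∀ hm : (h : G) * u * (h : G)⁻¹ ∈ K₁,
      (m : Q₀) * f₁ u * (m : Q₀)⁻¹ = f₁ ⟨_, hm⟩ := fun h => by
    have hh : (h : G) ∈ (K₁ : Set G) * (C : Set G) := by
      rw [← Subgroup.coe_mul_of_left_le_normalizer_right K₁ C fun k hk => hNC k (hK₁U hk)]
      exact h.2.2
    obtain ⟨k, hk, c, hc, hkc⟩ := hh
    obtain ⟨t, ht, htz⟩ := hdec (f₁ ⟨k, hk⟩)
    refine ⟨⟨t⁻¹ * f₁ ⟨k, hk⟩, Subgroup.mem_centralizer_singleton_iff.2 htz.symm⟩, fun u hu hm => ?_⟩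
    have e : (⟨_, hm⟩ : K₁) = ⟨k, hk⟩ * u * ⟨k, hk⟩⁻¹ := Subtype.ext <| by
      show (h : G) * u * (h : G)⁻¹ = k * u * k⁻¹
      rw [← hkc]
      show k * c * (u : G) * (k * c)⁻¹ = _
      rw [mul_inv_rev, show k * c * (u : G) * (c⁻¹ * k⁻¹) = k * (c * u * c⁻¹) * k⁻¹ by group,
        ← Subgroup.mem_centralizer_iff.1 hc u hu, mul_inv_cancel_right]
    rw [e, map_mul, map_mul, map_inv]
    show t⁻¹ * f₁ ⟨k, hk⟩ * f₁ u * (t⁻¹ * f₁ ⟨k, hk⟩)⁻¹ = _
    have hv : f₁ ⟨k, hk⟩ * f₁ u * (f₁ ⟨k, hk⟩)⁻¹ ∈ V := hVn.conj_mem _ (hfUV u hu) _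
    calc _ = t⁻¹ * (f₁ ⟨k, hk⟩ * f₁ u * (f₁ ⟨k, hk⟩)⁻¹) * t := by group
      _ = _ := by rw [hVc _ (V.inv_mem ht) _ hv, inv_mul_cancel_right]
  choose m hm using hact
  have huniq : ∀ (h : H) (m' : Cz), (∀ u : K₁, (u : G) ∈ U → ∀ hm : (h : G) * u * (h : G)⁻¹ ∈ K₁,
      (m' : Q₀) * f₁ u * (m' : Q₀)⁻¹ = f₁ ⟨_, hm⟩) → m h = m' := by
    intro h m' hm'
    refine inv_mul_eq_one.1 (Subtype.ext (hCzV _ ((m h)⁻¹ * m').2 fun v hv => ?_))
    obtain ⟨u, hu, rfl⟩ := hfU v hv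
    have hmem : (h : G) * u * (h : G)⁻¹ ∈ K₁ := hUK₁ (hconjU h h.2 u hu)
    have e := (hm h u hu hmem).trans (hm' u hu hmem).symm
    show ((m h : Q₀))⁻¹ * (m' : Q₀) * f₁ u = f₁ u * ((m h : Q₀)⁻¹ * (m' : Q₀))
    calc _ = (m h : Q₀)⁻¹ * ((m' : Q₀) * f₁ u * (m' : Q₀)⁻¹) * (m' : Q₀) := by group
      _ = (m h : Q₀)⁻¹ * ((m h : Q₀) * f₁ u * (m h : Q₀)⁻¹) * (m' : Q₀) := by rw [e]
      _ = _ := by group
  let ψ : H →* Cz := MonoidHom.mk' m fun a b => huniq _ _ fun u hu hmem => by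
    have hb : (b : G) * u * (b : G)⁻¹ ∈ U := hconjU b b.2 u hu
    have e1 := hm b u hu (hUK₁ hb)
    have e2 := hm a ⟨_, hUK₁ hb⟩ hb (hUK₁ (hconjU a a.2 _ hb))
    have e3 : (⟨_, hmem⟩ : K₁) = ⟨_, hUK₁ (hconjU a a.2 _ hb)⟩ := Subtype.ext (by
      show (a : G) * b * u * ((a : G) * b)⁻¹ = a * (b * u * (b : G)⁻¹) * (a : G)⁻¹
      group)
    rw [e3, ← e2, ← e1, Subgroup.coe_mul]
    group
  have hψU : ∀ h : H, (h : G) ∈ U → ψ h = 1 := fun h hh => huniq _ _ fun u hu hmem => by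
    rw [show (⟨_, hmem⟩ : K₁) = ⟨h, hUK₁ hh⟩ * u * ⟨h, hUK₁ hh⟩⁻¹ from Subtype.ext rfl, map_mul, map_mul, map_inv,
      hVc _ (hfUV ⟨h, hUK₁ hh⟩ hh) _ (hfUV u hu), mul_inv_cancel_right]
    simp
  have hψs : Function.Surjective ψ := fun q => by
    obtain ⟨k, hk⟩ := hf₁ q
    obtain ⟨c, hc, hck⟩ := hcovK k
    refine ⟨⟨_, hck⟩, huniq _ _ fun u hu hmem => ?_⟩
    have e : (⟨_, hmem⟩ : K₁) = k * u * k⁻¹ := Subtype.ext <| by
      show c * (k : G) * u * (c * (k : G))⁻¹ = k * u * (k : G)⁻¹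
      rw [mul_inv_rev, show c * (k : G) * u * ((k : G)⁻¹ * c⁻¹) = c * (k * u * (k : G)⁻¹) * c⁻¹ by group,
        ← Subgroup.mem_centralizer_iff.1 hc _ ((mem_normalizer_iff'.1 (hK₁U k.2)).1 u hu), mul_inv_cancel_right]
    rw [e, map_mul, map_mul, map_inv, hk]
  -- the involution
  let zc : Cz := ⟨z, Subgroup.mem_centralizer_singleton_iff.2 rfl⟩
  have hzcentral : ∀ q : Cz, q * zc = zc * q := fun q =>
    Subtype.ext (Subgroup.mem_centralizer_singleton_iff.1 q.2)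
  have hZn : (Subgroup.zpowers zc).Normal := by
    refine ⟨fun x hx q => ?_⟩
    obtain ⟨n, rfl⟩ := Subgroup.mem_zpowers_iff.1 hx
    rw [((show Commute q zc from hzcentral q).zpow_right n).eq, mul_inv_cancel_right]
    exact hx
  let M₂ : Subgroup H := (Subgroup.zpowers zc).comap ψ
  have hM₂n : M₂.Normal := hZn.comap ψ
  have hZ2 : IsPGroup 2 (Subgroup.zpowers zc) := by
    rintro ⟨x, hx⟩
    obtain ⟨n, rfl⟩ := Subgroup.mem_zpowers_iff.1 hx
    refine ⟨1, Subtype.ext ?_⟩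
    show (zc ^ n) ^ (2 ^ 1) = 1
    rw [← zpow_natCast, ← zpow_mul, mul_comm, zpow_mul, zpow_natCast, pow_one, pow_two,
      show zc * zc = 1 from Subtype.ext hz2, one_zpow]
  have hψM : Function.Surjective (ψ.subgroupComap (Subgroup.zpowers zc)) := fun x => by
    obtain ⟨h, hh⟩ := hψs x
    exact ⟨⟨h, show ψ h ∈ _ from hh ▸ x.2⟩, Subtype.ext hh⟩
  obtain ⟨D⟩ := (inferInstance : Nonempty (Sylow 2 M₂))
  have hDψ : ∀ x ∈ Subgroup.zpowers zc, ∃ d ∈ (D : Subgroup M₂).map M₂.subtype, ψ d = x := fun x hx => by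
    obtain ⟨d, hd, hde⟩ := (map_sylow_eq_top _ hψM hZ2 D).ge (Subgroup.mem_top ⟨x, hx⟩)
    exact ⟨d, ⟨d, hd, rfl⟩, congrArg Subtype.val hde⟩
  set D₁ := (D : Subgroup M₂).map M₂.subtype with hD₁
  set Y := Subgroup.normalizer (D₁ : Set H) with hY
  have hψY : ∀ q : Cz, ∃ y ∈ Y, ψ y = q := fun q => by
    obtain ⟨h, rfl⟩ := hψs q
    have htop := Sylow.normalizer_sup_eq_top D
    have hk : h ∈ ((Y : Subgroup H) : Set H) * (M₂ : Set H) := by
      rw [← Subgroup.mul_normal, htop]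
      exact Set.mem_univ _
    obtain ⟨n, hn, x, hx, rfl⟩ := hk
    obtain ⟨d, hd, hde⟩ := hDψ (ψ x) hx
    exact ⟨n * d, Subgroup.mul_mem _ hn (Subgroup.le_normalizer hd), by rw [map_mul, map_mul, hde]⟩
  have hUY : ∀ (u : H) (hu : (u : G) ∈ U), u ∈ Y → f₁ ⟨u, hUK₁ hu⟩ = 1 := fun u hu huY => by
    obtain ⟨d, hd, hde⟩ := hDψ zc (Subgroup.mem_zpowers zc)
    have h1 : u * d * u⁻¹ * d⁻¹ ∈ D₁ := mul_mem ((mem_normalizer_iff'.1 huY).1 d hd) (inv_mem hd)
    have h2 : ((u * d * u⁻¹ * d⁻¹ : H) : G) ∈ U := by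
      have := U.mul_mem hu (hconjU (d : G) d.2 _ (U.inv_mem hu))
      simpa [mul_assoc] using this
    obtain ⟨i, hi⟩ := (D.2.map M₂.subtype) ⟨_, h1⟩
    obtain ⟨j, hj⟩ := hUp ⟨_, h2⟩
    have hi' : (u * d * u⁻¹ * d⁻¹ : H) ^ 2 ^ i = 1 := congrArg Subtype.val hi
    have hj' : (u * d * u⁻¹ * d⁻¹ : H) ^ p ^ j = 1 := Subtype.ext (congrArg Subtype.val hj :)
    have h3 : u * d * u⁻¹ * d⁻¹ = 1 := orderOf_eq_one_iff.1 (Nat.eq_one_of_dvd_coprimes
      ((Nat.Coprime.pow_left j (hp2.pow_right i))) (orderOf_dvd_of_pow_eq_one hj') (orderOf_dvd_of_pow_eq_one hi'))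
    have hmem : ((d : H) : G) * u * ((d : H) : G)⁻¹ ∈ K₁ := hUK₁ (hconjU _ d.2 _ hu)
    have h4 := hm d ⟨u, hUK₁ hu⟩ hu hmem
    rw [show m d = zc from hde] at h4
    refine hfix _ (hfUV _ hu) (h4.trans (congrArg f₁ (Subtype.ext ?_)))
    have h5 : d * u * d⁻¹ = u := by
      rw [mul_inv_eq_one, mul_inv_eq_iff_eq_mul] at h3
      rw [← h3, mul_inv_cancel_right]
    show ((d * u * d⁻¹ : H) : G) = (u : G)
    rw [h5]
  -- the cover
  let X₀ : Subgroup H := U.subgroupOf H ⊔ Y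
  have hUn : (U.subgroupOf H).Normal := ⟨fun u hu h => hconjU h h.2 u hu⟩
  have hX₀ : ∀ x : X₀, ∃ (u : K₁) (y : H) (hu : (u : G) ∈ U), y ∈ Y ∧ (x : H) = ⟨u, hUH hu⟩ * y := fun x => by
    have hx : (x : H) ∈ ((U.subgroupOf H : Subgroup H) : Set H) * (Y : Set H) := by
      rw [← Subgroup.normal_mul]
      exact x.2
    obtain ⟨u, hu, y, hy, e⟩ := hx
    exact ⟨⟨(u : G), hUK₁ hu⟩, y, hu, hy, e.symm⟩
  choose cu cy hcu hcy hcx using hX₀
  have hwd : ∀ (x : X₀) (u : K₁) (hu : (u : G) ∈ U) (y : H), y ∈ Y → (x : H) = ⟨u, hUH hu⟩ * y →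
      f₁ (cu x) * (ψ (cy x) : Q₀) = f₁ u * (ψ y : Q₀) := by
    intro x u hu y hy e
    have e' : (⟨u, hUH hu⟩ : H)⁻¹ * ⟨cu x, hUH (hcu x)⟩ = y * (cy x)⁻¹ := by
      rw [inv_mul_eq_iff_eq_mul, ← mul_assoc, ← e, hcx x, mul_inv_cancel_right]
    have hmemY : (⟨u, hUH hu⟩ : H)⁻¹ * ⟨cu x, hUH (hcu x)⟩ ∈ Y := e' ▸ mul_mem hy (inv_mem (hcy x))
    have h1 := hUY _ (U.mul_mem (U.inv_mem hu) (hcu x)) hmemY
    have h2 : f₁ (cu x) = f₁ u := by
      rw [show (⟨((⟨u, hUH hu⟩ : H)⁻¹ * ⟨cu x, hUH (hcu x)⟩ : H), _⟩ : K₁) = u⁻¹ * cu x from Subtype.ext rfl,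
        map_mul, map_inv, inv_mul_eq_one] at h1
      exact h1.symm
    have h3 : ψ (cy x) = ψ y := by
      have e1 := congrArg ψ (hcx x)
      have e2 := congrArg ψ e
      rw [map_mul, hψU ⟨_, hUH (hcu x)⟩ (hcu x), one_mul] at e1
      rw [map_mul, hψU ⟨_, hUH hu⟩ hu, one_mul] at e2
      rw [← e1, e2]
    rw [h2, h3]
  let χ₀ : X₀ →* Q₀ := MonoidHom.mk' (fun x => f₁ (cu x) * (ψ (cy x) : Q₀)) fun a b => by
    have hconj : ((cy a : H) : G) * (cu b : G) * ((cy a : H) : G)⁻¹ ∈ U := hconjU _ (cy a).2 _ (hcu b)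
    have hU' : ((cu a * ⟨_, hUK₁ hconj⟩ : K₁) : G) ∈ U := U.mul_mem (hcu a) hconj
    rw [hwd (a * b) _ hU' (cy a * cy b) (mul_mem (hcy a) (hcy b)) (by
      show (a : H) * (b : H) = _
      rw [hcx a, hcx b]
      refine Subtype.ext ?_
      show (cu a : G) * (cy a : G) * ((cu b : G) * (cy b : G)) =
        (cu a : G) * ((cy a : G) * (cu b : G) * (cy a : G)⁻¹) * ((cy a : G) * (cy b : G))
      group)]
    rw [map_mul, map_mul, Subgroup.coe_mul, ← hm (cy a) (cu b) (hcu b) (hUK₁ hconj)]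
    show f₁ (cu a) * ((ψ (cy a) : Q₀) * f₁ (cu b) * (ψ (cy a) : Q₀)⁻¹) * ((ψ (cy a) : Q₀) * (ψ (cy b) : Q₀)) = _
    group
  have hχs : Function.Surjective χ₀ := fun q => by
    obtain ⟨t, ht, htz⟩ := hdec q
    obtain ⟨u, hu, hue⟩ := hfU t ht
    obtain ⟨y, hy, hye⟩ := hψY ⟨t⁻¹ * q, Subgroup.mem_centralizer_singleton_iff.2 htz.symm⟩
    refine ⟨⟨⟨u, hUH hu⟩ * y, Subgroup.mul_mem _ (Subgroup.mem_sup_left (show (⟨u, hUH hu⟩ : H) ∈ U.subgroupOf H from hu))
      (Subgroup.mem_sup_right hy)⟩, ?_⟩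
    show f₁ (cu _) * (ψ (cy _) : Q₀) = q
    rw [hwd _ u hu y hy rfl, hue, hye]
    show t * (t⁻¹ * q) = q
    rw [mul_inv_cancel_left]
  refine ⟨U ⊔ PC, IsPGroup.to_sup_of_normal_left' hUp hPC.2.1 ((hPCC.trans (Subgroup.centralizer_le_normalizer _))),
    fun P hP hPQ => ?_, X₀.map H.subtype, χ₀.comp (Subgroup.equivMapOfInjective X₀ H.subtype H.subtype_injective).symm.toMonoidHom,
    ?_, hχs.comp (MulEquiv.surjective _)⟩
  · have hPC' : P ≤ C := hPQ.trans (Subgroup.centralizer_le (SetLike.coe_subset_coe.2 le_sup_left))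
    have hPn : P ≤ Subgroup.normalizer (PC : Set G) := hPQ.trans
      ((Subgroup.centralizer_le (SetLike.coe_subset_coe.2 le_sup_right)).trans (Subgroup.centralizer_le_normalizer _))
    have hsup : IsPGroup p ↥(P ⊔ PC) := IsPGroup.to_sup_of_normal_right' hP hPC.2.1 hPn
    exact (le_sup_left.trans (hPC.2.2 _ (sup_le hPC' hPCC) hsup le_sup_right).le).trans le_sup_right
  · rintro _ ⟨x, -, rfl⟩
    refine mem_normalizer_of_map_le fun y hy => ?_
    have hle : (U ⊔ PC).map (MulAut.conj (x : G)).toMonoidHom ≤ U ⊔ PC := by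
      rw [Subgroup.map_sup]
      refine sup_le_sup ?_ ?_
      · rintro _ ⟨v, hv, rfl⟩
        exact hconjU _ x.2 v hv
      · rintro _ ⟨v, hv, rfl⟩
        exact (mem_normalizer_iff'.1 x.2.1).1 v hv
    exact hle ⟨y, hy, rfl⟩

end Cover

section Qd

open CfsgLib.Components.QdRankTwo

variable {p : ℕ} [Fact p.Prime]

/-- The structure of `Qd(p)` needed for the cover. -/
theorem qd_structure (hp : p ≠ 2) :
    ∃ (V : Subgroup (Cfsg.qd p)) (z : Cfsg.qd p), V.Normal ∧ IsPGroup p V ∧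
      (∀ a ∈ V, ∀ b ∈ V, a * b = b * a) ∧ z * z = 1 ∧ (∀ v ∈ V, z * v * z⁻¹ = v⁻¹) ∧
      Subgroup.centralizer (V : Set (Cfsg.qd p)) ≤ V ∧
      ∀ g : Cfsg.qd p, ∃ t ∈ V, z * (t⁻¹ * g) = t⁻¹ * g * z := by
  refine ⟨(trans p).subgroupOf (Cfsg.qd p), ⟨tT, tT_mem⟩, ⟨?_⟩, ?_, ?_, Subtype.ext tT_sq, ?_, ?_, ?_⟩
  · rintro ⟨v, hv⟩ ⟨a, b, rfl⟩ ⟨g, hg⟩
    exact ⟨_, _, conj_tV (qd_le_affine hg) a b⟩
  · exact isPGroup_trans.comap_of_injective _ Subtype.val_injective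
  · rintro ⟨a, ha⟩ ⟨a₁, a₂, rfl⟩ ⟨b, hb⟩ ⟨b₁, b₂, rfl⟩
    refine Subtype.ext ?_
    show tV a₁ a₂ * tV b₁ b₂ = tV b₁ b₂ * tV a₁ a₂
    rw [tV_mul, tV_mul, add_comm a₁, add_comm a₂]
  · rintro ⟨v, hv⟩ ⟨a, b, rfl⟩
    refine Subtype.ext ?_
    show tT * tV a b * tT⁻¹ = (tV a b)⁻¹
    rw [conj_tV (qd_le_affine tT_mem), eq_comm, inv_eq_iff_mul_eq_one, tV_mul]
    simp [tV_zero]
  · rintro ⟨M, hM⟩ hMc
    have haf := qd_le_affine hM
    have key : ∀ a b : ZMod p, M * tV a b * M⁻¹ = tV a b := fun a b => by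
      have h := congrArg Subtype.val (Subgroup.mem_centralizer_iff.1 hMc ⟨tV a b, tV_mem a b⟩ ⟨a, b, rfl⟩)
      rw [mul_inv_eq_iff_eq_mul]
      exact h.symm
    have h1 := key 1 0
    have h2 := key 0 1
    rw [conj_tV haf] at h1 h2
    obtain ⟨e00, e10⟩ := tV_injective h1
    obtain ⟨e01, e11⟩ := tV_injective h2
    simp only [mul_one, mul_zero, add_zero, zero_add] at e00 e10 e01 e11
    refine ⟨(M : Matrix (Fin 3) (Fin 3) (ZMod p)) 0 2, (M : Matrix (Fin 3) (Fin 3) (ZMod p)) 1 2, ?_⟩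
    show M = _
    have r0 := haf 0
    have r1 := haf 1
    have r2 := haf 2
    refine Subtype.ext (Matrix.ext fun i j => ?_)
    fin_cases i <;> fin_cases j <;> simp [e00, e10, e01, e11, r0, r1, r2]
  · rintro ⟨M, hM⟩
    have haf := qd_le_affine hM
    refine ⟨⟨tV ((M : Matrix (Fin 3) (Fin 3) (ZMod p)) 0 2) ((M : Matrix (Fin 3) (Fin 3) (ZMod p)) 1 2), tV_mem _ _⟩,
      ⟨_, _, rfl⟩, Subtype.ext ?_⟩
    set a := (M : Matrix (Fin 3) (Fin 3) (ZMod p)) 0 2 with ha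
    set b := (M : Matrix (Fin 3) (Fin 3) (ZMod p)) 1 2 with hb
    show tT * ((tV a b)⁻¹ * M) = (tV a b)⁻¹ * M * tT
    have hinv : (tV a b : SL3 p)⁻¹ = tV (-a) (-b) := inv_eq_of_mul_eq_one_right (by
      rw [tV_mul, add_neg_cancel, add_neg_cancel, tV_zero])
    rw [hinv]
    have r0 := haf 0
    have r1 := haf 1
    have r2 := haf 2
    refine Subtype.ext (Matrix.ext fun i j => ?_)
    fin_cases i <;> fin_cases j <;>
      simp [Matrix.SpecialLinearGroup.coe_mul, Matrix.mul_apply, Fin.sum_univ_three, Matrix.vecMul, dotProduct, r0, r1, r2, ← ha, ← hb]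

variable {G : Type u} [Group G] [Finite G] (T : Sylow p G)

/-- The fusion system of a group is `Qd(p)`-free exactly when the group is. -/
theorem group_sectionFree_iff (hp : p ≠ 2) :
    (groupFusionSystem (T : Subgroup G)).IsSectionFree p (Cfsg.qd p) ↔ ¬ Involves (Cfsg.qd p) G := by
  have hreal : ∀ {Q : Subgroup G}, (groupFusionSystem (T : Subgroup G)).IsFullyNormalized Q →
      (groupFusionSystem (T : Subgroup G)).IsCentric Q →
      ∀ N : FusionSystem (normalizerIn (T : Subgroup G) Q),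
        (groupFusionSystem (T : Subgroup G)).IsNormalizerSystem Q N →
      ∃ (K : Subgroup (Subgroup.normalizer (Q : Set G))) (_ : K.Normal),
        N.IsModel p (Subgroup.normalizer (Q : Set G) ⧸ K)
          ((QuotientGroup.mk' K).comp (Subgroup.inclusion (normalizerIn_le_normalizer (S := (T : Subgroup G))))) := by
    intro Q hQn hQc N hN
    have hι : N.IsRealizedBy (Subgroup.inclusion (normalizerIn_le_normalizer (S := (T : Subgroup G)) (P := Q))) := by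
      refine ⟨Subgroup.inclusion_injective _, fun P hP φ hφ => ⟨fun h => ?_, ?_⟩⟩
      · obtain ⟨-, -, g, hg, hge, hgi⟩ := (fn_normalizerSystem hN).1 (fn_ofHom h)
        obtain ⟨ψ, ⟨hPQ, -, x, hx⟩, hψ⟩ := hg
        have hgN : x ∈ Subgroup.normalizer (Q : Set G) := mem_normalizer_of_map_le fun y hy => by
          rw [← hx ⟨y, Subgroup.mem_sup_right hy⟩, hψ]
          exact hgi.le (mem_img_of_mem hy)
        refine ⟨⟨x, hgN⟩, fun y => Subtype.ext ?_⟩
        show φ y = x * (y : G) * x⁻¹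
        rw [← hx ⟨y, Subgroup.mem_sup_left y.2⟩, hψ, hge _ y.2, ofHom_coe]
      · rintro ⟨⟨x, hxN⟩, hx⟩
        have hx' : ∀ y : P, φ y = x * (y : G) * x⁻¹ := fun y => congrArg Subtype.val (hx y)
        have hle : (P ⊔ Q).map (MulAut.conj x).toMonoidHom ≤ (T : Subgroup G) := by
          rw [Subgroup.map_sup]
          refine sup_le ?_ ?_
          · rintro _ ⟨y, hy, rfl⟩
            show x * y * x⁻¹ ∈ (T : Subgroup G)
            rw [← hx' ⟨y, hy⟩]
            exact normalizerIn_le (hφ ⟨y, hy⟩)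
          · rintro _ ⟨y, hy, rfl⟩
            exact hQn.1 ((mem_normalizer_iff'.1 hxN).1 y hy)
        have hfn : Fn (groupFusionSystem (T : Subgroup G)) (P ⊔ Q) (fun y => x * y * x⁻¹) :=
          fn_group_conj (sup_le (hP.trans normalizerIn_le) hQn.1) x fun y hy => hle ⟨y, hy, rfl⟩
        refine mem_hom_of_fn ((fn_normalizerSystem hN).2 ⟨hP, fun y hy => ?_, _, hfn, fun y hy => rfl, ?_⟩) hx'
        · exact hx' ⟨y, hy⟩ ▸ hφ ⟨y, hy⟩
        · exact (hfn.mono le_sup_right).img_eq_self fun y hy => (mem_normalizer_iff'.1 hxN).1 y hy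
    have hT : ∃ R : Sylow p (Subgroup.normalizer (Q : Set G)), (R : Subgroup _) =
        (Subgroup.inclusion (normalizerIn_le_normalizer (S := (T : Subgroup G)) (P := Q))).range := by
      rw [Subgroup.inclusion_range]
      exact (exists_sylow_iff normalizerIn_le_normalizer).2 ((group_fullyNormalized_iff T hQn.1).1 hQn)
    refine exists_quotient_model hι hT (le_normalizerIn hQn.1) ?_ fun c hc =>
      hQc.2 Q (isConj_refl hQn.1) (mem_centralizerIn.2
        ⟨normalizerIn_le (mem_centralizerIn.1 hc).1, (mem_centralizerIn.1 hc).2⟩)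
    refine ⟨?_⟩
    rintro _ ⟨q, hq, rfl⟩ g
    exact ⟨⟨(g : G) * q * (g : G)⁻¹, le_normalizerIn hQn.1 ((mem_normalizer_iff'.1 g.2).1 q hq)⟩,
      (mem_normalizer_iff'.1 g.2).1 q hq, rfl⟩
  constructor
  · rintro hfree ⟨K, R, hR, ⟨e⟩⟩
    obtain ⟨V, z, hVn, hV, hVc, hz2, hzV, hCV, hdec⟩ := qd_structure (p := p) hp
    obtain ⟨Qp, hQp, hQc, X, χ, hXN, hχ⟩ := exists_centric_cover (p := p) hp V hVn hV hVc z hz2 hzV hCV hdec
      (e.toMonoidHom.comp (QuotientGroup.mk' (R.subgroupOf K)))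
      (e.surjective.comp (QuotientGroup.mk'_surjective _))
    -- move into the Sylow subgroup, fully normalized
    obtain ⟨T', hT'⟩ := hQp.exists_le_sylow
    obtain ⟨g₀, hg₀⟩ := MulAction.exists_smul_eq G T' T
    have hQ1 : Qp.map (MulAut.conj g₀).toMonoidHom ≤ (T : Subgroup G) := by
      rw [← hg₀]
      rintro _ ⟨x, hx, rfl⟩
      exact Subgroup.smul_mem_pointwise_smul x (MulAut.conj g₀) _ (hT' hx)
    obtain ⟨Q', hQ', hQ'n⟩ := exists_fullyNormalized (F := groupFusionSystem (T : Subgroup G)) hQ1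
    obtain ⟨-, -, g₁, hg₁⟩ := group_isConj_iff.1 hQ'
    set g := g₁ * g₀ with hg
    have hmap : Qp.map (MulAut.conj g).toMonoidHom = Q' := by
      rw [← CfsgLib.LocalEven.SylowIn.map_conj_conj, hg₁]
    have hcent' : ∀ (h : G) (P : Subgroup G), IsPGroup p P →
        P ≤ Subgroup.centralizer ((Qp.map (MulAut.conj h).toMonoidHom : Subgroup G) : Set G) →
        P ≤ Qp.map (MulAut.conj h).toMonoidHom := by
      intro h P hP hle
      have h1 : P.map (MulAut.conj h⁻¹).toMonoidHom ≤ Subgroup.centralizer (Qp : Set G) := by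
        rintro _ ⟨x, hx, rfl⟩
        refine Subgroup.mem_centralizer_iff.2 fun y hy => ?_
        have h2 : h * y * h⁻¹ * x = x * (h * y * h⁻¹) :=
          Subgroup.mem_centralizer_iff.1 (hle hx) _ ⟨y, hy, rfl⟩
        show y * (h⁻¹ * x * h⁻¹⁻¹) = h⁻¹ * x * h⁻¹⁻¹ * y
        calc _ = h⁻¹ * (h * y * h⁻¹ * x) * h := by group
          _ = h⁻¹ * (x * (h * y * h⁻¹)) * h := by rw [h2]
          _ = _ := by group
      intro x hx
      refine ⟨h⁻¹ * x * h⁻¹⁻¹, hQc _ (hP.map _) h1 ⟨x, hx, rfl⟩, ?_⟩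
      show h * (h⁻¹ * x * h⁻¹⁻¹) * h⁻¹ = x
      group
    have hQ'c : (groupFusionSystem (T : Subgroup G)).IsCentric Q' := by
      refine ⟨hQ'n.1, fun Q'' hQ'' => ?_⟩
      obtain ⟨-, -, h, hh⟩ := group_isConj_iff.1 hQ''
      rw [← hh, ← hmap, CfsgLib.LocalEven.SylowIn.map_conj_conj]
      exact hcent' _ _ (isPGroup_centralizerIn T) centralizerIn_le_centralizer
    obtain ⟨N, hN⟩ := exists_normalizerSystem (groupFusionSystem (T : Subgroup G)) hQ'n.1
    obtain ⟨Kq, hKq, hmod⟩ := hreal hQ'n hQ'c N hN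
    refine hfree Q' hQ'n hQ'c N hN _ _ hmod ?_
    -- the kernel has order prime to `p`
    have hK1 : ∀ x ∈ Kq, (x : G) ∈ (T : Subgroup G) → x = 1 := fun x hx hxT => by
      have h := hmod.2.1.1 (a₁ := ⟨(x : G), hxT, x.2⟩) (a₂ := 1) (by
        rw [map_one]
        exact (QuotientGroup.eq_one_iff x).2 hx)
      exact Subtype.ext (congrArg Subtype.val h :)
    obtain ⟨Rt, hRt⟩ : ∃ Rt : Sylow p (Subgroup.normalizer (Q' : Set G)), (Rt : Subgroup _) =
        (normalizerIn (T : Subgroup G) Q').subgroupOf (Subgroup.normalizer (Q' : Set G)) :=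
      (exists_sylow_iff normalizerIn_le_normalizer).2 ((group_fullyNormalized_iff T hQ'n.1).1 hQ'n)
    have hKp : ∀ x ∈ Kq, ∀ n, x ^ p ^ n = 1 → x = 1 := fun x hx n hn => by
      have hxp : IsPGroup p (Subgroup.zpowers x) := by
        rintro ⟨y, hy⟩
        obtain ⟨j, rfl⟩ := Subgroup.mem_zpowers_iff.1 hy
        refine ⟨n, Subtype.ext ?_⟩
        show (x ^ j) ^ p ^ n = 1
        rw [← zpow_natCast, ← zpow_mul, mul_comm, zpow_mul, zpow_natCast, hn, one_zpow]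
      obtain ⟨R', hR'⟩ := hxp.exists_le_sylow
      obtain ⟨a, ha⟩ := MulAction.exists_smul_eq (Subgroup.normalizer (Q' : Set G)) R' Rt
      have h1 : a * x * a⁻¹ ∈ (Rt : Subgroup _) := by
        rw [← ha]
        exact Subgroup.smul_mem_pointwise_smul x (MulAut.conj a) _ (hR' (Subgroup.mem_zpowers x))
      rw [hRt] at h1
      have h2 := hK1 _ (hKq.conj_mem x hx a) h1.1
      rwa [conj_eq_one_iff] at h2
    -- transport the cover
    let cg : G →* G := (MulAut.conj g).toMonoidHom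
    have hcg : Function.Injective cg := (MulAut.conj g).injective
    let X' : Subgroup (Subgroup.normalizer (Q' : Set G)) := (X.map cg).subgroupOf _
    have hX'N : X.map cg ≤ Subgroup.normalizer (Q' : Set G) := by
      rw [← hmap]
      exact (Subgroup.map_mono hXN).trans (Subgroup.le_normalizer_map cg)
    let eX : X ≃* X' := (X.equivMapOfInjective cg hcg).trans (Subgroup.subgroupOfEquivOfLe hX'N).symm
    let χ' : X' →* Cfsg.qd p := χ.comp eX.symm.toMonoidHom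
    have hχ' : Function.Surjective χ' := hχ.comp eX.symm.surjective
    have hker : ∀ x : X', (x : Subgroup.normalizer (Q' : Set G)) ∈ Kq → χ' x = 1 := fun x hx => by
      let A : Subgroup (Cfsg.qd p) := (Kq.subgroupOf X').map χ'
      have hAn : A.Normal := (hKq.subgroupOf X').map _ hχ'
      have hA : ∀ a ∈ A, ∀ n, a ^ p ^ n = 1 → a = 1 := by
        rintro _ ⟨y, hy, rfl⟩ n hn
        obtain ⟨k, m', hm', e'⟩ := Nat.exists_eq_pow_mul_and_not_dvd (orderOf_pos y).ne' p (Fact.out : p.Prime).ne_one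
        have hyk : orderOf y = m' := by
          have h0 : ((y : Subgroup.normalizer (Q' : Set G)) ^ m') ^ p ^ k = 1 := by
            rw [← pow_mul, mul_comm, ← e', ← Subgroup.coe_pow, pow_orderOf_eq_one, Subgroup.coe_one]
          have h1 := hKp _ (Kq.pow_mem hy m') k h0
          have h2 : y ^ m' = 1 := Subtype.ext ((Subgroup.coe_pow _ _ _).trans h1)
          exact Nat.dvd_antisymm (orderOf_dvd_of_pow_eq_one h2) (e' ▸ dvd_mul_left _ _)
        exact orderOf_eq_one_iff.1 (Nat.eq_one_of_dvd_coprimes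
          (((Fact.out : p.Prime).coprime_iff_not_dvd.2 (hyk ▸ hm')).pow_left n)
          (orderOf_dvd_of_pow_eq_one hn) (orderOf_map_dvd χ' y))
      have hAV : ∀ a ∈ A, a ∈ Subgroup.centralizer (V : Set (Cfsg.qd p)) := fun a ha =>
        Subgroup.mem_centralizer_iff.2 fun v hv => by
          have h1 : v * a * v⁻¹ * a⁻¹ ∈ A := mul_mem (hAn.conj_mem a ha v) (inv_mem ha)
          have h2 : v * a * v⁻¹ * a⁻¹ ∈ V := by
            rw [mul_assoc v a, mul_assoc v]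
            exact mul_mem hv (hVn.conj_mem _ (inv_mem hv) a)
          obtain ⟨n, hn⟩ := hV ⟨_, h2⟩
          exact mul_inv_eq_iff_eq_mul.1 (mul_inv_eq_one.1 (hA _ h1 n (congrArg Subtype.val hn :)))
      have hxA : χ' x ∈ A := ⟨x, hx, rfl⟩
      obtain ⟨n, hn⟩ := hV ⟨_, hCV (hAV _ hxA)⟩
      exact hA _ hxA n (congrArg Subtype.val hn :)
    let π : X' →* X'.map (QuotientGroup.mk' Kq) := (QuotientGroup.mk' Kq).subgroupMap X'
    have hπ : Function.Surjective π := MonoidHom.subgroupMap_surjective _ _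
    have hπk : π.ker ≤ χ'.ker := fun x hx =>
      hker x ((QuotientGroup.eq_one_iff _).1 (congrArg Subtype.val (show π x = 1 from hx) :))
    refine involves_of_hom _ (π.liftOfSurjective hπ ⟨χ', hπk⟩) fun y => ?_
    obtain ⟨x, rfl⟩ := hχ' y
    exact ⟨π x, MonoidHom.liftOfRightInverse_comp_apply _ _ (Function.rightInverse_surjInv hπ) ⟨χ', hπk⟩ x⟩
  · intro hno Q hQn hQc N hN L _ ι hL hinv
    obtain ⟨K, hK, hmod⟩ := hreal hQn hQc N hN
    obtain ⟨e, -⟩ := model_unique (isPGroup_normalizerIn T) (model_constrained hmod) hmod hL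
    exact hno (involves_of_injective (e := (Subgroup.normalizer (Q : Set G)).subtype) Subtype.val_injective
      (involves_of_surjective (e := e.toMonoidHom.comp (QuotientGroup.mk' K))
        (e.surjective.comp (QuotientGroup.mk'_surjective K)) hinv))

end Qd

end CfsgLib.Fsys
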