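import Cfsg.Agent.Lib.FusionSystem.SmallElements
import Cfsg.Agent.Lib.FusionSystem.KSaturated

/-! Small-exponent abelian subgroups control saturated fusion. -/

set_option autoImplicit false
set_option linter.unusedSectionVars false

open Cfsg Cfsg.FusionSystem
open scoped commutatorElement

namespace CfsgLib.Fsys.SmallAbelian

variable {Ω : Type*} [Group Ω] {S : Subgroup Ω} [Finite S] {p : ℕ} [hp : Fact p.Prime]
  {E F : FusionSystem S}

theorem Fn.of_le (hEF : E ≤ F) {P : Subgroup Ω} {f : Ω → Ω} (h : Fn E P f) : Fn F P f := by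
  obtain ⟨φ, hφ, hf⟩ := h
  exact ⟨φ, hEF P hφ, hf⟩

theorem card_lt_of_lt {A B : Subgroup Ω} (hB : B ≤ S) (h : A < B) : Nat.card A < Nat.card B := by
  have := finite_of_le_base hB
  simpa only [SetLike.coe_sort_coe] using Set.Finite.card_lt_card (Set.toFinite (B : Set Ω)) h

/-- A subsystem is everything once it has the automorphisms of all fully normalized subgroups. -/
theorem le_of_all_automizers (hS : IsPGroup p S) (hF : F.IsSaturated p)
    (h : ∀ P : Subgroup Ω, F.IsFullyNormalized P →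
      (∀ R : Subgroup Ω, ∀ g : Ω → Ω, Nat.card P < Nat.card R → Fn F R g → Fn E R g) →
      F.autGroup P ≤ E.autGroup P) : F ≤ E := by
  refine le_of_automizers hS hF E (h S ?_ fun R g hlt hg => ?_) fun P _ => h P
  · refine ⟨le_rfl, fun Q _ => ?_⟩
    have h1 : normalizerIn S S = S := inf_eq_left.2 Subgroup.le_normalizer
    rw [h1]
    exact Subgroup.card_le_of_le normalizerIn_le
  · exact absurd (Subgroup.card_le_of_le hg.le) hlt.not_ge

/-! ### Maps normalizing a subgroup -/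

section Normalizer

variable {B : Subgroup Ω}

theorem le_kN_self (hBS : B ≤ S) : B ≤ kN S B (⊤ : Subgroup (MulAut B)) := by
  rw [kN_top]
  exact le_normalizerIn hBS

theorem fn_kTop (hBS : B ≤ S) {R : Subgroup Ω} {f : Ω → Ω} (hBR : B ≤ R) :
    Fn (kSystem F B hBS (⊤ : Subgroup (MulAut B))) R f ↔
      R ≤ kN S B (⊤ : Subgroup (MulAut B)) ∧ Fn F R f ∧ ∀ b ∈ B, f b ∈ B := by
  constructor
  · intro h
    obtain ⟨hR, -, g, hg, hge, hgi⟩ := fn_kSystem.1 h
    exact ⟨hR, (hg.mono le_sup_left).congr hge, fun b hb => hge b (hBR hb) ▸ hgi.mem hb⟩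
  · rintro ⟨hR, hf, hB⟩
    have hi : Ind (⊤ : Subgroup (MulAut B)) f := (ind_top_iff hf hBR).2 ((hf.mono hBR).img_eq_self hB)
    refine fn_kSystem.2 ⟨hR, fun r hr => map_mem_kN hf hBR hi hr (hR hr), f, ?_, fun _ _ => rfl, hi⟩
    rwa [sup_eq_left.2 hBR]

theorem conj_mem_centralizerIn {v c : Ω} (hv : v ∈ normalizerIn S B) (hc : c ∈ centralizerIn S B) :
    v * c * v⁻¹ ∈ centralizerIn S B := by
  refine mem_centralizerIn.2 ⟨S.mul_mem (S.mul_mem hv.1 hc.1) (S.inv_mem hv.1), fun b hb => ?_⟩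
  have h1 := (mem_centralizerIn.1 hc).2 _ ((mem_normalizer_iff'.1 hv.2).2 b hb)
  calc b * (v * c * v⁻¹) = v * (v⁻¹ * b * v * c) * v⁻¹ := by group
    _ = v * (c * (v⁻¹ * b * v)) * v⁻¹ := by rw [h1]
    _ = v * c * v⁻¹ * b := by group

theorem commute_image_iff {V : Subgroup Ω} {f : Ω → Ω} (hf : Fn F V f) (hBV : B ≤ V)
    (hB : ∀ b ∈ B, f b ∈ B) {v : Ω} (hv : v ∈ V) :
    f v ∈ centralizerIn S B ↔ v ∈ centralizerIn S B := by
  constructor
  · intro h
    refine mem_centralizerIn.2 ⟨hf.le hv, fun b hb => hf.inj (V.mul_mem (hBV hb) hv) (V.mul_mem hv (hBV hb)) ?_⟩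
    rw [hf.map_mul (hBV hb) hv, hf.map_mul hv (hBV hb)]
    exact (mem_centralizerIn.1 h).2 _ (hB b hb)
  · intro h
    refine mem_centralizerIn.2 ⟨hf.mem hv, fun b hb => ?_⟩
    obtain ⟨b', hb', rfl⟩ := (hf.mono hBV).mem_img.1 (((hf.mono hBV).img_eq_self hB).ge hb)
    rw [← hf.map_mul (hBV hb') hv, ← hf.map_mul hv (hBV hb'), (mem_centralizerIn.1 h).2 b' hb']

/-- The key step: `Q = V ⊓ C(B)` receptive in the smaller normalizer system. -/
theorem aut_mem_of_receptive (hS : IsPGroup p S) (hBS : B ≤ S)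
    (hcomm : ∀ a ∈ B, ∀ b ∈ B, a * b = b * a) (hEF : E ≤ F)
    (hNF : (kSystem F B hBS (⊤ : Subgroup (MulAut B))).IsSaturated p)
    {V : Subgroup Ω} (hV : (kSystem F B hBS (⊤ : Subgroup (MulAut B))).IsFullyNormalized V) (hBV : B ≤ V)
    (hbig : ∀ R : Subgroup Ω, ∀ g : Ω → Ω, Nat.card V < Nat.card R →
      Fn (kSystem F B hBS (⊤ : Subgroup (MulAut B))) R g → Fn (kSystem E B hBS (⊤ : Subgroup (MulAut B))) R g)
    (hr : (kSystem E B hBS (⊤ : Subgroup (MulAut B))).IsReceptive (V ⊓ centralizerIn S B))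
    {α : MulAut V} (hα : α ∈ (kSystem F B hBS (⊤ : Subgroup (MulAut B))).autGroup V)
    (hQ : Fn (kSystem E B hBS (⊤ : Subgroup (MulAut B))) (V ⊓ centralizerIn S B) (autFn α)) :
    α ∈ (kSystem E B hBS (⊤ : Subgroup (MulAut B))).autGroup V := by
  haveI : Finite (kN S B (⊤ : Subgroup (MulAut B))) := finite_of_le_base kN_le
  have hS' : IsPGroup p (kN S B (⊤ : Subgroup (MulAut B))) := hS.to_le kN_le
  have hVS' := hV.1
  have hVS : V ≤ S := hVS'.trans kN_le
  haveI := finite_of_le_base hVS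
  set NF := kSystem F B hBS (⊤ : Subgroup (MulAut B)) with hNFdef
  set NE := kSystem E B hBS (⊤ : Subgroup (MulAut B)) with hNEdef
  set Q := V ⊓ centralizerIn S B with hQdef
  have hBQ : B ≤ Q := le_inf hBV fun b hb => mem_centralizerIn.2 ⟨hBS hb, fun a ha => hcomm a ha b hb⟩
  have hQV : Q ≤ V := inf_le_left
  have hVN : ∀ v ∈ V, v ∈ normalizerIn S B := fun v hv => kN_le_normalizerIn (hVS' hv)
  have hautB : ∀ a ∈ NF.autGroup V, ∀ b ∈ B, autFn a b ∈ B := fun a ha =>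
    ((fn_kTop hBS hBV).1 ((mem_autGroup_iff_fn hVS').1 ha)).2.2
  have hautQ : ∀ a ∈ NF.autGroup V, ∀ v : V, (v : Ω) ∈ Q → ((a v : V) : Ω) ∈ Q := by
    intro a ha v hv
    refine ⟨(a v).2, ?_⟩
    have hf := ((fn_kTop hBS hBV).1 ((mem_autGroup_iff_fn hVS').1 ha)).2.1
    rw [← autFn_coe]
    exact (commute_image_iff hf hBV (hautB a ha) v.2).2 hv.2
  -- automorphisms stabilizing the series `1 ≤ Q ≤ V`
  let M : Subgroup (NF.autGroup V) :=
    { carrier := {a | (∀ v : V, (v : Ω) ∈ Q → (a : MulAut V) v = v) ∧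
        ∀ v : V, ((v⁻¹ * (a : MulAut V) v : V) : Ω) ∈ Q}
      one_mem' := ⟨fun v _ => rfl, fun v => by simp⟩
      mul_mem' := fun {a b} ha hb => by
        refine ⟨fun v hv => ?_, fun v => ?_⟩
        · rw [Subgroup.coe_mul, MulAut.mul_apply, hb.1 v hv, ha.1 v hv]
        · have h1 : (a : MulAut V) ((b : MulAut V) v) = (a : MulAut V) v * (v⁻¹ * (b : MulAut V) v) := by
            conv_lhs => rw [← mul_inv_cancel_left v ((b : MulAut V) v), map_mul, ha.1 _ (hb.2 v)]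
          show ((v⁻¹ * (a : MulAut V) ((b : MulAut V) v) : V) : Ω) ∈ Q
          rw [h1, ← mul_assoc, Subgroup.coe_mul]
          exact Q.mul_mem (ha.2 v) (hb.2 v)
      inv_mem' := fun {a} ha => by
        refine ⟨fun v hv => ?_, fun v => ?_⟩
        · conv_lhs => rw [← ha.1 v hv]
          rw [Subgroup.coe_inv, MulAut.inv_apply_self]
        · obtain ⟨w, rfl⟩ := (a : MulAut V).surjective v
          rw [Subgroup.coe_inv, MulAut.inv_apply_self]
          have := Q.inv_mem (ha.2 w)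
          rwa [← Subgroup.coe_inv, mul_inv_rev, inv_inv] at this }
  haveI hMn : M.Normal := ⟨fun a ha g => by
    refine ⟨fun v hv => ?_, fun v => ?_⟩
    · rw [Subgroup.coe_mul, Subgroup.coe_mul, Subgroup.coe_inv, MulAut.mul_apply, MulAut.mul_apply,
        ha.1 _ (hautQ _ ((NF.autGroup V).inv_mem g.2) v hv), MulAut.apply_inv_self]
    · obtain ⟨w, rfl⟩ := (g : MulAut V).surjective v
      show (((g : MulAut V) w)⁻¹ * (g : MulAut V) ((a : MulAut V) ((g : MulAut V)⁻¹ ((g : MulAut V) w))) : V) ∈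
        Q.subgroupOf V
      rw [MulAut.inv_apply_self, ← map_inv, ← map_mul, Subgroup.mem_subgroupOf]
      exact hautQ _ g.2 _ (ha.2 w)⟩
  have hMp : IsPGroup p M := isPGroup_of_forall_coprime fun a ha => by
    refine Subtype.ext (Subtype.ext (MulEquiv.ext fun v => fixed_of_fixed_shift (hS.to_le hVS) ?_ ?_))
    · rwa [Subgroup.orderOf_coe, Subgroup.orderOf_coe]
    · exact a.2.1 _ (a.2.2 v)
  obtain ⟨-, T, hT⟩ := (fullyNormalized_good hS' hNF hV).1
  have hMT : ∀ a : NF.autGroup V, a ∈ M → (a : MulAut V) ∈ autInducedBy (kN S B (⊤ : Subgroup (MulAut B))) V := by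
    intro a ha
    have := CfsgLib.Solvable.Cores.pCore_le_sylow T (CfsgLib.Solvable.Cores.le_pCore (hn := hMn) hMp ha)
    rw [hT] at this
    exact this
  have hnormQ : ∀ v ∈ V, ∀ q ∈ Q, v * q * v⁻¹ ∈ Q := fun v hv q hq =>
    ⟨V.mul_mem (V.mul_mem hv hq.1) (V.inv_mem hv), conj_mem_centralizerIn (hVN v hv) hq.2⟩
  have hstab : ∀ n ∈ normalizerIn (kN S B (⊤ : Subgroup (MulAut B))) V, (∀ q ∈ Q, q * n = n * q) →
      ∀ v ∈ V, v⁻¹ * (n * v * n⁻¹) ∈ Q := by
    intro n hn hnQ v hv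
    have hn1 : n ∈ centralizerIn S B := mem_centralizerIn.2 ⟨kN_le hn.1, fun b hb => hnQ b (hBQ hb)⟩
    refine ⟨V.mul_mem (V.inv_mem hv) ((Subgroup.mem_normalizer_iff.1 hn.2 v).1 hv), ?_⟩
    rw [show v⁻¹ * (n * v * n⁻¹) = v⁻¹ * n * v * n⁻¹ by group]
    refine (centralizerIn S B).mul_mem ?_ ((centralizerIn S B).inv_mem hn1)
    simpa using conj_mem_centralizerIn ((normalizerIn S B).inv_mem (hVN v hv)) hn1
  by_cases hA : ∃ n ∈ normalizerIn (kN S B (⊤ : Subgroup (MulAut B))) V, (∀ q ∈ Q, q * n = n * q) ∧ n ∉ V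
  · -- the automorphism extends to a larger subgroup
    obtain ⟨n, hn, hnQ, hnV⟩ := hA
    have hcn : (⟨conjAut V hn.2, autInducedBy_le_autGroup hVS' (conjAut_mem_autInducedBy hn.2 hn.1)⟩ :
        NF.autGroup V) ∈ M := by
      refine ⟨fun v hv => Subtype.ext ?_, fun v => ?_⟩
      · show n * (v : Ω) * n⁻¹ = v
        rw [← hnQ v hv, mul_inv_cancel_right]
      · show (v : Ω)⁻¹ * (n * v * n⁻¹) ∈ Q
        exact hstab n hn hnQ v v.2
    have hconj := hMT _ (hMn.conj_mem _ hcn ⟨α, hα⟩)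
    obtain ⟨W, g, hVW, hg, hgα⟩ :=
      extAut_of_receptive (fullyNormalized_receptive hS' hNF hV) hα hn hnV hconj
    have hgE := hbig W g (card_lt_of_lt (hg.le.trans kN_le) hVW) hg
    exact (mem_autGroup hVS').2 (mem_hom_of_fn (hgE.mono hVW.le) fun v => (hgα v).symm)
  · push Not at hA
    have hCV : centralizerIn (kN S B (⊤ : Subgroup (MulAut B))) Q ≤ V := by
      by_contra hne
      have hVC : V ≤ Subgroup.normalizer (centralizerIn (kN S B (⊤ : Subgroup (MulAut B))) Q : Set Ω) := by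
        intro v hv
        haveI := finite_of_le_base (S := kN S B (⊤ : Subgroup (MulAut B)))
          (P := centralizerIn (kN S B (⊤ : Subgroup (MulAut B))) Q) inf_le_left
        refine mem_normalizer_of_map_le fun c hc => mem_centralizerIn.2
          ⟨(kN S B _).mul_mem ((kN S B _).mul_mem (hVS' hv) hc.1) ((kN S B _).inv_mem (hVS' hv)), fun q hq => ?_⟩
        have h1 := (mem_centralizerIn.1 hc).2 _ (hnormQ v⁻¹ (V.inv_mem hv) q hq)
        rw [inv_inv] at h1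
        calc q * (v * c * v⁻¹) = v * (v⁻¹ * q * v * c) * v⁻¹ := by group
          _ = v * (c * (v⁻¹ * q * v)) * v⁻¹ := by rw [h1]
          _ = v * c * v⁻¹ * q := by group
      have hlt : V < V ⊔ centralizerIn (kN S B (⊤ : Subgroup (MulAut B))) Q :=
        lt_of_le_of_ne le_sup_left fun e => hne (le_sup_right.trans e.ge)
      obtain ⟨n, hn, hnN, hnV⟩ := exists_mem_normalizer_not_mem hS' (sup_le hVS' inf_le_left) hlt
      have hsup := Subgroup.coe_mul_of_left_le_normalizer_right V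
        (centralizerIn (kN S B (⊤ : Subgroup (MulAut B))) Q) hVC
      change n ∈ ((V ⊔ centralizerIn (kN S B (⊤ : Subgroup (MulAut B))) Q : Subgroup Ω) : Set Ω) at hn
      rw [hsup] at hn
      obtain ⟨v, hv, c, hc, rfl⟩ := hn
      have hcN : c ∈ normalizerIn (kN S B (⊤ : Subgroup (MulAut B))) V := by
        have := (normalizerIn (kN S B (⊤ : Subgroup (MulAut B))) V).mul_mem
          (le_normalizerIn hVS' (V.inv_mem hv)) hnN
        simpa using this
      exact hnV (V.mul_mem hv (hA c hcN (mem_centralizerIn.1 hc).2))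
    have hfα := (fn_kTop hBS hBV).1 ((mem_autGroup_iff_fn hVS').1 hα)
    have hQimg : img (autFn α) Q = Q :=
      (((mem_autGroup_iff_fn hVS').1 hα).mono hQV).img_eq_self fun q hq =>
        autFn_coe α ⟨q, hq.1⟩ ▸ hautQ α hα ⟨q, hq.1⟩ hq
    obtain ⟨N, h, hh, -, hN, hhe⟩ := receptive_extend hr hQ hQimg
    have hVN' : V ≤ N := fun v hv => (hN v).2 ⟨hVS' hv, by
      haveI := finite_of_le_base (hQV.trans hVS)
      exact mem_normalizer_of_map_le (hnormQ v hv), autFn α v, hVS' (autFn_mem α hv), fun q hq =>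
        ((mem_autGroup_iff_fn hVS').1 hα).map_conj hv (hQV hq)⟩
    have hh' := hh.mono hVN'
    have hclose : ∀ v ∈ V, (autFn α v)⁻¹ * h v ∈ centralizerIn (kN S B (⊤ : Subgroup (MulAut B))) Q := by
      intro v hv
      refine mem_centralizerIn.2 ⟨(kN S B _).mul_mem ((kN S B _).inv_mem (hVS' (autFn_mem α hv))) (hh'.mem hv), ?_⟩
      intro y hy
      obtain ⟨q, hq, rfl⟩ := (((mem_autGroup_iff_fn hVS').1 hα).mono hQV).mem_img.1 (hQimg.ge hy)
      have e1 := hh'.map_conj hv (hQV hq)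
      rw [hhe q hq, hhe _ (hnormQ v hv q hq), ((mem_autGroup_iff_fn hVS').1 hα).map_conj hv (hQV hq)] at e1
      calc autFn α q * ((autFn α v)⁻¹ * h v)
          = (autFn α v)⁻¹ * (autFn α v * autFn α q * (autFn α v)⁻¹) * h v := by group
        _ = (autFn α v)⁻¹ * (h v * autFn α q * (h v)⁻¹) * h v := by rw [e1]
        _ = (autFn α v)⁻¹ * h v * autFn α q := by group
    have hhV : ∀ v ∈ V, h v ∈ V := fun v hv => by
      have := V.mul_mem (autFn_mem α hv) (hCV (hclose v hv))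
      rwa [mul_inv_cancel_left] at this
    obtain ⟨β, hβ, hβh⟩ := exists_aut_of_fn hh' (hh'.img_eq_self hhV)
    have hβF : β ∈ NF.autGroup V := by
      have h1 := (fn_kTop hBS hBV).1 ((mem_autGroup_iff_fn hVS').1 hβ)
      exact (mem_autGroup_iff_fn hVS').2 ((fn_kTop hBS hBV).2 ⟨h1.1, Fn.of_le hEF h1.2.1, h1.2.2⟩)
    have hδ : (⟨β⁻¹ * α, (NF.autGroup V).mul_mem ((NF.autGroup V).inv_mem hβF) hα⟩ : NF.autGroup V) ∈ M := by
      refine ⟨fun v hv => ?_, fun v => ?_⟩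
      · show (β⁻¹ * α) v = v
        apply β.injective
        rw [MulAut.mul_apply, MulAut.apply_inv_self]
        exact Subtype.ext (by rw [hβh, hhe v hv, autFn_coe])
      · show ((v⁻¹ * (β⁻¹ * α) v : V) : Ω) ∈ Q
        have h1 : (((β v)⁻¹ * α v : V) : Ω) ∈ Q := by
          have hc := hclose v v.2
          rw [autFn_coe] at hc
          have e : (((β v)⁻¹ * α v : V) : Ω) = (((α v : V) : Ω)⁻¹ * h v)⁻¹ := by
            rw [Subgroup.coe_mul, Subgroup.coe_inv, hβh, mul_inv_rev, inv_inv]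
          rw [e]
          exact Q.inv_mem ⟨hCV hc, mem_centralizerIn.2 ⟨kN_le hc.1, fun b hb => (mem_centralizerIn.1 hc).2 b (hBQ hb)⟩⟩
        have h2 := hautQ β⁻¹ ((NF.autGroup V).inv_mem hβF) _ h1
        rwa [map_mul, map_inv, MulAut.inv_apply_self] at h2
    have := (NE.autGroup V).mul_mem hβ (autInducedBy_le_autGroup hVS' (hMT _ hδ))
    simpa using this

/-- Maps normalizing `B` lie in `E` when those fixing `B` do. -/
theorem normalizer_control (hS : IsPGroup p S) (hE : E.IsSaturated p) (hF : F.IsSaturated p) (hEF : E ≤ F)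
    (hBE : E.IsFullyNormalized B) (hBF : F.IsFullyNormalized B)
    (hcomm : ∀ a ∈ B, ∀ b ∈ B, a * b = b * a)
    (hB : ∀ f : Ω → Ω, Fn F B f → Fn E B f)
    (hC : ∀ (R : Subgroup Ω) (f : Ω → Ω), B ≤ R → R ≤ centralizerIn S B → Fn F R f →
      (∀ b ∈ B, f b = b) → Fn E R f)
    {R : Subgroup Ω} {f : Ω → Ω} (hBR : B ≤ R) (hRN : R ≤ normalizerIn S B) (hf : Fn F R f)
    (hfB : ∀ b ∈ B, f b ∈ B) : Fn E R f := by
  have hBS := hBE.1
  haveI : Finite (kN S B (⊤ : Subgroup (MulAut B))) := finite_of_le_base kN_le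
  have hS' : IsPGroup p (kN S B (⊤ : Subgroup (MulAut B))) := hS.to_le kN_le
  have hNF := kSystem_isSaturated hS hF hBS (kGood_top hS hF hBF)
  have hNE := kSystem_isSaturated hS hE hBS (kGood_top hS hE hBE)
  suffices hle : kSystem F B hBS (⊤ : Subgroup (MulAut B)) ≤ kSystem E B hBS ⊤ by
    exact (fn_kSystem.1 (Fn.of_le hle ((fn_kTop hBS hBR).2 ⟨kN_top (S := S) (Q := B) ▸ hRN, hf, hfB⟩))).fn
  refine le_of_all_automizers hS' hNF fun U hU hbig α hα => ?_
  set NF := kSystem F B hBS (⊤ : Subgroup (MulAut B)) with hNFdef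
  set NE := kSystem E B hBS (⊤ : Subgroup (MulAut B)) with hNEdef
  have hUS' := hU.1
  have hγ := (mem_autGroup_iff_fn hUS').1 hα
  by_cases hBU : B ≤ U
  swap
  · obtain ⟨-, -, g, hg, hge, hgi⟩ := fn_kSystem.1 hγ
    have hsup : U ⊔ B ≤ kN S B (⊤ : Subgroup (MulAut B)) := sup_le hUS' (le_kN_self hBS)
    have hgN : Fn NF (U ⊔ B) g := (fn_kTop hBS le_sup_right).2 ⟨hsup, hg, fun b hb => hgi.mem hb⟩
    have hlt : U < U ⊔ B := lt_of_le_of_ne le_sup_left fun e => hBU (le_sup_right.trans e.ge)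
    exact (mem_autGroup_iff_fn hUS').2
      (((hbig _ g (card_lt_of_lt (hsup.trans kN_le) hlt) hgN).mono le_sup_left).congr hge)
  obtain ⟨-, hγF, hγB⟩ := (fn_kTop hBS hBU).1 hγ
  set Q := U ⊓ centralizerIn S B with hQdef
  have hBQ : B ≤ Q := le_inf hBU fun b hb => mem_centralizerIn.2 ⟨hBS hb, fun a ha => hcomm a ha b hb⟩
  -- the restriction to `Q` lies in `E`
  have hQE : Fn NE Q (autFn α) := by
    have hγi := (mem_autGroup_iff_fn hUS').1 (((kSystem F B hBS ⊤).autGroup U).inv_mem hα)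
    obtain ⟨-, hγiF, hγiB⟩ := (fn_kTop hBS hBU).1 hγi
    have hiB := hB _ (hγiF.mono hBU)
    obtain ⟨N, h, hh, hBN, hN, hhe⟩ :=
      receptive_extend (fullyNormalized_receptive hS hE hBE) hiB (hiB.img_eq_self hγiB)
    have hCN : centralizerIn S B ≤ N := fun c hc => (hN c).2 (inExt_of_commute hc)
    have hγQ : ∀ q ∈ Q, autFn α q ∈ Q := fun q hq =>
      ⟨autFn_mem α hq.1, (commute_image_iff hγF hBU hγB hq.1).2 hq.2⟩
    have hhQ : Fn E Q h := hh.mono fun q hq => hCN hq.2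
    have hk : Fn E Q (h ∘ autFn α) := by
      refine hC Q _ hBQ inf_le_right ((hγF.mono inf_le_left).comp (Fn.of_le hEF hhQ) hγQ) fun b hb => ?_
      show h (autFn α b) = b
      rw [hhe _ (hγB b hb), autFn_inv_apply α (hBU hb)]
    obtain ⟨g, hg, hgh, -⟩ := hhQ.exists_inv
    refine (fn_kTop hBS hBQ).2 ⟨inf_le_left.trans hUS', ?_, hγB⟩
    exact (hk.comp hg fun q hq => mem_img_of_mem (hγQ q hq)).congr fun q hq => hgh _ (hγQ q hq)
  -- move `Q` to a receptive conjugate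
  obtain ⟨Q', hQQ', hQ'A, hQ'r⟩ := hNE Q (inf_le_left.trans hUS')
  obtain ⟨g, hg, hgn, hgi⟩ := exists_normalizer_map hS' hQ'A hQ'r hQQ'
  have hBQn : B ≤ normalizerIn (kN S B (⊤ : Subgroup (MulAut B))) Q :=
    hBQ.trans (le_normalizerIn (inf_le_left.trans hUS'))
  obtain ⟨-, hgE, hgB⟩ := (fn_kTop hBS hBQn).1 hg
  have hNUQ : normalizerIn (kN S B (⊤ : Subgroup (MulAut B))) U ≤
      normalizerIn (kN S B (⊤ : Subgroup (MulAut B))) Q := by
    intro n hn
    haveI := finite_of_le_base (S := S) (P := Q) ((inf_le_left : Q ≤ U).trans (hUS'.trans kN_le))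
    exact ⟨hn.1, mem_normalizer_of_map_le fun q hq =>
      ⟨(Subgroup.mem_normalizer_iff.1 hn.2 q).1 hq.1, conj_mem_centralizerIn (kN_le_normalizerIn hn.1) hq.2⟩⟩
  have hUN : U ≤ normalizerIn (kN S B (⊤ : Subgroup (MulAut B))) Q := (le_normalizerIn hUS').trans hNUQ
  have hgU := hg.mono hUN
  set V := img g U with hVdef
  have hBV : B ≤ V := by
    rw [← (hgU.mono hBU).img_eq_self hgB]
    exact img_mono hBU
  have hVQ : V ⊓ centralizerIn S B = Q' := by
    rw [← hgi]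
    ext y
    constructor
    · rintro ⟨hy, hyc⟩
      obtain ⟨u, hu, rfl⟩ := hgU.mem_img.1 hy
      exact mem_img_of_mem ⟨hu, (commute_image_iff hgE hBQn hgB (hUN hu)).1 hyc⟩
    · intro hy
      obtain ⟨u, hu, rfl⟩ := (hgU.mono inf_le_left).mem_img.1 hy
      exact ⟨mem_img_of_mem hu.1, (commute_image_iff hgE hBQn hgB (hUN hu.1)).2 hu.2⟩
  have hgUF : Fn NF U g :=
    (fn_kTop hBS hBU).2 ⟨hUS', Fn.of_le hEF (hgE.mono hUN), hgB⟩
  have hVcard : Nat.card V = Nat.card U := hgU.card_img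
  have hVfn : NF.IsFullyNormalized V := by
    refine ⟨hgU.img_le_base, fun W hW => le_trans (hU.2 W (isConj_trans (isConj_of_fn hgUF) hW)) ?_⟩
    exact card_le_of_map_le normalizerIn_le (hg.mono hNUQ) fun n hn =>
      (hg.mono hNUQ).map_normalizer (le_normalizerIn hUS') hVdef.symm hn hn.2
  obtain ⟨gi, hgiE, hgig, hgiI⟩ := hgU.exists_inv
  have hgiF : Fn NF V gi := by
    have h1 := (fn_kTop hBS hBV).1 hgiE
    exact (fn_kTop hBS hBV).2 ⟨h1.1, Fn.of_le hEF h1.2.1, h1.2.2⟩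
  have hgiU : ∀ y ∈ V, gi y ∈ U := fun y hy => hgiI.le (mem_img_of_mem hy)
  have hδ : Fn NF V (g ∘ (autFn α ∘ gi)) :=
    (hgiF.comp hγ hgiU).comp hgUF fun y hy => autFn_mem α (hgiU y hy)
  have hδV : ∀ y ∈ V, (g ∘ (autFn α ∘ gi)) y ∈ V := fun y hy =>
    mem_img_of_mem (autFn_mem α (hgiU y hy))
  obtain ⟨δ, hδA, hδe⟩ := exists_aut_of_fn hδ (hδ.img_eq_self hδV)
  have hgiQ : ∀ y ∈ Q', gi y ∈ Q := fun y hy => by
    rw [← hgi] at hy
    obtain ⟨q, hq, rfl⟩ := (hgU.mono inf_le_left).mem_img.1 hy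
    rw [hgig q hq.1]
    exact hq
  have hδQ : Fn NE Q' (autFn δ) := by
    have h1 : Fn NE Q' (g ∘ (autFn α ∘ gi)) :=
      ((hgiE.mono (hVQ ▸ inf_le_left)).comp hQE hgiQ).comp hgU fun y hy => autFn_mem α (hgiQ y hy).1
    exact h1.congr fun y hy => by
      have hyV : y ∈ V := (hVQ.ge hy).1
      rw [← hδe ⟨y, hyV⟩]
      exact (autFn_coe δ ⟨y, hyV⟩).symm
  have hres := aut_mem_of_receptive hS hBS hcomm hEF hNF hVfn hBV
    (fun R k hlt hk => hbig R k (hVcard ▸ hlt) hk) (by rw [hVQ]; exact hQ'r) hδA (by rw [hVQ]; exact hδQ)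
  have hδE := (mem_autGroup_iff_fn hgU.img_le_base).1 hres
  refine (mem_autGroup_iff_fn hUS').2 (((hgU.comp hδE fun u hu => mem_img_of_mem hu).comp hgiE
    fun u hu => autFn_mem δ (mem_img_of_mem hu)).congr fun u hu => ?_)
  show gi (autFn δ (g u)) = autFn α u
  rw [show autFn δ (g u) = g (autFn α (gi (g u))) from
    (autFn_coe δ ⟨g u, mem_img_of_mem hu⟩).trans (hδe ⟨g u, mem_img_of_mem hu⟩), hgig u hu,
    hgig _ (autFn_mem α hu)]

end Normalizer

/-! ### The induction -/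

/-- Every map defined on a subgroup of `C_S(X)` containing `X` and fixing `X` lies in `E`. -/
def Ctrl (E F : FusionSystem S) (X : Subgroup Ω) : Prop :=
  ∀ (R : Subgroup Ω) (f : Ω → Ω), X ≤ R → R ≤ centralizerIn S X → Fn F R f → (∀ x ∈ X, f x = x) → Fn E R f

theorem fn_kBot {X : Subgroup Ω} (hXS : X ≤ S) {R : Subgroup Ω} {f : Ω → Ω} (hXR : X ≤ R) :
    Fn (kSystem F X hXS (⊥ : Subgroup (MulAut X))) R f ↔
      R ≤ kN S X (⊥ : Subgroup (MulAut X)) ∧ Fn F R f ∧ ∀ x ∈ X, f x = x := by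
  constructor
  · intro h
    obtain ⟨hR, -, g, hg, hge, hgi⟩ := fn_kSystem.1 h
    exact ⟨hR, (hg.mono le_sup_left).congr hge, fun x hx => (hge x (hXR hx)).symm.trans (ind_bot_iff.1 hgi x hx)⟩
  · rintro ⟨hR, hf, hX⟩
    refine fn_kSystem.2 ⟨hR, fun r hr => map_mem_kN hf hXR (ind_bot_iff.2 hX) hr (hR hr), f, ?_,
      fun _ _ => rfl, ind_bot_iff.2 hX⟩
    rwa [sup_eq_left.2 hXR]

/-- The exponent bound for small elements. -/
def smallExp (p : ℕ) : ℕ := if p = 2 then 4 else p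

theorem smallElt_iff {x : Ω} : SmallElt p x ↔ x ^ smallExp p = 1 := by
  unfold SmallElt smallExp
  by_cases h : p = 2
  · subst h
    rw [if_pos rfl]
    refine ⟨fun h1 => h1.elim (fun e => ?_) (fun e => e.2), fun e => Or.inr ⟨rfl, e⟩⟩
    rw [show (4 : ℕ) = 2 * 2 from rfl, pow_mul, e, one_pow]
  · rw [if_neg h]
    exact ⟨fun h1 => h1.resolve_right fun e => h e.1, Or.inl⟩

variable {H₀ : Subgroup Ω}

/-- Small exponent abelian subgroups inside a strongly closed subgroup containing the hyperfocal one. -/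
theorem ctrl_of_agree (hS : IsPGroup p S) (hE : E.IsSaturated p) (hF : F.IsSaturated p) (hEF : E ≤ F)
    (hH₀ : F.StronglyClosed H₀) (hhyp : F.hyperfocalSubgroup p ≤ H₀)
    (hagree : ∀ (U : Subgroup Ω) (f : Ω → Ω), U ≤ H₀ → (∀ a ∈ U, ∀ b ∈ U, a * b = b * a) →
      (∀ a ∈ U, a ^ smallExp p = 1) → Fn F U f → Fn E U f)
    (X : Subgroup Ω) (hXS : X ≤ S) : X ≤ H₀ → (∀ a ∈ X, ∀ b ∈ X, a * b = b * a) →
      (∀ a ∈ X, a ^ smallExp p = 1) → E.IsFullyCentralized X → Ctrl E F X := by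
  refine induction_down (C := fun X => X ≤ H₀ → (∀ a ∈ X, ∀ b ∈ X, a * b = b * a) →
      (∀ a ∈ X, a ^ smallExp p = 1) → E.IsFullyCentralized X → Ctrl E F X) X hXS ?_
  intro X hXS ih hXH hXc hXe hXfc R f hXR hRC hf hfX
  have hXfcF : F.IsFullyCentralized X := ⟨hXS, fun Y hY => by
    obtain ⟨g, hg, rfl⟩ := isConj_iff.1 hY
    exact hXfc.2 _ (isConj_of_fn (hagree X g hXH hXc hXe hg))⟩
  haveI : Finite (kN S X (⊥ : Subgroup (MulAut X))) := finite_of_le_base kN_le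
  have hS' : IsPGroup p (kN S X (⊥ : Subgroup (MulAut X))) := hS.to_le kN_le
  have hFX := kSystem_isSaturated hS hF hXS (kGood_bot hS hF hXfcF)
  have hEX := kSystem_isSaturated hS hE hXS (kGood_bot hS hE hXfc)
  have hXS' : X ≤ kN S X (⊥ : Subgroup (MulAut X)) := by
    rw [kN_bot]
    exact fun x hx => mem_centralizerIn.2 ⟨hXS hx, fun a ha => hXc a ha x hx⟩
  suffices hle : kSystem F X hXS (⊥ : Subgroup (MulAut X)) ≤ kSystem E X hXS ⊥ by
    exact (fn_kSystem.1 (Fn.of_le hle ((fn_kBot hXS hXR).2 ⟨kN_bot (S := S) (Q := X) ▸ hRC, hf, hfX⟩))).fn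
  refine le_of_all_automizers hS' hFX fun U hU hbig α hα => ?_
  set FX := kSystem F X hXS (⊥ : Subgroup (MulAut X)) with hFXdef
  set EX := kSystem E X hXS (⊥ : Subgroup (MulAut X)) with hEXdef
  have hUS' := hU.1
  have hUS : U ≤ S := hUS'.trans kN_le
  haveI := finite_of_le_base hUS
  by_cases hXU : X ≤ U
  swap
  · obtain ⟨-, -, g, hg, hge, hgi⟩ := fn_kSystem.1 ((mem_autGroup_iff_fn hUS').1 hα)
    have hsup : U ⊔ X ≤ kN S X (⊥ : Subgroup (MulAut X)) := sup_le hUS' hXS'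
    have hgN : Fn FX (U ⊔ X) g := (fn_kBot hXS le_sup_right).2 ⟨hsup, hg, fun x hx => ind_bot_iff.1 hgi x hx⟩
    have hlt : U < U ⊔ X := lt_of_le_of_ne le_sup_left fun e => hXU (le_sup_right.trans e.ge)
    exact (mem_autGroup_iff_fn hUS').2
      (((hbig _ g (card_lt_of_lt (hsup.trans kN_le) hlt) hgN).mono le_sup_left).congr hge)
  -- reduce to automorphisms of order prime to `p`
  obtain ⟨β, hβ, γ, hγ, rfl⟩ := exists_residual_decomp hS' hFX (fullyNormalized_good hS' hFX hU).1 hα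
  refine (EX.autGroup U).mul_mem ?_ (autInducedBy_le_autGroup hUS' hγ)
  clear hα hγ γ
  suffices key : ∀ a : FX.autGroup U, Nat.Coprime (orderOf a) p → (a : MulAut U) ∈ EX.autGroup U by
    exact ((Subgroup.closure_le _).2 key :
      pResidual p (FX.autGroup U) ≤ (EX.autGroup U).comap (FX.autGroup U).subtype) hβ
  intro a ha
  obtain ⟨-, haF, haX⟩ := (fn_kBot hXS hXU).1 ((mem_autGroup_iff_fn hUS').1 a.2)
  have haA : (a : MulAut U) ∈ F.autGroup U := (mem_autGroup_iff_fn hUS).2 haF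
  obtain ⟨D, hD, hDs, hDi, hDd⟩ := exists_detector_in hS hH₀ hhyp hUS
  by_cases hDX : D ≤ X
  · rw [hDd _ haA (by rwa [Subgroup.orderOf_coe]) fun x hx => haX x (hDX hx)]
    exact Subgroup.one_mem _
  -- an element of the detector, central modulo `X`
  obtain ⟨x, hxD, hxX, hxc⟩ : ∃ x ∈ D, x ∉ X ∧ ∀ t ∈ U, x⁻¹ * (t * x * t⁻¹) ∈ X := by
    by_contra hall
    push Not at hall
    refine hDX fun x hx => ?_
    obtain ⟨n, hn⟩ := (Subgroup.isNilpotent_iff_lowerCentralSeries U).1 (hS.to_le hUS).isNilpotent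
    suffices h : ∀ j, ∀ x ∈ D, x ∈ U.lowerCentralSeries (n - j) → x ∈ X from
      h n x hx (by simpa using (hD hx).1)
    intro j
    induction j with
    | zero =>
      intro x _ hxL
      rw [Nat.sub_zero, hn, Subgroup.mem_bot] at hxL
      exact hxL ▸ X.one_mem
    | succ j ih =>
      intro x hx hxL
      by_contra hxX
      obtain ⟨t, ht, htX⟩ := hall x hx hxX
      have hconj := hDi _ (autInducedBy_le_autGroup hUS (conjAut_mem_autInducedBy
        (Subgroup.le_normalizer ht : t ∈ Subgroup.normalizer (U : Set Ω)) (hUS ht))) x hx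
      rw [show autFn (conjAut U _) x = t * x * t⁻¹ from autFn_coe _ ⟨x, (hD hx).1⟩] at hconj
      have h1 : x⁻¹ * (t * x * t⁻¹) ∈ U.lowerCentralSeries (n - (j + 1) + 1) := by
        rw [Subgroup.lowerCentralSeries_succ]
        have := Subgroup.commutator_mem_commutator ((U.lowerCentralSeries _).inv_mem hxL) ht
        simpa [commutatorElement_def, mul_assoc] using this
      exact htX (ih _ (D.mul_mem (D.inv_mem hx) hconj)
        (U.lowerCentralSeries_antitone (show n - j ≤ n - (j + 1) + 1 by omega) h1))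
  have hxU : x ∈ U := (hD hxD).1
  have hUC : ∀ u ∈ U, ∀ y ∈ X, y * u = u * y := fun u hu =>
    (mem_centralizerIn.1 (kN_bot (S := S) (Q := X) ▸ hUS' hu)).2
  have hxy : ∀ y ∈ X, Commute x y := fun y hy => (hUC x hxU y hy).symm
  let B : Subgroup Ω :=
    { carrier := {b | ∃ y ∈ X, ∃ i : ℤ, b = y * x ^ i}
      one_mem' := ⟨1, X.one_mem, 0, by simp⟩
      mul_mem' := by
        rintro _ _ ⟨y, hy, i, rfl⟩ ⟨y', hy', i', rfl⟩
        refine ⟨y * y', X.mul_mem hy hy', i + i', ?_⟩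
        rw [zpow_add, mul_assoc, ← mul_assoc (x ^ i), ((hxy y' hy').zpow_left i).eq, mul_assoc, ← mul_assoc]
      inv_mem' := by
        rintro _ ⟨y, hy, i, rfl⟩
        refine ⟨y⁻¹, X.inv_mem hy, -i, ?_⟩
        rw [mul_inv_rev, ← zpow_neg, (((hxy y hy).inv_right).zpow_left (-i)).eq] }
  have hxB : x ∈ B := ⟨1, X.one_mem, 1, by simp⟩
  have hXB : X ≤ B := fun y hy => ⟨y, hy, 0, by simp⟩
  have hBU : B ≤ U := by
    rintro _ ⟨y, hy, i, rfl⟩
    exact U.mul_mem (hXU hy) (U.zpow_mem hxU i)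
  have hBH : B ≤ H₀ := by
    rintro _ ⟨y, hy, i, rfl⟩
    exact H₀.mul_mem (hXH hy) (H₀.zpow_mem (hD hxD).2 i)
  have hBc : ∀ b ∈ B, ∀ c ∈ B, b * c = c * b := by
    rintro _ ⟨y, hy, i, rfl⟩ _ ⟨y', hy', i', rfl⟩
    exact (((show Commute y y' from hXc y hy y' hy').mul_right ((hxy y hy).symm.zpow_right i')).mul_left
      (((hxy y' hy').zpow_left i).mul_right (Commute.zpow_zpow_self x i i'))).eq
  have hBe : ∀ b ∈ B, b ^ smallExp p = 1 := by
    rintro _ ⟨y, hy, i, rfl⟩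
    rw [((hxy y hy).symm.zpow_right i).mul_pow, hXe y hy, one_mul, ← zpow_natCast, ← zpow_mul, mul_comm,
      zpow_mul, zpow_natCast, smallElt_iff.1 (hDs x hxD), one_zpow]
  have hBn : ∀ t ∈ U, ∀ b ∈ B, t * b * t⁻¹ ∈ B := by
    rintro t ht _ ⟨y, hy, i, rfl⟩
    rw [show t * (y * x ^ i) * t⁻¹ = t * y * t⁻¹ * (t * x ^ i * t⁻¹) by group, ← hUC t ht y hy,
      mul_inv_cancel_right, ← conj_zpow]
    refine B.mul_mem (hXB hy) (B.zpow_mem ?_ i)
    rw [← mul_inv_cancel_left x (t * x * t⁻¹)]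
    exact B.mul_mem hxB (hXB (hxc t ht))
  have hXltB : X < B := lt_of_le_of_ne hXB fun e => hxX (e ▸ hxB)
  -- `B` and its image, moved to a fully normalized conjugate
  set k := autFn (a : MulAut U) with hk
  have hkX : Fn FX U k := (mem_autGroup_iff_fn hUS').1 a.2
  have hkB := hkX.mono hBU
  have hagreeX : ∀ (W : Subgroup Ω) (g : Ω → Ω), X ≤ W → W ≤ H₀ → (∀ a ∈ W, ∀ b ∈ W, a * b = b * a) →
      (∀ a ∈ W, a ^ smallExp p = 1) → Fn FX W g → Fn EX W g := by
    intro W g hXW hWH hWc hWe hg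
    obtain ⟨h1, h2, h3⟩ := (fn_kBot hXS hXW).1 hg
    exact (fn_kBot hXS hXW).2 ⟨h1, hagree W g hWH hWc hWe h2, h3⟩
  obtain ⟨Bs, hBBs, hBs⟩ := exists_fullyNormalized (F := EX) (hBU.trans hUS')
  have hBsA := (fullyNormalized_good hS' hEX hBs).1
  have hBsr := fullyNormalized_receptive hS' hEX hBs
  obtain ⟨g₁, hg₁, hg₁n, hg₁i⟩ := exists_normalizer_map hS' hBsA hBsr hBBs
  have hkBE : Fn EX B k := hagreeX B k hXB hBH hBc hBe hkB
  obtain ⟨g₂, hg₂, hg₂n, hg₂i⟩ :=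
    exists_normalizer_map hS' hBsA hBsr (isConj_trans (isConj_symm (isConj_of_fn hkBE)) hBBs)
  -- properties of the fully normalized conjugate
  have hBN : B ≤ normalizerIn (kN S X (⊥ : Subgroup (MulAut X))) B := le_normalizerIn (hBU.trans hUS')
  have hg₁B := hg₁.mono hBN
  obtain ⟨-, hg₁E, hg₁X⟩ := (fn_kBot hXS hXB).1 hg₁B
  have hg₁F : Fn F B g₁ := Fn.of_le hEF hg₁E
  have hXBs : X ≤ Bs := fun y hy => hg₁i.le (hg₁X y hy ▸ mem_img_of_mem (hXB hy))
  have hBsmem : ∀ y ∈ Bs, ∃ b ∈ B, g₁ b = y := fun y hy => hg₁B.mem_img.1 (hg₁i.ge hy)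
  have hBsH : Bs ≤ H₀ := fun y hy => by
    obtain ⟨b, hb, rfl⟩ := hBsmem y hy
    exact (stronglyClosed_iff_fn.1 hH₀).2 _ _ hg₁F b hb (hBH hb)
  have hBsc : ∀ y ∈ Bs, ∀ y' ∈ Bs, y * y' = y' * y := fun y hy y' hy' => by
    obtain ⟨b, hb, rfl⟩ := hBsmem y hy
    obtain ⟨b', hb', rfl⟩ := hBsmem y' hy'
    rw [← hg₁B.map_mul hb hb', hBc b hb b' hb', hg₁B.map_mul hb' hb]
  have hBse : ∀ y ∈ Bs, y ^ smallExp p = 1 := fun y hy => by
    obtain ⟨b, hb, rfl⟩ := hBsmem y hy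
    obtain ⟨φ, -, hφ⟩ := id hg₁B
    have := map_pow φ ⟨b, hb⟩ (smallExp p)
    rw [hφ, hφ, SubgroupClass.coe_pow, hBe b hb, hg₁B.map_one] at this
    exact this.symm
  have hBsS : Bs ≤ S := hBs.1.trans kN_le
  have hBsF : FX.IsFullyNormalized Bs := ⟨hBs.1, fun W hW => by
    obtain ⟨g, hg, rfl⟩ := isConj_iff.1 hW
    exact hBs.2 _ (isConj_of_fn (hagreeX Bs g hXBs hBsH hBsc hBse hg))⟩
  have hBsfc : E.IsFullyCentralized Bs := by
    refine ⟨hBsS, fun W hW => ?_⟩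
    obtain ⟨ε, hε, rfl⟩ := isConj_iff.1 hW
    have hεX := hε.mono hXBs
    obtain ⟨ε', hε', hε'ε, hε'i⟩ := hεX.exists_inv
    obtain ⟨N, h, hh, hXN, hN, hhe⟩ := receptive_extend (fullyCentralized_receptive hS hE hXfc) hε' hε'i
    have hWN : ∀ c ∈ centralizerIn S (img ε Bs), c ∈ N := fun c hc =>
      (hN c).2 (inExt_of_commute (mem_centralizerIn.2 ⟨hc.1, fun y hy => (mem_centralizerIn.1 hc).2 y (img_mono hXBs hy)⟩))
    have hεN : ∀ y ∈ Bs, ε y ∈ N := fun y hy => by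
      refine hWN _ (mem_centralizerIn.2 ⟨hε.mem hy, fun z hz => ?_⟩)
      obtain ⟨y', hy', rfl⟩ := hε.mem_img.1 hz
      rw [← hε.map_mul hy' hy, hBsc y' hy' y hy, hε.map_mul hy hy']
    have hcomp : Fn E Bs (h ∘ ε) := hε.comp hh hεN
    have hfix : ∀ y ∈ X, (h ∘ ε) y = y := fun y hy => by
      show h (ε y) = y
      rw [hhe _ (mem_img_of_mem hy), hε'ε y hy]
    have hcompX : Fn EX Bs (h ∘ ε) := (fn_kBot hXS hXBs).2 ⟨hBs.1, hcomp, hfix⟩
    have hle := (fullyNormalized_good hS' hEX hBs).2.2 _ (isConj_of_fn hcompX)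
    have hmap : ∀ n ∈ centralizerIn S (img ε Bs), h n ∈ centralizerIn (kN S X (⊥ : Subgroup (MulAut X))) (img (h ∘ ε) Bs) := by
      intro n hn
      have hc : ∀ z ∈ img (h ∘ ε) Bs, z * h n = h n * z := by
        intro z hz
        obtain ⟨y, hy, rfl⟩ := hcomp.mem_img.1 hz
        rw [Function.comp_apply, ← hh.map_mul (hεN y hy) (hWN n hn), ← hh.map_mul (hWN n hn) (hεN y hy),
          (mem_centralizerIn.1 hn).2 _ (mem_img_of_mem hy)]
      refine mem_centralizerIn.2 ⟨?_, hc⟩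
      rw [kN_bot]
      exact mem_centralizerIn.2 ⟨hh.mem (hWN n hn), fun y hy =>
        hc y (hfix y hy ▸ mem_img_of_mem (hXBs hy))⟩
    haveI : Finite (centralizerIn S Bs) := finite_of_le_base centralizerIn_le
    refine ((card_le_of_map_le (inf_le_left.trans kN_le) (hh.mono hWN) hmap).trans hle).trans
      (Subgroup.card_le_of_le fun c hc => ⟨kN_le hc.1, hc.2⟩)
  have hXlt : Nat.card X < Nat.card Bs := by
    rw [isConj_card hBBs]
    exact card_lt_of_lt (hBU.trans hUS) hXltB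
  have hCtrl : Ctrl E F Bs := ih Bs hBsS hXlt hBsH hBsc hBse hBsfc
  -- transport
  have hUNB : U ≤ normalizerIn (kN S X (⊥ : Subgroup (MulAut X))) B := fun t ht => by
    haveI := finite_of_le_base (hBU.trans hUS)
    exact ⟨hUS' ht, mem_normalizer_of_map_le (hBn t ht)⟩
  have hUNB' : U ≤ normalizerIn (kN S X (⊥ : Subgroup (MulAut X))) (img k B) := fun t ht => by
    haveI := finite_of_le_base (S := S) (P := img k B) (hkB.img_le_base.trans kN_le)
    refine ⟨hUS' ht, mem_normalizer_of_map_le fun y hy => ?_⟩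
    obtain ⟨b, hb, rfl⟩ := hkB.mem_img.1 hy
    obtain ⟨t', ht', rfl⟩ := hkX.mem_img.1 ((img_autFn (a : MulAut U)).ge ht)
    rw [← hkX.map_conj ht' (hBU hb)]
    exact mem_img_of_mem (hBn t' ht' b hb)
  have hg₁U := hg₁.mono hUNB
  have hg₂U := hg₂.mono hUNB'
  obtain ⟨j, hj, hjg, hji⟩ := hg₁U.exists_inv
  have hjU : ∀ y ∈ img g₁ U, j y ∈ U := fun y hy => hji.le (mem_img_of_mem hy)
  have hEXle : EX ≤ FX := fun W φ hφ => by
    obtain ⟨h1, h2, g, hg, hge, hgi⟩ := (hφ : KMap E X ⊥ W (ofHom φ))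
    exact ⟨h1, h2, g, Fn.of_le hEF hg, hge, hgi⟩
  have hδ : Fn FX (img g₁ U) (g₂ ∘ (k ∘ j)) :=
    ((Fn.of_le hEXle hj).comp hkX hjU).comp (Fn.of_le hEXle hg₂U) fun y hy => autFn_mem _ (hjU y hy)
  have hBsV : Bs ≤ img g₁ U := hg₁i.ge.trans (img_mono hBU)
  have hVN : img g₁ U ≤ normalizerIn (kN S X (⊥ : Subgroup (MulAut X))) Bs :=
    img_le fun y hy => hg₁n y (hUNB hy)
  have hδE : Fn EX (img g₁ U) (g₂ ∘ (k ∘ j)) := by
    refine normalizer_control hS' hEX hFX hEXle hBs hBsF hBsc (fun g hg => hagreeX Bs g hXBs hBsH hBsc hBse hg)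
      (fun W g hBsW hW hg hgB => ?_) hBsV hVN hδ fun y hy => ?_
    · obtain ⟨h1, h2, h3⟩ := (fn_kBot hXS (hXBs.trans hBsW)).1 hg
      exact (fn_kBot hXS (hXBs.trans hBsW)).2
        ⟨h1, hCtrl W g hBsW (fun w hw => ⟨kN_le (hW hw).1, (hW hw).2⟩) h2 hgB, h3⟩
    · obtain ⟨b, hb, rfl⟩ := hBsmem y hy
      show g₂ (k (j (g₁ b))) ∈ Bs
      rw [hjg b (hBU hb)]
      exact hg₂i.le (mem_img_of_mem (mem_img_of_mem hb))
  obtain ⟨i₂, hi₂, hi₂g, -⟩ := hg₂U.exists_inv
  refine (mem_autGroup_iff_fn hUS').2 (((hg₁U.comp hδE fun u hu => mem_img_of_mem hu).comp hi₂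
    fun u hu => mem_img_of_mem (autFn_mem _ (hjU _ (mem_img_of_mem hu)))).congr fun u hu => ?_)
  show i₂ (g₂ (k (j (g₁ u)))) = k u
  rw [hjg u hu, hi₂g _ (autFn_mem _ hu)]

/-- Small exponent abelian subgroups control fusion. -/
theorem eq_of_agree (hS : IsPGroup p S) (hE : E.IsSaturated p) (hF : F.IsSaturated p) (hEF : E ≤ F)
    (hH₀ : F.StronglyClosed H₀) (hhyp : F.hyperfocalSubgroup p ≤ H₀)
    (hagree : ∀ (U : Subgroup Ω) (f : Ω → Ω), U ≤ H₀ → (∀ a ∈ U, ∀ b ∈ U, a * b = b * a) →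
      (∀ a ∈ U, a ^ smallExp p = 1) → Fn F U f → Fn E U f) (P : Subgroup Ω) : E.Hom P = F.Hom P := by
  refine Set.Subset.antisymm (hEF P) fun φ hφ => ?_
  have hf := fn_ofHom hφ
  have hfc : E.IsFullyCentralized (⊥ : Subgroup Ω) := by
    refine ⟨bot_le, fun Q hQ => ?_⟩
    haveI : Finite (centralizerIn S (⊥ : Subgroup Ω)) := finite_of_le_base centralizerIn_le
    exact Subgroup.card_le_of_le fun c hc => mem_centralizerIn.2 ⟨hc.1, fun y hy => by
      rw [Subgroup.mem_bot] at hy; subst hy; simp⟩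
  refine mem_hom_iff.2 (ctrl_of_agree hS hE hF hEF hH₀ hhyp hagree ⊥ bot_le bot_le
    (fun a ha b hb => by rw [Subgroup.mem_bot] at ha hb; subst ha hb; rfl)
    (fun a ha => by rw [Subgroup.mem_bot] at ha; subst ha; exact one_pow _) hfc P _ bot_le
    (fun c hc => mem_centralizerIn.2 ⟨hf.le hc, fun y hy => by rw [Subgroup.mem_bot] at hy; subst hy; simp⟩) hf
    fun y hy => by rw [Subgroup.mem_bot] at hy; subst hy; exact hf.map_one)

end CfsgLib.Fsys.SmallAbelian
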