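import Cfsg.Agent.Lib.FusionSystem.SmallEssential
import Cfsg.Agent.Lib.FusionSystem.Inner
import Mathlib.GroupTheory.SchurZassenhaus
import Mathlib.FieldTheory.Finite.Basic

/-! Supersoluble fusion systems: chains of strongly closed subgroups with cyclic steps. -/

set_option autoImplicit false
set_option linter.unusedSectionVars false
set_option linter.style.haveILetI false

open Cfsg Cfsg.FusionSystem

namespace CfsgLib.Fsys.Supersoluble

variable {Ω : Type*} [Group Ω] {S : Subgroup Ω} [Finite S] {F : FusionSystem S} {p : ℕ} [hp : Fact p.Prime]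

/-- A chain of strongly closed subgroups with cyclic steps. -/
def Ss (F : FusionSystem S) : Prop :=
  ∃ (m : ℕ) (c : Fin (m + 1) → Subgroup Ω), c 0 = ⊥ ∧ c (Fin.last m) = S ∧
    (∀ i : Fin (m + 1), F.StronglyClosed (c i)) ∧
    ∀ i : Fin m, c i.castSucc ≤ c i.succ ∧ ∃ x ∈ S, c i.succ = c i.castSucc ⊔ Subgroup.zpowers x

omit [Finite S] in
theorem invariant_of_sc {K : Subgroup Ω} (h : F.StronglyClosed K) {α : MulAut S} (hα : α ∈ F.autGroup S)
    {x : S} (hx : (x : Ω) ∈ K) : ((α x : S) : Ω) ∈ K := by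
  rw [← autFn_coe]
  exact (stronglyClosed_iff_fn.1 h).2 _ _ ((mem_autGroup_iff_fn le_rfl).1 hα) x x.2 hx

omit [Finite S] in
theorem sc_map_of_invariant (hn : F.IsNormal S) {K : Subgroup S}
    (h : ∀ α ∈ F.autGroup S, ∀ x ∈ K, α x ∈ K) : F.StronglyClosed (K.map S.subtype) := by
  refine stronglyClosed_iff_fn.2 ⟨Subgroup.map_subtype_le K, fun P f hf x hx hxK => ?_⟩
  obtain ⟨g, hg, he, hi⟩ := (normal_iff_fn.1 hn).2 P f hf
  rw [sup_eq_right.2 hf.le] at hg
  obtain ⟨α, hα, hαg⟩ := exists_aut_of_fn hg hi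
  obtain ⟨y, hy, rfl⟩ := Subgroup.mem_map.1 hxK
  exact Subgroup.mem_map.2 ⟨α y, h α hα y hy, (hαg y).trans (he _ hx)⟩

omit [Finite S] in
theorem normal_of_sc {K : Subgroup S} (h : F.StronglyClosed (K.map S.subtype)) : K.Normal :=
  ⟨fun x hx g => by
    obtain ⟨y, hy, e⟩ := Subgroup.mem_map.1 (sc_conj h g.2 (Subgroup.mem_map_of_mem S.subtype hx))
    rwa [show g * x * g⁻¹ = y from Subtype.ext e.symm]⟩

theorem exists_chain {G : Type*} [Group G] [Finite G] {P : Subgroup G → Prop} (hbot : P ⊥)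
    (step : ∀ K, P K → K ≠ ⊤ → ∃ x, x ∉ K ∧ P (K ⊔ Subgroup.zpowers x)) :
    ∃ (m : ℕ) (c : Fin (m + 1) → Subgroup G), c 0 = ⊥ ∧ c (Fin.last m) = ⊤ ∧ (∀ i, P (c i)) ∧
      ∀ i : Fin m, c i.castSucc ≤ c i.succ ∧ ∃ x, c i.succ = c i.castSucc ⊔ Subgroup.zpowers x := by
  suffices h : ∀ d K, P K → K.index ≤ d → ∃ (m : ℕ) (c : Fin (m + 1) → Subgroup G), c 0 = K ∧
      c (Fin.last m) = ⊤ ∧ (∀ i, P (c i)) ∧
      ∀ i : Fin m, c i.castSucc ≤ c i.succ ∧ ∃ x, c i.succ = c i.castSucc ⊔ Subgroup.zpowers x from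
    h _ ⊥ hbot le_rfl
  intro d
  induction d with
  | zero => intro K _ hK; exact absurd (Nat.le_zero.1 hK) Subgroup.index_ne_zero_of_finite
  | succ d ih =>
    intro K hK hd
    by_cases htop : K = ⊤
    · exact ⟨0, fun _ => K, rfl, htop, fun _ => hK, fun i => i.elim0⟩
    obtain ⟨x, hx, hP⟩ := step K hK htop
    have hlt : (K ⊔ Subgroup.zpowers x).index < K.index := Subgroup.index_strictAnti
      (lt_of_le_of_ne le_sup_left fun e => hx (e ▸ Subgroup.mem_sup_right (Subgroup.mem_zpowers x)))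
    obtain ⟨m, c, h0, hl, hc, hs⟩ := ih _ hP (by omega)
    refine ⟨m + 1, Fin.cons K c, rfl, by rw [← Fin.succ_last, Fin.cons_succ, hl],
      Fin.cases hK hc, Fin.cases ?_ fun i => ?_⟩
    · rw [Fin.castSucc_zero, Fin.cons_zero, Fin.cons_succ, h0]
      exact ⟨le_sup_left, x, rfl⟩
    · rw [← Fin.succ_castSucc, Fin.cons_succ, Fin.cons_succ]
      exact hs i

/-- Invariant steps give supersolubility of a system with `S` normal. -/
theorem ss_of_step (hn : F.IsNormal S)
    (step : ∀ K : Subgroup S, (∀ α ∈ F.autGroup S, ∀ x ∈ K, α x ∈ K) → K ≠ ⊤ →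
      ∃ x, x ∉ K ∧ ∀ α ∈ F.autGroup S, ∀ y ∈ K ⊔ Subgroup.zpowers x, α y ∈ K ⊔ Subgroup.zpowers x) :
    Ss F := by
  obtain ⟨m, c, h0, hl, hc, hs⟩ := exists_chain (P := fun K : Subgroup S => ∀ α ∈ F.autGroup S, ∀ x ∈ K, α x ∈ K)
    (fun α _ x hx => by rw [Subgroup.mem_bot] at hx ⊢; rw [hx, map_one]) step
  refine ⟨m, fun i => (c i).map S.subtype, by simp only [h0, Subgroup.map_bot], ?_,
    fun i => sc_map_of_invariant hn (hc i), fun i => ⟨Subgroup.map_mono (hs i).1, ?_⟩⟩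
  · simp only [hl, ← MonoidHom.range_eq_map, Subgroup.range_subtype]
  · obtain ⟨x, hx⟩ := (hs i).2
    exact ⟨(x : Ω), x.2, by simp only [hx, Subgroup.map_sup, MonoidHom.map_zpowers, Subgroup.coe_subtype]⟩

/-- A series of strongly closed subgroups with central steps of order at most `p`. -/
def Fine (p : ℕ) (F : FusionSystem S) (K : Subgroup S) : Prop :=
  ∃ (n : ℕ) (C : ℕ → Subgroup S), C 0 = ⊥ ∧ C n = K ∧ (∀ i ≤ n, F.StronglyClosed ((C i).map S.subtype)) ∧
    ∀ i < n, C i ≤ C (i + 1) ∧ (C i).relIndex (C (i + 1)) ≤ p ∧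
      ∀ s x : S, x ∈ C (i + 1) → x⁻¹ * (s * x * s⁻¹) ∈ C i

theorem fine_bot : Fine p F (⊥ : Subgroup S) :=
  ⟨0, fun _ => ⊥, rfl, rfl, fun _ _ => by rw [Subgroup.map_bot]; exact sc_bot, fun i hi => absurd hi (by omega)⟩

theorem fine_extend {K K' : Subgroup S} (h : Fine p F K) (hK' : F.StronglyClosed (K'.map S.subtype))
    (hle : K ≤ K') (hidx : K.relIndex K' ≤ p) (hc : ∀ s x : S, x ∈ K' → x⁻¹ * (s * x * s⁻¹) ∈ K) :
    Fine p F K' := by
  obtain ⟨n, C, h0, hn, hsc, hs⟩ := h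
  refine ⟨n + 1, fun i => if i ≤ n then C i else K', by simp only [Nat.zero_le, if_true, h0], by simp,
    fun i hi => ?_, fun i hi => ?_⟩
  · by_cases h : i ≤ n
    · simp only [if_pos h]; exact hsc i h
    · simp only [if_neg h]; exact hK'
  · by_cases h : i + 1 ≤ n
    · simp only [if_pos h, if_pos (show i ≤ n by omega)]; exact hs i (by omega)
    · obtain rfl : i = n := by omega
      simp only [le_refl, if_true, if_neg h, hn]
      exact ⟨hle, hidx, hc⟩

theorem fine_cyclic (hS : IsPGroup p S) {c c' : Subgroup S} (h : Fine p F c)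
    (hc' : F.StronglyClosed (c'.map S.subtype)) {x : S} (hx : c' = c ⊔ Subgroup.zpowers x) : Fine p F c' := by
  have hscc : F.StronglyClosed (c.map S.subtype) := by
    obtain ⟨n, C, -, hn, hsc, -⟩ := h
    exact hn ▸ hsc n le_rfl
  haveI := normal_of_sc hscc
  let π := QuotientGroup.mk' c
  obtain ⟨k, hk⟩ : ∃ k, orderOf (π x) = p ^ k := by
    obtain ⟨m, hm⟩ := hS x
    obtain ⟨k, -, hk⟩ := (Nat.dvd_prime_pow hp.out).1
      (orderOf_dvd_of_pow_eq_one (show π x ^ p ^ m = 1 by rw [← map_pow, hm, map_one]))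
    exact ⟨k, hk⟩
  set R : ℕ → Subgroup S := fun j => c ⊔ Subgroup.zpowers (x ^ p ^ j) with hR
  have hRle : ∀ j, R j ≤ c' := fun j => hx ▸ sup_le_sup_left
    (Subgroup.zpowers_le.2 (Subgroup.pow_mem _ (Subgroup.mem_zpowers x) _)) c
  have hsc : ∀ j ≤ k, F.StronglyClosed ((R j).map S.subtype) := by
    intro j hj
    refine stronglyClosed_iff_fn.2 ⟨Subgroup.map_subtype_le _, fun P f hf y hy hyR => ?_⟩
    obtain ⟨y, hy', rfl⟩ := Subgroup.mem_map.1 hyR
    obtain ⟨z, hz, hze⟩ := Subgroup.mem_map.1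
      ((stronglyClosed_iff_fn.1 hc').2 P f hf _ hy (Subgroup.mem_map_of_mem _ (hRle j hy')))
    refine Subgroup.mem_map.2 ⟨z, ?_, hze⟩
    obtain ⟨u, hu, w, hw, rfl⟩ := Subgroup.mem_sup_of_normal_left.1 (hx ▸ hz)
    obtain ⟨t, rfl⟩ := Subgroup.mem_zpowers_iff.1 hw
    obtain ⟨u', hu', w', hw', rfl⟩ := Subgroup.mem_sup_of_normal_left.1 hy'
    obtain ⟨r, rfl⟩ := Subgroup.mem_zpowers_iff.1 hw'
    have hpow : (u' * (x ^ p ^ j) ^ r) ^ p ^ (k - j) ∈ c := by
      refine (QuotientGroup.eq_one_iff (N := c) _).1 (show π _ = 1 from ?_)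
      rw [map_pow, map_mul, show π u' = 1 from (QuotientGroup.eq_one_iff u').2 hu', one_mul, map_zpow, map_pow,
        ← zpow_natCast, ← zpow_mul, mul_comm r, zpow_mul, zpow_natCast, ← pow_mul, ← pow_add,
        show j + (k - j) = k by omega, ← hk, pow_orderOf_eq_one, one_zpow]
    have hfy : (u * x ^ t) ^ p ^ (k - j) ∈ c := by
      have h1 := (stronglyClosed_iff_fn.1 hscc).2 P f hf _ (P.pow_mem hy (p ^ (k - j)))
        (Subgroup.mem_map.2 ⟨_, hpow, rfl⟩)
      rw [show f ((S.subtype (u' * (x ^ p ^ j) ^ r)) ^ p ^ (k - j)) =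
        f (S.subtype (u' * (x ^ p ^ j) ^ r)) ^ p ^ (k - j) from by
          induction p ^ (k - j) with
          | zero => simpa using hf.map_one
          | succ m ih => rw [pow_succ, pow_succ, hf.map_mul (P.pow_mem hy m) hy, ih], ← hze] at h1
      obtain ⟨v, hv, hve⟩ := Subgroup.mem_map.1 h1
      rw [← map_pow] at hve
      rwa [← Subgroup.subtype_injective S hve]
    have ht : ((p ^ j : ℕ) : ℤ) ∣ t := by
      have h2 : π x ^ (t * ((p ^ (k - j) : ℕ) : ℤ)) = 1 := by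
        have h3 : π ((u * x ^ t) ^ p ^ (k - j)) = 1 := (QuotientGroup.eq_one_iff _).2 hfy
        rwa [map_pow, map_mul, show π u = 1 from (QuotientGroup.eq_one_iff u).2 hu, one_mul, map_zpow,
          ← zpow_natCast, ← zpow_mul] at h3
      rw [← orderOf_dvd_iff_zpow_eq_one, hk, ← show p ^ j * p ^ (k - j) = p ^ k by
        rw [← pow_add]; congr 1; omega, Nat.cast_mul] at h2
      exact (Int.mul_dvd_mul_iff_right (by exact_mod_cast (pow_pos hp.out.pos _).ne')).1 h2
    obtain ⟨q, rfl⟩ := ht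
    exact Subgroup.mul_mem _ (Subgroup.mem_sup_left hu)
      (Subgroup.mem_sup_right (by rw [zpow_mul, zpow_natCast]; exact Subgroup.zpow_mem _ (Subgroup.mem_zpowers _) q))
  have hlast : R k = c := sup_eq_left.2 (Subgroup.zpowers_le.2 ((QuotientGroup.eq_one_iff (N := c) _).1
    (show π (x ^ p ^ k) = 1 by rw [map_pow, ← hk, pow_orderOf_eq_one])))
  have hstep : ∀ j, j < k → Fine p F (R (j + 1)) → Fine p F (R j) := by
    intro j hj hf
    haveI := normal_of_sc (hsc (j + 1) (by omega))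
    have hle : R (j + 1) ≤ R j := sup_le_sup_left (Subgroup.zpowers_le.2 (by
      rw [pow_succ, pow_mul]; exact Subgroup.pow_mem _ (Subgroup.mem_zpowers _) _)) c
    have he : R j = R (j + 1) ⊔ Subgroup.zpowers (x ^ p ^ j) := le_antisymm
      (sup_le_sup_right le_sup_left _) (sup_le hle le_sup_right)
    have hidx : (R (j + 1)).relIndex (R j) ≤ p := by
      rw [he, Subgroup.relIndex_sup_left, ← QuotientGroup.ker_mk' (R (j + 1)), Subgroup.relIndex_ker,
        MonoidHom.map_zpowers, Nat.card_zpowers]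
      refine Nat.le_of_dvd hp.out.pos (orderOf_dvd_of_pow_eq_one ?_)
      rw [← map_pow, ← pow_mul, ← pow_succ]
      exact (QuotientGroup.eq_one_iff _).2 (Subgroup.mem_sup_right (Subgroup.mem_zpowers _))
    haveI := normal_of_sc (hsc j hj.le)
    refine fine_extend hf (hsc j hj.le) hle hidx fun s v hv => ?_
    obtain ⟨m, hm⟩ := hS s
    exact SmallEssential.shift_small hS hle hidx (α := MulAut.conj s)
      (show MulAut.conj s ^ p ^ m = 1 by rw [← map_pow, hm, map_one])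
      (fun w hw => Subgroup.Normal.conj_mem inferInstance w hw s)
      (fun w hw => Subgroup.Normal.conj_mem inferInstance w hw s) hv
  have hall : ∀ d ≤ k, Fine p F (R (k - d)) := by
    intro d
    induction d with
    | zero => intro _; rwa [Nat.sub_zero, hlast]
    | succ d ih =>
      intro hd
      exact hstep _ (by omega) (by rw [show k - (d + 1) + 1 = k - d by omega]; exact ih (by omega))
  have := hall k le_rfl
  rwa [Nat.sub_self, show R 0 = c' by simp only [hR, pow_zero, pow_one]; exact hx.symm] at this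

theorem fine_top_of_ss (hS : IsPGroup p S) (h : Ss F) : Fine p F (⊤ : Subgroup S) := by
  obtain ⟨m, c, h0, hl, hsc, hs⟩ := h
  have hmap : ∀ i, ((c i).subgroupOf S).map S.subtype = c i := fun i => Subgroup.map_subgroupOf_eq_of_le (hsc i).1
  have key : ∀ i, Fine p F ((c i).subgroupOf S) := by
    refine Fin.induction ?_ fun i ih => ?_
    · rw [h0, Subgroup.bot_subgroupOf]; exact fine_bot
    · obtain ⟨x, hx, he⟩ := (hs i).2
      refine fine_cyclic hS ih (by rw [hmap]; exact hsc _) (x := ⟨x, hx⟩)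
        (Subgroup.map_injective S.subtype_injective ?_)
      rw [Subgroup.map_sup, MonoidHom.map_zpowers, hmap, hmap]
      exact he
  simpa [hl] using key (Fin.last m)

theorem normal_of_fine (hS : IsPGroup p S) (hF : F.IsSaturated p) (h : Fine p F (⊤ : Subgroup S)) :
    F.IsNormal S := by
  obtain ⟨n, C, h0, hn, hsc, hs⟩ := h
  refine normal_of_series hS hF sc_top (fun i => (C i).map S.subtype) n (by simp [h0])
    (by simp only [hn, ← MonoidHom.range_eq_map, Subgroup.range_subtype]) hsc fun i hi => ?_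
  rw [Subgroup.commutator_le]
  intro g hg y hy
  obtain ⟨v, hv, rfl⟩ := Subgroup.mem_map.1 hy
  haveI := normal_of_sc (hsc i (by omega))
  refine Subgroup.mem_map.2 ⟨v * (v⁻¹ * (⟨g, hg⟩ * v * ⟨g, hg⟩⁻¹)) * v⁻¹,
    Subgroup.Normal.conj_mem inferInstance _ ((hs i hi).2.2 _ v hv) v, ?_⟩
  simp [commutatorElement_def, mul_assoc]

/-- On a step of order at most `p` an automorphism is a power map. -/
theorem scalar (hS : IsPGroup p S) {K L : Subgroup S} [K.Normal] (hidx : K.relIndex L ≤ p)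
    (a : MulAut S) (hK : ∀ v ∈ K, a v ∈ K) (hL : ∀ v ∈ L, a v ∈ L) :
    ∃ r : ℤ, (∀ v ∈ L, QuotientGroup.mk' K (a v) = QuotientGroup.mk' K v ^ r) ∧
      ∀ v ∈ L, QuotientGroup.mk' K v ^ (r ^ (p - 1)) = QuotientGroup.mk' K v := by
  set π := QuotientGroup.mk' K
  have hcard : Nat.card (L.map π) ≤ p := by
    rwa [← Subgroup.relIndex_ker, QuotientGroup.ker_mk']
  have hinv : ∀ u : S, a u ∈ K → u ∈ K := fun u hu => by
    obtain ⟨v, hv⟩ := Finite.surjective_of_injective (f := fun v : K => (⟨a v, hK v v.2⟩ : K))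
      (fun v w e => Subtype.ext (a.injective (congrArg Subtype.val e))) ⟨a u, hu⟩
    rw [← a.injective (congrArg Subtype.val hv)]
    exact v.2
  by_cases htriv : ∀ v ∈ L, π v = 1
  · exact ⟨1, fun v hv => by rw [zpow_one, htriv v hv, htriv (a v) (hL v hv)],
      fun v hv => by rw [htriv v hv, one_zpow]⟩
  push Not at htriv
  obtain ⟨v₀, hv₀, hne⟩ := htriv
  have hz : Subgroup.zpowers (π v₀) ≤ L.map π := Subgroup.zpowers_le.2 (Subgroup.mem_map_of_mem π hv₀)
  have hord : orderOf (π v₀) = p := by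
    obtain ⟨m, hm⟩ := hS v₀
    obtain ⟨j, -, hj⟩ := (Nat.dvd_prime_pow hp.out).1
      (orderOf_dvd_of_pow_eq_one (show π v₀ ^ p ^ m = 1 by rw [← map_pow, hm, map_one]))
    have hle : orderOf (π v₀) ≤ p := by
      rw [← Nat.card_zpowers]; exact (Subgroup.card_le_of_le hz).trans hcard
    have hj0 : j ≠ 0 := fun e => hne (orderOf_eq_one_iff.1 (by rw [hj, e, pow_zero]))
    rw [hj] at hle ⊢
    have : j ≤ 1 := (Nat.pow_le_pow_iff_right hp.out.one_lt).1 (by rwa [pow_one])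
    rw [show j = 1 by omega, pow_one]
  have hgen : L.map π = Subgroup.zpowers (π v₀) :=
    (Subgroup.eq_of_le_of_card_ge hz (by rwa [Nat.card_zpowers, hord])).symm
  obtain ⟨r, hr⟩ := Subgroup.mem_zpowers_iff.1 (hgen.le (Subgroup.mem_map_of_mem π (hL v₀ hv₀)))
  have hrp : ¬ (p : ℤ) ∣ r := by
    intro hd
    rw [orderOf_dvd_iff_zpow_eq_one.1 (hord ▸ hd)] at hr
    exact hne ((QuotientGroup.eq_one_iff v₀).2 (hinv v₀ ((QuotientGroup.eq_one_iff (a v₀)).1 hr.symm)))
  have hpv : ∀ v ∈ L, ∃ m : ℤ, π v = π v₀ ^ m := fun v hv => by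
    obtain ⟨m, hm⟩ := Subgroup.mem_zpowers_iff.1 (hgen.le (Subgroup.mem_map_of_mem π hv))
    exact ⟨m, hm.symm⟩
  refine ⟨r, fun v hv => ?_, fun v hv => ?_⟩
  · obtain ⟨m, hm⟩ := hpv v hv
    have h1 : v⁻¹ * v₀ ^ m ∈ K := QuotientGroup.eq.1 (hm.trans (map_zpow π v₀ m).symm)
    have h2 : π (a v) = π (a (v₀ ^ m)) := QuotientGroup.eq.2 (by rw [← map_inv, ← map_mul]; exact hK _ h1)
    rw [h2, map_zpow a, map_zpow π, ← hr, hm, ← zpow_mul, ← zpow_mul, mul_comm]
  · obtain ⟨m, hm⟩ := hpv v hv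
    have hmod : r ^ (p - 1) ≡ 1 [ZMOD p] := by
      rw [← ZMod.intCast_eq_intCast_iff, Int.cast_pow, Int.cast_one]
      exact ZMod.pow_card_sub_one_eq_one (by rwa [Ne, ZMod.intCast_zmod_eq_zero_iff_dvd])
    rw [hm, ← zpow_mul, zpow_eq_zpow_iff_modEq, hord]
    simpa using hmod.mul_left m

theorem eq_one_of_series (hS : IsPGroup p S) {n : ℕ} {C : ℕ → Subgroup S} (h0 : C 0 = ⊥) (hn : C n = ⊤)
    {a : MulAut S} (ha : (orderOf a).Coprime p) (h : ∀ i < n, ∀ x ∈ C (i + 1), x⁻¹ * a x ∈ C i) : a = 1 := by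
  have hfix : ∀ i ≤ n, ∀ x ∈ C i, a x = x := by
    intro i
    induction i with
    | zero => intro _ x hx; rw [h0, Subgroup.mem_bot] at hx; rw [hx, map_one]
    | succ i ih => intro hi x hx; exact fixed_of_fixed_shift hS ha (ih (by omega) _ (h i (by omega) x hx))
  exact MulEquiv.ext fun x => hfix n le_rfl x (hn ▸ Subgroup.mem_top x)

/-- The `p'`-groups of automorphisms preserving a fine series. -/
theorem aut_of_fine (hS : IsPGroup p S) (h : Fine p F (⊤ : Subgroup S)) (H : Subgroup (MulAut S))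
    (hH : H ≤ F.autGroup S) (hcop : (Nat.card H).Coprime p) :
    IsMulCommutative H ∧ ∀ a ∈ H, a ^ (p - 1) = 1 := by
  obtain ⟨n, C, h0, hn, hsc, hs⟩ := h
  have hcop' : ∀ a ∈ H, (orderOf a).Coprime p := fun a ha =>
    Nat.Coprime.coprime_dvd_left (Subgroup.orderOf_dvd_natCard H ha) hcop
  have hinv : ∀ i ≤ n, ∀ a ∈ H, ∀ v ∈ C i, a v ∈ C i := fun i hi a ha v hv => by
    obtain ⟨w, hw, e⟩ := Subgroup.mem_map.1
      (invariant_of_sc (hsc i hi) (hH ha) (Subgroup.mem_map_of_mem S.subtype hv))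
    rwa [← Subgroup.subtype_injective S (show S.subtype w = S.subtype (a v) from e)]
  have hsca : ∀ i, i < n → ∀ [(C i).Normal], ∀ a ∈ H, ∃ r : ℤ,
      (∀ v ∈ C (i + 1), (a v : S ⧸ C i) = (v : S ⧸ C i) ^ r) ∧
        ∀ v ∈ C (i + 1), (v : S ⧸ C i) ^ (r ^ (p - 1)) = (v : S ⧸ C i) := fun i hi _ a ha =>
    scalar (hp := hp) hS (hs i hi).2.1 a (hinv i hi.le a ha) (hinv (i + 1) hi a ha)
  refine ⟨⟨⟨fun a b => Subtype.ext ?_⟩⟩, fun a ha => ?_⟩
  · rw [← mul_inv_eq_one]
    refine eq_one_of_series hS h0 hn (hcop' _ (H.mul_mem (a * b).2 (H.inv_mem (b * a).2))) fun i hi x hx => ?_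
    haveI := normal_of_sc (hsc i hi.le)
    obtain ⟨r, hr, -⟩ := hsca i hi a a.2
    obtain ⟨r', hr', -⟩ := hsca i hi b b.2
    set w := ((b * a : H) : MulAut S)⁻¹ x with hw
    have hwmem : w ∈ C (i + 1) := hinv (i + 1) hi _ (H.inv_mem (b * a).2) x hx
    have hxw : (b : MulAut S) ((a : MulAut S) w) = x := by
      rw [← MulAut.mul_apply, ← Subgroup.coe_mul]; exact MulAut.apply_inv_self _ _ _
    rw [← QuotientGroup.eq]
    show (x : S ⧸ C i) = (((a : MulAut S) ((b : MulAut S) w) : S) : S ⧸ C i)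
    rw [hr _ (hinv (i + 1) hi b b.2 w hwmem), hr' _ hwmem]
    conv_lhs => rw [← hxw, hr' _ (hinv (i + 1) hi a a.2 w hwmem), hr _ hwmem]
    rw [← zpow_mul, ← zpow_mul, mul_comm]
  · refine eq_one_of_series hS h0 hn (hcop' _ (H.pow_mem ha _)) fun i hi x hx => ?_
    haveI := normal_of_sc (hsc i hi.le)
    obtain ⟨r, hr, hr1⟩ := hsca i hi a ha
    have hiter : ∀ m : ℕ, ((((a ^ m) x : S) : S ⧸ C i) = (x : S ⧸ C i) ^ (r ^ m)) := by
      intro m
      induction m with
      | zero => simp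
      | succ m ih =>
        rw [pow_succ', MulAut.mul_apply, hr _ (hinv (i + 1) hi _ (H.pow_mem ha m) x hx), ih, ← zpow_mul,
          ← pow_succ]
    rw [← QuotientGroup.eq, hiter, hr1 x hx]

theorem ss_consequences (hS : IsPGroup p S) (hall : ∀ F : FusionSystem S, F.IsSaturated p → Ss F) :
    (∀ F : FusionSystem S, F.IsSaturated p → F.IsNormal S) ∧
      ∀ H : Subgroup (MulAut S), (Nat.card H).Coprime p → IsMulCommutative H ∧ ∀ h ∈ H, h ^ (p - 1) = 1 := by
  refine ⟨fun F hF => normal_of_fine hS hF (fine_top_of_ss hS (hall F hF)), fun H hH => ?_⟩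
  have hsat : (autSystem (Inn S ⊔ H) le_sup_left).IsSaturated p := autSystem_saturated hS (by
    intro hd
    rw [show ((Inn S).subgroupOf (Inn S ⊔ H)).index = (Inn S).relIndex (Inn S ⊔ H) from rfl, sup_comm,
      Subgroup.relIndex_sup_right] at hd
    exact hp.out.coprime_iff_not_dvd.1 hH.symm (hd.trans (Subgroup.index_dvd_card _)))
  exact aut_of_fine hS (fine_top_of_ss hS (hall _ hsat)) H
    (by rw [autGroup_autSystem]; exact le_sup_right) hH

section Eigen

variable {V : Type*} [AddCommGroup V] [Module (ZMod p) V]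

open scoped BigOperators in
theorem exists_eigen (T : V →ₗ[ZMod p] V) (hT : ∀ v, (T ^ (p - 1)) v = v) (W : Submodule (ZMod p) V)
    (hTW : ∀ v ∈ W, T v ∈ W) {v : V} (hv : v ∈ W) (hv0 : v ≠ 0) :
    ∃ w ∈ W, w ≠ 0 ∧ ∃ c : ZMod p, T w = c • w := by
  classical
  let w : (ZMod p)ˣ → V := fun c => ∑ j ∈ Finset.range (p - 1), (c : ZMod p) ^ j • (T ^ j) v
  have hpow : ∀ j : ℕ, (T ^ j) v ∈ W := by
    intro j
    induction j with
    | zero => simpa using hv
    | succ j ih => rw [pow_succ', Module.End.mul_apply]; exact hTW _ ih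
  have hwW : ∀ c, w c ∈ W := fun c => W.sum_mem fun j _ => W.smul_mem _ (hpow j)
  have heig : ∀ c : (ZMod p)ˣ, T (w c) = ((c⁻¹ : (ZMod p)ˣ) : ZMod p) • w c := by
    intro c
    let g : ℕ → V := fun j => (c : ZMod p) ^ j • (T ^ j) v
    have hshift : ∑ j ∈ Finset.range (p - 1), g (j + 1) = ∑ j ∈ Finset.range (p - 1), g j := by
      have h1 := Finset.sum_range_succ g (p - 1)
      have h2 := Finset.sum_range_succ' g (p - 1)
      have h3 : g (p - 1) = g 0 := by
        simp only [g, hT v, ZMod.pow_card_sub_one_eq_one c.ne_zero, pow_zero, Module.End.one_apply]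
      rw [h1, h3] at h2
      exact (add_right_cancel h2).symm
    show T (∑ j ∈ Finset.range (p - 1), g j) = _ • ∑ j ∈ Finset.range (p - 1), g j
    conv_rhs => rw [← hshift]
    rw [map_sum, Finset.smul_sum]
    refine Finset.sum_congr rfl fun j _ => ?_
    simp only [g, map_smul]
    rw [smul_smul, pow_succ' T, Module.End.mul_apply, pow_succ', ← mul_assoc, ← Units.val_mul,
      inv_mul_cancel, Units.val_one, one_mul]
  have hsum : ∑ c : (ZMod p)ˣ, w c = -v := by
    simp only [w]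
    rw [Finset.sum_comm]
    have h1 : ∀ j : ℕ, ∑ c : (ZMod p)ˣ, (c : ZMod p) ^ j • (T ^ j) v =
        (if p - 1 ∣ j then (-1 : ZMod p) else 0) • (T ^ j) v := fun j => by
      rw [← Finset.sum_smul]
      congr 1
      have := FiniteField.sum_pow_units (ZMod p) j
      rw [ZMod.card] at this
      simpa [Units.val_pow_eq_pow_val] using this
    simp only [h1]
    rw [Finset.sum_eq_single_of_mem 0 (Finset.mem_range.2 (by have := hp.out.two_le; omega))]
    · simp
    · intro j hj hj0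
      rw [if_neg fun hd => ?_, zero_smul]
      have := Nat.le_of_dvd (Nat.pos_of_ne_zero hj0) hd
      rw [Finset.mem_range] at hj
      omega
  obtain ⟨c, hc⟩ : ∃ c, w c ≠ 0 := by
    by_contra hh
    push Not at hh
    rw [Finset.sum_eq_zero fun c _ => hh c] at hsum
    exact hv0 (neg_eq_zero.1 hsum.symm)
  exact ⟨w c, hwW c, hc, _, heig c⟩

theorem exists_common (s : Finset (V →ₗ[ZMod p] V)) (hcomm : ∀ A ∈ s, ∀ B ∈ s, ∀ v, A (B v) = B (A v))
    (hpow : ∀ T ∈ s, ∀ v, (T ^ (p - 1)) v = v) {v : V} (hv : v ≠ 0) :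
    ∃ w ≠ 0, ∀ T ∈ s, ∃ c : ZMod p, T w = c • w := by
  classical
  induction s using Finset.induction_on with
  | empty => exact ⟨v, hv, by simp⟩
  | @insert A s hA ih =>
    obtain ⟨w, hw, hws⟩ := ih (fun a ha b hb => hcomm a (Finset.mem_insert_of_mem ha) b (Finset.mem_insert_of_mem hb))
      fun a ha => hpow a (Finset.mem_insert_of_mem ha)
    choose c hc using hws
    let W : Submodule (ZMod p) V :=
      { carrier := {u | ∀ T (hT : T ∈ s), T u = c T hT • u}
        zero_mem' := fun T hT => by simp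
        add_mem' := fun {a b} ha hb T hT => by rw [map_add, ha T hT, hb T hT, smul_add]
        smul_mem' := fun r {a} ha T hT => by rw [map_smul, ha T hT, smul_comm] }
    have hAW : ∀ u ∈ W, A u ∈ W := fun u hu T hT => by
      rw [hcomm T (Finset.mem_insert_of_mem hT) A (Finset.mem_insert_self _ _), hu T hT, map_smul]
    obtain ⟨w', hw'W, hw', c', hc'⟩ :=
      exists_eigen A (hpow A (Finset.mem_insert_self _ _)) W hAW (v := w) (fun T hT => hc T hT) hw
    refine ⟨w', hw', fun T hT => ?_⟩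
    rcases Finset.mem_insert.1 hT with rfl | hT
    · exact ⟨c', hc'⟩
    · exact ⟨_, hw'W T hT⟩

theorem exists_common_add {ι : Type*} [Finite ι] (f : ι → V →+ V) (hcomm : ∀ i j v, f i (f j v) = f j (f i v))
    (hpow : ∀ i v, (f i)^[p - 1] v = v) {v : V} (hv : v ≠ 0) : ∃ w ≠ 0, ∀ i, ∃ m : ℕ, f i w = m • w := by
  classical
  haveI : Fintype ι := Fintype.ofFinite ι
  have hiter : ∀ (i : ι) (m : ℕ) (v : V), ((AddMonoidHom.toZModLinearMap p (f i)) ^ m) v = (f i)^[m] v := by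
    intro i m
    induction m with
    | zero => intro v; rfl
    | succ m ih =>
      intro v
      rw [pow_succ', Module.End.mul_apply, ih, Function.iterate_succ_apply']
      rfl
  obtain ⟨w, hw, hwc⟩ := exists_common (p := p)
    ((Finset.univ : Finset ι).image fun i => AddMonoidHom.toZModLinearMap p (f i))
    (by
      intro x hx y hy v
      obtain ⟨i, -, rfl⟩ := Finset.mem_image.1 hx
      obtain ⟨j, -, rfl⟩ := Finset.mem_image.1 hy
      exact hcomm i j v)
    (by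
      intro x hx v
      obtain ⟨i, -, rfl⟩ := Finset.mem_image.1 hx
      rw [hiter, hpow])
    hv
  refine ⟨w, hw, fun i => ?_⟩
  obtain ⟨c, hc⟩ := hwc _ (Finset.mem_image_of_mem _ (Finset.mem_univ i))
  rw [← ZMod.natCast_zmod_val c, Nat.cast_smul_eq_nsmul] at hc
  exact ⟨c.val, hc⟩

end Eigen

/-- Commuting endomorphisms of exponent dividing `p - 1` of a group of exponent `p` have a common eigenvector. -/
theorem exists_common_hom {Z : Type*} [CommGroup Z] (hZ : ∀ z : Z, z ^ p = 1) {ι : Type*} [Finite ι]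
    (f : ι → Z →* Z) (hcomm : ∀ i j z, f i (f j z) = f j (f i z)) (hpow : ∀ i z, (f i)^[p - 1] z = z)
    {z : Z} (hz : z ≠ 1) : ∃ w ≠ 1, ∀ i, ∃ m : ℕ, f i w = w ^ m := by
  have hiter : ∀ i (m : ℕ) (v : Additive Z),
      (MonoidHom.toAdditive (f i))^[m] v = Additive.ofMul ((f i)^[m] v.toMul) := by
    intro i m
    induction m with
    | zero => intro v; rfl
    | succ m ih =>
      intro v
      rw [Function.iterate_succ_apply', ih, Function.iterate_succ_apply']
      rfl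
  obtain ⟨w, hw, hwc⟩ := @exists_common_add p hp (Additive Z) _
    (AddCommGroup.zmodModule fun v => Additive.toMul.injective (by rw [toMul_nsmul]; exact hZ v.toMul))
    ι _ (fun i => MonoidHom.toAdditive (f i)) (fun i j v => congrArg Additive.ofMul (hcomm i j v.toMul))
    (fun i v => by rw [hiter, hpow]; rfl) (Additive.ofMul z) (fun e => hz e)
  refine ⟨w.toMul, fun e => hw e, fun i => ?_⟩
  obtain ⟨m, hm⟩ := hwc i
  exact ⟨m, congrArg Additive.toMul hm⟩

/-- An abelian group of automorphisms of exponent dividing `p - 1` fixes a central step above an invariant subgroup. -/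
theorem exists_step {G : Type*} [Group G] [Finite G] (hG : IsPGroup p G) (A : Subgroup (MulAut G))
    (hA : IsMulCommutative A) (hexp : ∀ a ∈ A, a ^ (p - 1) = 1) {K : Subgroup G} [K.Normal]
    (hK : ∀ a ∈ A, ∀ x ∈ K, a x ∈ K) (hne : K ≠ ⊤) :
    ∃ x, x ∉ K ∧ (∀ a ∈ A, a x ∈ K ⊔ Subgroup.zpowers x) ∧ ∀ g : G, x⁻¹ * (g * x * g⁻¹) ∈ K := by
  classical
  haveI : Fintype A := Fintype.ofFinite A
  haveI : Nontrivial (G ⧸ K) := QuotientGroup.nontrivial_iff.2 hne
  haveI := (hG.to_quotient K).center_nontrivial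
  let Z : Subgroup (G ⧸ K) :=
    { carrier := {z | z ∈ Subgroup.center (G ⧸ K) ∧ z ^ p = 1}
      one_mem' := ⟨one_mem _, one_pow p⟩
      mul_mem' := fun {a b} ha hb => ⟨mul_mem ha.1 hb.1, by
        rw [(show Commute a b from Subgroup.mem_center_iff.1 hb.1 a).mul_pow, ha.2, hb.2, one_mul]⟩
      inv_mem' := fun {a} ha => ⟨inv_mem ha.1, by rw [inv_pow, ha.2, inv_one]⟩ }
  obtain ⟨m, hm, hmc⟩ :=
    ((hG.to_quotient K).to_subgroup (Subgroup.center (G ⧸ K))).nontrivial_iff_card.1 inferInstance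
  obtain ⟨z₀, hz₀⟩ := exists_prime_orderOf_dvd_card' (G := Subgroup.center (G ⧸ K)) p
    (hmc ▸ dvd_pow_self p hm.ne')
  have hz₀Z : (z₀ : G ⧸ K) ∈ Z := ⟨z₀.2, by rw [← SubmonoidClass.coe_pow, ← hz₀, pow_orderOf_eq_one]; rfl⟩
  have hmap : ∀ a ∈ A, K.map (a : MulAut G).toMonoidHom = K := fun a ha => le_antisymm
    (by rintro _ ⟨x, hx, rfl⟩; exact hK a ha x hx)
    fun x hx => ⟨a⁻¹ x, hK _ (A.inv_mem ha) x hx, MulAut.apply_inv_self _ a x⟩
  let q : A → MulAut (G ⧸ K) := fun a => QuotientGroup.congr K K (a : MulAut G) (hmap a a.2)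
  have hq : ∀ (a : A) (g : G), q a g = (((a : MulAut G) g : G) : G ⧸ K) := fun a g => rfl
  have hqZ : ∀ (a : A) (z : Z), q a z ∈ Z := fun a z =>
    ⟨MulEquivClass.apply_mem_center _ z.2.1, by rw [← map_pow, z.2.2, map_one]⟩
  letI : CommGroup Z := { (inferInstance : Group Z) with mul_comm := fun a b => Subtype.ext (Subgroup.mem_center_iff.1 b.2.1 a) }
  let f : A → Z →* Z := fun a =>
    MonoidHom.mk' (fun z : Z => (⟨q a z, hqZ a z⟩ : Z)) fun u v => Subtype.ext (map_mul (q a) _ _)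
  have hiter : ∀ (a : A) (m : ℕ) (z : Z) (g : G), (g : G ⧸ K) = z →
      (((f a)^[m] z : Z) : G ⧸ K) = ((((a : MulAut G) ^ m) g : G) : G ⧸ K) := by
    intro a m
    induction m with
    | zero => intro z g hg; exact hg.symm
    | succ m ih =>
      intro z g hg
      rw [Function.iterate_succ_apply']
      show q a _ = _
      rw [ih z g hg, hq, pow_succ', MulAut.mul_apply]
  obtain ⟨w, hw, hwc⟩ := exists_common_hom (p := p) (fun z : Z => Subtype.ext z.2.2) f
    (by
      intro a b z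
      obtain ⟨g, hg⟩ := QuotientGroup.mk_surjective (z : G ⧸ K)
      refine Subtype.ext ?_
      show q a (q b z) = q b (q a z)
      rw [← hg, hq, hq, hq, hq]
      exact congrArg (fun u : G => (u : G ⧸ K)) (congrArg (fun z : A => (z : MulAut G) g) (hA.1.1 a b)))
    (by
      intro a z
      obtain ⟨g, hg⟩ := QuotientGroup.mk_surjective (z : G ⧸ K)
      refine Subtype.ext ?_
      rw [hiter a _ z g hg, hexp a a.2, MulAut.one_apply, hg])
    (z := (⟨z₀, hz₀Z⟩ : Z))
    (fun e => by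
      have he : (z₀ : G ⧸ K) = 1 := congrArg (fun u : Z => (u : G ⧸ K)) e
      rw [show z₀ = 1 from Subtype.ext he, orderOf_one] at hz₀
      exact hp.out.one_lt.ne hz₀)
  obtain ⟨x, hx⟩ := QuotientGroup.mk_surjective (w : G ⧸ K)
  refine ⟨x, fun hxK => hw (Subtype.ext ?_), fun a ha => ?_, fun g => ?_⟩
  · rw [← hx, (QuotientGroup.eq_one_iff x).2 hxK]; rfl
  · obtain ⟨c, hc⟩ := hwc ⟨a, ha⟩
    have h1 : q ⟨a, ha⟩ (w : G ⧸ K) = (w : G ⧸ K) ^ c :=
      (congrArg Subtype.val hc).trans (SubmonoidClass.coe_pow w c)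
    rw [← hx, hq, ← QuotientGroup.mk_pow] at h1
    have h2 : (a x)⁻¹ * x ^ c ∈ K := QuotientGroup.eq.1 h1
    have h3 := Subgroup.mul_mem (K ⊔ Subgroup.zpowers x)
      (Subgroup.mem_sup_right (Subgroup.pow_mem _ (Subgroup.mem_zpowers x) c))
      (Subgroup.inv_mem _ (Subgroup.mem_sup_left h2))
    simpa using h3
  · have hc : (x : G ⧸ K) ∈ Subgroup.center (G ⧸ K) := hx ▸ w.2.1
    rw [← QuotientGroup.eq_one_iff, QuotientGroup.mk_mul, QuotientGroup.mk_mul, QuotientGroup.mk_mul,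
      QuotientGroup.mk_inv, QuotientGroup.mk_inv, Subgroup.mem_center_iff.1 hc (g : G ⧸ K)]
    group

theorem ss_of_resistant (hS : IsPGroup p S) (hF : F.IsSaturated p) (hn : F.IsNormal S)
    (hA : ∀ H : Subgroup (MulAut S), (Nat.card H).Coprime p → IsMulCommutative H ∧ ∀ h ∈ H, h ^ (p - 1) = 1) :
    Ss F := by
  set G := F.autGroup S with hG
  obtain ⟨-, R, hR⟩ := (fullyNormalized_good hS hF (fullyNormalized_of_weaklyClosed (weaklyClosed_of_stronglyClosed sc_top))).1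
  rw [autInducedBy_self] at hR
  set I := (Inn S).subgroupOf G with hI
  haveI : I.Normal := inn_normal_aut
  have hcop : (Nat.card I).Coprime I.index := by
    have hR' : (R : Subgroup G) = I := hR
    rw [← hR']
    exact R.card_coprime_index
  obtain ⟨H, hH⟩ := Subgroup.exists_right_complement'_of_coprime hcop
  have hHcard : (Nat.card (H.map G.subtype)).Coprime p := by
    rw [Subgroup.card_map_of_injective G.subtype_injective, ← hH.symm.index_eq_card]
    have hR' : (R : Subgroup G) = I := hR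
    rw [← hR']
    exact ((hp.out.coprime_iff_not_dvd).2 R.not_dvd_index).symm
  obtain ⟨hab, hexp⟩ := hA _ hHcard
  refine ss_of_step hn fun K hK hne => ?_
  haveI : K.Normal := ⟨fun x hx g => hK _ (inn_le_autGroup le_rfl ⟨g, rfl⟩) x hx⟩
  have hHle : H.map G.subtype ≤ G := Subgroup.map_subtype_le H
  obtain ⟨x, hx, hxA, hxc⟩ := exists_step hS (H.map G.subtype) hab hexp (fun a ha => hK a (hHle ha)) hne
  refine ⟨x, hx, fun α hα y hy => ?_⟩
  set L := K ⊔ Subgroup.zpowers x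
  have hLx : α x ∈ L := by
    obtain ⟨⟨i, h⟩, hih, -⟩ := Subgroup.isComplement'_def.1 hH |>.existsUnique (⟨α, hα⟩ : G)
    obtain ⟨g, hg⟩ := i.2
    have e : α = MulAut.conj g * ((h : G) : MulAut S) := by
      rw [hg]; exact (congrArg Subtype.val hih).symm
    obtain ⟨u, hu, v, hv, huv⟩ := Subgroup.mem_sup_of_normal_left.1 (hxA _ (Subgroup.mem_map_of_mem G.subtype h.2))
    obtain ⟨t, rfl⟩ := Subgroup.mem_zpowers_iff.1 hv
    rw [e, MulAut.mul_apply, show ((h : G) : MulAut S) x = u * x ^ t from huv.symm, map_mul, map_zpow]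
    refine L.mul_mem (Subgroup.mem_sup_left (Subgroup.Normal.conj_mem inferInstance u hu g)) (L.zpow_mem ?_ t)
    show g * x * g⁻¹ ∈ L
    rw [← mul_inv_cancel_left x (g * x * g⁻¹)]
    exact L.mul_mem (Subgroup.mem_sup_right (Subgroup.mem_zpowers x)) (Subgroup.mem_sup_left (hxc g))
  have : L ≤ L.comap α.toMonoidHom :=
    sup_le (fun v hv => Subgroup.mem_sup_left (hK α hα v hv)) (Subgroup.zpowers_le.2 hLx)
  exact this hy

/-! ### Abelian groups -/

/-- `(p ^ k)`-th powers killed by `p`. -/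
def PowSocle (p : ℕ) (G : Type*) [Group G] (k : ℕ) (z : G) : Prop := z ^ p = 1 ∧ ∃ u, u ^ p ^ k = z

/-- In an abelian group with distinct invariants every characteristic subgroup has a characteristic cyclic step. -/
theorem exists_char_step {G : Type*} [CommGroup G] [Finite G] (hG : IsPGroup p G)
    (hd : ∀ (k : ℕ) (a b : G), PowSocle p G k a → PowSocle p G k b → ¬ PowSocle p G (k + 1) a →
      ∃ r : ℤ, PowSocle p G (k + 1) (b * (a ^ r)⁻¹))
    {K : Subgroup G} (hK : ∀ (α : MulAut G), ∀ x ∈ K, α x ∈ K) (hne : K ≠ ⊤) :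
    ∃ x, x ∉ K ∧ ∀ (α : MulAut G), ∀ y ∈ K ⊔ Subgroup.zpowers x, α y ∈ K ⊔ Subgroup.zpowers x := by
  classical
  obtain ⟨g₀, hg₀⟩ : ∃ g, g ∉ K := by
    by_contra h; push Not at h; exact hne (eq_top_iff.2 fun g _ => h g)
  have hex : ∃ j, ∃ v, v ∉ K ∧ v ^ p ^ j = 1 := by obtain ⟨j, hj⟩ := hG g₀; exact ⟨j, g₀, hg₀, hj⟩
  obtain ⟨v₁, hv₁, hv₁1⟩ := Nat.find_spec hex
  obtain ⟨i, hi⟩ : ∃ i, Nat.find hex = i + 1 := Nat.exists_eq_succ_of_ne_zero fun e => hv₁ (by
    rw [e, pow_zero, pow_one] at hv₁1; rw [hv₁1]; exact K.one_mem)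
  have hsmall : ∀ v : G, v ^ p ^ i = 1 → v ∈ K := fun v hv => by
    by_contra h
    have := Nat.find_le (h := hex) ⟨v, h, hv⟩
    omega
  rw [hi] at hv₁1
  let P : ℕ → Prop := fun k => ∃ v, v ∉ K ∧ v ^ p ^ (i + 1) = 1 ∧ PowSocle p G k (v ^ p ^ i)
  obtain ⟨N, hN⟩ := IsPGroup.iff_card.1 hG
  have hbound : ∀ k, P k → k < N := by
    rintro k ⟨v, hv, -, -, u, hu⟩
    by_contra hk
    refine hv (hsmall v ?_)
    rw [← hu]
    refine orderOf_dvd_iff_pow_eq_one.1 ((orderOf_dvd_natCard u).trans ?_)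
    rw [hN]; exact pow_dvd_pow p (by omega)
  have hP0 : P 0 := ⟨v₁, hv₁, hv₁1, by rw [← pow_mul, ← pow_succ, hv₁1], v₁ ^ p ^ i, by simp⟩
  set k := Nat.findGreatest P N with hk
  obtain ⟨x, hx, hx1, hxs⟩ : P k := Nat.findGreatest_spec (Nat.zero_le N) hP0
  have hmax : ∀ v, v ^ p ^ (i + 1) = 1 → PowSocle p G (k + 1) (v ^ p ^ i) → v ∈ K := fun v hv hs => by
    by_contra h
    have hP : P (k + 1) := ⟨v, h, hv, hs⟩
    have := Nat.le_findGreatest (hbound _ hP).le hP
    omega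
  refine ⟨x, hx, fun α y hy => ?_⟩
  obtain ⟨r, hr⟩ := hd k (x ^ p ^ i) ((α x) ^ p ^ i) hxs
    ⟨by rw [← map_pow, ← map_pow, hxs.1, map_one], by
      obtain ⟨u, hu⟩ := hxs.2
      exact ⟨α u, by rw [← map_pow, ← map_pow, hu]⟩⟩
    fun h => hx (hmax x hx1 h)
  have hw : α x * (x ^ r)⁻¹ ∈ K := hmax _
    (by rw [mul_pow, inv_pow, ← map_pow, hx1, map_one, one_mul, inv_eq_one, ← zpow_natCast, ← zpow_mul, mul_comm,
      zpow_mul, zpow_natCast, hx1, one_zpow])
    (by rwa [mul_pow, inv_pow, ← zpow_natCast (x ^ r), ← zpow_mul, mul_comm r, zpow_mul, zpow_natCast])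
  set L := K ⊔ Subgroup.zpowers x
  have hαx : α x ∈ L := by
    have := L.mul_mem (Subgroup.mem_sup_left hw : α x * (x ^ r)⁻¹ ∈ L)
      (Subgroup.mem_sup_right (Subgroup.zpow_mem _ (Subgroup.mem_zpowers x) r))
    rwa [inv_mul_cancel_right] at this
  have : L ≤ L.comap α.toMonoidHom :=
    sup_le (fun v hv => Subgroup.mem_sup_left (hK α v hv)) (Subgroup.zpowers_le.2 hαx)
  exact this hy

end CfsgLib.Fsys.Supersoluble
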