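import Cfsg.Agent.Lib.FusionSystem.SFour
import Cfsg.Agent.Lib.FusionSystem.ThompsonAbelian
/-
Thompson's criterion for saturated systems: the centre and `J` (abelian version), `p` odd or `S₄`-free.
-/
set_option autoImplicit false

namespace CfsgLib.Fsys

open Cfsg
open Cfsg.FusionSystem (centralizerIn normalizerIn imageAlong preimageAlong)

universe u

variable {Ω : Type u} [Group Ω] {S : Subgroup Ω} {F : FusionSystem S} {P Q : Subgroup Ω} {p : ℕ}

/-- `p` odd or no automizer involves `S₃`. -/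
def SFour (p : ℕ) (F : FusionSystem S) : Prop := p ≠ 2 ∨ AutS3Free F

/-- The centre as a functor. -/
def zC (Q : Type u) [Group Q] : Subgroup Q := Subgroup.center Q

theorem zC_ne_bot [Fact p.Prime] (Q : Type u) [Group Q] [Finite Q] (hQ : IsPGroup p Q) (hn : Nontrivial Q) :
    zC Q ≠ ⊥ := by
  haveI := hQ.center_nontrivial
  exact (Subgroup.nontrivial_iff_ne_bot _).1 this

theorem zC_map (Q R : Type u) [Group Q] [Group R] [Finite Q] (_hQ : IsPGroup p Q) (φ : Q ≃* R) :
    (zC Q).map φ.toMonoidHom = zC R := by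
  refine le_antisymm ?_ fun y hy => ⟨φ.symm y, Subgroup.mem_center_iff.2 fun x => φ.injective ?_, φ.apply_symm_apply y⟩
  · rintro _ ⟨x, hx, rfl⟩
    refine Subgroup.mem_center_iff.2 fun y => ?_
    obtain ⟨z, rfl⟩ := φ.surjective y
    show φ z * φ x = φ x * φ z
    rw [← map_mul, ← map_mul, Subgroup.mem_center_iff.1 hx z]
  · rw [map_mul, map_mul, φ.apply_symm_apply]
    exact Subgroup.mem_center_iff.1 hy _

theorem wOf_zC (A : Subgroup Ω) : wOf (fun Q _ => zC Q) A = A ⊓ Subgroup.centralizer (A : Set Ω) := by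
  refine le_antisymm ?_ fun v hv => ⟨⟨v, hv.1⟩, Subgroup.mem_center_iff.2 fun y =>
    Subtype.ext (Subgroup.mem_centralizer_iff.1 hv.2 _ y.2), rfl⟩
  rintro _ ⟨v, hv, rfl⟩
  exact ⟨v.2, Subgroup.mem_centralizer_iff.2 fun y hy =>
    congrArg Subtype.val (Subgroup.mem_center_iff.1 hv ⟨y, hy⟩)⟩

variable [Fact p.Prime]

theorem sFour_of_sectionFree [Finite S] (hS : IsPGroup p S) (hF : F.IsSaturated p)
    (h : p ≠ 2 ∨ F.IsSectionFree p (Equiv.Perm (Fin 4))) : SFour p F := by
  by_cases hp : p = 2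
  · exact Or.inr (autS3Free_of_sectionFree hp hS hF (h.resolve_left fun h' => h' hp))
  · exact Or.inl hp

theorem SFour.of_subsystem (h : SFour p F) {S' : Subgroup Ω} {E : FusionSystem S'} (hS' : S' ≤ S)
    (hE : E.IsSubsystemOf F) : SFour p E :=
  h.imp_right fun h' => h'.of_subsystem hS' hE

theorem SFour.not_involves [Finite S] (h : SFour p F) {G : Type*} [Group G] [Finite G] {ι : S →* G}
    (hι : F.IsRealizedBy ι) (hT : ∃ T : Sylow p G, (T : Subgroup G) = ι.range) :
    p ≠ 2 ∨ ¬ Involves (Equiv.Perm (Fin 4)) G := by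
  by_cases hp : p = 2
  · subst hp
    exact Or.inr (not_involves_of_realized hι hT (h.resolve_left fun h' => h' rfl))
  · exact Or.inl hp

theorem SFour.factor [Finite S] (h : SFour p F) (hS : IsPGroup p S) (hF : F.IsSaturated p) {Q : Subgroup Ω}
    (hQ : F.IsNormal Q) {Ω' : Type u} [Group Ω'] {θ : S →* Ω'} {E : FusionSystem θ.range}
    (hE : F.IsFactorSystem Q θ E) (hEs : E.IsSaturated p) : SFour p E := by
  by_cases hp : p = 2
  · have : Finite θ.range := Finite.of_surjective θ.rangeRestrict θ.rangeRestrict_surjective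
    exact Or.inr (autS3Free_of_sectionFree hp (hS.of_surjective θ.rangeRestrict θ.rangeRestrict_surjective) hEs
      (factor_sectionFree hS hF hQ (sectionFree_of_autS3Free hp (h.resolve_left fun h' => h' hp)) hE))
  · exact Or.inl hp

variable [Finite S] {W : ∀ (Q : Type u) [Group Q], Subgroup Q}

/-- A system with nontrivial non-centric core all whose proper saturated subsystems are inner is inner,
provided the criterion holds over smaller groups. -/
theorem pAut_of_core' (hS : IsPGroup p S) (hF : F.IsSaturated p)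
    (hprop : ∀ E : FusionSystem S, E ≤ F → ¬ F ≤ E → E.IsSaturated p → PAut p E)
    (hcrit : ∀ {Ω' : Type u} [Group Ω'] (θ : S →* Ω') (E : FusionSystem θ.range), F.IsFactorSystem F.core θ E →
      Nat.card θ.range < Nat.card S → E.IsSaturated p → PAut p E)
    (hne : F.core ≠ ⊥) (hcent : ¬ centralizerIn S F.core ≤ F.core) : PAut p F := by
  have hQ₀ : F.IsNormal F.core := core_normal
  have hsc₀ := normal_stronglyClosed hQ₀
  have hsc₁ : F.StronglyClosed (F.core ⊔ centralizerIn S F.core) := stronglyClosed_sup_centralizer hS hF hsc₀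
  have hN₁ := conj_of_proper_normalizer hS hF hprop
    (fullyNormalized_of_weaklyClosed (weaklyClosed_of_stronglyClosed hsc₁))
    (inf_eq_left.2 (sc_le_normalizer hsc₁)) fun hle => hcent (le_sup_right.trans hle)
  obtain ⟨F₂, hF₂s, hF₂F, -, hF₂m, hF₂i⟩ := exists_innerOn hS hF hQ₀
  by_cases hall : F ≤ F₂
  · have hQn : (F.core.subgroupOf S).Normal := ⟨fun x hx s => sc_conj hsc₀ s.2 hx⟩
    let θ : S →* S ⧸ F.core.subgroupOf S := QuotientGroup.mk' _
    obtain ⟨E, hE⟩ := exists_factorSystem (F := F) hsc₀ θ (fun s => QuotientGroup.eq_one_iff s) rfl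
    have hcard : Nat.card θ.range < Nat.card S := by
      rw [MonoidHom.range_eq_top.2 (QuotientGroup.mk'_surjective _), Subgroup.card_top,
        (F.core.subgroupOf S).card_eq_card_quotient_mul_card_subgroup]
      refine lt_mul_of_one_lt_right Nat.card_pos ?_
      rw [Nat.card_congr (Subgroup.subgroupOfEquivOfLe hQ₀.1).toEquiv]
      have := finite_of_le_base hQ₀.1
      exact Subgroup.one_lt_card_iff_ne_bot _ |>.2 hne
    exact pAut_of_factor hS hsc₀ (fun hf => hF₂i (fn_of_le hall hf)) hE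
      (hcrit θ E hE hcard (surjectiveMorphism_saturated hS hF (factor_surjectiveMorphism hS hF hsc₀ hE)))
  · exact pAut_of_frattini hS hF hQ₀ (fun P f hf hle => hN₁ hf hle (sc_img hsc₁ hle hf)) fun P f hf hle hs =>
      exists_conj_of_pAut hS hF₂s (hprop F₂ hF₂F hall hF₂s) (hF₂m hf hle hs)

/-- In a model, the local hypothesis makes the normalizer of `W(T)` a `p`-group. -/
theorem isPGroup_normalizer_of_loc
    (hW2 : ∀ (Q R : Type u) [Group Q] [Group R] [Finite Q], IsPGroup p Q → ∀ φ : Q ≃* R, (W Q).map φ.toMonoidHom = W R)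
    (hS : IsPGroup p S) {Q₀ : Subgroup Ω} (hQ₀ : F.IsNormal Q₀) (hcent : centralizerIn S Q₀ ≤ Q₀)
    {G : Type u} [Group G] {ι : S →* G} (hG : F.IsModel p G ι) {T : Sylow p G} (hT : (T : Subgroup G) = ι.range)
    (hloc : LocPAut p F (wOf W S)) :
    IsPGroup p (Subgroup.normalizer (wOf W (T : Subgroup G) : Set G)) := by
  obtain ⟨pj, hpj, -⟩ := exists_model_proj (hQ := hQ₀) hG
  obtain ⟨hfin, hι, -, hce⟩ := id hG
  have hWS : wOf W S ≤ S := wOf_le S
  have hWT : wOf W (T : Subgroup G) = ((wOf W S).subgroupOf S).map ι := by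
    let e : S ≃* (T : Subgroup G) := (MonoidHom.ofInjective hι.1).trans (MulEquiv.subgroupCongr hT.symm)
    have hWe := hW2 ↥S ↥(T : Subgroup G) hS e
    unfold wOf
    rw [← hWe, Subgroup.subgroupOf, Subgroup.comap_map_eq_self_of_injective S.subtype_injective, Subgroup.map_map]
    rfl
  have hTN : (T : Subgroup G) ≤ Subgroup.normalizer (wOf W (T : Subgroup G) : Set G) := by
    intro t ht
    refine Subgroup.mem_normalizer_iff.2 fun y => ?_
    have hsym : ∀ t ∈ (T : Subgroup G), ∀ y ∈ wOf W (T : Subgroup G), t * y * t⁻¹ ∈ wOf W (T : Subgroup G) := by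
      rintro t ht _ ⟨z, hz, rfl⟩
      have h := hW2 ↥(T : Subgroup G) ↥(T : Subgroup G) T.isPGroup' (MulAut.conj (⟨t, ht⟩ : (T : Subgroup G)))
      exact ⟨_, h.le ⟨z, hz, rfl⟩, rfl⟩
    exact ⟨hsym t ht y, fun h => by simpa [mul_assoc] using hsym t⁻¹ (inv_mem ht) _ h⟩
  have hNp : IsPGroup p (Subgroup.normalizer (wOf W (T : Subgroup G) : Set G)) := by
    rintro ⟨g, hg⟩
    -- `g` normalises the image of `P = Q₀ ⊔ W(S)`
    let P := Q₀ ⊔ wOf W S
    have hPS : P ≤ S := sup_le hQ₀.1 hWS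
    have hgP : ∀ x : P, ∃ y : S, (y : Ω) ∈ P ∧ g * ι ⟨x, hPS x.2⟩ * g⁻¹ = ι y := by
      have h2 : P.subgroupOf S ≤ (((P.subgroupOf S).map ι).comap (MulAut.conj g).toMonoidHom).comap ι := by
        rw [Subgroup.subgroupOf_sup hQ₀.1 hWS]
        refine sup_le (fun x hx => ?_) fun x hx => ?_
        · refine ⟨⟨aFn (pj g) x, hQ₀.1 (aFn_mem _ hx)⟩, ?_, ?_⟩
          · exact Subgroup.mem_sup_left (show (⟨aFn (pj g) (x : Ω), hQ₀.1 (aFn_mem _ hx)⟩ : S) ∈ Q₀.subgroupOf S from aFn_mem (pj g) hx)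
          · show _ = g * ι x * g⁻¹
            rw [hpj g x hx, mul_inv_cancel_right]
        · have h1 : g * ι x * g⁻¹ ∈ wOf W (T : Subgroup G) := (Subgroup.mem_normalizer_iff.1 hg _).1
            (hWT ▸ Subgroup.mem_map_of_mem ι hx)
          obtain ⟨y, hy, hye⟩ := hWT ▸ h1
          exact ⟨y, Subgroup.mem_sup_right hy, hye⟩
      intro x
      obtain ⟨y, hy, hye⟩ := h2 (x := ⟨x, hPS x.2⟩) x.2
      exact ⟨y, hy, hye.symm⟩
    choose y hyP hye using hgP
    let φ : P →* Ω := MonoidHom.mk' (fun x => (y x : Ω)) fun a b => by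
      show ((y (a * b) : S) : Ω) = (y a : S) * (y b : S)
      rw [← Subgroup.coe_mul]
      refine congrArg Subtype.val (hι.1 ?_)
      rw [map_mul, ← hye, ← hye, ← hye]
      show g * ι (⟨a, hPS a.2⟩ * ⟨b, hPS b.2⟩) * g⁻¹ = _
      rw [map_mul]
      group
    have hφ : φ ∈ F.Hom P := (hι.2 P hPS φ fun x => (y x).2).2 ⟨g, fun x => (hye x).symm⟩
    have hf : Fn F P (ofHom φ) := fn_ofHom hφ
    obtain ⟨α, hα, hαe⟩ := exists_aut_of_fn hf (hf.img_eq_self fun x hx => by
      rw [ofHom_apply φ hx]; exact hyP _)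
    have hαy : ∀ x : P, autFn α x = (y x : Ω) := fun x => by
      rw [autFn_coe, hαe, ofHom_apply φ x.2]
      rfl
    have hαW : img (autFn α) (wOf W S) = wOf W S := by
      refine (((mem_autGroup_iff_fn hPS).1 hα).mono le_sup_right).img_eq_self fun x hx => ?_
      rw [show autFn α x = _ from hαy ⟨x, Subgroup.mem_sup_right hx⟩]
      have h1 : ι (y ⟨x, Subgroup.mem_sup_right hx⟩) ∈ wOf W (T : Subgroup G) := by
        rw [← hye]
        exact (Subgroup.mem_normalizer_iff.1 hg _).1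
          (hWT ▸ Subgroup.mem_map_of_mem ι (show (⟨x, hWS hx⟩ : S) ∈ (wOf W S).subgroupOf S from hx))
      obtain ⟨z, hz, hze⟩ := hWT ▸ h1
      exact hι.1 hze ▸ hz
    obtain ⟨k, hk⟩ := hloc P hPS le_sup_right α hα hαW
    have hsem : ∀ q ∈ Q₀, autFn α (id q) = id (autFn (pj g : MulAut Q₀) q) := fun q hq => by
      rw [id, id, hαy ⟨q, Subgroup.mem_sup_left hq⟩]
      refine congrArg Subtype.val (hι.1 (a₂ := ⟨aFn (pj g) q, hQ₀.1 (aFn_mem _ hq)⟩) ?_)
      rw [← hye, hpj g q hq, mul_inv_cancel_right]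
    have hpg : pj (g ^ p ^ k) = 1 := by
      rw [map_pow]
      refine Subtype.ext ?_
      rw [SubgroupClass.coe_pow]
      exact pow_eq_one_of_semiconj (fn_id (F := F) hQ₀.1) (fun q hq => Subgroup.mem_sup_left hq) hsem hk
    obtain ⟨z, -, hz⟩ := model_proj_ker (hQ := hQ₀) (normal_centric hQ₀ hcent) hG hpj hpg
    obtain ⟨j, hj⟩ := hS z
    exact ⟨k + j, Subtype.ext (by
      rw [SubgroupClass.coe_pow, pow_add, pow_mul]
      show (g ^ p ^ k) ^ p ^ j = 1
      rw [hz, ← map_pow, hj, map_one])⟩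
  exact hNp

/-- Thompson's criterion. -/
theorem pAut_of_thompson' (hS : IsPGroup p S) (hF : F.IsSaturated p) (hfree : SFour p F)
    (hlocZ : LocPAut p F (wOf (fun Q _ => zC Q) S)) (hlocJ : LocPAut p F (wOf (fun Q _ => jA Q) S)) : PAut p F := by
  suffices key : ∀ n : ℕ, ∀ {Ω : Type u} [Group Ω] (S : Subgroup Ω) [Finite S], Nat.card S = n → IsPGroup p S →
      ∀ m : ℕ, ∀ (F : FusionSystem S), (homSet F).ncard = m → F.IsSaturated p → SFour p F →
        LocPAut p F (wOf (fun Q _ => zC Q) S) → LocPAut p F (wOf (fun Q _ => jA Q) S) →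
          PAut p F from key _ S rfl hS _ F rfl hF hfree hlocZ hlocJ
  clear hlocJ hlocZ hfree hF hS
  intro n
  induction n using Nat.strong_induction_on with
  | _ n ihn =>
  intro Ω _ S _ hn hS m
  induction m using Nat.strong_induction_on with
  | _ m ihm =>
  intro F hm hF hfree hlocZ hlocJ
  have ihF : ∀ E : FusionSystem S, E ≤ F → ¬ F ≤ E → E.IsSaturated p → PAut p E :=
    fun E hle hne hsat => ihm _ (hm ▸ homSet_lt hle hne) E rfl hsat (hfree.of_subsystem le_rfl hle)
      (fun P hP hWP α hα hi => hlocZ P hP hWP α (autGroup_mono hle hP hα) hi)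
      (fun P hP hWP α hα hi => hlocJ P hP hWP α (autGroup_mono hle hP hα) hi)
  set Q₀ := F.core with hQ₀def
  have hQ₀ : F.IsNormal Q₀ := core_normal
  have hsc₀ := normal_stronglyClosed hQ₀
  have hnormS := fun U hU he hUQ => conj_of_proper_normalizer (U := U) hS hF ihF hU he hUQ
  by_cases hcent : centralizerIn S Q₀ ≤ Q₀
  · -- constrained: use the model
    obtain ⟨G, _, ι, hG⟩ := exists_model hS ⟨hF, Q₀, hQ₀, normal_centric hQ₀ hcent⟩
    obtain ⟨hfin, hι, ⟨T, hT⟩, hce⟩ := id hG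
    have hpJ := isPGroup_normalizer_of_loc (W := fun Q _ => jA Q) jA_map hS hQ₀ hcent hG hT hlocJ
    have hpZ := isPGroup_normalizer_of_loc (W := fun Q _ => zC Q) zC_map hS hQ₀ hcent hG hT hlocZ
    rw [wOf_zC] at hpZ
    have htop : (T : Subgroup G) = ⊤ := top_of_npc T hce (ThompsonA.npc_of_thompsonA
      (hfree.not_involves hι ⟨T, hT⟩) T (Fusion.Basic.npc_of_isPGroup hpJ)
      (Fusion.Basic.npc_of_isPGroup (hpZ.to_le (Subgroup.centralizer_le_normalizer _))))
    intro P hP α hα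
    obtain ⟨φ, hφ, hφe⟩ := (mem_autGroup_iff_fn hP).1 hα
    obtain ⟨g, hg⟩ := (hι.2 P hP φ fun x => (F.le_of_mem hφ).2 x).1 hφ
    obtain ⟨s, rfl⟩ : g ∈ ι.range := hT ▸ htop ▸ Subgroup.mem_top g
    refine pPow_of_conj hS s.2 fun x hx => ?_
    rw [← hφe ⟨x, hx⟩]
    have h := hg ⟨x, hx⟩
    rw [← map_inv, ← map_mul, ← map_mul] at h
    exact congrArg Subtype.val (hι.1 h)
  by_cases hQ₀1 : Q₀ ≠ ⊥
  · exact pAut_of_core' hS hF ihF
      (fun θ E hE hlt hEs => by
        have : Finite θ.range := Finite.of_surjective θ.rangeRestrict θ.rangeRestrict_surjective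
        have hne : ¬ S ≤ F.core := fun hle => hcent (centralizerIn_le.trans hle)
        exact ihn _ (hn ▸ hlt) θ.range rfl (hS.of_surjective θ.rangeRestrict θ.rangeRestrict_surjective) _ E rfl hEs
          (hfree.factor hS hF hQ₀ hE hEs) (factor_locPAut zC_ne_bot zC_map hS hF ihF hE hne)
          (factor_locPAut (W := fun Q _ => jA Q) jA_ne_bot jA_map hS hF ihF hE hne)) hQ₀1 hcent
  -- trivial core
  push_neg at hQ₀1
  have hlev : ∀ k : ℕ, ∀ U : Subgroup Ω, U ≠ ⊥ → F.IsFullyNormalized U →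
      Nat.card S - Nat.card (normalizerIn S U) < k →
      ∀ P : Subgroup Ω, U ≤ P → P ≤ normalizerIn S U → ∀ α ∈ F.autGroup P, img (autFn α) U = U →
        ∃ i, α ^ p ^ i = 1 := by
    intro k
    induction k with
    | zero => exact fun U _ _ h => absurd h (Nat.not_lt_zero _)
    | succ k ih =>
      intro U hU1 hUn hUk P hUP hPR α hα hαU
      set R := normalizerIn S U with hRdef
      have hRS : R ≤ S := normalizerIn_le
      have hPS : P ≤ S := hPR.trans hRS
      have hfα := (mem_autGroup_iff_fn hPS).1 hα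
      rcases eq_or_lt_of_le hRS with he | hlt
      · obtain ⟨s, hs, hse⟩ := hnormS U hUn he (fun hle => hU1 (le_bot_iff.1 (hQ₀1 ▸ hle))) hfα hUP hαU
        exact pPow_of_conj hS hs hse
      have hfinR := finite_of_le_base hRS
      obtain ⟨M, hM⟩ := exists_normalizerSystem F hUn.1
      have hMs := normalizerSystem_saturated hS hF hUn hM
      have hMloc : ∀ {W : ∀ (Q : Type u) [Group Q], Subgroup Q},
          (∀ (Q : Type u) [Group Q] [Finite Q], IsPGroup p Q → Nontrivial Q → W Q ≠ ⊥) →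
          (∀ (Q R : Type u) [Group Q] [Group R] [Finite Q], IsPGroup p Q → ∀ φ : Q ≃* R,
            (W Q).map φ.toMonoidHom = W R) → LocPAut p M (wOf W R) := by
        intro W hW1 hW2
        intro P₁ hP₁ hWP₁ α₁ hα₁ hα₁W
        have hP₁S : P₁ ≤ S := hP₁.trans hRS
        have hα₁F : α₁ ∈ F.autGroup P₁ := (mem_autGroup_iff_fn hP₁S).2
          (((mem_autGroup_iff_fn hP₁).1 hα₁).of_subsystem (normalizerSystem_sub hM))
        set W₁ := wOf W R with hW₁
        have hW₁R : W₁ ≤ R := wOf_le R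
        have hW₁S : W₁ ≤ S := hW₁R.trans hRS
        have hR1 : R ≠ ⊥ := fun h => hU1 (le_bot_iff.1 ((le_normalizerIn hUn.1).trans h.le))
        have hW₁1 : W₁ ≠ ⊥ := wOf_ne_bot hW1 (hS.to_le hRS) hR1
        have hbig : R < normalizerIn S W₁ := by
          obtain ⟨s, hs, hsN, hsR⟩ := exists_mem_normalizer_not_mem hS le_rfl hlt
          have hR_le : ∀ r ∈ normalizerIn S R, r ∈ normalizerIn S W₁ := fun r hr => by
            have hfr := fn_conj (F := F) hRS hr.1
            have h := map_wOf hW2 hS hfr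
            rw [hfr.img_eq_self fun x hx => (mem_normalizer_iff'.1 hr.2).1 x hx] at h
            have := finite_of_le_base hW₁S
            exact ⟨hr.1, mem_normalizer_of_map_le fun x hx => h.le (mem_img_of_mem hx)⟩
          exact lt_of_le_of_ne (fun r hr => hR_le r ⟨hRS hr, Subgroup.le_normalizer hr⟩)
            fun e => hsR (e.ge (hR_le s hsN))
        obtain ⟨W₂, hW₁₂, hW₂n⟩ := exists_fullyNormalized (F := F) hW₁S
        obtain ⟨hauto, hcen⟩ := fullyNormalized_good hS hF hW₂n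
        obtain ⟨c, hc, hcn, hci⟩ := exists_normalizer_map hS hauto (fullyCentralized_receptive hS hF hcen) hW₁₂
        have hN1S : normalizerIn S W₁ ≤ S := normalizerIn_le
        have hcard1 : Nat.card R < Nat.card (normalizerIn S W₁) := by
          have := finite_of_le_base hN1S
          exact card_lt_of_lt' hbig
        have hc2 : Nat.card (normalizerIn S W₁) ≤ Nat.card (normalizerIn S W₂) :=
          card_le_of_map_le normalizerIn_le hc hcn
        have hle3 : Nat.card (normalizerIn S W₂) ≤ Nat.card S := Subgroup.card_le_of_le normalizerIn_le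
        have hW₂1 : W₂ ≠ ⊥ := fun h => hW₁1 (by
          have h1 := isConj_card hW₁₂
          rw [h, Subgroup.card_bot] at h1
          have := finite_of_le_base hW₁S
          exact Subgroup.card_eq_one.1 h1.symm)
        have hP₁N : P₁ ≤ normalizerIn S W₁ := hP₁.trans hbig.le
        obtain ⟨β, hβ, hβe⟩ := exists_transport_aut hc hP₁N hα₁F
        have hW₂P : W₂ ≤ img c P₁ := hci.ge.trans (img_mono hWP₁)
        have hfix : img (autFn β) W₂ = W₂ := by
          have hsub : img c P₁ ≤ S := (hc.mono hP₁N).img_le_base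
          refine (((mem_autGroup_iff_fn hsub).1 hβ).mono hW₂P).img_eq_self fun y hy => ?_
          obtain ⟨x, hx, rfl⟩ := (hc.mono (le_normalizerIn hW₁S)).mem_img.1 (hci.ge hy)
          rw [hβe x (hWP₁ hx)]
          exact hci.le (mem_img_of_mem (hα₁W.le (mem_img_of_mem hx)))
        obtain ⟨i, hi⟩ := ih W₂ hW₂1 hW₂n (by omega) _ hW₂P (img_le fun x hx => hcn x (hP₁N hx)) β hβ hfix
        exact ⟨i, pow_eq_one_of_semiconj (hc.mono hP₁N) (fun x hx => mem_img_of_mem hx) hβe hi⟩
      refine ihn _ (hn ▸ card_lt_of_lt' hlt) R rfl (hS.to_le hRS) _ M rfl hMs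
        (hfree.of_subsystem hRS (normalizerSystem_sub hM)) (hMloc zC_ne_bot zC_map)
        (hMloc (W := fun Q _ => jA Q) jA_ne_bot jA_map) P hPR α ?_
      refine (mem_autGroup_iff_fn hPR).2 ((fn_normalizerSystem hM).2 ⟨hPR, fun x hx => hPR (autFn_mem α hx),
        autFn α, by rwa [sup_eq_left.2 hUP], fun x _ => rfl, hαU⟩)
  intro P hP α hα
  by_cases hP1 : P = ⊥
  · exact ⟨0, mulAut_ext fun x hx => by
      rw [autFn_id hx]
      have h1 := autFn_mem (α ^ p ^ 0) hx
      subst hP1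
      exact (Subgroup.mem_bot.1 h1).trans (Subgroup.mem_bot.1 hx).symm⟩
  obtain ⟨P', hPP', hP'n⟩ := exists_fullyNormalized (F := F) hP
  obtain ⟨hauto, hcen⟩ := fullyNormalized_good hS hF hP'n
  obtain ⟨c, hc, hcn, hci⟩ := exists_normalizer_map hS hauto (fullyCentralized_receptive hS hF hcen) hPP'
  have hPN := le_normalizerIn (S := S) hP
  obtain ⟨β, hβ, hβe⟩ := exists_transport_aut hc hPN hα
  have hP'1 : img c P ≠ ⊥ := fun h => hP1 (by
    have h1 := (hc.mono hPN).card_img
    rw [h, Subgroup.card_bot] at h1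
    have := finite_of_le_base hP
    exact Subgroup.card_eq_one.1 h1.symm)
  have hn' : F.IsFullyNormalized (img c P) := hci.symm ▸ hP'n
  obtain ⟨i, hi⟩ := hlev _ (img c P) hP'1 hn' (Nat.lt_succ_self _) _ le_rfl
    (le_normalizerIn hn'.1) β hβ (img_autFn β)
  exact ⟨i, pow_eq_one_of_semiconj (hc.mono hPN) (fun x hx => mem_img_of_mem hx) hβe hi⟩

end CfsgLib.Fsys

namespace CfsgLib.Fsys

open Cfsg
open Cfsg.FusionSystem (centralizerIn normalizerIn)

universe u

variable {Ω : Type u} [Group Ω] {S : Subgroup Ω} {F : FusionSystem S} [Finite S] {p : ℕ} [Fact p.Prime]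

theorem centralizerIn_center : centralizerIn S (S ⊓ Subgroup.centralizer (S : Set Ω)) = S :=
  inf_eq_left.2 fun _ hs => Subgroup.mem_centralizer_iff.2 fun _ hz =>
    (Subgroup.mem_centralizer_iff.1 (Subgroup.mem_inf.1 hz).2 _ hs).symm

theorem center_fullyNormalized : F.IsFullyNormalized (S ⊓ Subgroup.centralizer (S : Set Ω)) :=
  ⟨inf_le_left, fun Q _ => by
    rw [show normalizerIn S (S ⊓ Subgroup.centralizer (S : Set Ω)) = S from le_antisymm normalizerIn_le
      (centralizerIn_center.ge.trans centralizerIn_le_normalizerIn)]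
    exact Subgroup.card_le_of_le normalizerIn_le⟩

/-- Maps fixing `Z(S)` pointwise are inner when its centralizer system is. -/
theorem conj_of_centralizer_inner
    (hC : ∀ C : FusionSystem (centralizerIn S (S ⊓ Subgroup.centralizer (S : Set Ω))),
      F.IsCentralizerSystem (S ⊓ Subgroup.centralizer (S : Set Ω)) C → ∀ P : Subgroup Ω, C.Hom P =
        (innerFusionSystem (centralizerIn S (S ⊓ Subgroup.centralizer (S : Set Ω)))).Hom P)
    {P : Subgroup Ω} {f : Ω → Ω} (hf : Fn F P f) (hZP : S ⊓ Subgroup.centralizer (S : Set Ω) ≤ P)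
    (hfix : ∀ z ∈ S ⊓ Subgroup.centralizer (S : Set Ω), f z = z) :
    ∃ s ∈ S, ∀ x ∈ P, f x = s * x * s⁻¹ := by
  obtain ⟨C, hC'⟩ := exists_centralizerSystem F (inf_le_left : S ⊓ Subgroup.centralizer (S : Set Ω) ≤ S)
  obtain ⟨φ, hφ, hφf⟩ := id hf
  obtain ⟨ψ, hψ, hψf⟩ := hf.mono (sup_le le_rfl hZP)
  have hmem : φ ∈ C.Hom P := by
    rw [hC']
    exact ⟨hφ, hf.le.trans centralizerIn_center.ge, fun x => centralizerIn_center.ge ((F.le_of_mem hφ).2 x),
      ψ, hψ, fun x => (hψf _).trans (hφf x).symm, fun x => (hψf _).trans (hfix _ x.2)⟩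
  rw [hC C hC' P] at hmem
  obtain ⟨-, g, hg, hgx⟩ := hmem
  exact ⟨g, hg.1, fun x hx => (hφf ⟨x, hx⟩).symm.trans (hgx ⟨x, hx⟩)⟩

/-- Maps of `N_F(U)` are inner when the normalizer system is. -/
theorem conj_of_normalizer_inner {U : Subgroup Ω} (hU : U ≤ S) (hn : normalizerIn S U = S)
    (h : ∀ N : FusionSystem (normalizerIn S U), F.IsNormalizerSystem U N →
      ∀ P : Subgroup Ω, N.Hom P = (innerFusionSystem (normalizerIn S U)).Hom P)
    {P : Subgroup Ω} {f : Ω → Ω} (hf : Fn F P f) (hUP : U ≤ P) (hi : img f U = U) :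
    ∃ s ∈ S, ∀ x ∈ P, f x = s * x * s⁻¹ := by
  obtain ⟨N, hN⟩ := exists_normalizerSystem F hU
  have hg : Fn N P f := (fn_normalizerSystem hN).2 ⟨hf.le.trans hn.ge, fun x hx => hn.ge (hf.mem hx), f,
    by rwa [sup_eq_left.2 hUP], fun x _ => rfl, hi⟩
  obtain ⟨φ, hφ, hφf⟩ := hg
  rw [h N hN P] at hφ
  obtain ⟨-, g, hg, hgx⟩ := hφ
  exact ⟨g, hg.1, fun x hx => (hφf ⟨x, hx⟩).symm.trans (hgx ⟨x, hx⟩)⟩

/-- Automorphisms fixing `Z(S)` fix it pointwise when those of `S` are inner. -/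
theorem fix_center (hS : IsPGroup p S) (hF : F.IsSaturated p)
    (hS' : ∀ {g : Ω → Ω}, Fn F S g → ∃ s ∈ S, ∀ x ∈ S, g x = s * x * s⁻¹)
    {P : Subgroup Ω} {f : Ω → Ω} (hf : Fn F P f) (hZP : S ⊓ Subgroup.centralizer (S : Set Ω) ≤ P)
    (hi : img f (S ⊓ Subgroup.centralizer (S : Set Ω)) = S ⊓ Subgroup.centralizer (S : Set Ω)) :
    ∀ z ∈ S ⊓ Subgroup.centralizer (S : Set Ω), f z = z := by
  obtain ⟨M, g, hg, -, hM, hge⟩ := receptive_extend (fullyNormalized_receptive hS hF center_fullyNormalized)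
    (hf.mono hZP) hi
  have hSM : S ≤ M := fun s hs => (hM s).2 (inExt_of_commute (centralizerIn_center.ge hs))
  obtain ⟨s, hs, hgs⟩ := hS' (hg.mono hSM)
  intro z hz
  rw [← hge z hz, hgs z hz.1, Subgroup.mem_centralizer_iff.1 hz.2 s hs, mul_inv_cancel_right]

/-- Thompson's criterion with the centralizer of `Z(S)` and the normalizer of `J(S)`. -/
theorem pAut_of_thompson (hS : IsPGroup p S) (hF : F.IsSaturated p)
    (hfree : p ≠ 2 ∨ F.IsSectionFree p (Equiv.Perm (Fin 4)))
    (hZ : ∀ {P : Subgroup Ω} {f : Ω → Ω}, Fn F P f → S ⊓ Subgroup.centralizer (S : Set Ω) ≤ P →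
      (∀ z ∈ S ⊓ Subgroup.centralizer (S : Set Ω), f z = z) → ∃ s ∈ S, ∀ x ∈ P, f x = s * x * s⁻¹)
    (hJ : ∀ {P : Subgroup Ω} {f : Ω → Ω}, Fn F P f → thompsonSubgroupAOf S ≤ P →
      img f (thompsonSubgroupAOf S) = thompsonSubgroupAOf S → ∃ s ∈ S, ∀ x ∈ P, f x = s * x * s⁻¹) : PAut p F := by
  refine pAut_of_thompson' hS hF (sFour_of_sectionFree hS hF hfree) ?_ fun P hP hle α hα hi => ?_
  · rw [wOf_zC]
    intro P hP hle α hα hi
    have hf := (mem_autGroup_iff_fn hP).1 hα
    obtain ⟨s, hs, hse⟩ := hZ hf hle (fix_center hS hF (fun {g} hg => by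
      refine hJ hg (Subgroup.map_subtype_le _) ?_
      have h := map_wOf (W := fun Q _ => jA Q) jA_map hS hg
      rwa [hg.img_eq_self fun x hx => hg.mem hx] at h) hf hle hi)
    exact pPow_of_conj hS hs hse
  · obtain ⟨s, hs, hse⟩ := hJ ((mem_autGroup_iff_fn hP).1 hα) hle hi
    exact pPow_of_conj hS hs hse

end CfsgLib.Fsys
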