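import Cfsg.Agent.Lib.FusionSystem.FactorSaturated
import Cfsg.Agent.Lib.FusionSystem.Normal
import Cfsg.Agent.Lib.FusionSystem.KNormalizer
import Cfsg.Agent.Lib.FusionSystem.Invariant
import Cfsg.Prelude.Def_FusionComponents

/-! Transport of fusion systems along an isomorphism of their base groups. -/

set_option autoImplicit false

namespace CfsgLib.Fsys.Tr

open Cfsg Cfsg.FusionSystem
open Cfsg.FusionSystem (centralizerIn normalizerIn)

universe u v

variable {Ω : Type u} [Group Ω] {Ω' : Type v} [Group Ω'] {T : Subgroup Ω} {T' : Subgroup Ω'}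
  {E : FusionSystem T} {E' : FusionSystem T'} {h : Ω → Ω'} {k : Ω' → Ω}

/-- The image of a subgroup. -/
def himg (h : Ω → Ω') (P : Subgroup Ω) : Subgroup Ω' := Subgroup.closure (h '' P)

theorem mem_himg_of_mem {P : Subgroup Ω} {x : Ω} (hx : x ∈ P) : h x ∈ himg h P :=
  Subgroup.subset_closure ⟨x, hx, rfl⟩

theorem himg_le {P : Subgroup Ω} {R : Subgroup Ω'} (H : ∀ x ∈ P, h x ∈ R) : himg h P ≤ R :=
  (Subgroup.closure_le _).2 (by rintro _ ⟨x, hx, rfl⟩; exact H x hx)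

theorem himg_mono {P R : Subgroup Ω} (H : P ≤ R) : himg h P ≤ himg h R :=
  himg_le fun _ hx => mem_himg_of_mem (H hx)

theorem himg_congr {P : Subgroup Ω} {h' : Ω → Ω'} (H : ∀ x ∈ P, h x = h' x) : himg h P = himg h' P :=
  le_antisymm (himg_le fun x hx => (H x hx).symm ▸ mem_himg_of_mem hx)
    (himg_le fun x hx => H x hx ▸ mem_himg_of_mem hx)

theorem himg_eq_img {f : Ω → Ω} {P : Subgroup Ω} : himg f P = img f P := rfl

/-- `h` carries `E` onto `E'`, with inverse `k`. -/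
structure Transport (E : FusionSystem T) (E' : FusionSystem T') (h : Ω → Ω') (k : Ω' → Ω) : Prop where
  map_mul : ∀ x ∈ T, ∀ y ∈ T, h (x * y) = h x * h y
  mem : ∀ x ∈ T, h x ∈ T'
  mem' : ∀ y ∈ T', k y ∈ T
  left : ∀ x ∈ T, k (h x) = x
  right : ∀ y ∈ T', h (k y) = y
  fwd : ∀ (P : Subgroup Ω) (g : Ω → Ω), Fn E P g → Fn E' (himg h P) (fun y => h (g (k y)))
  bwd : ∀ (P : Subgroup Ω') (g : Ω' → Ω'), Fn E' P g → Fn E (himg k P) (fun x => k (g (h x)))

namespace Transport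

variable (t : Transport E E' h k)
include t

theorem map_mul' {x y : Ω'} (hx : x ∈ T') (hy : y ∈ T') : k (x * y) = k x * k y := by
  conv_lhs => rw [← t.right x hx, ← t.right y hy, ← t.map_mul _ (t.mem' x hx) _ (t.mem' y hy)]
  exact t.left _ (T.mul_mem (t.mem' x hx) (t.mem' y hy))

theorem symm : Transport E' E k h :=
  ⟨fun _ hx _ hy => t.map_mul' hx hy, t.mem', t.mem, t.right, t.left, t.bwd, t.fwd⟩

theorem map_one : h 1 = 1 := by
  have := t.map_mul 1 T.one_mem 1 T.one_mem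
  rwa [mul_one, left_eq_mul] at this

theorem map_inv {x : Ω} (hx : x ∈ T) : h x⁻¹ = (h x)⁻¹ :=
  eq_inv_of_mul_eq_one_left (by rw [← t.map_mul _ (T.inv_mem hx) _ hx, inv_mul_cancel, t.map_one])

theorem inj {x y : Ω} (hx : x ∈ T) (hy : y ∈ T) (e : h x = h y) : x = y := by
  rw [← t.left x hx, e, t.left y hy]

theorem map_conj {x y : Ω} (hx : x ∈ T) (hy : y ∈ T) : h (x * y * x⁻¹) = h x * h y * (h x)⁻¹ := by
  rw [t.map_mul _ (T.mul_mem hx hy) _ (T.inv_mem hx), t.map_mul _ hx _ hy, t.map_inv hx]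

theorem mem_himg {P : Subgroup Ω} (hP : P ≤ T) {y : Ω'} : y ∈ himg h P ↔ ∃ x ∈ P, h x = y := by
  refine ⟨fun hy => ?_, fun ⟨x, hx, e⟩ => e ▸ mem_himg_of_mem hx⟩
  induction hy using Subgroup.closure_induction with
  | mem z hz => exact hz
  | one => exact ⟨1, P.one_mem, t.map_one⟩
  | mul a b _ _ ha hb =>
    obtain ⟨x, hx, rfl⟩ := ha
    obtain ⟨z, hz, rfl⟩ := hb
    exact ⟨x * z, P.mul_mem hx hz, t.map_mul _ (hP hx) _ (hP hz)⟩
  | inv a _ ha =>
    obtain ⟨x, hx, rfl⟩ := ha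
    exact ⟨x⁻¹, P.inv_mem hx, t.map_inv (hP hx)⟩

theorem himg_le_base {P : Subgroup Ω} (hP : P ≤ T) : himg h P ≤ T' := himg_le fun x hx => t.mem x (hP hx)

theorem himg_base : himg h T = T' :=
  le_antisymm (t.himg_le_base le_rfl) fun y hy => t.right y hy ▸ mem_himg_of_mem (t.mem' y hy)

theorem himg_himg {P : Subgroup Ω} (hP : P ≤ T) : himg k (himg h P) = P := by
  refine le_antisymm (himg_le fun y hy => ?_) fun x hx => t.left x (hP hx) ▸ mem_himg_of_mem (mem_himg_of_mem hx)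
  obtain ⟨x, hx, rfl⟩ := (t.mem_himg hP).1 hy
  rwa [t.left x (hP hx)]

theorem mem_himg_iff {P : Subgroup Ω} (hP : P ≤ T) {x : Ω} (hx : x ∈ T) : h x ∈ himg h P ↔ x ∈ P := by
  refine ⟨fun hm => ?_, mem_himg_of_mem⟩
  obtain ⟨z, hz, e⟩ := (t.mem_himg hP).1 hm
  exact t.inj (hP hz) hx e ▸ hz

theorem himg_sup {A B : Subgroup Ω} (hA : A ≤ T) (hB : B ≤ T) : himg h (A ⊔ B) = himg h A ⊔ himg h B := by
  refine le_antisymm (himg_le fun x hx => ?_) (sup_le (himg_mono le_sup_left) (himg_mono le_sup_right))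
  obtain ⟨y, hy⟩ : ∃ y, y ∈ himg h A ⊔ himg h B ∧ k y = x := by
    have : A ⊔ B ≤ himg k (himg h A ⊔ himg h B) :=
      sup_le ((t.himg_himg hA).ge.trans (himg_mono le_sup_left)) ((t.himg_himg hB).ge.trans (himg_mono le_sup_right))
    exact (t.symm.mem_himg (sup_le (t.himg_le_base hA) (t.himg_le_base hB))).1 (this hx)
  rw [← hy.2, t.right y (sup_le (t.himg_le_base hA) (t.himg_le_base hB) hy.1)]
  exact hy.1

theorem fn_map {P : Subgroup Ω} {g : Ω → Ω} (hg : Fn E P g) :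
    ∃ g' : Ω' → Ω', Fn E' (himg h P) g' ∧ ∀ x ∈ P, g' (h x) = h (g x) :=
  ⟨_, t.fwd P g hg, fun x hx => by rw [t.left x (hg.le hx)]⟩

/-- The homomorphism underlying a transport. -/
def hom : T →* Ω' := MonoidHom.mk' (fun x => h x) fun x y => t.map_mul x x.2 y y.2

theorem th_hom {x : Ω} (hx : x ∈ T) : th t.hom x = h x := th_apply hx

theorem imageAlong_hom {P : Subgroup Ω} (hP : P ≤ T) : imageAlong t.hom P = himg h P := by
  ext y
  rw [mem_imageAlong, t.mem_himg hP]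
  constructor
  · rintro ⟨x, hx, hxT, rfl⟩
    exact ⟨x, hx, (t.th_hom hxT).symm⟩
  · rintro ⟨x, hx, rfl⟩
    exact ⟨x, hx, hP hx, t.th_hom (hP hx)⟩

theorem preimageAlong_hom {P : Subgroup Ω'} (hP : P ≤ T') : preimageAlong t.hom P = himg k P := by
  ext x
  rw [mem_preimageAlong, t.symm.mem_himg hP]
  constructor
  · rintro ⟨hxT, hx⟩
    rw [t.th_hom hxT] at hx
    exact ⟨_, hx, t.left x hxT⟩
  · rintro ⟨y, hy, rfl⟩
    refine ⟨t.mem' y (hP hy), ?_⟩
    rwa [t.th_hom (t.mem' y (hP hy)), t.right y (hP hy)]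

theorem surjectiveMorphism : E.IsSurjectiveMorphism E' t.hom := by
  refine ⟨⟨fun s => t.mem s s.2, fun P φ hφ => ?_⟩, ?_, fun P hP φ' hφ' => ?_⟩
  · have hP := (E.le_of_mem hφ).1
    obtain ⟨g, hg, hge⟩ := t.fn_map (fn_ofHom hφ)
    rw [← t.imageAlong_hom hP] at hg
    obtain ⟨φ', hφ', hφ'g⟩ := hg
    refine ⟨φ', hφ', (inducedAlong_iff (fun x => (ofHom_coe φ x).symm) hφ'g).2 ⟨hP, fun x hx =>
      (fn_ofHom hφ).mem hx, fun x hx => th_mem_imageAlong hx (hP hx), fun x hx => ?_⟩⟩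
    rw [t.th_hom (hP hx), t.th_hom ((fn_ofHom hφ).mem hx)]
    exact hge x hx
  · ext y
    exact ⟨fun ⟨x, e⟩ => e ▸ t.mem x x.2, fun hy => ⟨⟨k y, t.mem' y hy⟩, t.right y hy⟩⟩
  · obtain ⟨g, hg, hge⟩ := t.symm.fn_map (fn_ofHom hφ')
    rw [← t.preimageAlong_hom hP] at hg
    obtain ⟨φ, hφ, hφg⟩ := hg
    refine ⟨φ, hφ, (inducedAlong_iff hφg (fun y => (ofHom_coe φ' y).symm)).2 ⟨preimageAlong_le, fun x hx => ?_,
      fun x hx => (mem_preimageAlong.1 hx).2, fun x hx => ?_⟩⟩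
    · rw [← hφg ⟨x, hx⟩]
      exact (E.le_of_mem hφ).2 ⟨x, hx⟩
    · obtain ⟨hxT, hxP⟩ := mem_preimageAlong.1 hx
      rw [t.th_hom hxT] at hxP ⊢
      have hgx : g x = k (ofHom φ' (h x)) := by rw [← hge _ hxP, t.left x hxT]
      rw [t.th_hom (by rw [hgx]; exact t.mem' _ ((fn_ofHom hφ').mem hxP)), hgx,
        t.right _ ((fn_ofHom hφ').mem hxP)]

theorem mem_centralizer {P : Subgroup Ω} (hP : P ≤ T) {x : Ω} (hx : x ∈ centralizerIn T P) :
    h x ∈ centralizerIn T' (himg h P) := by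
  obtain ⟨hxT, hc⟩ := mem_centralizerIn.1 hx
  refine mem_centralizerIn.2 ⟨t.mem x hxT, fun y hy => ?_⟩
  obtain ⟨z, hz, rfl⟩ := (t.mem_himg hP).1 hy
  rw [← t.map_mul _ (hP hz) _ hxT, ← t.map_mul _ hxT _ (hP hz), hc z hz]

theorem himg_centralizer {P : Subgroup Ω} (hP : P ≤ T) :
    himg h (centralizerIn T P) = centralizerIn T' (himg h P) := by
  refine le_antisymm (himg_le fun x hx => t.mem_centralizer hP hx) fun y hy => ?_
  have h1 := t.symm.mem_centralizer (t.himg_le_base hP) hy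
  rw [t.himg_himg hP] at h1
  exact t.right y (centralizerIn_le hy) ▸ mem_himg_of_mem h1

theorem stronglyClosed {U : Subgroup Ω} (hU : E.StronglyClosed U) : E'.StronglyClosed (himg h U) := by
  refine stronglyClosed_iff_fn.2 ⟨t.himg_le_base hU.1, fun P f hf y hy hyU => ?_⟩
  obtain ⟨g, hg, hge⟩ := t.symm.fn_map hf
  obtain ⟨x, hx, rfl⟩ := (t.mem_himg hU.1).1 hyU
  have h1 := hge (h x) hy
  rw [t.left x (hU.1 hx)] at h1
  have hxm : x ∈ himg k P := t.left x (hU.1 hx) ▸ mem_himg_of_mem hy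
  have := mem_himg_of_mem (h := h) (sc_apply hU hg hxm hx)
  rwa [h1, t.right _ (hf.mem hy)] at this

theorem central {Q : Subgroup Ω} (hQ : E.IsCentral Q) : E'.IsCentral (himg h Q) := by
  refine ⟨t.himg_le_base hQ.1, fun P' φ' hφ' => ?_⟩
  have hP' := (E'.le_of_mem hφ').1
  obtain ⟨g, ⟨φ, hφ, hφg⟩, hge⟩ := t.symm.fn_map (fn_ofHom hφ')
  obtain ⟨ψ, hψ, hψφ, hψQ⟩ := hQ.2 _ φ hφ
  obtain ⟨u, hu, hue⟩ := t.fn_map (fn_ofHom hψ)
  rw [t.himg_sup (t.symm.himg_le_base hP') hQ.1, t.symm.himg_himg hP'] at hu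
  obtain ⟨ψ', hψ', hψ'u⟩ := hu
  refine ⟨ψ', hψ', fun x => ?_, fun x => ?_⟩
  · rw [hψ'u]
    have hxk : k (x : Ω') ∈ himg k P' := mem_himg_of_mem x.2
    show u (x : Ω') = φ' x
    conv_lhs => rw [← t.right x (hP' x.2), hue _ (Subgroup.mem_sup_left hxk),
      ofHom_apply ψ (Subgroup.mem_sup_left hxk)]
    rw [show ψ ⟨k x, Subgroup.mem_sup_left hxk⟩ = φ ⟨k x, hxk⟩ from hψφ ⟨k x, hxk⟩, hφg]
    show h (g (k x)) = φ' x
    rw [hge x x.2, t.right _ ((fn_ofHom hφ').mem x.2), ofHom_coe]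
  · rw [hψ'u]
    obtain ⟨q, hq, hqx⟩ := (t.mem_himg hQ.1).1 x.2
    show u (x : Ω') = x
    rw [← hqx, hue q (Subgroup.mem_sup_right hq), ofHom_apply ψ (Subgroup.mem_sup_right hq)]
    exact congrArg h (hψQ ⟨q, hq⟩)

theorem himg_center_le [Finite T] [Finite T'] : himg h E.center ≤ E'.center :=
  le_center (t.central center_central)

theorem himg_center [Finite T] [Finite T'] : himg h E.center = E'.center := by
  refine le_antisymm t.himg_center_le fun y hy => ?_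
  have hyT : y ∈ T' := center_central.1 hy
  exact t.right y hyT ▸ mem_himg_of_mem (t.symm.himg_center_le (mem_himg_of_mem hy))

end Transport

/-- A factor system modulo the trivial subgroup is a transport. -/
theorem transport_of_factor {T₁ : Subgroup Ω'} {E₁ : FusionSystem T₁} {θ : T →* Ω'}
    (hE : E.IsFactorSystem ⊥ θ E₁) (hθ : ∀ x : T, h x = θ x) (hkθ : ∀ x : T, k (θ x) = (x : Ω)) :
    Transport E E₁ h k := by
  have hT₁ : ∀ {y : Ω'}, y ∈ T₁ ↔ ∃ x : T, θ x = y := fun {y} => by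
    rw [← hE.2.2.1]; exact MonoidHom.mem_range
  have hsc : E.StronglyClosed ⊥ := stronglyClosed_iff_fn.2 ⟨bot_le, fun P f hf x hx hx1 => by
    rw [Subgroup.mem_bot] at hx1 ⊢
    rw [hx1, hf.map_one]⟩
  have hl : ∀ x ∈ T, k (h x) = x := fun x hx => by rw [hθ ⟨x, hx⟩]; exact hkθ ⟨x, hx⟩
  have hr : ∀ y ∈ T₁, h (k y) = y := fun y hy => by
    obtain ⟨x, rfl⟩ := hT₁.1 hy
    rw [hkθ, hθ]
  have hth : ∀ {x : Ω}, x ∈ T → th θ x = h x := fun hx => (th_apply hx).trans (hθ ⟨_, hx⟩).symm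
  have hmul : ∀ x ∈ T, ∀ y ∈ T, h (x * y) = h x * h y := fun x hx y hy => by
    rw [← hth hx, ← hth hy, ← hth (T.mul_mem hx hy), th_mul hx hy]
  refine ⟨hmul, fun x hx => hT₁.2 ⟨⟨x, hx⟩, (hθ _).symm⟩, fun y hy => ?_, hl, hr, fun P g hg => ?_, fun P g hg => ?_⟩
  · obtain ⟨x, rfl⟩ := hT₁.1 hy
    rw [hkθ]
    exact x.2
  · have hPT := hg.le
    refine (factor_fn hsc hE).2 ⟨himg_le fun x hx => hT₁.2 ⟨⟨x, hPT hx⟩, (hθ _).symm⟩, g,
      hg.mono fun x hx => ?_, fun x hx => ?_⟩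
    · obtain ⟨hxT, hxP⟩ := mem_preimageAlong.1 hx
      rw [hth hxT] at hxP
      have : ∀ y ∈ himg h P, ∃ z ∈ P, h z = y := fun y hy => by
        induction hy using Subgroup.closure_induction with
        | mem z hz => exact hz
        | one => exact ⟨1, P.one_mem, by rw [← hth T.one_mem, th_one]⟩
        | mul a b _ _ ha hb =>
          obtain ⟨a, ha', rfl⟩ := ha
          obtain ⟨b, hb', rfl⟩ := hb
          exact ⟨a * b, P.mul_mem ha' hb', hmul a (hPT ha') b (hPT hb')⟩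
        | inv a _ ha =>
          obtain ⟨a, ha', rfl⟩ := ha
          exact ⟨a⁻¹, P.inv_mem ha', by rw [← hth (hPT ha'), ← hth (T.inv_mem (hPT ha')), th_inv (hPT ha')]⟩
      obtain ⟨z, hz, hze⟩ := this _ hxP
      rwa [← hl x hxT, ← hze, hl z (hPT hz)]
    · obtain ⟨hxT, hxP⟩ := mem_preimageAlong.1 hx
      show h (g (k (th θ x))) = th θ (g x)
      have hgT : g x ∈ T := by
        have hxP' := hxP
        rw [hth hxT] at hxP'
        have : x ∈ P := by
          have hh : ∀ y ∈ himg h P, k y ∈ P ∧ y ∈ T₁ := fun y hy => by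
            induction hy using Subgroup.closure_induction with
            | mem z hz =>
              obtain ⟨w, hw, rfl⟩ := hz
              exact ⟨(hl w (hPT hw)).symm ▸ hw, hT₁.2 ⟨⟨w, hPT hw⟩, (hθ _).symm⟩⟩
            | one =>
              refine ⟨?_, T₁.one_mem⟩
              have h1 : h 1 = 1 := by rw [← hth T.one_mem, th_one]
              rw [← h1, hl 1 T.one_mem]
              exact P.one_mem
            | mul a b _ _ ha hb =>
              refine ⟨?_, T₁.mul_mem ha.2 hb.2⟩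
              have e : a * b = h (k a * k b) := by rw [hmul _ (hPT ha.1) _ (hPT hb.1), hr a ha.2, hr b hb.2]
              rw [e, hl _ (T.mul_mem (hPT ha.1) (hPT hb.1))]
              exact P.mul_mem ha.1 hb.1
            | inv a _ ha =>
              refine ⟨?_, T₁.inv_mem ha.2⟩
              have e : a⁻¹ = h (k a)⁻¹ := by
                rw [← hth (T.inv_mem (hPT ha.1)), th_inv (hPT ha.1), hth (hPT ha.1), hr a ha.2]
              rw [e, hl _ (T.inv_mem (hPT ha.1))]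
              exact P.inv_mem ha.1
          exact hl x hxT ▸ (hh _ hxP').1
        exact hg.mem this
      rw [hth hxT, hl x hxT, hth hgT]
  · obtain ⟨hPT, f, hf, hfe⟩ := (factor_fn hsc hE).1 hg
    have hle : himg k P ≤ preimageAlong θ P := himg_le fun y hy => by
      obtain ⟨x, rfl⟩ := hT₁.1 (hPT hy)
      rw [hkθ]
      exact mem_preimageAlong.2 ⟨x.2, (th_coe (α := θ) x).symm ▸ hy⟩
    refine (hf.mono hle).congr fun x hx => ?_
    have hxT := hf.le (hle hx)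
    have e := hfe x (hle hx)
    rw [hth hxT, hth (hf.mem (hle hx))] at e
    show f x = k (g (h x))
    rw [e, hl _ (hf.mem (hle hx))]

end CfsgLib.Fsys.Tr
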