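import Cfsg.Agent.Lib.FusionSystem.Transport

/-! Transport of saturation, normality, quasisimplicity and components. -/

set_option autoImplicit false

namespace CfsgLib.Fsys.Tr

open Cfsg Cfsg.FusionSystem
open Cfsg.FusionSystem (centralizerIn normalizerIn)

universe u v

variable {Ω : Type u} [Group Ω] {Ω' : Type v} [Group Ω'] {T : Subgroup Ω} {T' : Subgroup Ω'}
  {E : FusionSystem T} {E' : FusionSystem T'} {h : Ω → Ω'} {k : Ω' → Ω} {p : ℕ}

namespace Transport

theorem saturated (t : Transport E E' h k) [Finite T] [Fact p.Prime] (hT : IsPGroup p T) (hE : E.IsSaturated p) :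
    E'.IsSaturated p :=
  surjectiveMorphism_saturated hT hE t.surjectiveMorphism

theorem finite (t : Transport E E' h k) [Finite T] : Finite T' := finite_target t.surjectiveMorphism

theorem isPGroup (t : Transport E E' h k) (hT : IsPGroup p T) : IsPGroup p T' :=
  hT.of_surjective (t.hom.codRestrict T' fun x => t.mem x x.2)
    fun y => ⟨⟨k y, t.mem' y y.2⟩, Subtype.ext (t.right y y.2)⟩

theorem hyperfocal (t : Transport E E' h k) [Finite T] [Fact p.Prime] :
    E'.hyperfocalSubgroup p = himg h (E.hyperfocalSubgroup p) := by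
  rw [surjectiveMorphism_hyperfocal t.surjectiveMorphism, t.imageAlong_hom CfsgLib.Fsys.hyperfocal_le]

/-- Images of systems over subgroups of the base. -/
theorem exists_image (t : Transport E E' h k) [Finite T] {U : Subgroup Ω} (hU : U ≤ T) (D : FusionSystem U) :
    ∃ D' : FusionSystem (himg h U), Transport D D' h k := by
  haveI := finite_of_le_base hU
  let θ : U →* Ω' := MonoidHom.mk' (fun x => h x) fun x y => t.map_mul x (hU x.2) y (hU y.2)
  have hsc : D.StronglyClosed ⊥ := stronglyClosed_iff_fn.2 ⟨bot_le, fun P f hf x hx hx1 => by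
    rw [Subgroup.mem_bot] at hx1 ⊢
    rw [hx1, hf.map_one]⟩
  have hk : ∀ s : U, θ s = 1 ↔ (s : Ω) ∈ (⊥ : Subgroup Ω) := fun s => by
    rw [Subgroup.mem_bot]
    refine ⟨fun e => t.inj (hU s.2) T.one_mem (by rw [t.map_one]; exact e), fun e => ?_⟩
    show h s = 1
    rw [e, t.map_one]
  have hr : θ.range = himg h U := le_antisymm (by rintro _ ⟨x, rfl⟩; exact mem_himg_of_mem x.2)
    (himg_le fun x hx => ⟨⟨x, hx⟩, rfl⟩)
  obtain ⟨D', hD'⟩ := exists_factorSystem hsc θ hk hr
  exact ⟨D', transport_of_factor hD' (fun _ => rfl) fun x => t.left x (hU x.2)⟩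

variable {U : Subgroup Ω} {U' : Subgroup Ω'} {D : FusionSystem U} {D' : FusionSystem U'}

theorem subsystem (t : Transport E E' h k) (s : Transport D D' h k) (hD : D.IsSubsystemOf E) :
    D'.IsSubsystemOf E' := by
  intro P φ hφ
  have hg := s.bwd P _ (fn_ofHom hφ)
  have h2 := t.fwd _ _ (Fn.of_subsystem hD hg)
  rw [s.symm.himg_himg (D'.le_of_mem hφ).1] at h2
  refine mem_hom_iff.2 (h2.congr fun y hy => ?_)
  show h (k (ofHom φ (h (k y)))) = ofHom φ y
  rw [s.right y ((D'.le_of_mem hφ).1 hy), s.right _ ((fn_ofHom hφ).mem hy)]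

theorem base_le (t : Transport E E' h k) (s : Transport D D' h k) (hU : U ≤ T) : U' ≤ T' :=
  fun y hy => s.right y hy ▸ t.mem _ (hU (s.mem' y hy))

/-- Transport of an automorphism. -/
theorem exists_aut (t : Transport E E' h k) [Finite T] {P : Subgroup Ω} (hP : P ≤ T) {α : MulAut P}
    (hα : α ∈ E.autGroup P) :
    ∃ α' ∈ E'.autGroup (himg h P), ∀ x ∈ P, autFn α' (h x) = h (autFn α x) := by
  haveI := t.finite
  haveI := finite_of_le_base (t.himg_le_base hP)
  obtain ⟨g, hg, hge⟩ := t.fn_map ((mem_autGroup_iff_fn hP).1 hα)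
  have hm : ∀ y ∈ himg h P, g y ∈ himg h P := fun y hy => by
    obtain ⟨x, hx, rfl⟩ := (t.mem_himg hP).1 hy
    rw [hge x hx]
    exact mem_himg_of_mem (autFn_mem α hx)
  obtain ⟨α', hα', hα'e⟩ := exists_aut_of_fn hg (hg.img_eq_self hm)
  refine ⟨α', hα', fun x hx => ?_⟩
  rw [autFn_coe α' ⟨h x, mem_himg_of_mem hx⟩, hα'e]
  exact hge x hx

theorem invariant (t : Transport E E' h k) (s : Transport D D' h k) [Finite T] (hD : D.IsInvariantIn E) :
    D'.IsInvariantIn E' := by
  haveI := t.finite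
  have hU := hD.2.1.1
  have hU' : U' = himg h U := s.himg_base.symm
  have hU'T := t.base_le s hU
  haveI := finite_of_le_base hU
  have hsub := t.subsystem s hD.1
  have hkU : himg k U' = U := s.symm.himg_base
  refine ⟨hsub, hU'.symm ▸ t.stronglyClosed hD.2.1, fun P' hP' φ' hφ' α' hα' => ?_, fun P' hP' φ' hφ' => ?_⟩
  · obtain ⟨α, hα, hαe⟩ := t.symm.exists_aut hU'T hα'
    obtain ⟨g, hg, hge⟩ := s.symm.fn_map (fn_ofHom hφ')
    have hPU : himg k P' ≤ U := s.symm.himg_le_base hP'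
    -- move the automorphism to `U`
    revert α hα hαe
    rw [hkU]
    intro α hα hαe
    obtain ⟨χ, hχ, hχe⟩ := Invariant.aut hD hPU hg hα
    have hχ' := s.fwd _ _ hχ
    have e : (P'.subgroupOf U').map (U'.subtype.comp α'.toMonoidHom) = himg h (img (autFn α) (himg k P')) := by
      refine le_antisymm ?_ (himg_le fun y hy => ?_)
      · rintro _ ⟨x, hx, rfl⟩
        show ((α' x : U') : Ω') ∈ _
        rw [← autFn_coe, ← s.right _ (autFn_mem α' x.2), ← hαe x x.2]
        exact mem_himg_of_mem (mem_img_of_mem (mem_himg_of_mem hx))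
      · obtain ⟨z, hz, rfl⟩ := (((mem_autGroup_iff_fn hU).1 hα).mono hPU).mem_img.1 hy
        obtain ⟨x, hx, rfl⟩ := (s.symm.mem_himg hP').1 hz
        rw [hαe x (hP' hx), s.right _ (autFn_mem α' (hP' hx))]
        exact ⟨⟨x, hP' hx⟩, hx, (autFn_coe α' ⟨x, hP' hx⟩).symm⟩
    rw [← e] at hχ'
    obtain ⟨ψ, hψ, hψe⟩ := hχ'
    refine ⟨ψ, hψ, fun x hφx hαx => ?_⟩
    rw [hψe]
    show h (χ (k ((α' ⟨x, hP' x.2⟩ : U') : Ω'))) = _
    rw [← autFn_coe α' ⟨x, hP' x.2⟩, ← hαe x (hP' x.2), hχe _ (mem_himg_of_mem x.2), hge x x.2, ofHom_coe,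
      hαe _ hφx, s.right _ (autFn_mem α' hφx)]
    exact autFn_coe α' ⟨φ' x, hφx⟩
  · obtain ⟨g, hg, hge⟩ := t.symm.fn_map (fn_ofHom hφ')
    obtain ⟨α, hα, e, he, hfe⟩ := Invariant.frattini hD (s.symm.himg_le_base hP') hg
    obtain ⟨α', hα', hα'e⟩ := t.exists_aut hU hα
    have he' := s.fwd _ _ he
    rw [s.symm.himg_himg hP'] at he'
    obtain ⟨φ₀, hφ₀, hφ₀e⟩ := he'
    revert α' hα' hα'e
    rw [← hU']
    intro α' hα' hα'e
    refine ⟨α', hα', φ₀, hφ₀, fun x hx => ?_⟩
    rw [← autFn_coe α' ⟨φ₀ x, hx⟩]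
    show φ' x = autFn α' (φ₀ x)
    have hkx : k (x : Ω') ∈ himg k P' := mem_himg_of_mem x.2
    rw [hφ₀e x]
    show φ' x = autFn α' (h (e (k x)))
    rw [hα'e _ (he.mem hkx), ← hfe _ hkx, hge x x.2, t.right _ ((fn_ofHom hφ').mem x.2), ofHom_coe]

theorem normal (t : Transport E E' h k) (s : Transport D D' h k) [Finite T] [Fact p.Prime] (hT : IsPGroup p T)
    (hD : D.IsNormalIn E p) : D'.IsNormalIn E' p := by
  obtain ⟨⟨hDs, hEs, hi⟩, hext⟩ := hD
  have hU := hi.2.1.1
  haveI := t.finite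
  haveI := finite_of_le_base hU
  have hUp := hT.to_le hU
  refine ⟨⟨s.saturated hUp hDs, t.saturated hT hEs, t.invariant s hi⟩, ?_⟩
  have hU' : U' = himg h U := s.himg_base.symm
  subst hU'
  intro α' hα'
  haveI := s.finite
  obtain ⟨α, hα, hαe⟩ := s.symm.exists_aut le_rfl hα'
  have hkU : himg k (himg h U) = U := s.symm.himg_base
  revert α hα hαe
  rw [hkU]
  intro α hα hαe
  obtain ⟨β, hβ, hβU, hβC⟩ := hext α hα
  have hTC : U ⊔ centralizerIn T U ≤ T := sup_le hU centralizerIn_le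
  have e : himg h (U ⊔ centralizerIn T U) = himg h U ⊔ centralizerIn T' (himg h U) := by
    rw [t.himg_sup hU centralizerIn_le, t.himg_centralizer hU]
  obtain ⟨β', hβ', hβ'e⟩ := t.exists_aut hTC hβ
  revert β' hβ' hβ'e
  rw [e]
  intro β' hβ' hβ'e
  refine ⟨β', hβ', fun x => ?_, fun c hc => ?_⟩
  · rw [← autFn_coe, ← autFn_coe α' x]
    show autFn β' (x : Ω') = _
    have hkx : k (x : Ω') ∈ U := s.mem' x x.2
    conv_lhs => rw [← s.right x x.2, hβ'e _ (Subgroup.mem_sup_left hkx),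
      autFn_coe β ⟨k x, Subgroup.mem_sup_left hkx⟩]
    rw [show ((β ⟨k x, Subgroup.mem_sup_left hkx⟩ : ↥(U ⊔ centralizerIn T U)) : Ω) = ((α ⟨k x, hkx⟩ : U) : Ω) from
      hβU ⟨k x, hkx⟩, ← autFn_coe α ⟨k x, hkx⟩, hαe x x.2, s.right _ (autFn_mem α' x.2)]
  · have hcT : (c : Ω') ∈ T' := centralizerIn_le hc
    have hkc : k (c : Ω') ∈ centralizerIn T U := by
      have := t.symm.mem_centralizer (t.himg_le_base hU) hc
      rwa [hkU] at this
    have hmem : k (c : Ω') ∈ U ⊔ centralizerIn T U := Subgroup.mem_sup_right hkc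
    obtain ⟨h1, h2⟩ := hβC ⟨_, hmem⟩ hkc
    rw [← autFn_coe] at h1 h2
    have hbT : autFn β (k c) ∈ T := hTC (autFn_mem β hmem)
    rw [← autFn_coe β' c]
    have e2 : (c : Ω')⁻¹ * autFn β' c = h ((k c)⁻¹ * autFn β (k c)) := by
      rw [t.map_mul _ (T.inv_mem (centralizerIn_le hkc)) _ hbT, t.map_inv (centralizerIn_le hkc),
        t.right c hcT, ← hβ'e _ hmem, t.right c hcT]
    rw [e2]
    refine ⟨mem_himg_of_mem h1, fun y hy => ?_⟩
    obtain ⟨z, hz, rfl⟩ := (t.mem_himg hU).1 hy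
    rw [← t.map_mul _ (hU hz) _ (hU h1), ← t.map_mul _ (hU h1) _ (hU hz), h2 z hz]

theorem simple (t : Transport E E' h k) [Finite T] [Fact p.Prime] (hT : IsPGroup p T) (hE : E.IsSimple p) :
    E'.IsSimple p := by
  haveI := t.finite
  obtain ⟨hs, hne, hmin⟩ := hE
  refine ⟨t.saturated hT hs, fun e => hne ?_, fun W' A' hA' => ?_⟩
  · refine (Subgroup.eq_bot_iff_forall _).2 fun x hx => t.inj hx T.one_mem ?_
    rw [t.map_one]
    exact Subgroup.mem_bot.1 (e ▸ t.mem x hx)
  have hW' := hA'.1.2.2.2.1.1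
  obtain ⟨A, sA⟩ := t.symm.exists_image hW' A'
  rcases hmin _ A (t.symm.normal sA (t.isPGroup hT) hA') with hb | ⟨he, hhom⟩
  · refine Or.inl ((Subgroup.eq_bot_iff_forall _).2 fun y hy => ?_)
    have h1 : k y ∈ himg k W' := mem_himg_of_mem hy
    rw [hb, Subgroup.mem_bot] at h1
    rw [← t.right y (hW' hy), h1, t.map_one]
  · have hW : W' = T' := le_antisymm hW' fun y hy => by
      have h1 : k y ∈ himg k W' := he.symm ▸ t.mem' y hy
      have h2 := mem_himg_of_mem (h := h) h1
      rwa [t.symm.himg_himg hW', t.right y hy] at h2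
    refine Or.inr ⟨hW, fun P' => Set.Subset.antisymm (hA'.1.2.2.1 P') fun φ' hφ' => ?_⟩
    have hg := t.bwd P' _ (fn_ofHom hφ')
    have hgA : Fn A (himg k P') (fun x => k (ofHom φ' (h x))) := by
      obtain ⟨φ, hφ, hφe⟩ := hg
      exact ⟨φ, hhom _ ▸ hφ, hφe⟩
    have hg' := sA.bwd _ _ hgA
    rw [t.symm.himg_himg (E'.le_of_mem hφ').1] at hg'
    refine mem_hom_iff.2 (hg'.congr fun y hy => ?_)
    show h (k (ofHom φ' (h (k y)))) = ofHom φ' y
    rw [t.right y ((E'.le_of_mem hφ').1 hy), t.right _ ((fn_ofHom hφ').mem hy)]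

theorem quasisimple (t : Transport E E' h k) [Finite T] [Fact p.Prime] (hT : IsPGroup p T)
    (hE : E.Quasisimple p) : E'.Quasisimple p := by
  classical
  haveI := t.finite
  obtain ⟨hs, hhyp, hfac⟩ := hE
  refine ⟨t.saturated hT hs, by rw [t.hyperfocal, hhyp, t.himg_base], fun Q' hQ' => ?_⟩
  have hZ : E.center ≤ T := center_central.1
  have hZ' : E'.center ≤ T' := center_central.1
  have hker : ∀ s : T, QuotientGroup.mk' ((E.center).subgroupOf T) s = 1 ↔ (s : Ω) ∈ E.center := fun s => by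
    rw [QuotientGroup.mk'_apply, QuotientGroup.eq_one_iff, Subgroup.mem_subgroupOf]
  have hscZ : E.StronglyClosed E.center := stronglyClosed_iff_fn.2 ⟨hZ, fun P f hf x hx hxZ => by
    obtain ⟨φ, hφ, hφf⟩ := id hf
    obtain ⟨ψ, hψ, h1, h2⟩ := center_central.2 P φ hφ
    have e1 := h1 ⟨x, hx⟩
    have e2 := h2 ⟨x, hxZ⟩
    rw [show (Subgroup.inclusion le_sup_left ⟨x, hx⟩ : ↥(P ⊔ E.center)) =
      Subgroup.inclusion le_sup_right ⟨x, hxZ⟩ from Subtype.ext rfl, e2] at e1
    rw [← hφf ⟨x, hx⟩, ← e1]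
    exact hxZ⟩
  have hscZ' : E'.StronglyClosed E'.center := t.himg_center ▸ t.stronglyClosed hscZ
  obtain ⟨Q, hQ⟩ := exists_factorSystem hscZ (QuotientGroup.mk' ((E.center).subgroupOf T)) hker
    (MonoidHom.range_eq_top.2 (QuotientGroup.mk'_surjective _))
  have hQs := hfac Q hQ
  haveI : Finite (T ⧸ (E.center).subgroupOf T) := inferInstance
  let tT : T →* T' := t.hom.codRestrict T' fun x => t.mem x x.2
  let tT' : T' →* T := t.symm.hom.codRestrict T fun y => t.mem' y y.2
  let H : T ⧸ (E.center).subgroupOf T →* T' ⧸ (E'.center).subgroupOf T' :=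
    QuotientGroup.map _ _ tT fun x hx => by
      show h (x : Ω) ∈ E'.center
      exact t.himg_center ▸ mem_himg_of_mem hx
  let K : T' ⧸ (E'.center).subgroupOf T' →* T ⧸ (E.center).subgroupOf T :=
    QuotientGroup.map _ _ tT' fun y hy => by
      show k (y : Ω') ∈ E.center
      exact t.symm.himg_center ▸ mem_himg_of_mem hy
  have hKH : ∀ a, K (H a) = a := fun a => by
    obtain ⟨x, rfl⟩ := QuotientGroup.mk'_surjective _ a
    exact congrArg (QuotientGroup.mk' _) (Subtype.ext (t.left x x.2) : tT' (tT x) = x)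
  have hHK : ∀ a, H (K a) = a := fun a => by
    obtain ⟨x, rfl⟩ := QuotientGroup.mk'_surjective _ a
    exact congrArg (QuotientGroup.mk' _) (Subtype.ext (t.right x x.2) : tT (tT' x) = x)
  have hth : ∀ {x : Ω}, x ∈ T → H (th (QuotientGroup.mk' ((E.center).subgroupOf T)) x) =
      th (QuotientGroup.mk' ((E'.center).subgroupOf T')) (h x) := fun {x} hx => by
    rw [th_apply hx, th_apply (t.mem x hx)]
    rfl
  have hth' : ∀ {y : Ω'}, y ∈ T' → K (th (QuotientGroup.mk' ((E'.center).subgroupOf T')) y) =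
      th (QuotientGroup.mk' ((E.center).subgroupOf T)) (k y) := fun {y} hy => by
    rw [th_apply hy, th_apply (t.mem' y hy)]
    rfl
  have s : Transport Q Q' H K := by
    refine ⟨fun x _ y _ => _root_.map_mul H x y, fun _ _ => trivial, fun _ _ => trivial, fun x _ => hKH x,
      fun y _ => hHK y, fun P g hg => ?_, fun P g hg => ?_⟩
    · obtain ⟨-, f, hf, hfe⟩ := (factor_fn hscZ hQ).1 hg
      obtain ⟨f', hf', hf'e⟩ := t.fn_map hf
      refine (factor_fn hscZ' hQ').2 ⟨le_top, f', hf'.mono fun y hy => ?_, fun y hy => ?_⟩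
      · obtain ⟨hyT, hyP⟩ := mem_preimageAlong.1 hy
        refine (t.mem_himg preimageAlong_le).2 ⟨k y, mem_preimageAlong.2 ⟨t.mem' y hyT, ?_⟩, t.right y hyT⟩
        rw [← hth' hyT]
        have h1 : ∀ a ∈ himg (H : _ → _) P, K a ∈ P := fun a ha => by
          induction ha using Subgroup.closure_induction with
          | mem z hz => obtain ⟨w, hw, rfl⟩ := hz; rwa [hKH]
          | one => rw [_root_.map_one]; exact P.one_mem
          | mul a b _ _ ha hb => rw [_root_.map_mul]; exact P.mul_mem ha hb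
          | inv a _ ha => rw [_root_.map_inv]; exact P.inv_mem ha
        exact h1 _ hyP
      · obtain ⟨hyT, hyP⟩ := mem_preimageAlong.1 hy
        have hkP : k y ∈ preimageAlong (QuotientGroup.mk' ((E.center).subgroupOf T)) P := by
          refine mem_preimageAlong.2 ⟨t.mem' y hyT, ?_⟩
          rw [← hth' hyT]
          have h1 : ∀ a ∈ himg (H : _ → _) P, K a ∈ P := fun a ha => by
            induction ha using Subgroup.closure_induction with
            | mem z hz => obtain ⟨w, hw, rfl⟩ := hz; rwa [hKH]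
            | one => rw [_root_.map_one]; exact P.one_mem
            | mul a b _ _ ha hb => rw [_root_.map_mul]; exact P.mul_mem ha hb
            | inv a _ ha => rw [_root_.map_inv]; exact P.inv_mem ha
          exact h1 _ hyP
        show H (g (K _)) = _
        rw [hth' hyT, hfe _ hkP, hth (hf.mem hkP), ← hf'e _ hkP, t.right y hyT]
    · obtain ⟨-, f, hf, hfe⟩ := (factor_fn hscZ' hQ').1 hg
      obtain ⟨f', hf', hf'e⟩ := t.symm.fn_map hf
      have h1 : ∀ {x : Ω}, x ∈ preimageAlong (QuotientGroup.mk' ((E.center).subgroupOf T)) (himg (K : _ → _) P) →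
          h x ∈ preimageAlong (QuotientGroup.mk' ((E'.center).subgroupOf T')) P := fun {x} hx => by
        obtain ⟨hxT, hxP⟩ := mem_preimageAlong.1 hx
        refine mem_preimageAlong.2 ⟨t.mem x hxT, ?_⟩
        rw [← hth hxT]
        have h2 : ∀ a ∈ himg (K : _ → _) P, H a ∈ P := fun a ha => by
          induction ha using Subgroup.closure_induction with
          | mem z hz => obtain ⟨w, hw, rfl⟩ := hz; rwa [hHK]
          | one => rw [_root_.map_one]; exact P.one_mem
          | mul a b _ _ ha hb => rw [_root_.map_mul]; exact P.mul_mem ha hb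
          | inv a _ ha => rw [_root_.map_inv]; exact P.inv_mem ha
        exact h2 _ hxP
      refine (factor_fn hscZ hQ).2 ⟨le_top, f', hf'.mono fun x hx => ?_, fun x hx => ?_⟩
      · exact (t.symm.mem_himg preimageAlong_le).2 ⟨h x, h1 hx, t.left x (preimageAlong_le hx)⟩
      · obtain ⟨hxT, -⟩ := mem_preimageAlong.1 hx
        show K (g (H _)) = _
        rw [hth hxT, hfe _ (h1 hx), hth' (hf.mem (h1 hx)), ← hf'e _ (h1 hx), t.left x hxT]
  have hTp : IsPGroup p (⊤ : Subgroup (T ⧸ (E.center).subgroupOf T)) :=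
    (hT.to_quotient _).of_equiv Subgroup.topEquiv.symm
  exact s.simple hTp hQs

end Transport

/-- A subnormal subsystem lies over a subgroup. -/
theorem subnormal_le {Ω : Type u} [Group Ω] {U S : Subgroup Ω} {C : FusionSystem U} {F : FusionSystem S}
    (hC : C.IsSubnormalIn F p) : U ≤ S := by
  induction hC with
  | refl => exact le_rfl
  | step _ hD ih => exact ih.trans hD.1.2.2.2.1.1

/-- Images of subnormal subsystems. -/
theorem subnormal_image {Ω : Type u} [Group Ω] {U S : Subgroup Ω} {C : FusionSystem U} {F : FusionSystem S}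
    (hC : C.IsSubnormalIn F p) [Fact p.Prime] :
    Finite S → IsPGroup p S → ∀ {S' : Subgroup Ω} {F' : FusionSystem S'} {h k : Ω → Ω}, Transport F F' h k →
      ∃ C' : FusionSystem (himg h U), Transport C C' h k ∧ C'.IsSubnormalIn F' p := by
  revert ‹Fact p.Prime›
  induction hC with
  | @refl G q =>
    intro _ _ _ S' F' h k t
    have e : himg h U = S' := t.himg_base
    subst e
    exact ⟨F', t, .refl _ _⟩
  | @step W R C D G q hCD hDF ih =>
    intro _ hfin hS S' F' h k t
    have hW := hDF.1.2.2.2.1.1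
    haveI := finite_of_le_base hW
    obtain ⟨D', s⟩ := t.exists_image hW D
    obtain ⟨C', sC, hsub⟩ := ih inferInstance (hS.to_le hW) s
    exact ⟨C', sC, .step hsub (t.normal s hS hDF)⟩

end CfsgLib.Fsys.Tr
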