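import Cfsg.Agent.Lib.FusionSystem.Realized
import Mathlib.GroupTheory.FreeGroup.NielsenSchreier
import Mathlib.GroupTheory.FreeGroup.Reduce
import Mathlib.GroupTheory.SemidirectProduct

/-! Every fusion system is realized by a virtually free group: lifts of `Perm S` to a tree. -/

set_option autoImplicit false
set_option linter.unusedSectionVars false

namespace CfsgLib.Fsys.VFree

open Cfsg Cfsg.FusionSystem

universe u v

/-! ### Words -/

section Words

variable {α : Type v} [DecidableEq α]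

theorem toWord_mk_of_isReduced {L : List (α × Bool)} (h : FreeGroup.IsReduced L) :
    (FreeGroup.mk L).toWord = L := by rw [FreeGroup.toWord_mk, h.reduce_eq]

theorem toWord_congr (f : α ≃ α) (w : FreeGroup α) :
    (FreeGroup.freeGroupCongr f w).toWord = w.toWord.map fun l => (f l.1, l.2) := by
  conv_lhs => rw [← FreeGroup.mk_toWord (x := w), FreeGroup.freeGroupCongr_apply, FreeGroup.map.mk]
  exact toWord_mk_of_isReduced ((List.isChain_map _).2
    ((FreeGroup.isReduced_toWord (x := w)).imp fun a b h e => h (f.injective e)))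

theorem norm_mk_le (L : List (α × Bool)) : (FreeGroup.mk L).norm ≤ L.length := by
  rw [FreeGroup.norm, FreeGroup.toWord_mk]
  exact (FreeGroup.reduce.red (L := L)).length_le

theorem isReduced_invRev {L : List (α × Bool)} (h : FreeGroup.IsReduced L) :
    FreeGroup.IsReduced (FreeGroup.invRev L) := by
  have := FreeGroup.isReduced_toWord (x := (FreeGroup.mk L)⁻¹)
  rwa [FreeGroup.toWord_inv, toWord_mk_of_isReduced h] at this

omit [DecidableEq α] in
theorem exists_common (A B : List (α × Bool)) :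
    ∃ P A' B', A = P ++ A' ∧ B = P ++ B' ∧ ∀ x ∈ A'.head?, ∀ y ∈ B'.head?, x ≠ y := by
  induction A generalizing B with
  | nil => exact ⟨[], [], B, rfl, rfl, by simp⟩
  | cons a A ih =>
    cases B with
    | nil => exact ⟨[], a :: A, [], rfl, rfl, by simp⟩
    | cons b B =>
      by_cases h : a = b
      · obtain ⟨P, A', B', h1, h2, h3⟩ := ih B
        exact ⟨a :: P, A', B', by simp [h1], by simp [h, h2], h3⟩
      · exact ⟨[], a :: A, b :: B, rfl, rfl, by simpa using h⟩

/-- The middle of a longest geodesic is close to a point close to both ends. -/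
theorem prefix_dist {m c : ℕ} (w x : FreeGroup α) (hm : w.norm = m) (hc : c ≤ m) (hx : x.norm ≤ m)
    (hxw : (x⁻¹ * w).norm ≤ m) :
    (x⁻¹ * FreeGroup.mk (w.toWord.take c)).norm ≤ max c (m - c) := by
  obtain ⟨P, A, B, hA, hB, hne⟩ := exists_common x.toWord w.toWord
  have hx' : x = FreeGroup.mk (P ++ A) := by rw [← hA, FreeGroup.mk_toWord]
  have hw' : w = FreeGroup.mk (P ++ B) := by rw [← hB, FreeGroup.mk_toWord]
  have hAr : FreeGroup.IsReduced A :=
    (hA ▸ FreeGroup.isReduced_toWord (x := x) : FreeGroup.IsReduced (P ++ A)).infix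
      (List.suffix_append _ _).isInfix
  have hBr : FreeGroup.IsReduced B :=
    (hB ▸ FreeGroup.isReduced_toWord (x := w) : FreeGroup.IsReduced (P ++ B)).infix
      (List.suffix_append _ _).isInfix
  have e : x⁻¹ * w = FreeGroup.mk (FreeGroup.invRev A ++ B) := by
    rw [hx', hw', ← FreeGroup.mul_mk, ← FreeGroup.mul_mk, ← FreeGroup.mul_mk, ← FreeGroup.inv_mk]
    group
  have hred : FreeGroup.IsReduced (FreeGroup.invRev A ++ B) := by
    refine List.isChain_append.2 ⟨isReduced_invRev hAr, hBr, ?_⟩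
    intro p hp q hq
    cases A with
    | nil => simp [FreeGroup.invRev] at hp
    | cons a A =>
      simp only [FreeGroup.invRev, List.map_cons, List.reverse_cons, List.getLast?_append,
        List.getLast?_singleton, Option.mem_def, Option.some_or, Option.some.injEq] at hp
      subst hp
      intro h1
      have := hne a (by simp) q hq
      obtain ⟨q1, q2⟩ := q
      obtain ⟨a1, a2⟩ := a
      simp only at h1 ⊢
      subst h1
      cases a2 <;> cases q2 <;> simp_all
  rw [e, FreeGroup.norm, toWord_mk_of_isReduced hred, List.length_append, FreeGroup.invRev_length] at hxw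
  have hxlen : P.length + A.length ≤ m := by rw [← List.length_append, ← hA]; exact hx
  have hwlen : P.length + B.length = m := by rw [← List.length_append, ← hB]; exact hm
  rw [hB, List.take_append]
  by_cases hcP : c ≤ P.length
  · rw [Nat.sub_eq_zero_of_le hcP, List.take_zero, List.append_nil, hx']
    have e2 : (FreeGroup.mk (P ++ A))⁻¹ * FreeGroup.mk (P.take c) =
        FreeGroup.mk (FreeGroup.invRev (P.drop c ++ A)) := by
      rw [← FreeGroup.inv_mk]
      nth_rewrite 1 [← List.take_append_drop c P]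
      rw [List.append_assoc, ← FreeGroup.mul_mk]
      group
    rw [e2]
    refine (norm_mk_le _).trans ?_
    rw [FreeGroup.invRev_length, List.length_append, List.length_drop]
    omega
  · rw [List.take_of_length_le (by omega), hx']
    have e2 : (FreeGroup.mk (P ++ A))⁻¹ * FreeGroup.mk (P ++ B.take (c - P.length)) =
        FreeGroup.mk (FreeGroup.invRev A ++ B.take (c - P.length)) := by
      rw [← FreeGroup.mul_mk, ← FreeGroup.mul_mk, ← FreeGroup.mul_mk, ← FreeGroup.inv_mk]
      group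
    rw [e2]
    refine (norm_mk_le _).trans ?_
    rw [List.length_append, FreeGroup.invRev_length, List.length_take]
    omega

theorem parity (z w : FreeGroup α) : (z.norm + (z⁻¹ * w).norm) % 2 = w.norm % 2 := by
  let π : FreeGroup α →* Multiplicative (ZMod 2) := FreeGroup.lift fun _ => Multiplicative.ofAdd 1
  have h : ∀ L : List (α × Bool), π (FreeGroup.mk L) = Multiplicative.ofAdd ((L.length : ℕ) : ZMod 2) := by
    intro L
    induction L with
    | nil => simp [← FreeGroup.one_eq_mk]
    | cons a L ih =>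
      rw [← List.singleton_append, ← FreeGroup.mul_mk, map_mul, ih, List.length_append, List.length_singleton,
        Nat.cast_add, ofAdd_add]
      congr 1
      obtain ⟨a, b⟩ := a
      cases b <;> simp [π, FreeGroup.lift_mk] <;> decide
  have h' : ∀ x : FreeGroup α, π x = Multiplicative.ofAdd ((x.norm : ℕ) : ZMod 2) := fun x => by
    conv_lhs => rw [← FreeGroup.mk_toWord (x := x)]
    exact h _
  have h2 := congrArg π (mul_inv_cancel_left z w)
  rw [map_mul, h' z, h' (z⁻¹ * w), h' w, ← ofAdd_add, ← Nat.cast_add] at h2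
  exact (ZMod.natCast_eq_natCast_iff' _ _ 2).1 (Multiplicative.ofAdd.injective h2)

theorem eq_prefix {z w : FreeGroup α} (h : z.norm + (z⁻¹ * w).norm = w.norm) :
    z = FreeGroup.mk (w.toWord.take z.norm) := by
  have h1 := FreeGroup.toWord_mul_sublist z (z⁻¹ * w)
  rw [mul_inv_cancel_left] at h1
  have h2 := h1.eq_of_length (by rw [List.length_append]; exact h.symm)
  rw [h2, FreeGroup.norm, List.take_left, FreeGroup.mk_toWord]

end Words

/-! ### The graph -/

variable {Ω : Type u} [Group Ω] {S : Subgroup Ω} [Finite S] (F : FusionSystem S)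

/-- The left regular representation. -/
abbrev reg : S →* Equiv.Perm S := MulAction.toPermHom S S

theorem reg_apply (x s : S) : reg x s = x * s := rfl

theorem reg_injective : Function.Injective (reg (S := S)) := fun a b h => by
  simpa using DFunLike.congr_fun h 1

/-- An injective map between subgroups of `S` is conjugation in `Perm S`. -/
theorem exists_perm {P : Subgroup Ω} {φ : P →* Ω} (hP : P ≤ S) (hφ : ∀ x : P, φ x ∈ S)
    (hinj : Function.Injective φ) :
    ∃ σ : Equiv.Perm S, ∀ x : P, σ * reg (S := S) ⟨x, hP x.2⟩ = reg (S := S) ⟨φ x, hφ x⟩ * σ := by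
  classical
  let A : Subgroup S := P.subgroupOf S
  let e : A ≃* P := Subgroup.subgroupOfEquivOfLe hP
  let f : A →* S := (φ.codRestrict S hφ).comp e.toMonoidHom
  have hf : Function.Injective f := fun a b h => e.injective (hinj (congrArg Subtype.val h))
  have hidx : Nat.card (S ⧸ A) = Nat.card (S ⧸ f.range) := by
    rw [← Subgroup.index_eq_card, ← Subgroup.index_eq_card]
    refine Nat.eq_of_mul_eq_mul_left (Nat.card_pos (α := A)) ?_
    rw [Subgroup.card_mul_index, Nat.card_congr (MonoidHom.ofInjective hf).toEquiv, Subgroup.card_mul_index]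
  obtain ⟨ε⟩ : Nonempty (S ⧸ A ≃ S ⧸ f.range) := ⟨Finite.equivFinOfCardEq hidx |>.trans (Finite.equivFin _).symm⟩
  let τ : S → S := fun s => (ε (s : S ⧸ A)).out * f ⟨((s : S ⧸ A).out)⁻¹ * s,
    QuotientGroup.eq.1 (QuotientGroup.out_eq' _)⟩
  have hτm : ∀ (s : S) (a : A), τ (s * a) = τ s * f a := fun s a => by
    have hc : ((s * a : S) : S ⧸ A) = (s : S ⧸ A) := QuotientGroup.eq.2 (by simp)
    show _ * _ = _ * _ * _
    rw [mul_assoc, ← map_mul]
    congr 1
    · rw [hc]
    · congr 1
      apply Subtype.ext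
      show _ * _ = _ * _ * _
      rw [hc, mul_assoc]
  have hτ : Function.Injective τ := fun s t h => by
    have h1 : ∀ s : S, ((τ s : S) : S ⧸ f.range) = ε (s : S ⧸ A) := fun s => by
      conv_rhs => rw [← QuotientGroup.out_eq' (ε (s : S ⧸ A))]
      exact QuotientGroup.eq.2 (by simp [τ])
    have h2 : (s : S ⧸ A) = t := ε.injective (by rw [← h1, ← h1, h])
    obtain ⟨a, ha⟩ : ∃ a : A, t = s * a := ⟨⟨s⁻¹ * t, QuotientGroup.eq.1 h2⟩, by simp⟩
    subst ha
    rw [hτm] at h
    have : f a = f 1 := by rw [map_one]; exact (mul_eq_left.1 h.symm)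
    rw [hf this]
    simp
  refine ⟨Equiv.ofBijective (fun s => (τ s⁻¹)⁻¹) (Finite.injective_iff_bijective.1 fun s t h =>
    inv_injective (hτ (inv_injective h))), fun x => Equiv.ext fun s => ?_⟩
  show (τ (⟨x, hP x.2⟩ * s)⁻¹)⁻¹ = ⟨φ x, hφ x⟩ * (τ s⁻¹)⁻¹
  let a : A := ⟨⟨x, hP x.2⟩, x.2⟩
  have ha : ((⟨x, hP x.2⟩ : S) * s)⁻¹ = s⁻¹ * ((a⁻¹ : A) : S) := by rw [mul_inv_rev]; rfl
  rw [ha, hτm, map_inv, mul_inv_rev, inv_inv]
  rfl

/-- The maps of the system, as labels of edges. -/
abbrev Idx : Type u := {j : Σ P : Subgroup Ω, (P →* Ω) // j.2 ∈ F.Hom j.1}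

variable {F}

theorem Idx.le (j : Idx F) : j.1.1 ≤ S := (F.le_of_mem j.2).1

theorem Idx.mem (j : Idx F) (x : j.1.1) : j.1.2 x ∈ S := (F.le_of_mem j.2).2 x

/-- A permutation inducing the map `j`. -/
noncomputable def perm (j : Idx F) : Equiv.Perm S :=
  (exists_perm j.le j.mem (F.injective_of_mem j.2)).choose

theorem perm_spec (j : Idx F) (x : j.1.1) :
    perm j * reg (S := S) ⟨x, j.le x.2⟩ = reg (S := S) ⟨j.1.2 x, j.mem x⟩ * perm j :=
  (exists_perm j.le j.mem (F.injective_of_mem j.2)).choose_spec x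

/-- The stabiliser of the standard edge labelled `j`. -/
def edgeStab (j : Idx F) : Subgroup (Equiv.Perm S) := (j.1.1.subgroupOf S).map reg

variable (F)

/-- Edges. -/
abbrev Edge : Type u := Σ j : Idx F, Equiv.Perm S ⧸ edgeStab j

variable (S) in
/-- Vertices. -/
abbrev Vert : Type u := Equiv.Perm S ⧸ (reg (S := S)).range

variable {F}

variable (S) in
/-- The base vertex. -/
abbrev base : Vert S := ((1 : Equiv.Perm S) : Vert S)

theorem smul_vert (q a : Equiv.Perm S) : q • ((a : Equiv.Perm S) : Vert S) = ((q * a : Equiv.Perm S) : Vert S) := rfl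

/-- The action on edges. -/
def edgeAct (q : Equiv.Perm S) : Edge F ≃ Edge F where
  toFun e := ⟨e.1, q • e.2⟩
  invFun e := ⟨e.1, q⁻¹ • e.2⟩
  left_inv e := by obtain ⟨j, c⟩ := e; simp
  right_inv e := by obtain ⟨j, c⟩ := e; simp

/-- The source of an edge. -/
noncomputable def src (e : Edge F) : Vert S :=
  Quotient.liftOn' e.2 (fun g => (g : Vert S)) fun a b h => by
    rw [QuotientGroup.eq]
    obtain ⟨x, -, hx⟩ := QuotientGroup.leftRel_apply.1 h
    exact ⟨x, hx⟩

/-- The target of an edge. -/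
noncomputable def tgt (e : Edge F) : Vert S :=
  Quotient.liftOn' e.2 (fun g => ((g * (perm e.1)⁻¹ : Equiv.Perm S) : Vert S)) fun a b h => by
    rw [QuotientGroup.eq]
    obtain ⟨x, hxP, hx⟩ := QuotientGroup.leftRel_apply.1 h
    refine ⟨⟨e.1.1.2 ⟨x, hxP⟩, e.1.mem _⟩, ?_⟩
    have h1 : perm e.1 * reg x = reg (S := S) ⟨e.1.1.2 ⟨x, hxP⟩, e.1.mem _⟩ * perm e.1 := perm_spec e.1 ⟨x, hxP⟩
    rw [eq_mul_inv_iff_mul_eq.2 h1.symm |>.trans rfl, hx]
    group

/-- The ends of a letter. -/
noncomputable def ls (l : Edge F × Bool) : Vert S := cond l.2 (src l.1) (tgt l.1)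

/-- The ends of a letter. -/
noncomputable def le' (l : Edge F × Bool) : Vert S := cond l.2 (tgt l.1) (src l.1)

/-- A word is a path. -/
def Path : Vert S → List (Edge F × Bool) → Vert S → Prop
  | v, [], w => v = w
  | v, l :: L, w => ls l = v ∧ Path (le' l) L w

theorem path_append {L M : List (Edge F × Bool)} {v w : Vert S} :
    Path v (L ++ M) w ↔ ∃ u, Path v L u ∧ Path u M w := by
  induction L generalizing v with
  | nil => simp [Path]
  | cons l L ih => simp [Path, ih, and_assoc]

theorem path_red {L M : List (Edge F × Bool)} (h : FreeGroup.Red L M) {v w : Vert S} (hL : Path v L w) :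
    Path v M w := by
  induction h with
  | refl => exact hL
  | tail _ hstep ih =>
    cases hstep with
    | @not L₁ L₂ x b =>
      obtain ⟨u, h1, h2, h3, h4⟩ := path_append.1 ih
      refine path_append.2 ⟨u, h1, ?_⟩
      have : le' (x, !b) = u := by
        rw [← h2]
        cases b <;> rfl
      exact this ▸ h4

theorem path_invRev {L : List (Edge F × Bool)} {v w : Vert S} (h : Path v L w) :
    Path w (FreeGroup.invRev L) v := by
  induction L generalizing v with
  | nil => exact (show v = w from h).symm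
  | cons l L ih =>
    obtain ⟨h1, h2⟩ := h
    rw [show FreeGroup.invRev (l :: L) = FreeGroup.invRev L ++ [(l.1, !l.2)] by simp [FreeGroup.invRev]]
    refine path_append.2 ⟨_, ih h2, ?_, ?_⟩
    · obtain ⟨x, b⟩ := l
      cases b <;> rfl
    · rw [← h1]
      obtain ⟨x, b⟩ := l
      cases b <;> rfl

theorem src_act (q : Equiv.Perm S) (e : Edge F) : src (edgeAct q e) = q • src e := by
  obtain ⟨j, c⟩ := e
  induction c using QuotientGroup.induction_on with
  | _ g => rfl

theorem tgt_act (q : Equiv.Perm S) (e : Edge F) : tgt (edgeAct q e) = q • tgt e := by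
  obtain ⟨j, c⟩ := e
  induction c using QuotientGroup.induction_on with
  | _ g =>
    show ((q * g * (perm j)⁻¹ : Equiv.Perm S) : Vert S) = ((q * (g * (perm j)⁻¹) : Equiv.Perm S) : Vert S)
    rw [mul_assoc]

theorem path_act (q : Equiv.Perm S) {L : List (Edge F × Bool)} {v w : Vert S} (h : Path v L w) :
    Path (q • v) (L.map fun l => (edgeAct q l.1, l.2)) (q • w) := by
  induction L generalizing v with
  | nil => exact congrArg (q • ·) (show v = w from h)
  | cons l L ih =>
    obtain ⟨h1, h2⟩ := h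
    obtain ⟨x, b⟩ := l
    refine ⟨?_, ?_⟩
    · rw [← h1]
      cases b
      · exact tgt_act q x
      · exact src_act q x
    · have := ih h2
      cases b
      · exact (show le' (edgeAct q x, false) = q • le' (x, false) from src_act q x) ▸ this
      · exact (show le' (edgeAct q x, true) = q • le' (x, true) from tgt_act q x) ▸ this

variable (F)

/-- The action on the free group on the edges. -/
def act : Equiv.Perm S →* MulAut (FreeGroup (Edge F)) where
  toFun q := FreeGroup.freeGroupCongr (edgeAct q)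
  map_one' := by
    refine MulEquiv.toMonoidHom_injective (FreeGroup.ext_hom _ _ fun e => ?_)
    obtain ⟨j, c⟩ := e
    simp [edgeAct]
  map_mul' q r := by
    refine MulEquiv.toMonoidHom_injective (FreeGroup.ext_hom _ _ fun e => ?_)
    obtain ⟨j, c⟩ := e
    simp [edgeAct, mul_smul]

variable {F}

theorem toWord_act [DecidableEq (Edge F)] (q : Equiv.Perm S) (w : FreeGroup (Edge F)) :
    (act F q w).toWord = w.toWord.map fun l => (edgeAct q l.1, l.2) := toWord_congr _ _

theorem norm_act [DecidableEq (Edge F)] (q : Equiv.Perm S) (w : FreeGroup (Edge F)) :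
    (act F q w).norm = w.norm := by
  rw [FreeGroup.norm, FreeGroup.norm, toWord_act, List.length_map]

variable (F)

open Classical in
/-- The group of lifts. -/
def lifts : Subgroup (FreeGroup (Edge F) ⋊[act F] Equiv.Perm S) where
  carrier := {z | Path (base S) z.left.toWord (z.right • base S)}
  one_mem' := by
    show Path (base S) (1 : FreeGroup (Edge F) ⋊[act F] Equiv.Perm S).left.toWord _
    rw [SemidirectProduct.one_left, FreeGroup.toWord_one]
    exact (one_smul _ _).symm
  mul_mem' := fun {a b} ha hb => by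
    show Path (base S) (a * b).left.toWord _
    rw [SemidirectProduct.mul_left, FreeGroup.toWord_mul, toWord_act, SemidirectProduct.mul_right, mul_smul]
    exact path_red FreeGroup.reduce.red (path_append.2 ⟨_, ha, path_act a.right hb⟩)
  inv_mem' := fun {a} ha => by
    show Path (base S) a⁻¹.left.toWord _
    rw [SemidirectProduct.inv_left, toWord_act, FreeGroup.toWord_inv, SemidirectProduct.inv_right]
    have := path_act a.right⁻¹ (path_invRev ha)
    rwa [inv_smul_smul] at this

theorem mem_lifts [DecidableEq (Edge F)] {z : FreeGroup (Edge F) ⋊[act F] Equiv.Perm S} :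
    z ∈ lifts F ↔ Path (base S) z.left.toWord (z.right • base S) := by
  show Path _ _ _ ↔ _
  convert Iff.rfl

/-- The embedding of `S`. -/
def incl : S →* lifts F :=
  (SemidirectProduct.inr.comp reg).codRestrict (lifts F) fun x => by
    classical
    rw [mem_lifts]
    show Path (base S) (SemidirectProduct.inr (φ := act F) (reg x)).left.toWord _
    rw [SemidirectProduct.left_inr, FreeGroup.toWord_one]
    show base S = ((reg x * 1 : Equiv.Perm S) : Vert S)
    rw [mul_one, eq_comm, QuotientGroup.eq, mul_one, inv_mem_iff]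
    exact ⟨x, rfl⟩

variable {F}

theorem smul_base (q : Equiv.Perm S) : q • base S = ((q : Equiv.Perm S) : Vert S) := by
  rw [smul_vert, mul_one]

theorem exists_reg {a b : Equiv.Perm S} (h : ((a : Equiv.Perm S) : Vert S) = (b : Equiv.Perm S)) :
    ∃ s : S, b = a * reg s := by
  obtain ⟨s, hs⟩ := QuotientGroup.eq.1 h
  exact ⟨s, by rw [hs, mul_inv_cancel_left]⟩

/-- Fixed paths give maps of the system. -/
theorem path_map (L : List (Edge F × Bool)) : ∀ (a b : Equiv.Perm S) (P : Subgroup Ω) (hP : P ≤ S),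
    Path (a : Vert S) L (b : Vert S) →
    (∀ (x : Ω) (hx : x ∈ P), ∀ l ∈ L, edgeAct (a * reg (S := S) ⟨x, hP hx⟩ * a⁻¹) l.1 = l.1) →
    ∃ f : Ω → Ω, Fn F P f ∧ ∀ (x : Ω) (hx : x ∈ P), ∃ hy : f x ∈ S,
      b * reg (S := S) ⟨f x, hy⟩ = a * reg (S := S) ⟨x, hP hx⟩ * a⁻¹ * b := by
  induction L with
  | nil =>
    intro a b P hP h _
    obtain ⟨s, rfl⟩ := exists_reg (show ((a : Equiv.Perm S) : Vert S) = _ from h)
    refine ⟨_, fn_conj hP (S.inv_mem s.2), fun x hx => ?_⟩
    have hy : (s : Ω)⁻¹ * x * (s : Ω)⁻¹⁻¹ ∈ S :=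
      S.mul_mem (S.mul_mem (S.inv_mem s.2) (hP hx)) (S.inv_mem (S.inv_mem s.2))
    refine ⟨hy, ?_⟩
    rw [show (⟨_, hy⟩ : S) = s⁻¹ * ⟨x, hP hx⟩ * s from Subtype.ext (by simp), map_mul, map_mul, map_inv]
    group
  | cons l L ih =>
    intro a b P hP hL hfix
    obtain ⟨h1, h2⟩ := hL
    obtain ⟨⟨j, c⟩, β⟩ := l
    induction c using QuotientGroup.induction_on with
    | _ h =>
      have hst : ∀ (x : Ω) (hx : x ∈ P), ∃ y : j.1.1,
          reg (S := S) ⟨(y : Ω), j.le y.2⟩ = h⁻¹ * (a * reg (S := S) ⟨x, hP hx⟩ * a⁻¹) * h := fun x hx => by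
        have := eq_of_heq (Sigma.mk.inj (hfix x hx _ List.mem_cons_self)).2
        obtain ⟨⟨y, hyS⟩, hy, hye⟩ := QuotientGroup.eq.1 this
        refine ⟨⟨y, hy⟩⁻¹, ?_⟩
        rw [show (⟨(((⟨y, hy⟩ : j.1.1)⁻¹ : j.1.1) : Ω), j.le (⟨y, hy⟩⁻¹ : j.1.1).2⟩ : S) = (⟨y, hyS⟩ : S)⁻¹ from rfl,
          map_inv, hye]
        simp only [smul_eq_mul, mul_inv_rev, inv_inv]
        group
      have haux : ∀ g : Ω → Ω, Fn F P g → (a' : Equiv.Perm S) → le' ((⟨j, (h : Equiv.Perm S ⧸ edgeStab j)⟩ : Edge F), β) = (a' : Vert S) →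
          (∀ (x : Ω) (hx : x ∈ P), ∃ hy : g x ∈ S, a' * reg (S := S) ⟨g x, hy⟩ = a * reg (S := S) ⟨x, hP hx⟩ * a⁻¹ * a') →
          ∃ f : Ω → Ω, Fn F P f ∧ ∀ (x : Ω) (hx : x ∈ P), ∃ hy : f x ∈ S,
            b * reg (S := S) ⟨f x, hy⟩ = a * reg (S := S) ⟨x, hP hx⟩ * a⁻¹ * b := by
        intro g hg a' ha' hga
        obtain ⟨f, hf, hfe⟩ := ih a' b (img g P) hg.img_le_base (ha' ▸ h2) fun y hy l hl => by
          obtain ⟨x, hx, rfl⟩ := hg.mem_img.1 hy
          obtain ⟨hy', e⟩ := hga x hx
          rw [e, mul_inv_cancel_right]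
          exact hfix x hx l (List.mem_cons_of_mem _ hl)
        refine ⟨f ∘ g, hg.comp hf fun x hx => mem_img_of_mem hx, fun x hx => ?_⟩
        obtain ⟨hy, e⟩ := hfe (g x) (mem_img_of_mem hx)
        obtain ⟨hy', e'⟩ := hga x hx
        refine ⟨hy, e.trans ?_⟩
        rw [e', mul_inv_cancel_right]
      cases β with
      | true =>
        obtain ⟨s, hs⟩ := exists_reg (show ((a : Equiv.Perm S) : Vert S) = (h : Equiv.Perm S) from h1.symm)
        have hconj : ∀ x ∈ P, (s : Ω)⁻¹ * x * (s : Ω)⁻¹⁻¹ ∈ j.1.1 := fun x hx => by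
          obtain ⟨y, hy⟩ := hst x hx
          have : (⟨(y : Ω), j.le y.2⟩ : S) = s⁻¹ * ⟨x, hP hx⟩ * s := reg_injective (by
            rw [hy, hs, map_mul, map_mul, map_inv]; group)
          rw [inv_inv, show (s : Ω)⁻¹ * x * s = (y : Ω) from (congrArg Subtype.val this).symm]
          exact y.2
        refine haux _ ((fn_conj hP (S.inv_mem s.2)).comp (fn_ofHom j.2) hconj) (h * (perm j)⁻¹) rfl fun x hx => ?_
        obtain ⟨y, hy⟩ := hst x hx
        have e : (⟨_, hconj x hx⟩ : j.1.1) = y := Subtype.ext (congrArg (fun t : S => (t : Ω)) (reg_injective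
          (a₁ := (⟨_, j.le (hconj x hx)⟩ : S)) (a₂ := ⟨(y : Ω), j.le y.2⟩) (by
            rw [hy, hs, show (⟨_, j.le (hconj x hx)⟩ : S) = s⁻¹ * ⟨x, hP hx⟩ * s from Subtype.ext (by simp),
              map_mul, map_mul, map_inv]
            group) : _))
        have hval : ofHom j.1.2 ((s : Ω)⁻¹ * x * (s : Ω)⁻¹⁻¹) = j.1.2 y := by
          rw [ofHom_apply j.1.2 (hconj x hx), e]
        refine ⟨by rw [Function.comp_apply, hval]; exact j.mem y, ?_⟩
        simp only [Function.comp_apply, hval]
        have h3 := perm_spec j y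
        rw [hy] at h3
        calc h * (perm j)⁻¹ * reg (S := S) ⟨j.1.2 y, j.mem y⟩
            = h * (perm j)⁻¹ * (reg (S := S) ⟨j.1.2 y, j.mem y⟩ * perm j) * (perm j)⁻¹ := by group
          _ = _ := by rw [← h3]; group
      | false =>
        obtain ⟨s, hs⟩ := exists_reg
          (show ((a : Equiv.Perm S) : Vert S) = (h * (perm j)⁻¹ : Equiv.Perm S) from h1.symm)
        obtain ⟨k, hk, hkφ, -⟩ := (fn_ofHom j.2).exists_inv
        have hconj : ∀ (x : Ω) (hx : x ∈ P), ∃ y : j.1.1, (s : Ω)⁻¹ * x * (s : Ω)⁻¹⁻¹ = j.1.2 y ∧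
            reg (S := S) ⟨(y : Ω), j.le y.2⟩ = h⁻¹ * (a * reg (S := S) ⟨x, hP hx⟩ * a⁻¹) * h := fun x hx => by
          obtain ⟨y, hy⟩ := hst x hx
          refine ⟨y, ?_, hy⟩
          have : (⟨j.1.2 y, j.mem y⟩ : S) = s⁻¹ * ⟨x, hP hx⟩ * s := reg_injective (by
            rw [map_mul, map_mul, map_inv, ← mul_inv_cancel_right (reg (S := S) ⟨j.1.2 y, j.mem y⟩) (perm j),
              ← perm_spec, hy, show h = a * reg s * perm j by rw [← hs, inv_mul_cancel_right]]
            group)
          rw [inv_inv]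
          exact (congrArg Subtype.val this).symm
        have hm : ∀ x ∈ P, (s : Ω)⁻¹ * x * (s : Ω)⁻¹⁻¹ ∈ img (ofHom j.1.2) j.1.1 := fun x hx => by
          obtain ⟨y, e, -⟩ := hconj x hx
          rw [e, ← ofHom_apply j.1.2 y.2]
          exact mem_img_of_mem y.2
        refine haux _ ((fn_conj hP (S.inv_mem s.2)).comp hk hm) h rfl fun x hx => ?_
        obtain ⟨y, e, hy⟩ := hconj x hx
        have hval : k ((s : Ω)⁻¹ * x * (s : Ω)⁻¹⁻¹) = y := by
          rw [e, ← ofHom_apply j.1.2 y.2, hkφ _ y.2]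
        refine ⟨by rw [Function.comp_apply, hval]; exact j.le y.2, ?_⟩
        simp only [Function.comp_apply, hval, hy]
        group

variable (F)

theorem realized : F.IsRealizedBy (incl F) := by
  classical
  refine ⟨fun a b h => reg_injective (congrArg (fun z : lifts F => z.1.right) h), fun P hP φ hφ => ⟨fun hmem => ?_, ?_⟩⟩
  · let j : Idx F := ⟨⟨P, φ⟩, hmem⟩
    let e₀ : Edge F := ⟨j, ((1 : Equiv.Perm S) : Equiv.Perm S ⧸ edgeStab j)⟩
    let z : lifts F := ⟨⟨FreeGroup.of e₀, (perm j)⁻¹⟩, by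
      rw [mem_lifts, FreeGroup.toWord_of]
      refine ⟨rfl, ?_⟩
      show ((1 * (perm j)⁻¹ : Equiv.Perm S) : Vert S) = _
      rw [smul_base, one_mul]⟩
    refine ⟨z⁻¹, fun x => ?_⟩
    rw [inv_inv]
    refine eq_inv_mul_iff_mul_eq.2 ?_ |>.trans (mul_assoc _ _ _).symm
    refine Subtype.ext (SemidirectProduct.ext ?_ ?_)
    · show FreeGroup.of e₀ * act F (perm j)⁻¹ 1 = 1 * act F (reg (S := S) ⟨x, hP x.2⟩) (FreeGroup.of e₀)
      rw [map_one, mul_one, one_mul]
      show _ = FreeGroup.freeGroupCongr _ (FreeGroup.of e₀)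
      rw [FreeGroup.freeGroupCongr_apply, FreeGroup.map.of]
      congr 1
      show (⟨j, ((1 : Equiv.Perm S) : Equiv.Perm S ⧸ edgeStab j)⟩ : Edge F) =
        ⟨j, ((reg (S := S) ⟨x, hP x.2⟩ * 1 : Equiv.Perm S) : Equiv.Perm S ⧸ edgeStab j)⟩
      congr 1
      rw [QuotientGroup.eq, inv_one, one_mul, mul_one]
      exact ⟨⟨x, hP x.2⟩, x.2, rfl⟩
    · show (perm j)⁻¹ * reg (S := S) ⟨φ x, hφ x⟩ = reg (S := S) ⟨x, hP x.2⟩ * (perm j)⁻¹
      rw [inv_mul_eq_iff_eq_mul, ← mul_assoc, perm_spec j x, mul_inv_cancel_right]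
  · rintro ⟨⟨z, hz⟩, hzφ⟩
    rw [mem_lifts] at hz
    rw [smul_base] at hz
    have hcomm : ∀ x : P, (act F (reg (S := S) ⟨φ x, hφ x⟩) z.left = z.left) ∧
        reg (S := S) ⟨φ x, hφ x⟩ * z.right = z.right * reg (S := S) ⟨x, hP x.2⟩ := fun x => by
      have h := eq_mul_inv_iff_mul_eq.1 (hzφ x)
      have hl := congrArg (fun w : lifts F => w.1.left) h
      have hr := congrArg (fun w : lifts F => w.1.right) h
      simp [incl] at hl hr
      exact ⟨hl, hr⟩
    have hR : φ.range ≤ S := fun y ⟨x, hx⟩ => hx ▸ hφ x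
    obtain ⟨f, hf, hfe⟩ := path_map z.left.toWord 1 z.right φ.range hR hz fun y hy l hl => by
      obtain ⟨x, hx⟩ := hy
      have h1 := congrArg FreeGroup.toWord (hcomm x).1
      rw [toWord_act] at h1
      have h2 := congrArg Prod.fst (List.map_inj_left.1 (h1.trans (List.map_id _).symm) l hl)
      rw [one_mul, inv_one, mul_one]
      subst hx
      exact h2
    have hfφ : ∀ x : P, f (φ x) = x := fun x => by
      obtain ⟨hy, e⟩ := hfe (φ x) ⟨x, rfl⟩
      rw [one_mul, inv_one, mul_one, (hcomm x).2, mul_right_inj] at e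
      exact congrArg Subtype.val (reg_injective e)
    obtain ⟨k, hk, hkf, -⟩ := hf.exists_inv
    refine mem_hom_of_fn (hk.mono fun x hx => ?_) fun x => ?_
    · have hm : φ ⟨x, hx⟩ ∈ φ.range := ⟨⟨x, hx⟩, rfl⟩
      have := mem_img_of_mem (f := f) hm
      rwa [hfφ] at this
    · rw [← hfφ x, hkf _ ⟨x, rfl⟩]

theorem finite_conj (H : Subgroup (lifts F)) (hH : Finite H) :
    ∃ g : lifts F, ∀ h ∈ H, g * h * g⁻¹ ∈ (incl F).range := by
  classical
  let W : lifts F → FreeGroup (Edge F) := fun h => h.1.left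
  let q : lifts F → Equiv.Perm S := fun h => h.1.right
  have hmul : ∀ a b : lifts F, W (a * b) = W a * act F (q a) (W b) := fun a b => rfl
  obtain ⟨⟨h₀, hh₀⟩, hmax⟩ := Finite.exists_max fun h : H => (W h).norm
  set m := (W h₀).norm
  have hdist : ∀ h ∈ H, ∀ k ∈ H, ((W h)⁻¹ * W k).norm ≤ m := fun h hh k hk => by
    have e : W k = W h * act F (q h) (W (h⁻¹ * k)) := by rw [← hmul, mul_inv_cancel_left]
    rw [e, inv_mul_cancel_left, norm_act]
    exact hmax ⟨_, H.mul_mem (H.inv_mem hh) hk⟩
  set a := m / 2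
  let pre : ℕ → FreeGroup (Edge F) := fun c => FreeGroup.mk ((W h₀).toWord.take c)
  let Near : FreeGroup (Edge F) → Prop := fun z => ∀ k ∈ H, ((W k)⁻¹ * z).norm ≤ m - a
  have hnear : ∀ c, a ≤ c → c ≤ m - a → Near (pre c) := fun c h1 h2 k hk => by
    refine (prefix_dist (W h₀) (W k) rfl (h2.trans (Nat.sub_le _ _)) (hmax ⟨k, hk⟩) (hdist k hk h₀ hh₀)).trans ?_
    omega
  have honly : ∀ z, Near z → z = pre a ∨ z = pre (a + 1) ∧ m = a + a + 1 := fun z hz => by
    have h1 := hz 1 H.one_mem
    rw [show W (1 : lifts F) = 1 from rfl, inv_one, one_mul] at h1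
    have h2 : (z⁻¹ * W h₀).norm ≤ m - a := by
      rw [← FreeGroup.norm_inv_eq, mul_inv_rev, inv_inv]
      exact hz h₀ hh₀
    have h3 := parity z (W h₀)
    have h4 : (W h₀).norm ≤ z.norm + (z⁻¹ * W h₀).norm := by
      have := FreeGroup.norm_mul_le z (z⁻¹ * W h₀)
      rwa [mul_inv_cancel_left] at this
    have h5 : z.norm + (z⁻¹ * W h₀).norm = (W h₀).norm := by omega
    have h6 := eq_prefix h5
    rcases (show z.norm = a ∨ z.norm = a + 1 ∧ m = a + a + 1 by omega) with h7 | ⟨h7, h8⟩
    · exact Or.inl (h7 ▸ h6)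
    · exact Or.inr ⟨h7 ▸ h6, h8⟩
  have hmove : ∀ h ∈ H, ∀ z, Near z → Near (W h * act F (q h) z) := fun h hh z hz k hk => by
    have e : W k = W h * act F (q h) (W (h⁻¹ * k)) := by rw [← hmul, mul_inv_cancel_left]
    rw [e, mul_inv_rev, mul_assoc, inv_mul_cancel_left, ← map_inv, ← map_mul, norm_act]
    exact hz _ (H.mul_mem (H.inv_mem hh) hk)
  have hfix : ∀ h ∈ H, W h * act F (q h) (pre a) = pre a := fun h hh => by
    rcases honly _ (hmove h hh _ (hnear a le_rfl (by omega))) with h1 | ⟨h1, hm⟩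
    · exact h1
    exfalso
    rcases honly _ (hmove h hh _ (hnear (a + 1) (Nat.le_succ a) (by omega))) with h2 | ⟨h2, -⟩
    · have hlt : a < (W h₀).toWord.length := by
        show a < (W h₀).norm
        omega
      have he : pre (a + 1) = pre a * FreeGroup.mk [(W h₀).toWord[a]] := by
        simp only [pre]
        rw [List.take_succ_eq_append_getElem hlt, ← FreeGroup.mul_mk]
      have h3 : act F (q h) (FreeGroup.mk [(W h₀).toWord[a]]) = (FreeGroup.mk [(W h₀).toWord[a]])⁻¹ := by
        rw [he] at h1 h2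
        rw [map_mul, ← mul_assoc, h1] at h2
        rw [mul_assoc, mul_eq_left] at h2
        exact eq_inv_of_mul_eq_one_right h2
      have h4 := congrArg FreeGroup.toWord h3
      rw [toWord_act, toWord_mk_of_isReduced FreeGroup.IsReduced.singleton, FreeGroup.toWord_inv,
        toWord_mk_of_isReduced FreeGroup.IsReduced.singleton] at h4
      simp [FreeGroup.invRev] at h4
    · have h3 := h1.trans h2.symm
      rw [mul_right_inj, EquivLike.apply_eq_iff_eq] at h3
      have h4 := congrArg FreeGroup.norm h3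
      simp only [pre] at h4
      have hr : ∀ c, FreeGroup.IsReduced ((W h₀).toWord.take c) := fun c =>
        FreeGroup.isReduced_toWord.infix (List.take_prefix _ _).isInfix
      rw [FreeGroup.norm, FreeGroup.norm, toWord_mk_of_isReduced (hr _), toWord_mk_of_isReduced (hr _),
        List.length_take, List.length_take] at h4
      have : (W h₀).toWord.length = m := rfl
      omega
  obtain ⟨u, hu, -⟩ : ∃ u, Path (base S) (((W h₀).toWord).take a) u ∧
      Path u (((W h₀).toWord).drop a) ((q h₀) • base S) :=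
    path_append.1 (by rw [List.take_append_drop]; exact (mem_lifts F).1 h₀.2)
  obtain ⟨b, rfl⟩ := QuotientGroup.mk_surjective u
  let g₀ : lifts F := ⟨⟨pre a, b⟩, by
    rw [mem_lifts, smul_base,
      toWord_mk_of_isReduced (FreeGroup.isReduced_toWord.infix (List.take_prefix _ _).isInfix)]
    exact hu⟩
  refine ⟨g₀⁻¹, fun h hh => ?_⟩
  set k := g₀⁻¹ * h * g₀⁻¹⁻¹ with hk
  have hk1 : W k = 1 := by
    rw [hk, inv_inv, mul_assoc, hmul, hmul, hfix h hh]
    show act F b⁻¹ (pre a)⁻¹ * act F b⁻¹ (pre a) = 1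
    rw [← map_mul, inv_mul_cancel, map_one]
  have hk2 := (mem_lifts F).1 k.2
  rw [show (k.1).left = 1 from hk1, FreeGroup.toWord_one, smul_base] at hk2
  obtain ⟨s, hs⟩ := exists_reg (show base S = _ from hk2)
  refine ⟨s, Subtype.ext (SemidirectProduct.ext hk1.symm ?_)⟩
  show reg s = k.1.right
  rw [hs, one_mul]

theorem exists_free_normal : ∃ N : Subgroup (lifts F), N.Normal ∧ IsFreeGroup N ∧
    N.index ∣ (Nat.card S).factorial := by
  let r : lifts F →* Equiv.Perm S := SemidirectProduct.rightHom.comp (lifts F).subtype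
  refine ⟨r.ker, inferInstance, ?_, ?_⟩
  · let l : r.ker →* FreeGroup (Edge F) := MonoidHom.mk' (fun z => z.1.1.left) fun a b => by
      show a.1.1.left * act F a.1.1.right b.1.1.left = _
      rw [show a.1.1.right = 1 from a.2, map_one]
      rfl
    have hl : Function.Injective l := fun a b h =>
      Subtype.ext (Subtype.ext (SemidirectProduct.ext h ((a.2 : a.1.1.right = 1).trans b.2.symm)))
    exact IsFreeGroup.ofMulEquiv (MonoidHom.ofInjective hl).symm
  · rw [Subgroup.index_ker, ← Nat.card_perm]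
    exact Subgroup.card_subgroup_dvd_card _

end CfsgLib.Fsys.VFree
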