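import Cfsg.Agent.Lib.FusionSystem.WeakNormalCore

/-! Maps of a weakly normal subsystem extending compatibly to the centralizer of its base. -/

set_option autoImplicit false

namespace CfsgLib.Fsys.WNR

open Cfsg Cfsg.FusionSystem
open Cfsg.FusionSystem (centralizerIn normalizerIn)
open scoped Pointwise

variable {Ω : Type*} [Group Ω] {S T : Subgroup Ω} {F : FusionSystem S} {E : FusionSystem T} {Y R : Subgroup Ω}

/-- The map extends to `C_S(T)`, moving each of its elements within a coset of `T`. -/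
def CExt (F : FusionSystem S) (T Y : Subgroup Ω) (f : Ω → Ω) : Prop :=
  ∃ h : Ω → Ω, Fn F (Y ⊔ centralizerIn S T) h ∧ (∀ y ∈ Y, h y = f y) ∧
    ∀ c ∈ centralizerIn S T, c⁻¹ * h c ∈ T

theorem centralizer_comm (hY : Y ≤ T) {c y : Ω} (hc : c ∈ centralizerIn S T) (hy : y ∈ Y) : y * c = c * y :=
  (mem_centralizerIn.1 hc).2 y (hY hy)

theorem mem_centralizer_of_le (hY : Y ≤ T) {c : Ω} (hc : c ∈ centralizerIn S T) : c ∈ centralizerIn S Y :=
  mem_centralizerIn.2 ⟨(mem_centralizerIn.1 hc).1, fun _ hy => centralizer_comm hY hc hy⟩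

theorem mem_sup_of_commute {A B : Subgroup Ω} (h : ∀ a ∈ A, ∀ b ∈ B, a * b = b * a) {x : Ω} (hx : x ∈ A ⊔ B) :
    ∃ a ∈ A, ∃ b ∈ B, x = a * b := by
  have hn : A ≤ Subgroup.normalizer (B : Set Ω) := fun a ha =>
    mem_normalizer_iff'.2 ⟨fun b hb => by rwa [h a ha b hb, mul_inv_cancel_right],
      fun b hb => by rwa [mul_assoc, ← h a ha b hb, inv_mul_cancel_left]⟩
  have hm : x ∈ ((A : Set Ω) * (B : Set Ω)) := by
    rw [← Subgroup.coe_mul_of_left_le_normalizer_right A B hn]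
    exact hx
  obtain ⟨a, ha, b, hb, rfl⟩ := hm
  exact ⟨a, ha, b, hb, rfl⟩

theorem mem_sup_centralizer (hY : Y ≤ T) {x : Ω} (hx : x ∈ Y ⊔ centralizerIn S T) :
    ∃ y ∈ Y, ∃ c ∈ centralizerIn S T, x = y * c :=
  mem_sup_of_commute (fun _ ha _ hb => centralizer_comm hY hb ha) hx

/-- A map of `Y ⊔ C_S(T)` sending both factors into a subgroup sends everything into it. -/
theorem map_sup_mem (hY : Y ≤ T) {h : Ω → Ω} (hh : Fn F (Y ⊔ centralizerIn S T) h) {M : Subgroup Ω}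
    (h1 : ∀ y ∈ Y, h y ∈ M) (h2 : ∀ c ∈ centralizerIn S T, h c ∈ M) :
    ∀ x ∈ Y ⊔ centralizerIn S T, h x ∈ M := fun x hx => by
  obtain ⟨y, hy, c, hc, rfl⟩ := mem_sup_centralizer hY hx
  rw [hh.map_mul (Subgroup.mem_sup_left hy) (Subgroup.mem_sup_right hc)]
  exact M.mul_mem (h1 y hy) (h2 c hc)

theorem move_mem (hE : E.IsInvariantIn F) (hY : E.IsCentric Y) {f h : Ω → Ω}
    (hh : Fn F (Y ⊔ centralizerIn S T) h) (hf : ∀ y ∈ Y, h y = f y) {c : Ω}
    (hc : c ∈ centralizerIn S T) (ht : c⁻¹ * h c ∈ T) : c⁻¹ * h c ∈ img f Y := by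
  have hfF : Fn F Y f := (hh.mono le_sup_left).congr hf
  refine mem_of_commute (centric_img hE hY hfF) ht fun z hz => ?_
  obtain ⟨y, hy, rfl⟩ := hfF.mem_img.1 hz
  have hyT : f y ∈ T := sc_apply hE.2.1 hfF hy (hY.1 hy)
  have h1 : f y * h c = h c * f y := by
    rw [← hf y hy, ← hh.map_mul (Subgroup.mem_sup_left hy) (Subgroup.mem_sup_right hc),
      ← hh.map_mul (Subgroup.mem_sup_right hc) (Subgroup.mem_sup_left hy), centralizer_comm hY.1 hc hy]
  have h2 : f y * c = c * f y := (mem_centralizerIn.1 hc).2 _ hyT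
  have h3 : f y * c⁻¹ = c⁻¹ * f y := (Commute.inv_right (show Commute (f y) c from h2)).eq
  rw [← mul_assoc, h3, mul_assoc, h1, ← mul_assoc]

theorem CExt.congr {f g : Ω → Ω} (h : CExt F T Y f) (he : ∀ y ∈ Y, f y = g y) : CExt F T Y g := by
  obtain ⟨k, hk, hkf, hkc⟩ := h
  exact ⟨k, hk, fun y hy => (hkf y hy).trans (he y hy), hkc⟩

theorem CExt.mono {f : Ω → Ω} (h : CExt F T Y f) (hR : R ≤ Y) : CExt F T R f := by
  obtain ⟨k, hk, hkf, hkc⟩ := h
  exact ⟨k, hk.mono (sup_le_sup_right hR _), fun y hy => hkf y (hR hy), hkc⟩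

theorem cExt_conj (hT : F.StronglyClosed T) (hY : Y ≤ T) {s : Ω} (hs : s ∈ T) :
    CExt F T Y (fun x => s * x * s⁻¹) :=
  ⟨_, fn_conj (sup_le (hY.trans hT.1) centralizerIn_le) (hT.1 hs), fun _ _ => rfl, fun c hc => by
    show c⁻¹ * (s * c * s⁻¹) ∈ T
    rw [centralizer_comm le_rfl hc hs]
    simp⟩

theorem CExt.comp (hE : E.IsInvariantIn F) (hY : E.IsCentric Y) (hR : R ≤ T) {f g : Ω → Ω}
    (hm : ∀ y ∈ Y, f y ∈ R) (h : CExt F T Y f) (h' : CExt F T R g) : CExt F T Y (g ∘ f) := by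
  obtain ⟨k, hk, hkf, hkc⟩ := h
  obtain ⟨k', hk', hkg, hkc'⟩ := h'
  have ht : ∀ c ∈ centralizerIn S T, c⁻¹ * k c ∈ R := fun c hc =>
    img_le hm (move_mem hE hY hk hkf hc (hkc c hc))
  have hmem : ∀ x ∈ Y ⊔ centralizerIn S T, k x ∈ R ⊔ centralizerIn S T :=
    map_sup_mem hY.1 hk (fun y hy => Subgroup.mem_sup_left ((hkf y hy).symm ▸ hm y hy)) fun c hc => by
      have := Subgroup.mul_mem _ (Subgroup.mem_sup_right (S := R) hc) (Subgroup.mem_sup_left (ht c hc))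
      rwa [mul_inv_cancel_left] at this
  refine ⟨k' ∘ k, hk.comp hk' hmem, fun y hy => ?_, fun c hc => ?_⟩
  · show k' (k y) = g (f y)
    rw [hkf y hy, hkg _ (hm y hy)]
  · show c⁻¹ * k' (k c) ∈ T
    rw [show k c = c * (c⁻¹ * k c) from (mul_inv_cancel_left c (k c)).symm,
      hk'.map_mul (Subgroup.mem_sup_right hc) (Subgroup.mem_sup_left (ht c hc)), ← mul_assoc]
    exact T.mul_mem (hkc' c hc) (sc_apply hE.2.1 hk' (Subgroup.mem_sup_left (ht c hc)) (hR (ht c hc)))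

theorem CExt.inv (hE : E.IsInvariantIn F) (hY : E.IsCentric Y) {f g : Ω → Ω}
    (hgf : ∀ y ∈ Y, g (f y) = y) (h : CExt F T Y f) : CExt F T (img f Y) g := by
  obtain ⟨k, hk, hkf, hkc⟩ := h
  obtain ⟨k', hk', hk'k, -⟩ := hk.exists_inv
  have hfF : Fn F Y f := (hk.mono le_sup_left).congr hkf
  have hyT : ∀ {y : Ω}, y ∈ Y → y ∈ Y ⊔ centralizerIn S T := fun h => Subgroup.mem_sup_left h
  have hC : ∀ c ∈ centralizerIn S T, ∃ y ∈ Y, k (c * y⁻¹) = c := fun c hc => by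
    obtain ⟨y, hy, hye⟩ := hfF.mem_img.1 (move_mem hE hY hk hkf hc (hkc c hc))
    refine ⟨y, hy, ?_⟩
    rw [hk.map_mul (Subgroup.mem_sup_right hc) (Subgroup.inv_mem _ (hyT hy)), hk.map_inv (hyT hy),
      hkf y hy, hye, mul_inv_rev, inv_inv, mul_inv_cancel_left]
  have hle : img f Y ⊔ centralizerIn S T ≤ img k (Y ⊔ centralizerIn S T) := by
    refine sup_le (img_le fun y hy => hkf y hy ▸ mem_img_of_mem (hyT hy)) fun c hc => ?_
    obtain ⟨y, hy, hye⟩ := hC c hc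
    exact hye ▸ mem_img_of_mem (Subgroup.mul_mem _ (Subgroup.mem_sup_right hc) (Subgroup.inv_mem _ (hyT hy)))
  refine ⟨k', hk'.mono hle, fun z hz => ?_, fun c hc => ?_⟩
  · obtain ⟨y, hy, rfl⟩ := hfF.mem_img.1 hz
    rw [hgf y hy, ← hkf y hy, hk'k y (hyT hy)]
  · obtain ⟨y, hy, hye⟩ := hC c hc
    have h := congrArg k' hye
    rw [hk'k _ (Subgroup.mul_mem _ (Subgroup.mem_sup_right hc) (Subgroup.inv_mem _ (hyT hy)))] at h
    rw [← h, inv_mul_cancel_left]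
    exact T.inv_mem (hY.1 hy)

variable {p : ℕ} [Fact p.Prime] [Finite S]

/-- The `p`-elements of the centric automizers extend. -/
theorem cExt_pElement (hS : IsPGroup p S) (hE : E.IsWeaklyNormalIn F p) (hY : E.IsCentric Y) {τ : MulAut Y}
    (hτ : τ ∈ E.autGroup Y) {k : ℕ} (hk : τ ^ p ^ k = 1) : CExt F T Y (autFn τ) := by
  obtain ⟨hEs, hF, hEi⟩ := hE
  have hT := hEi.2.1
  haveI := finite_of_le_base hT.1
  have hTp := hS.to_le hT.1
  have hYS := hY.1.trans hT.1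
  obtain ⟨Q, hYQ, hQ⟩ := exists_fullyNormalized (F := F) hYS
  obtain ⟨hA, -⟩ := fullyNormalized_good hS hF hQ
  have hr := fullyNormalized_receptive hS hF hQ
  obtain ⟨g, hg, -, hgi⟩ := exists_normalizer_map hS hA hr hYQ
  have hgY := hg.mono (le_normalizerIn hYS)
  have hQc : E.IsCentric Q := hgi ▸ centric_img hEi hY hgY
  have hQT : Q ≤ T := hQc.1
  obtain ⟨hEA, -⟩ := fullyNormalized_good hTp hEs (fullyNormalized_sub hS hF hT hEi.1 hQT hQ)
  haveI := finite_of_le_base hQ.1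
  obtain ⟨e, he, -⟩ := exists_transport hYS hgY hgi
  have hτ' := congr_mem hEi hY.1 hgY hgi e he hτ
  obtain ⟨γ, hγ, hγτ⟩ := exists_conj_into hTp hEA (Subgroup.zpowers_le.2 hτ')
    (by
      rintro ⟨x, hx⟩
      obtain ⟨j, rfl⟩ := Subgroup.mem_zpowers_iff.1 hx
      refine ⟨k, Subtype.ext ?_⟩
      show (MulAut.congr e τ ^ j) ^ p ^ k = 1
      rw [← zpow_natCast _ (p ^ k), ← zpow_mul, mul_comm, zpow_mul, zpow_natCast, ← map_pow, hk, map_one, one_zpow])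
  obtain ⟨t, ht, htx⟩ := mem_autInducedBy.1 (hγτ _ (Subgroup.mem_zpowers _))
  have hγF := (mem_autGroup_iff_fn hQ.1).1 (autGroup_mono' hEi.1 Q hγ)
  obtain ⟨N, γ', hγ', hQN, hN, hγe⟩ := receptive_extend hr hγF (img_autFn γ)
  set W := Q ⊔ centralizerIn S Q with hWdef
  have hWS : W ≤ S := sup_le hQ.1 centralizerIn_le
  have hWN : W ≤ N := sup_le hQN fun n hn => (hN n).2 (inExt_of_commute hn)
  have hγC : ∀ u ∈ centralizerIn S Q, γ' u ∈ centralizerIn S Q := fun u hu =>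
    hγ'.map_centralizer hQN ((img_congr hγe).trans (img_autFn γ)) (hWN (Subgroup.mem_sup_right hu)) hu
  have hγQ : ∀ q ∈ Q, γ' q ∈ Q := fun q hq => hγe q hq ▸ autFn_mem γ hq
  have hcomm : ∀ q ∈ Q, ∀ u ∈ centralizerIn S Q, q * u = u * q := fun q hq u hu => (mem_centralizerIn.1 hu).2 q hq
  have hγW : ∀ x ∈ W, γ' x ∈ W := fun x hx => by
    obtain ⟨q, hq, u, hu, rfl⟩ := mem_sup_of_commute hcomm hx
    rw [hγ'.map_mul (hQN hq) (hWN (Subgroup.mem_sup_right hu))]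
    exact Subgroup.mul_mem _ (Subgroup.mem_sup_left (hγQ q hq)) (Subgroup.mem_sup_right (hγC u hu))
  have hγWi : img γ' W = W := (hγ'.mono hWN).img_eq_self hγW
  obtain ⟨δ, hδ, hδγ, hδi⟩ := (hγ'.mono hWN).exists_inv
  rw [hγWi] at hδ hδi
  have htn : t ∈ Subgroup.normalizer (Q : Set Ω) := mem_normalizer_of_autEq htx
  have htS : t ∈ S := hT.1 ht
  -- `t` moves each element of the centralizer within its coset of `Q`
  have htu : ∀ u ∈ centralizerIn S Q, u⁻¹ * (t * u * t⁻¹) ∈ Q := fun u hu => by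
    obtain ⟨huS, huc⟩ := mem_centralizerIn.1 hu
    refine mem_of_commute hQc ?_ fun q hq => ?_
    · have h1 := T.mul_mem (sc_conj hT (S.inv_mem huS) ht) (T.inv_mem ht)
      simpa [mul_assoc] using h1
    · obtain ⟨q', hq', rfl⟩ : ∃ q' ∈ Q, q = t * q' * t⁻¹ :=
        ⟨t⁻¹ * q * t, (mem_normalizer_iff'.1 htn).2 q hq, by group⟩
      have h1 : (t * q' * t⁻¹) * (t * u * t⁻¹) = (t * u * t⁻¹) * (t * q' * t⁻¹) := by
        rw [show t * q' * t⁻¹ * (t * u * t⁻¹) = t * (q' * u) * t⁻¹ by group, huc q' hq']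
        group
      exact ((Commute.inv_right (show Commute (t * q' * t⁻¹) u from huc _ hq)).mul_right h1).eq
  have htW : ∀ x ∈ W, t * x * t⁻¹ ∈ W := fun x hx => by
    obtain ⟨q, hq, u, hu, rfl⟩ := mem_sup_of_commute hcomm hx
    rw [show t * (q * u) * t⁻¹ = t * q * t⁻¹ * (u * (u⁻¹ * (t * u * t⁻¹))) by group]
    exact Subgroup.mul_mem _ (Subgroup.mem_sup_left ((mem_normalizer_iff'.1 htn).1 q hq))
      (Subgroup.mul_mem _ (Subgroup.mem_sup_right hu) (Subgroup.mem_sup_left (htu u hu)))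
  have hσ : Fn F W (δ ∘ (fun x => t * x * t⁻¹) ∘ γ') :=
    ((hγ'.mono hWN).comp (fn_conj hWS htS) hγW).comp hδ fun x hx => htW _ (hγW x hx)
  set σ := δ ∘ (fun x => t * x * t⁻¹) ∘ γ' with hσdef
  have hσy : ∀ y : Y, σ (g y) = g ((τ y : Y) : Ω) := fun y => by
    have h1 := htx (γ (e y))
    simp only [MulAut.mul_apply, MulAut.inv_apply_self] at h1
    rw [show (MulAut.congr e τ) (e y) = e (τ y) by simp [MulAut.congr]] at h1
    have h2 : ∀ z : Y, ((γ (e z) : Q) : Ω) = γ' (g z) := fun z => by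
      rw [← he, hγe _ (e z).2, autFn_coe]
    rw [h2, h2] at h1
    show δ (t * γ' (g y) * t⁻¹) = _
    rw [← h1, hδγ _ (Subgroup.mem_sup_left (he (τ y) ▸ (e (τ y)).2))]
  have hgC : ∀ c ∈ centralizerIn S T, g c ∈ centralizerIn S Q := fun c hc =>
    hg.map_centralizer (le_normalizerIn hYS) hgi (centralizerIn_le_normalizerIn (mem_centralizer_of_le hY.1 hc))
      (mem_centralizer_of_le hY.1 hc)
  have hle : Y ⊔ centralizerIn S T ≤ normalizerIn S Y :=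
    sup_le (le_normalizerIn hYS) fun c hc => centralizerIn_le_normalizerIn (mem_centralizer_of_le hY.1 hc)
  have hgW : ∀ x ∈ Y ⊔ centralizerIn S T, g x ∈ W :=
    map_sup_mem hY.1 (hg.mono hle) (fun y hy => Subgroup.mem_sup_left (hgi.le (mem_img_of_mem hy)))
      fun c hc => Subgroup.mem_sup_right (hgC c hc)
  have hσC : ∀ c ∈ centralizerIn S T, ∃ y ∈ Y, σ (g c) = g (c * y) := fun c hc => by
    have hv := hγC _ (hgC c hc)
    obtain ⟨q, hq, hqe⟩ : ∃ q ∈ Q, γ' q = (γ' (g c))⁻¹ * (t * γ' (g c) * t⁻¹) := by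
      have h0 := (hγ'.mono hQN).mem_img.1 (((img_congr hγe).trans (img_autFn γ)).ge (htu _ hv))
      exact h0
    obtain ⟨y, hy, rfl⟩ := hgY.mem_img.1 (hgi.ge hq)
    refine ⟨y, hy, ?_⟩
    have hcW : g c ∈ W := Subgroup.mem_sup_right (hgC c hc)
    have hyW : g y ∈ W := Subgroup.mem_sup_left hq
    show δ (t * γ' (g c) * t⁻¹) = _
    rw [show t * γ' (g c) * t⁻¹ = γ' (g c) * γ' (g y) by rw [hqe]; group,
      ← hγ'.map_mul (hWN hcW) (hWN hyW), hδγ _ (Subgroup.mul_mem _ hcW hyW),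
      ← hg.map_mul (hle (Subgroup.mem_sup_right hc)) (hle (Subgroup.mem_sup_left hy))]
  obtain ⟨g', hg', hg'g, -⟩ := (hg.mono hle).exists_inv
  have hcomp : Fn F (Y ⊔ centralizerIn S T) (σ ∘ g) := (hg.mono hle).comp hσ hgW
  refine ⟨g' ∘ (σ ∘ g), hcomp.comp hg' (map_sup_mem hY.1 hcomp (fun y hy => ?_) fun c hc => ?_),
    fun y hy => ?_, fun c hc => ?_⟩
  · show σ (g y) ∈ _
    rw [show σ (g y) = g ((τ ⟨y, hy⟩ : Y) : Ω) from hσy ⟨y, hy⟩]
    exact mem_img_of_mem (Subgroup.mem_sup_left (τ ⟨y, hy⟩).2)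
  · obtain ⟨y, hy, hye⟩ := hσC c hc
    show σ (g c) ∈ _
    rw [hye]
    exact mem_img_of_mem (Subgroup.mul_mem _ (Subgroup.mem_sup_right hc) (Subgroup.mem_sup_left hy))
  · show g' (σ (g y)) = _
    rw [show σ (g y) = g ((τ ⟨y, hy⟩ : Y) : Ω) from hσy ⟨y, hy⟩, hg'g _ (Subgroup.mem_sup_left (τ ⟨y, hy⟩).2)]
    exact (autFn_coe τ ⟨y, hy⟩).symm
  · obtain ⟨y, hy, hye⟩ := hσC c hc
    show c⁻¹ * g' (σ (g c)) ∈ T
    rw [hye, hg'g _ (Subgroup.mul_mem _ (Subgroup.mem_sup_right hc) (Subgroup.mem_sup_left hy)), inv_mul_cancel_left]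
    exact hY.1 hy

end CfsgLib.Fsys.WNR
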