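import Cfsg.Agent.Lib.FusionSystem.WeakNormalExt

/-! Automorphisms of the base extending compatibly: lifting and closure. -/

set_option autoImplicit false

namespace CfsgLib.Fsys.WNR

open Cfsg Cfsg.FusionSystem
open Cfsg.FusionSystem (centralizerIn normalizerIn)

variable {Ω : Type*} [Group Ω] {S T : Subgroup Ω} {F : FusionSystem S} {E : FusionSystem T}
variable {p : ℕ} [Fact p.Prime] [Finite S]

set_option maxHeartbeats 800000 in
/-- A `p'`-automorphism of `Y C_S(T)` fixing `Y` agrees, modulo `T`, with one of `T C_S(T)` fixing `T`. -/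
theorem lift_trivial (hS : IsPGroup p S) (hF : F.IsSaturated p) (hE : E.IsInvariantIn F) {Y : Subgroup Ω}
    (hY : E.IsCentric Y) (d : MulAut ↥(Y ⊔ centralizerIn S T)) (hd : d ∈ F.autGroup (Y ⊔ centralizerIn S T))
    (hfix : ∀ y ∈ Y, autFn d y = y) (hc : Nat.Coprime (orderOf d) p) :
    ∃ β ∈ F.autGroup (T ⊔ centralizerIn S T), (∀ t ∈ T, autFn β t = t) ∧
      ∀ c ∈ centralizerIn S T, (autFn d c)⁻¹ * autFn β c ∈ T := by
  classical
  have hT := hE.2.1
  haveI := finite_of_le_base hT.1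
  have hTp := hS.to_le hT.1
  refine induction_down (S := T) (C := fun Y => E.IsCentric Y → ∀ d : MulAut ↥(Y ⊔ centralizerIn S T),
    d ∈ F.autGroup (Y ⊔ centralizerIn S T) → (∀ y ∈ Y, autFn d y = y) → Nat.Coprime (orderOf d) p →
    ∃ β ∈ F.autGroup (T ⊔ centralizerIn S T), (∀ t ∈ T, autFn β t = t) ∧
      ∀ c ∈ centralizerIn S T, (autFn d c)⁻¹ * autFn β c ∈ T) Y hY.1 ?_ hY d hd hfix hc
  intro Y hYT ih hY
  rcases eq_or_lt_of_le hYT with rfl | hlt
  · intro d hd hfix hc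
    exact ⟨d, hd, hfix, fun c _ => by rw [inv_mul_cancel]; exact Subgroup.one_mem _⟩
  set C := centralizerIn S T with hC
  set N := normalizerIn T Y with hNdef
  have hYN : Y < N := lt_normalizerIn hTp hlt
  have hNT : N ≤ T := inf_le_left
  have hYS := hYT.trans hT.1
  set W := Y ⊔ C with hW
  intro d hd hfix hc
  have hWS : W ≤ S := sup_le hYS centralizerIn_le
  haveI := finite_of_le_base hWS
  haveI := finite_of_le_base hYS
  have hYW : Y ≤ W := le_sup_left
  have hdY : ∀ y ∈ Y, autFn d⁻¹ y = y := fun y hy => by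
    conv_lhs => rw [← hfix y hy, autFn_inv_apply d (hYW hy)]
  have hmulW : ∀ (a : MulAut W) {u v : Ω}, u ∈ W → v ∈ W → autFn a (u * v) = autFn a u * autFn a v :=
    fun a {u v} hu hv => by
    lift u to W using hu
    lift v to W using hv
    rw [← Subgroup.coe_mul, autFn_coe, autFn_coe, autFn_coe, map_mul, Subgroup.coe_mul]
  let U : Subgroup (MulAut W) :=
    { carrier := {a | a ∈ F.autGroup W ∧ (∀ w ∈ W, w⁻¹ * autFn a w ∈ Y) ∧
        ∃ n ∈ N, ∀ y ∈ Y, autFn a y = n * y * n⁻¹}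
      one_mem' := ⟨Subgroup.one_mem _, fun w hw => by rw [autFn_id hw, inv_mul_cancel]; exact Y.one_mem,
        1, N.one_mem, fun y hy => by rw [autFn_id (hYW hy)]; simp⟩
      mul_mem' := fun {a b} ha hb => by
        obtain ⟨haF, haw, n, hn, hna⟩ := ha
        obtain ⟨hbF, hbw, m, hm, hmb⟩ := hb
        have hnY : ∀ {x m : Ω}, x ∈ Y → m ∈ N → m * x * m⁻¹ ∈ Y := fun hx hm =>
          (mem_normalizer_iff'.1 hm.2).1 _ hx
        refine ⟨mul_mem haF hbF, fun w hw => ?_, n * m, N.mul_mem hn hm, fun y hy => ?_⟩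
        · have hz := hbw w hw
          rw [autFn_mul _ _ hw, show autFn b w = w * (w⁻¹ * autFn b w) from (mul_inv_cancel_left _ _).symm,
            hmulW a hw (hYW hz), hna _ hz, ← mul_assoc]
          exact Y.mul_mem (haw w hw) (hnY hz hn)
        · rw [autFn_mul _ _ (hYW hy), hmb y hy, hna _ (hnY hy hm)]
          group
      inv_mem' := fun {a} ha => by
        obtain ⟨haF, haw, n, hn, hna⟩ := ha
        refine ⟨inv_mem haF, fun w hw => ?_, n⁻¹, N.inv_mem hn, fun y hy => ?_⟩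
        · have h := Y.inv_mem (haw _ (autFn_mem a⁻¹ hw))
          rw [autFn_apply_inv a hw] at h
          simpa using h
        · have hy' : n⁻¹ * y * n⁻¹⁻¹ ∈ Y := by simpa using (mem_normalizer_iff'.1 hn.2).2 y hy
          have h := congrArg (autFn a⁻¹) (hna _ hy')
          rw [autFn_inv_apply a (hYW hy'), show n * (n⁻¹ * y * n⁻¹⁻¹) * n⁻¹ = y by group] at h
          exact h.symm }
  have hUp : IsPGroup p U := by
    rintro ⟨a, haF, haw, n, hn, hna⟩
    obtain ⟨i, hi⟩ := hTp ⟨n, hNT hn⟩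
    have hi' : n ^ p ^ i = 1 := congrArg Subtype.val hi
    obtain ⟨l, hl⟩ := IsPGroup.iff_card.1 (hS.to_le hYS)
    have hb : a ^ p ^ i ∈ U := U.pow_mem ⟨haF, haw, n, hn, hna⟩ _
    have hpow : ∀ (j : ℕ), ∀ y ∈ Y, autFn (a ^ j) y = n ^ j * y * (n ^ j)⁻¹ := fun j => by
      induction j with
      | zero => intro y hy; rw [pow_zero, autFn_id (hYW hy)]; simp
      | succ j ihj =>
        intro y hy
        rw [pow_succ, autFn_mul _ _ (hYW hy), hna y hy, ihj _ ((mem_normalizer_iff'.1 hn.2).1 y hy), pow_succ]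
        group
    have hbfix : ∀ y ∈ Y, autFn (a ^ p ^ i) y = y := fun y hy => by rw [hpow _ y hy, hi']; simp
    refine ⟨i + l, Subtype.ext ?_⟩
    show a ^ p ^ (i + l) = 1
    rw [pow_add, pow_mul, ← hl]
    exact pow_card_eq_one_of_fix hYW hbfix hb.2.1
  have hUconj : ∀ a ∈ U, d * a * d⁻¹ ∈ U := by
    rintro a ⟨haF, haw, n, hn, hna⟩
    refine ⟨mul_mem (mul_mem hd haF) (inv_mem hd), fun w hw => ?_, n, hn, fun y hy => ?_⟩
    · have hv := autFn_mem d⁻¹ hw
      have hz := haw _ hv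
      rw [autFn_mul _ _ hw, autFn_mul _ _ hv,
        show autFn a (autFn d⁻¹ w) = autFn d⁻¹ w * ((autFn d⁻¹ w)⁻¹ * autFn a (autFn d⁻¹ w)) from
          (mul_inv_cancel_left _ _).symm,
        hmulW d hv (hYW hz), autFn_apply_inv d hw, hfix _ hz, inv_mul_cancel_left]
      exact hz
    · rw [autFn_mul _ _ (hYW hy), hdY y hy, autFn_mul _ _ (hYW hy), hna y hy,
        hfix _ ((mem_normalizer_iff'.1 hn.2).1 y hy)]
  have hnC : ∀ {n c : Ω}, n ∈ N → c ∈ C → n * c * n⁻¹ = c := fun hn hc => by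
    rw [centralizer_comm le_rfl hc (hNT hn), mul_inv_cancel_right]
  have hNW : ∀ n ∈ N, n ∈ normalizerIn S W := fun n hn => by
    refine ⟨hT.1 (hNT hn), mem_normalizer_of_map_le fun x hx => ?_⟩
    obtain ⟨y, hy, c, hcC, rfl⟩ := mem_sup_centralizer hYT hx
    rw [show n * (y * c) * n⁻¹ = n * y * n⁻¹ * (n * c * n⁻¹) by group, hnC hn hcC]
    exact Subgroup.mul_mem _ (Subgroup.mem_sup_left ((mem_normalizer_iff'.1 hn.2).1 y hy)) (Subgroup.mem_sup_right hcC)
  have hνU : ∀ n (hn : n ∈ N), conjAut W (hNW n hn).2 ∈ U := fun n hn => by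
    refine ⟨autInducedBy_le_autGroup hWS (conjAut_mem_autInducedBy _ (hT.1 (hNT hn))), fun w hw => ?_, n, hn,
      fun y hy => by rw [autFn_coe _ ⟨y, hYW hy⟩, conjAut_coe]⟩
    rw [autFn_coe _ ⟨w, hw⟩, conjAut_coe]
    obtain ⟨y, hy, c, hcC, rfl⟩ := mem_sup_centralizer hYT hw
    rw [show n * (y * c) * n⁻¹ = n * y * n⁻¹ * (n * c * n⁻¹) by group, hnC hn hcC]
    have hq : y⁻¹ * (n * y * n⁻¹) ∈ Y := Y.mul_mem (Y.inv_mem hy) ((mem_normalizer_iff'.1 hn.2).1 y hy)
    rw [show (y * c)⁻¹ * (n * y * n⁻¹ * c) = c⁻¹ * (y⁻¹ * (n * y * n⁻¹) * c) by group,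
      centralizer_comm hYT hcC hq, inv_mul_cancel_left]
    exact hq
  obtain ⟨W', hWW', hW'⟩ := exists_fullyNormalized (F := F) hWS
  obtain ⟨hA, -⟩ := fullyNormalized_good hS hF hW'
  have hr := fullyNormalized_receptive hS hF hW'
  obtain ⟨f, hf, hfi⟩ := isConj_iff.1 hWW'
  obtain ⟨e, he, hmap⟩ := exists_transport hWS hf hfi
  have hUF : U.map (MulAut.congr e).toMonoidHom ≤ F.autGroup W' := hmap ▸ Subgroup.map_mono fun a ha => ha.1
  haveI := finite_of_le_base hW'.1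
  obtain ⟨γ, hγ, hγU⟩ := exists_conj_into hS hA hUF (hUp.map _)
  have hMN : N ≤ normalizerIn S W := hNW
  obtain ⟨g₁, hg₁, hg₁e⟩ := Criterion.extend_one hr hγ hf hfi hMN fun n hn τ hτ => by
    have heq : τ = MulAut.congr e (conjAut W (hNW n hn).2) := mulAut_ext fun z hz => by
      obtain ⟨x, hx, rfl⟩ := hf.mem_img.1 (hfi.ge hz)
      rw [hτ x hx]
      lift x to W using hx
      rw [← conjAut_coe (hNW n hn).2 x, ← he, ← he, autFn_coe]
      simp [MulAut.congr]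
    exact hγU _ (heq ▸ ⟨_, hνU n hn, rfl⟩)
  have hfd : Fn F W (f ∘ autFn d) := ((mem_autGroup_iff_fn hWS).1 hd).comp hf fun x hx => autFn_mem d hx
  have hfdi : img (f ∘ autFn d) W = W' := by
    rw [((mem_autGroup_iff_fn hWS).1 hd).img_comp, img_autFn, hfi]
  obtain ⟨g₂, hg₂, hg₂e⟩ := Criterion.extend_one hr hγ hfd hfdi hMN fun n hn τ hτ => by
    have heq : τ = MulAut.congr e (d * conjAut W (hNW n hn).2 * d⁻¹) := mulAut_ext fun z hz => by
      obtain ⟨x, hx, rfl⟩ := hfd.mem_img.1 (hfdi.ge hz)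
      rw [hτ x hx]
      lift x to W using hx
      show f (autFn d (n * (x : Ω) * n⁻¹)) = autFn _ (f (autFn d (x : Ω)))
      rw [← conjAut_coe (hNW n hn).2 x, autFn_coe, autFn_coe, ← he, ← he, autFn_coe]
      simp [MulAut.congr]
    exact hγU _ (heq ▸ ⟨_, hUconj _ (hνU n hn), rfl⟩)
  set V := N ⊔ C with hVdef
  have hVW : V = W ⊔ N :=
    le_antisymm (sup_le le_sup_right (le_sup_right.trans le_sup_left))
      (sup_le (sup_le (hYN.le.trans le_sup_left) le_sup_right) le_sup_left)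
  rw [← hVW] at hg₁ hg₂
  have hWV : W ≤ V := hVW ▸ le_sup_left
  have hNV : N ≤ V := le_sup_left
  have h12 : ∀ w ∈ W, g₂ w = g₁ (autFn d w) := fun w hw => by
    rw [hg₂e w hw, hg₁e _ (autFn_mem d hw)]
    rfl
  have hg₂n : ∀ n ∈ N, ∃ y ∈ Y, g₂ n = g₁ (n * y) := fun n hn => by
    have hgY := hg₁.mono (hYW.trans hWV)
    have hmem : (g₁ n)⁻¹ * g₂ n ∈ img g₁ Y := by
      refine mem_of_commute (centric_img hE hY hgY) (T.mul_mem (T.inv_mem (sc_apply hT hg₁ (hNV hn) (hNT hn)))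
        (sc_apply hT hg₂ (hNV hn) (hNT hn))) fun z hz => ?_
      obtain ⟨y, hy, rfl⟩ := hgY.mem_img.1 hz
      have hyV := hWV (hYW hy)
      have hy2 : g₂ y = g₁ y := by rw [h12 y (hYW hy), hfix y hy]
      have hny : n * y * n⁻¹ ∈ Y := (mem_normalizer_iff'.1 hn.2).1 y hy
      have heq : g₁ n * g₁ y * (g₁ n)⁻¹ = g₂ n * g₁ y * (g₂ n)⁻¹ := by
        rw [← hg₁.map_conj (hNV hn) hyV, ← hy2, ← hg₂.map_conj (hNV hn) hyV, h12 _ (hYW hny), hfix _ hny]
      calc g₁ y * ((g₁ n)⁻¹ * g₂ n) = (g₁ n)⁻¹ * (g₁ n * g₁ y * (g₁ n)⁻¹) * g₂ n := by group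
        _ = (g₁ n)⁻¹ * (g₂ n * g₁ y * (g₂ n)⁻¹) * g₂ n := by rw [heq]
        _ = (g₁ n)⁻¹ * g₂ n * g₁ y := by group
    obtain ⟨y, hy, hye⟩ := hgY.mem_img.1 hmem
    exact ⟨y, hy, by rw [hg₁.map_mul (hNV hn) (hWV (hYW hy)), hye, mul_inv_cancel_left]⟩
  have hg₂m : ∀ x ∈ V, g₂ x ∈ img g₁ V :=
    map_sup_mem hNT hg₂ (fun n hn => by
      obtain ⟨y, hy, hye⟩ := hg₂n n hn
      exact hye ▸ mem_img_of_mem (V.mul_mem (hNV hn) (hWV (hYW hy))))
      fun c hcC => (h12 c (Subgroup.mem_sup_right hcC)) ▸ mem_img_of_mem (hWV (autFn_mem d (Subgroup.mem_sup_right hcC)))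
  obtain ⟨g₁', hg₁', hg₁g, hg₁i⟩ := hg₁.exists_inv
  have hd1 := hg₂.comp hg₁' hg₂m
  have hd1V : ∀ x ∈ V, (g₁' ∘ g₂) x ∈ V := fun x hx => hg₁i.le (mem_img_of_mem (hg₂m x hx))
  obtain ⟨d₁, hd₁, hd₁e⟩ := exists_aut_of_fn hd1 (hd1.img_eq_self hd1V)
  have hd₁f : ∀ x ∈ V, autFn d₁ x = g₁' (g₂ x) := fun x hx => by
    rw [autFn_coe d₁ ⟨x, hx⟩, hd₁e]
    rfl
  have hd₁W : ∀ w ∈ W, autFn d₁ w = autFn d w := fun w hw => by
    rw [hd₁f w (hWV hw), h12 w hw, hg₁g _ (hWV (autFn_mem d hw))]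
  have hd₁N : ∀ n ∈ N, ∃ y ∈ Y, autFn d₁ n = n * y := fun n hn => by
    obtain ⟨y, hy, hye⟩ := hg₂n n hn
    exact ⟨y, hy, by rw [hd₁f n (hNV hn), hye, hg₁g _ (V.mul_mem (hNV hn) (hWV (hYW hy)))]⟩
  have hVS : V ≤ S := hg₁.le
  haveI := finite_of_le_base hVS
  obtain ⟨K, hK⟩ := IsPGroup.iff_card.1 (hS.to_le hYS)
  obtain ⟨q, r, k, hm, hr', hqK, hqk, hq1⟩ := exists_exponent (p := p) K (orderOf_pos d₁)
  have hpowW : ∀ (j : ℕ), ∀ w ∈ W, autFn (d₁ ^ j) w = autFn (d ^ j) w := fun j => by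
    induction j with
    | zero => intro w hw; rw [pow_zero, pow_zero, autFn_id (hWV hw), autFn_id hw]
    | succ j ihj =>
      intro w hw
      rw [pow_succ, pow_succ, autFn_mul _ _ (hWV hw), autFn_mul _ _ hw, hd₁W w hw, ihj _ (autFn_mem d hw)]
  have hdq : d ^ q = d := by
    refine pow_eq_self ?_ hq1
    have h1 : d ^ orderOf d₁ = 1 := mulAut_ext fun w hw => by
      rw [← hpowW _ w hw, pow_orderOf_eq_one, autFn_id (hWV hw), autFn_id hw]
    have h2 : orderOf d ∣ r := by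
      refine Nat.Coprime.dvd_of_dvd_mul_left (Nat.Coprime.pow_right k hc) ?_
      rw [← hm]
      exact orderOf_dvd_of_pow_eq_one h1
    exact orderOf_dvd_iff_pow_eq_one.1 h2
  have hfixN : ∀ n ∈ N, autFn (d₁ ^ q) n = n := fun n hn => by
    obtain ⟨y, hy, hye⟩ := hd₁N n hn
    rw [pow_apply (hYW.trans hWV) (fun x hx => (hd₁W x (hYW hx)).trans (hfix x hx)) (hNV hn) hy hye q]
    obtain ⟨j, rfl⟩ := hqK
    have hz : (⟨y, hy⟩ : Y) ^ Nat.card Y = 1 := pow_card_eq_one'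
    have hz' : y ^ Nat.card Y = 1 := congrArg Subtype.val hz
    rw [← hK, pow_mul, hz', one_pow, mul_one]
  have hcard : Nat.card Y < Nat.card N := by
    haveI := finite_of_le_base (hNT.trans hT.1)
    exact Set.Finite.card_lt_card (Set.toFinite (N : Set Ω)) hYN
  obtain ⟨β, hβ, hβT, hβC⟩ := ih N hNT hcard (isCentric_mono hY hYN.le hNT) (d₁ ^ q)
    (Subgroup.pow_mem _ hd₁ q) hfixN (coprime_orderOf_pow hm hr' hqk (pow_orderOf_eq_one d₁))
  refine ⟨β, hβ, hβT, fun c hcC => ?_⟩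
  have := hβC c hcC
  rwa [hpowW q c (Subgroup.mem_sup_right hcC), hdq] at this

theorem map_centralizer_top (hT : F.StronglyClosed T) {b : MulAut ↥(T ⊔ centralizerIn S T)}
    (hb : b ∈ F.autGroup (T ⊔ centralizerIn S T)) {c : Ω} (hc : c ∈ centralizerIn S T) :
    autFn b c ∈ centralizerIn S T := by
  have hW : T ⊔ centralizerIn S T ≤ S := sup_le hT.1 centralizerIn_le
  have hbf := (mem_autGroup_iff_fn hW).1 hb
  exact hbf.map_centralizer le_sup_left
    ((hbf.mono le_sup_left).img_eq_self fun x hx => sc_apply hT hbf (Subgroup.mem_sup_left hx) hx)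
    (Subgroup.mem_sup_right hc) hc

set_option maxHeartbeats 800000 in
/-- An automorphism of `T` extends compatibly once its restriction to a centric subgroup does. -/
theorem cExt_of_restrict (hS : IsPGroup p S) (hE : E.IsWeaklyNormalIn F p) {α : MulAut T}
    (hα : α ∈ E.autGroup T) {P : Subgroup Ω} (hP : E.IsCentric P) (hext : CExt F T P (autFn α)) :
    CExt F T T (autFn α) := by
  classical
  have hF := hE.2.1
  have hEi := hE.2.2
  have hT := hEi.2.1
  haveI := finite_of_le_base hT.1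
  have hαF := (mem_autGroup_iff_fn hT.1).1 (autGroup_mono' hEi.1 T hα)
  set C := centralizerIn S T with hC
  set V := T ⊔ C with hVdef
  have hVS : V ≤ S := sup_le hT.1 centralizerIn_le
  haveI := finite_of_le_base hVS
  obtain ⟨M, g, hg, hTM, hM, hge⟩ := receptive_extend (fullyNormalized_receptive hS hF
    (fullyNormalized_of_weaklyClosed (weaklyClosed_of_stronglyClosed hT))) hαF (img_autFn α)
  have hVM : V ≤ M := sup_le hTM fun c hc => (hM c).2 (inExt_of_commute hc)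
  have hgT : img g T = T := (img_congr hge).trans (img_autFn α)
  have hgV : ∀ x ∈ V, g x ∈ V := map_sup_mem le_rfl (hg.mono hVM)
    (fun t ht => Subgroup.mem_sup_left (hge t ht ▸ autFn_mem α ht))
    fun c hc => Subgroup.mem_sup_right (hg.map_centralizer hTM hgT (hVM (Subgroup.mem_sup_right hc)) hc)
  obtain ⟨a, ha, hae⟩ := exists_aut_of_fn (hg.mono hVM) ((hg.mono hVM).img_eq_self hgV)
  have haT : ∀ t ∈ T, autFn a t = autFn α t := fun t ht => by
    rw [autFn_coe a ⟨t, Subgroup.mem_sup_left ht⟩, hae, hge t ht]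
  obtain ⟨h, hh, hhα, hhc⟩ := hext
  set W := P ⊔ C with hWdef
  have hPT := hP.1
  have hWV : W ≤ V := sup_le_sup_right hPT _
  have hPW : P ≤ W := le_sup_left
  haveI := finite_of_le_base (hWV.trans hVS)
  have hhV : ∀ x ∈ W, h x ∈ V := map_sup_mem hPT hh
    (fun y hy => Subgroup.mem_sup_left ((hhα y hy).symm ▸ autFn_mem α (hPT hy)))
    fun c hc => by
      have := V.mul_mem (Subgroup.mem_sup_right (S := T) hc) (Subgroup.mem_sup_left (hhc c hc))
      rwa [mul_inv_cancel_left] at this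
  have hai := (mem_autGroup_iff_fn hVS).1 (inv_mem ha)
  have hδ : Fn F W (autFn a⁻¹ ∘ h) := hh.comp hai hhV
  have hδP : ∀ y ∈ P, autFn a⁻¹ (h y) = y := fun y hy => by
    rw [hhα y hy, ← haT y (hPT hy), autFn_inv_apply a (Subgroup.mem_sup_left (hPT hy))]
  have hδC : ∀ c ∈ C, ∃ y ∈ P, autFn a⁻¹ (h c) = autFn a⁻¹ c * y := fun c hc => by
    obtain ⟨y, hy, hye⟩ := ((hh.mono hPW).congr hhα).mem_img.1 (move_mem hEi hP hh hhα hc (hhc c hc))
    refine ⟨y, hy, ?_⟩
    rw [show h c = c * autFn α y by rw [hye, mul_inv_cancel_left],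
      hai.map_mul (Subgroup.mem_sup_right hc) (Subgroup.mem_sup_left (autFn_mem α (hPT hy))),
      ← haT y (hPT hy), autFn_inv_apply a (Subgroup.mem_sup_left (hPT hy))]
  have hδW : ∀ x ∈ W, (autFn a⁻¹ ∘ h) x ∈ W := map_sup_mem hPT hδ
    (fun y hy => by show autFn a⁻¹ (h y) ∈ W; rw [hδP y hy]; exact hPW hy) fun c hc => by
      obtain ⟨y, hy, hye⟩ := hδC c hc
      show autFn a⁻¹ (h c) ∈ W
      rw [hye]
      exact W.mul_mem (Subgroup.mem_sup_right (map_centralizer_top hT (inv_mem ha) hc)) (hPW hy)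
  obtain ⟨d, hd, hde⟩ := exists_aut_of_fn hδ (hδ.img_eq_self hδW)
  have hdf : ∀ x ∈ W, autFn d x = autFn a⁻¹ (h x) := fun x hx => by
    rw [autFn_coe d ⟨x, hx⟩, hde]
    rfl
  have hdP : ∀ y ∈ P, autFn d y = y := fun y hy => (hdf y (hPW hy)).trans (hδP y hy)
  have hdpowP : ∀ (j : ℕ), ∀ y ∈ P, autFn (d ^ j) y = y := fun j => by
    induction j with
    | zero => intro y hy; rw [pow_zero, autFn_id (hPW hy)]
    | succ j ihj => intro y hy; rw [pow_succ, autFn_mul _ _ (hPW hy), hdP y hy, ihj y hy]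
  have hdpowC : ∀ (j : ℕ), ∀ c ∈ C, autFn (a⁻¹ ^ j) c ∈ C ∧ ∃ y ∈ P, autFn (d ^ j) c = autFn (a⁻¹ ^ j) c * y :=
    fun j => by
    induction j with
    | zero =>
      intro c hc
      rw [pow_zero, pow_zero, autFn_id (Subgroup.mem_sup_right hc), autFn_id (Subgroup.mem_sup_right hc)]
      exact ⟨hc, 1, P.one_mem, (mul_one c).symm⟩
    | succ j ihj =>
      intro c hc
      have hc1 := map_centralizer_top hT (inv_mem ha) hc
      obtain ⟨hc2, y2, hy2, hye2⟩ := ihj _ hc1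
      obtain ⟨y, hy, hye⟩ := hδC c hc
      rw [pow_succ, pow_succ, autFn_mul _ _ (Subgroup.mem_sup_right hc), autFn_mul _ _ (Subgroup.mem_sup_right hc)]
      refine ⟨hc2, y2 * y, P.mul_mem hy2 hy, ?_⟩
      have hf := (mem_autGroup_iff_fn (hWV.trans hVS)).1 (Subgroup.pow_mem _ hd j)
      rw [hdf c (Subgroup.mem_sup_right hc), hye, hf.map_mul (Subgroup.mem_sup_right hc1) (hPW hy), hye2,
        hdpowP j y hy, mul_assoc]
  obtain ⟨q, r, k, hm, hr, -, hqk, hq1⟩ :=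
    exists_exponent (p := p) 0 (Nat.mul_pos (orderOf_pos α) (orderOf_pos d))
  have hdm : d ^ (orderOf α * orderOf d) = 1 := by rw [mul_comm, pow_mul, pow_orderOf_eq_one, one_pow]
  obtain ⟨β, hβ, hβT, hβC⟩ := lift_trivial hS hF hEi hP (d ^ q) (Subgroup.pow_mem _ hd q) (hdpowP q)
    (coprime_orderOf_pow hm hr hqk hdm)
  have hapow : ∀ (j : ℕ), ∀ t ∈ T, autFn (a ^ j) t = autFn (α ^ j) t := fun j => by
    induction j with
    | zero => intro t ht; rw [pow_zero, pow_zero, autFn_id (Subgroup.mem_sup_left ht), autFn_id ht]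
    | succ j ihj =>
      intro t ht
      rw [pow_succ, pow_succ, autFn_mul _ _ (Subgroup.mem_sup_left ht), autFn_mul _ _ ht, haT t ht,
        ihj _ (autFn_mem α ht)]
  have hb := (mem_autGroup_iff_fn hVS).1 (mul_mem (Subgroup.pow_mem _ ha q) hβ)
  have hq : CExt F T T (autFn (α ^ q)) := by
    refine ⟨autFn (a ^ q * β), hb, fun t ht => ?_, fun c hc => ?_⟩
    · rw [autFn_mul _ _ (Subgroup.mem_sup_left ht), hβT t ht, hapow q t ht]
    · obtain ⟨hc2, y, hy, hye⟩ := hdpowC q c hc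
      have h1 := hβC c hc
      rw [hye, mul_inv_rev, mul_assoc] at h1
      have h2 : (autFn (a⁻¹ ^ q) c)⁻¹ * autFn β c ∈ T := by
        have := T.mul_mem (hPT hy) h1
        rwa [mul_inv_cancel_left] at this
      rw [autFn_mul _ _ (Subgroup.mem_sup_right hc),
        show autFn β c = autFn (a⁻¹ ^ q) c * ((autFn (a⁻¹ ^ q) c)⁻¹ * autFn β c) from (mul_inv_cancel_left _ _).symm,
        ((mem_autGroup_iff_fn hVS).1 (Subgroup.pow_mem _ ha q)).map_mul (Subgroup.mem_sup_right hc2)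
          (Subgroup.mem_sup_left h2),
        inv_pow, autFn_apply_inv _ (Subgroup.mem_sup_right hc), ← mul_assoc, inv_mul_cancel, one_mul,
        ← inv_pow, hapow q _ h2]
      exact autFn_mem _ h2
  have hpel : CExt F T T (autFn (α * (α ^ q)⁻¹)) := by
    refine cExt_pElement hS hE (centric_top E) (mul_mem hα (inv_mem (pow_mem hα q))) (k := k) ?_
    have hx : (α ^ p ^ k) ^ r = 1 := by rw [← pow_mul, ← hm, pow_mul, pow_orderOf_eq_one, one_pow]
    have hcm : Commute α (α ^ q)⁻¹ := (Commute.pow_right (Commute.refl α) q).inv_right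
    rw [hcm.mul_pow, inv_pow, ← pow_mul, mul_comm q, pow_mul, pow_eq_self hx hq1, mul_inv_cancel]
  refine (hq.comp hEi (centric_top E) le_rfl (fun y hy => autFn_mem _ hy) hpel).congr fun y hy => ?_
  show autFn (α * (α ^ q)⁻¹) (autFn (α ^ q) y) = autFn α y
  rw [← autFn_mul _ _ hy, inv_mul_cancel_right]

end CfsgLib.Fsys.WNR
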