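import Cfsg.Agent.Lib.FusionSystem.Inner
import Cfsg.Agent.Lib.FusionSystem.ControlW
import Cfsg.Agent.Lib.FusionSystem.ZJCriterion
import Cfsg.Agent.Lib.FusionSystem.SectionFreeFactor
import Cfsg.Agent.S0664
/-
Qd(p)-free saturated fusion systems at odd primes: ZJ is normal and the system is solvable.
-/
set_option autoImplicit false

namespace CfsgLib.Fsys

open Cfsg
open Cfsg.FusionSystem (centralizerIn normalizerIn imageAlong preimageAlong)

universe u

variable {p : ℕ} [Fact p.Prime]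

/-- `Z(J)` satisfies the normality condition of a Glauberman functor. -/
theorem zjA_normal_of_qdFree (hp : p ≠ 2) (L : Type u) [Group L] [Finite L] (T : Sylow p L)
    (hc : Subgroup.centralizer ((pCore p L : Subgroup L) : Set L) =
      pCore p L ⊓ Subgroup.centralizer ((pCore p L : Subgroup L) : Set L))
    (hfree : ¬ Involves ↥(Cfsg.qd p) L) :
    (((zjA ↥(T : Subgroup L)).map (T : Subgroup L).subtype : Subgroup L)).Normal := by
  have h := Cfsg.Agent.S0664.result hp hfree (hc.le.trans inf_le_left) T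
  rw [← wOf_zjA' (T : Subgroup L)] at h
  exact h

/-- `Z(J(S))` is normal in every Qd(p)-free saturated system over `S`, for odd `p`. -/
theorem zjA_normal (hp : p ≠ 2) {Ω : Type u} [Group Ω] {S : Subgroup Ω} [Finite S] (hS : IsPGroup p S)
    (F : FusionSystem S) (hF : F.IsSaturated p) (hfree : F.IsSectionFree p ↥(Cfsg.qd p)) :
    F.IsNormal (centerThompsonAOf S) := by
  rw [← wOf_zjA' S]
  exact wOf_normal (W := fun Q _ => zjA Q) (fun Q _ _ => zjA_ne_bot Q) (fun Q R _ _ _ => zjA_map Q R)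
    (fun L _ _ T => zjA_normal_of_qdFree hp L T) hS F hF hfree

/-- Chains with abelian strongly closed steps. -/
theorem exists_abelian_chain_of_qdFree (hp : p ≠ 2) : ∀ (n : ℕ) {Ω : Type u} [Group Ω] (S : Subgroup Ω) [Finite S],
    Nat.card S = n → IsPGroup p S → ∀ (F : FusionSystem S), F.IsSaturated p → F.IsSectionFree p ↥(Cfsg.qd p) →
      ∃ (m : ℕ) (C : ℕ → Subgroup Ω), C 0 = ⊥ ∧ C m = S ∧ (∀ i ≤ m, F.StronglyClosed (C i)) ∧
        ∀ i < m, C i ≤ C (i + 1) ∧ ⁅C (i + 1), C (i + 1)⁆ ≤ C i := by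
  intro n
  induction n using Nat.strong_induction_on with
  | _ n ih =>
  intro Ω _ S _ hn hS F hF hfree
  by_cases hS1 : S = ⊥
  · exact ⟨0, fun _ => ⊥, rfl, hS1.symm, fun i _ => sc_bot, fun i hi => absurd hi i.not_lt_zero⟩
  set W := centerThompsonAOf S
  have hWn : F.IsNormal W := zjA_normal hp hS F hF hfree
  have hWne : W ≠ ⊥ := by
    have h := wOf_ne_bot (W := fun Q _ => zjA Q) (fun Q _ _ => zjA_ne_bot Q) hS hS1
    rwa [wOf_zjA' S] at h
  have hWab : ⁅W, W⁆ ≤ (⊥ : Subgroup Ω) := Subgroup.commutator_le.2 fun a ha b hb => by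
    rw [Subgroup.mem_bot, commutatorElement_eq_one_iff_mul_comm]
    exact (Subgroup.mem_centralizer_iff.1 hb.2 a ha.1)
  have hsc := normal_stronglyClosed hWn
  have : (W.subgroupOf S).Normal := by
    rw [← Subgroup.normalizer_eq_top_iff, eq_top_iff]
    intro s _
    rw [Subgroup.mem_normalizer_iff]
    exact fun x => Subgroup.mem_normalizer_iff.1 (sc_le_normalizer hsc s.2) (x : Ω)
  let θ := QuotientGroup.mk' (W.subgroupOf S)
  obtain ⟨E, hE⟩ := exists_factorSystem (S' := ⊤) hsc θ
    (fun s => (QuotientGroup.eq_one_iff s).trans Subgroup.mem_subgroupOf)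
    (MonoidHom.range_eq_top.2 (QuotientGroup.mk'_surjective _))
  have hsm := factor_surjectiveMorphism hS hF hsc hE
  have := finite_target hsm
  have hEs := surjectiveMorphism_saturated hS hF hsm
  have hSp : IsPGroup p (⊤ : Subgroup (S ⧸ W.subgroupOf S)) := (hS.to_quotient _).to_subgroup _
  have hlt : Nat.card (⊤ : Subgroup (S ⧸ W.subgroupOf S)) < n := by
    rw [Subgroup.card_top, ← hn, Subgroup.card_eq_card_quotient_mul_card_subgroup (W.subgroupOf S)]
    refine lt_mul_of_one_lt_right Nat.card_pos ?_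
    rw [Nat.card_congr (Subgroup.subgroupOfEquivOfLe hsc.1).toEquiv]
    have := finite_of_le_base hsc.1
    exact Finite.one_lt_card_iff_nontrivial.2 ((Subgroup.nontrivial_iff_ne_bot W).2 hWne)
  obtain ⟨m, C, hC0, hCm, hCsc, hCc⟩ := ih _ hlt _ rfl hSp E hEs (factor_sectionFree hS hF hWn hfree hE)
  let D : ℕ → Subgroup Ω := fun i => if i = 0 then ⊥ else preimageAlong θ (C (i - 1))
  refine ⟨m + 1, D, rfl, ?_, fun i hi => ?_, fun i hi => ?_⟩
  · simp only [D, Nat.succ_ne_zero, if_false, Nat.add_sub_cancel, hCm]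
    exact le_antisymm preimageAlong_le fun x hx => mem_preimageAlong.2 ⟨hx, trivial⟩
  · rcases Nat.eq_zero_or_pos i with rfl | hi0
    · exact sc_bot
    · simp only [D, hi0.ne', if_false]
      exact sc_preimage hsm.1 (hCsc _ (by omega))
  · rcases Nat.eq_zero_or_pos i with rfl | hi0
    · simp only [D, if_true, Nat.succ_ne_zero, if_false, Nat.add_sub_cancel, hC0]
      refine ⟨bot_le, ?_⟩
      have h : preimageAlong θ (⊥ : Subgroup (S ⧸ W.subgroupOf S)) ≤ W := fun x hx => by
        obtain ⟨hxS, h1⟩ := mem_preimageAlong.1 hx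
        exact (factor_ker hE hxS).1 (Subgroup.mem_bot.1 h1)
      exact (Subgroup.commutator_mono h h).trans hWab
    · obtain ⟨j, rfl⟩ := Nat.exists_eq_succ_of_ne_zero hi0.ne'
      obtain ⟨h1, h2⟩ := hCc j (by omega)
      simp only [D, Nat.succ_eq_add_one, Nat.succ_ne_zero, if_false, Nat.add_sub_cancel]
      refine ⟨fun x hx => ?_, Subgroup.commutator_le.2 fun a ha b hb => ?_⟩
      · obtain ⟨hxS, hx'⟩ := mem_preimageAlong.1 hx
        exact mem_preimageAlong.2 ⟨hxS, h1 hx'⟩
      · obtain ⟨haS, ha'⟩ := mem_preimageAlong.1 ha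
        obtain ⟨hbS, hb'⟩ := mem_preimageAlong.1 hb
        refine mem_preimageAlong.2
          ⟨S.mul_mem (S.mul_mem (S.mul_mem haS hbS) (S.inv_mem haS)) (S.inv_mem hbS), ?_⟩
        rw [commutatorElement_def, th_mul (S.mul_mem (S.mul_mem haS hbS) (S.inv_mem haS)) (S.inv_mem hbS),
          th_inv hbS, th_conj haS hbS]
        exact h2 (Subgroup.commutator_mem_commutator ha' hb')

/-- Qd(p)-free saturated systems are solvable for odd `p`. -/
theorem solvable_of_qdFree (hp : p ≠ 2) {Ω : Type u} [Group Ω] {S : Subgroup Ω} [Finite S] (hS : IsPGroup p S)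
    (F : FusionSystem S) (hF : F.IsSaturated p) (hfree : F.IsSectionFree p ↥(Cfsg.qd p)) :
    F.IsSolvableSystem := by
  obtain ⟨m, C, h0, hm, hsc, hc⟩ := exists_abelian_chain_of_qdFree hp _ S rfl hS F hF hfree
  exact (solvable_iff_chain hS hF).2 ⟨m, fun i => C i, h0, hm, Fin.monotone_iff_le_succ.2 fun i => (hc i i.2).1,
    fun i => hsc i (Nat.lt_succ_iff.1 i.2), fun i => (hc i i.2).2⟩

end CfsgLib.Fsys
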