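import Cfsg.Agent.Lib.FusionSystem.ZJCriterion
import Cfsg.Agent.Lib.Fusion.Transfer
/-
The nilpotency criterion along `Z(J(D))` for a strongly closed subgroup `D`.
-/
set_option autoImplicit false

namespace CfsgLib.Fsys

open Cfsg
open Cfsg.FusionSystem (centralizerIn normalizerIn imageAlong preimageAlong)
open CfsgLib.Fusion
open scoped commutatorElement Pointwise

universe u

section group

variable {p : ℕ} [Fact p.Prime] {L : Type u} [Group L] [Finite L]

/-- The group case: `D` normalised by a Sylow subgroup, meeting `O_p(L)` in a normal subgroup. -/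
theorem le_pCore_of_zjA (hp : p ≠ 2) (T : Sylow p L) (D : Subgroup L) (hDT : D ≤ (T : Subgroup L))
    (hTD : (T : Subgroup L) ≤ Subgroup.normalizer (D : Set L)) (hB : (D ⊓ pCore p L).Normal)
    (hc : Subgroup.centralizer ((pCore p L : Subgroup L) : Set L) ≤ pCore p L)
    (hN : Subgroup.normalizer (centerThompsonAOf D : Set L) ≤ T)
    (hq : ∀ N : Subgroup L, ∀ [N.Normal], N = pCore p L → HasNormalPComplement p (L ⧸ N)) :
    D ≤ pCore p L ∨ (T : Subgroup L) = ⊤ := by
  set Q := pCore p L with hQdef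
  have hQn : Q.Normal := LocalEven.SylowIn.pCore_normal L p
  have hQp : IsPGroup p Q := LocalEven.SylowIn.isPGroup_pCore L p
  have hQT : Q ≤ (T : Subgroup L) := hQp.le_sylow_of_normal T
  set q := QuotientGroup.mk' Q with hqdef
  have hqs : Function.Surjective q := QuotientGroup.mk'_surjective Q
  have hnpc := hq Q rfl
  set K := pResidual p (L ⧸ Q) with hKdef
  have hKn : K.Normal := Fusion.Basic.pResidual_normal
  have hKc : (Nat.card K).Coprime p := Fusion.Basic.npc_iff_coprime.1 hnpc
  set Tb := T.mapSurjective hqs with hTb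
  have hKT : K ⊔ (Tb : Subgroup (L ⧸ Q)) = ⊤ := Fusion.Basic.pResidual_sup_sylow Tb
  have hsmall : ∀ X : Subgroup (L ⧸ Q), X.Normal → IsPGroup p X → X = ⊥ := by
    intro X hX hXp
    have := hX.comap q
    have hle : X.comap q ≤ Q := le_sSup ⟨inferInstance,
      hXp.comap_of_ker_isPGroup q (by rw [QuotientGroup.ker_mk']; exact hQp)⟩
    rw [← Subgroup.map_comap_eq_self_of_surjective hqs X, Subgroup.map_eq_bot_iff, QuotientGroup.ker_mk']
    exact hle
  set B := D ⊓ Q with hBdef
  -- the elements acting trivially on `Q / B`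
  let π := QuotientGroup.mk' B
  set C := (Subgroup.centralizer ((Q.map π : Subgroup (L ⧸ B)) : Set (L ⧸ B))).comap π with hCdef
  have hQbn : (Q.map π).Normal := hQn.map π (QuotientGroup.mk'_surjective B)
  have hCn : C.Normal := inferInstanceAs (((Subgroup.centralizer _).comap π).Normal)
  have hmemC : ∀ g : L, g ∈ C ↔ ∀ x ∈ Q, x⁻¹ * g⁻¹ * x * g ∈ B := by
    intro g
    simp only [hCdef, Subgroup.mem_comap, Subgroup.mem_centralizer_iff]
    constructor
    · intro h x hx
      rw [← QuotientGroup.eq_one_iff]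
      show π (x⁻¹ * g⁻¹ * x * g) = 1
      rw [map_mul, map_mul, map_mul, map_inv, map_inv, mul_assoc, h _ ⟨x, hx, rfl⟩]
      group
    · rintro h _ ⟨x, hx, rfl⟩
      have h1 : π (x⁻¹ * g⁻¹ * x * g) = 1 := (QuotientGroup.eq_one_iff _).2 (h x hx)
      rw [map_mul, map_mul, map_mul, map_inv, map_inv] at h1
      calc π x * π g = π g * π x * ((π x)⁻¹ * (π g)⁻¹ * π x * π g) := by group
        _ = _ := by rw [h1, mul_one]
  have hDC : D ≤ C := fun d hd => (hmemC d).2 fun x hx => ⟨by
      refine D.mul_mem ?_ hd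
      have := (mem_normalizer_iff'.1 (hTD ((T : Subgroup L).inv_mem (hQT hx)))).1 _ (D.inv_mem hd)
      simpa using this,
    by
      rw [mul_assoc, mul_assoc]
      exact Q.mul_mem (Q.inv_mem hx) (by simpa [mul_assoc] using hQn.conj_mem x hx d⁻¹)⟩
  set P0 := K.comap q with hP0
  have hP0n : P0.Normal := hKn.comap q
  set P1 := C ⊓ P0 with hP1
  have hP1n : P1.Normal := inferInstanceAs ((C ⊓ P0).Normal)
  by_cases hcomm : D.map q ≤ Subgroup.centralizer (K : Set (L ⧸ Q))
  · -- `D` acts trivially on the complement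
    left
    have hX : (Tb : Subgroup (L ⧸ Q)) ⊓ Subgroup.centralizer (K : Set (L ⧸ Q)) = ⊥ := by
      refine hsmall _ ?_ (Tb.isPGroup'.to_le inf_le_left)
      rw [← Subgroup.normalizer_eq_top_iff, eq_top_iff, ← hKT]
      refine sup_le ?_ ?_
      · refine le_trans ?_ (Subgroup.centralizer_le_normalizer _)
        exact Subgroup.le_centralizer_iff.mp inf_le_right
      · exact le_trans (le_inf Subgroup.le_normalizer (by rw [Subgroup.normalizer_eq_top]; exact le_top))
          (Subgroup.inf_normalizer_le_normalizer_inf (H := (Tb : Subgroup (L ⧸ Q)))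
            (K := Subgroup.centralizer (K : Set (L ⧸ Q))))
    intro d hd
    have h1 : q d ∈ (⊥ : Subgroup (L ⧸ Q)) :=
      hX ▸ ⟨Subgroup.mem_map_of_mem q (hDT hd), hcomm (Subgroup.mem_map_of_mem q hd)⟩
    exact (QuotientGroup.eq_one_iff d).1 (Subgroup.mem_bot.1 h1)
  · right
    exfalso
    obtain ⟨_, ⟨d, hd, rfl⟩, hdK⟩ := SetLike.not_le_iff_exists.1 hcomm
    obtain ⟨k, hk, hkd⟩ : ∃ k ∈ K, ¬ k * q d = q d * k := by
      by_contra hall
      push Not at hall
      exact hdK (Subgroup.mem_centralizer_iff.2 hall)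
    obtain ⟨x, rfl⟩ := hqs k
    set c := x * d * x⁻¹ * d⁻¹ with hcdef
    have hcC : c ∈ C := C.mul_mem (hCn.conj_mem d (hDC hd) x) (C.inv_mem (hDC hd))
    have hcP0 : c ∈ P0 := by
      show q c ∈ K
      rw [hcdef, map_mul, map_mul, map_mul, map_inv, map_inv, mul_assoc, mul_assoc, ← mul_assoc (q d)]
      exact K.mul_mem hk (hKn.conj_mem _ (K.inv_mem hk) _)
    have hcQ : c ∉ Q := fun h => hkd (by
      have h1 : q c = 1 := (QuotientGroup.eq_one_iff c).2 h
      rw [hcdef, map_mul, map_mul, map_mul, map_inv, map_inv, mul_inv_eq_one, mul_inv_eq_iff_eq_mul] at h1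
      exact h1)
    -- the residual of `P1`
    set O := (pResidual p P1).map P1.subtype with hOdef
    have : (pResidual p P1).Characteristic := inferInstance
    have hOn : O.Normal := inferInstance
    have hOP : O ≤ P1 := Subgroup.map_subtype_le _
    have hpel : ∀ r : P1, (∃ i, r ^ p ^ i = 1) → (r : L) ∈ Q := by
      rintro r ⟨i, hi⟩
      refine (QuotientGroup.eq_one_iff _).1 (orderOf_eq_one_iff.1 ?_)
      refine Nat.eq_one_of_dvd_coprimes (hKc.pow_right i) (Subgroup.orderOf_dvd_natCard K (show q (r : L) ∈ K from r.2.2)) ?_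
      refine orderOf_dvd_of_pow_eq_one ?_
      show q (r : L) ^ p ^ i = 1
      rw [← map_pow, show (r : L) ^ p ^ i = 1 from congrArg Subtype.val hi, map_one]
    have hOQ : O ⊓ Q ≤ B := by
      -- `P1` modulo `B` has a central `p`-subgroup with `p'`-quotient
      let f := (π.comp P1.subtype).rangeRestrict
      have hfs : Function.Surjective f := MonoidHom.rangeRestrict_surjective _
      obtain ⟨R⟩ : Nonempty (Sylow p P1) := inferInstance
      have hnpc1 : HasNormalPComplement p (π.comp P1.subtype).range := by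
        refine Fusion.Transfer.npc_of_controls_self (R.mapSurjective hfs) fun y hy g _ => ?_
        refine ⟨1, one_mem _, ?_⟩
        obtain ⟨r, hr, rfl⟩ := (Sylow.coe_mapSurjective hfs R).le hy
        obtain ⟨w, rfl⟩ := hfs g
        have hrQ : (r : L) ∈ Q := hpel r (by
          obtain ⟨i, hi⟩ := R.isPGroup' ⟨r, hr⟩
          exact ⟨i, congrArg Subtype.val hi⟩)
        have hcomm' : π r * π w = π w * π r := Subgroup.mem_centralizer_iff.1 w.2.1 _ ⟨r, hrQ, rfl⟩
        rw [one_mul, inv_one, mul_one, eq_mul_inv_iff_mul_eq]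
        exact Subtype.ext hcomm'
      have hcop1 := Fusion.Basic.npc_iff_coprime.1 hnpc1
      rintro _ ⟨⟨y, hy, rfl⟩, hyQ⟩
      have h1 : f y ∈ pResidual p (π.comp P1.subtype).range :=
        Fusion.Basic.map_pResidual_le f (Subgroup.mem_map_of_mem f hy)
      obtain ⟨i, hi⟩ := hQp ⟨(y : L), hyQ⟩
      have h2 : f y = 1 := by
        refine orderOf_eq_one_iff.1 (Nat.eq_one_of_dvd_coprimes (hcop1.pow_right i)
          (Subgroup.orderOf_dvd_natCard _ h1) (orderOf_dvd_of_pow_eq_one ?_))
        rw [← map_pow, show y ^ p ^ i = 1 from Subtype.ext (congrArg Subtype.val hi :), map_one]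
      exact (QuotientGroup.eq_one_iff (y : L)).1 (congrArg Subtype.val h2)
    have hOnQ : ¬ O ≤ Q := by
      intro hle
      obtain ⟨i, hi⟩ := Fusion.Basic.isPGroup_quotient_pResidual (G := P1) (p := p)
        (QuotientGroup.mk (⟨c, hcC, hcP0⟩ : P1))
      rw [← QuotientGroup.mk_pow, QuotientGroup.eq_one_iff] at hi
      have h1 : c ^ p ^ i ∈ Q := hle ⟨_, hi, rfl⟩
      refine hcQ ((QuotientGroup.eq_one_iff _).1 (orderOf_eq_one_iff.1 ?_))
      refine Nat.eq_one_of_dvd_coprimes (hKc.pow_right i) (Subgroup.orderOf_dvd_natCard K (show q c ∈ K from hcP0))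
        (orderOf_dvd_of_pow_eq_one ?_)
      show q c ^ p ^ i = 1
      rw [← map_pow]
      exact (QuotientGroup.eq_one_iff _).2 h1
    -- `M = O D` has Sylow subgroup `D`
    set M := O ⊔ D with hMdef
    have hDn : D ≤ Subgroup.normalizer (O : Set L) := by rw [Subgroup.normalizer_eq_top]; exact le_top
    have hOK : O.map q ≤ K := Subgroup.map_le_iff_le_comap.2 (hOP.trans inf_le_right)
    have hDp : IsPGroup p D := T.isPGroup'.to_le hDT
    have hidx : ¬ p ∣ (D.subgroupOf M).index := by
      have hc1 := Fusion.Thompson.card_sup_mul_card_inf hDn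
      have hlag : Nat.card M = Nat.card D * (D.subgroupOf M).index := by
        rw [← (D.subgroupOf M).card_mul_index, Nat.card_congr (Subgroup.subgroupOfEquivOfLe le_sup_right).toEquiv]
      rw [← hMdef, hlag, mul_assoc, mul_comm (Nat.card O) (Nat.card D)] at hc1
      have h2 : (D.subgroupOf M).index * Nat.card (O ⊓ D : Subgroup L) = Nat.card O :=
        Nat.eq_of_mul_eq_mul_left Nat.card_pos hc1
      have h3 : Nat.card O = Nat.card (O ⊓ Q : Subgroup L) * Nat.card (O.map q) := by
        rw [← (Q.subgroupOf O).card_mul_index, Nat.card_congr (Subgroup.subgroupOfEquivOfLe inf_le_left).toEquiv.symm,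
          Subgroup.inf_subgroupOf_left]
        congr 1
        let f := q.comp O.subtype
        have hfk : f.ker = Q.subgroupOf O := by
          ext z
          exact QuotientGroup.eq_one_iff (z : L)
        rw [← hfk, Subgroup.index_ker, MonoidHom.range_comp, Subgroup.range_subtype]
      have h4 : Nat.card (O ⊓ Q : Subgroup L) ∣ Nat.card (O ⊓ D : Subgroup L) :=
        Subgroup.card_dvd_of_le fun y hy => ⟨hy.1, (hOQ hy).1⟩
      obtain ⟨m, hm⟩ := h4
      rw [hm, h3, mul_left_comm] at h2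
      have h5 : (D.subgroupOf M).index ∣ Nat.card K :=
        (Dvd.intro _ (Nat.eq_of_mul_eq_mul_left Nat.card_pos h2)).trans (Subgroup.card_dvd_of_le hOK)
      intro hp'
      exact (Fact.out : p.Prime).ne_one (Nat.eq_one_of_dvd_coprimes hKc (hp'.trans h5) dvd_rfl)
    let U : Sylow p M := hDp.comap_subtype.toSylow hidx
    have hU : (U : Subgroup M).map M.subtype = D := Subgroup.map_subgroupOf_eq_of_le le_sup_right
    by_cases hD1 : D = ⊥
    · refine hcQ ?_
      have hd1 : d = 1 := Subgroup.mem_bot.1 (hD1 ▸ hd)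
      rw [hcdef, hd1]
      simpa using Q.one_mem
    have hnpcM : HasNormalPComplement p M := by
      have hU1 : (U : Subgroup M) ≠ ⊥ := fun h => hD1 (by rw [← hU, h, Subgroup.map_bot])
      have hd' : p ∣ Nat.card (U : Subgroup M) := by
        have := (Subgroup.nontrivial_iff_ne_bot _).2 hU1
        obtain ⟨k, hk, hcard⟩ := U.isPGroup'.nontrivial_iff_card.1 ‹_›
        exact hcard ▸ dvd_pow_self p hk.ne'
      refine GlaubermanThompson.npc_aux
        (GlaubermanThompson.zFunZ hp (Nat.card (U : Subgroup M)) (ZJBridge.odd_card_sylow hp U) hd') hp _ M rfl U ?_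
      show HasNormalPComplement p ↥(Subgroup.normalizer (ZJGeneral.Z _ (U : Subgroup M) : Set M))
      rw [← ZJBridge.centerThompsonAOf_eq_Z (ZJBridge.sylow_pow_card U)]
      refine Fusion.Basic.npc_of_isPGroup ?_
      have hle : Subgroup.normalizer (centerThompsonAOf (U : Subgroup M) : Set M) ≤ (T : Subgroup L).subgroupOf M := by
        intro z hz
        refine hN ?_
        have h := centerThompsonAOf_map M.subtype M.subtype_injective (U : Subgroup M)
        rw [hU] at h
        rw [h]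
        exact Subgroup.le_normalizer_map M.subtype ⟨z, hz, rfl⟩
      exact T.isPGroup'.comap_subtype.to_le hle
    have hres := Fusion.Basic.npc_iff_coprime.1 hnpcM
    set N := pResidual p M with hNdef
    have hNn : N.Normal := Fusion.Basic.pResidual_normal
    have hNO : N ≤ O.subgroupOf M := by
      refine Fusion.Basic.pResidual_le_of_isPGroup_quotient fun z => ?_
      obtain ⟨w, rfl⟩ := QuotientGroup.mk'_surjective (O.subgroupOf M) z
      have hw : (w : L) ∈ (O : Set L) * (D : Set L) := by rw [← Subgroup.normal_mul]; exact w.2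
      obtain ⟨o, ho, e, he, hoe⟩ := hw
      obtain ⟨i, hi⟩ := hDp ⟨e, he⟩
      refine ⟨i, ?_⟩
      have h1 : QuotientGroup.mk' (O.subgroupOf M) w =
          QuotientGroup.mk' (O.subgroupOf M) ⟨e, Subgroup.mem_sup_right he⟩ := by
        rw [show w = ⟨o, Subgroup.mem_sup_left ho⟩ * ⟨e, Subgroup.mem_sup_right he⟩ from Subtype.ext hoe.symm, map_mul,
          show QuotientGroup.mk' (O.subgroupOf M) ⟨o, Subgroup.mem_sup_left ho⟩ = 1 from (QuotientGroup.eq_one_iff _).2 ho,
          one_mul]
      rw [h1, ← map_pow, show (⟨e, Subgroup.mem_sup_right he⟩ : M) ^ p ^ i = 1 from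
        Subtype.ext (congrArg Subtype.val hi :), map_one]
    have hNbot : N = ⊥ := by
      refine (Subgroup.eq_bot_iff_forall _).2 fun z hz => ?_
      have hzc : (orderOf z).Coprime p := hres.coprime_dvd_left (Subgroup.orderOf_dvd_natCard N hz)
      have hzO : (z : L) ∈ O := hNO hz
      have hBp : IsPGroup p (B.subgroupOf M) := (hQp.to_le inf_le_right).comap_subtype
      have hinf := Fusion.Basic.inf_eq_bot_of_coprime hBp hres
      have hcomB : ∀ b ∈ B, Commute (z : L) b := fun b hb => congrArg Subtype.val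
        (Subgroup.commute_of_normal_of_disjoint N (B.subgroupOf M) hNn inferInstance
          (disjoint_iff.2 (inf_comm (B.subgroupOf M) N ▸ hinf)) z ⟨b, Subgroup.mem_sup_right hb.1⟩ hz hb).eq
      have hzQ : (z : L) ∈ Q := by
        refine hc (Subgroup.mem_centralizer_iff.2 fun x hx => ?_)
        set b := x⁻¹ * (z : L)⁻¹ * x * z with hb
        have hbB : b ∈ B := (hmemC z).1 (hOP hzO).1 x hx
        have hconj : (z : L)⁻¹ * x * z = x * b := by rw [hb]; group
        have hiter : ∀ i : ℕ, ((z : L) ^ i)⁻¹ * x * (z : L) ^ i = x * b ^ i := by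
          intro i
          induction i with
          | zero => simp
          | succ i ih =>
            calc ((z : L) ^ (i + 1))⁻¹ * x * (z : L) ^ (i + 1)
                = (z : L)⁻¹ * (((z : L) ^ i)⁻¹ * x * (z : L) ^ i) * z := by rw [pow_succ]; group
              _ = (z : L)⁻¹ * x * z * ((z : L)⁻¹ * b ^ i * z) := by rw [ih]; group
              _ = x * b ^ (i + 1) := by
                rw [hconj, mul_assoc (z : L)⁻¹, ((hcomB _ (B.pow_mem hbB i)).eq).symm, inv_mul_cancel_left, mul_assoc,
                  ← pow_succ']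
        have h1 := hiter (orderOf z)
        rw [← Subgroup.coe_pow, pow_orderOf_eq_one, Subgroup.coe_one, inv_one, one_mul, mul_one] at h1
        obtain ⟨i, hi⟩ := hQp ⟨b, hbB.2⟩
        have hb1 : b = 1 := orderOf_eq_one_iff.1 (Nat.eq_one_of_dvd_coprimes (hzc.pow_right i)
          (orderOf_dvd_of_pow_eq_one (left_eq_mul.1 h1)) (orderOf_dvd_of_pow_eq_one (congrArg Subtype.val hi)))
        rw [hb1, mul_one] at hconj
        calc x * z = z * ((z : L)⁻¹ * x * z) := by group
          _ = _ := by rw [hconj]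
      obtain ⟨i, hi⟩ := hQp ⟨(z : L), hzQ⟩
      exact orderOf_eq_one_iff.1 (Nat.eq_one_of_dvd_coprimes (hzc.pow_right i) dvd_rfl
        (orderOf_dvd_of_pow_eq_one (Subtype.ext (congrArg Subtype.val hi :))))
    have hMp : IsPGroup p M := fun z => by
      obtain ⟨i, hi⟩ := Fusion.Basic.isPGroup_quotient_pResidual (G := M) (p := p) (QuotientGroup.mk z)
      refine ⟨i, ?_⟩
      rw [← QuotientGroup.mk_pow, QuotientGroup.eq_one_iff] at hi
      rw [← hNdef, hNbot, Subgroup.mem_bot] at hi
      exact hi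
    refine hOnQ fun o ho => ?_
    obtain ⟨i, hi⟩ := hMp ⟨o, Subgroup.mem_sup_left ho⟩
    exact hpel ⟨o, hOP ho⟩ ⟨i, Subtype.ext (congrArg Subtype.val hi :)⟩

end group

end CfsgLib.Fsys

namespace CfsgLib.Fsys

open Cfsg
open Cfsg.FusionSystem (centralizerIn normalizerIn imageAlong preimageAlong)
open CfsgLib.Fusion

universe u

variable {Ω : Type u} [Group Ω] {S : Subgroup Ω} {F : FusionSystem S} {D : Subgroup Ω} {p : ℕ} [Fact p.Prime]

/-- Maps carry `Z(J)` to `Z(J)`. -/
theorem img_centerThompsonAOf [Finite S] (hS : IsPGroup p S) {f : Ω → Ω} (hf : Fn F D f) :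
    img f (centerThompsonAOf D) = centerThompsonAOf (img f D) := by
  have := finite_of_le_base hf.le
  have := finite_of_le_base hf.img_le_base
  rw [← wOf_zjA' (Ω := Ω) D, ← wOf_zjA' (Ω := Ω) (img f D)]
  exact map_wOf zjA_map hS hf

theorem normalizerIn_le_zjA [Finite S] (hS : IsPGroup p S) (hD : D ≤ S) :
    normalizerIn S D ≤ normalizerIn S (centerThompsonAOf D) := fun s hs => by
  have hf := fn_conj (F := innerFusionSystem S) hD hs.1
  have h := img_centerThompsonAOf hS hf
  rw [hf.img_eq_self fun x hx => (mem_normalizer_iff'.1 hs.2).1 x hx] at h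
  have := finite_of_le_base ((centerThompsonAOf_le D).trans hD)
  exact ⟨hs.1, mem_normalizer_of_map_le fun x hx => h.le (mem_img_of_mem hx)⟩

/-- The nilpotency criterion along a strongly closed subgroup. -/
theorem pAut_of_zjA_sc (hp : p ≠ 2) [Finite S] (hS : IsPGroup p S) (hF : F.IsSaturated p)
    (hD : F.StronglyClosed D) (hloc : LocPAut p F (centerThompsonAOf D)) : PAut p F := by
  suffices key : ∀ n : ℕ, ∀ {Ω : Type u} [Group Ω] (S : Subgroup Ω) [Finite S], Nat.card S = n → IsPGroup p S →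
      ∀ m : ℕ, ∀ (F : FusionSystem S), (homSet F).ncard = m → F.IsSaturated p → ∀ D : Subgroup Ω,
        F.StronglyClosed D → LocPAut p F (centerThompsonAOf D) → PAut p F from
    key _ S rfl hS _ F rfl hF D hD hloc
  clear hloc hF hS hD
  intro n
  induction n using Nat.strong_induction_on with
  | _ n ihn =>
  intro Ω _ S _ hn hS m
  induction m using Nat.strong_induction_on with
  | _ m ihm =>
  intro F hm hF D hD hloc
  have ihF : ∀ E : FusionSystem S, E ≤ F → ¬ F ≤ E → E.IsSaturated p → PAut p E :=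
    fun E hle hne hsat => ihm _ (hm ▸ homSet_lt hle hne) E rfl hsat D
      (stronglyClosed_iff_fn.2 ⟨hD.1, fun P f hf => (stronglyClosed_iff_fn.1 hD).2 P f (fn_of_le hle hf)⟩)
      fun P hP hWP α hα hi => hloc P hP hWP α (autGroup_mono hle hP hα) hi
  set W' := centerThompsonAOf D with hW'
  have hW'D : W' ≤ D := centerThompsonAOf_le D
  set Q₀ := F.core with hQ₀def
  have hQ₀ : F.IsNormal Q₀ := core_normal
  have hsc₀ := normal_stronglyClosed hQ₀
  by_cases hDQ : D ≤ Q₀
  · -- `Z(J(D))` is then fixed by extensions of all maps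
    intro P hP α hα
    obtain ⟨χ, hχ, hχe, hχi⟩ := (normal_iff_fn.1 hQ₀).2 P _ ((mem_autGroup_iff_fn hP).1 hα)
    have hWQ : W' ≤ P ⊔ Q₀ := (hW'D.trans hDQ).trans le_sup_right
    have hχD : img χ D = D := sc_img hD (hDQ.trans le_sup_right) hχ
    have hχW : img χ W' = W' := by
      rw [hW', img_centerThompsonAOf hS (hχ.mono (hDQ.trans le_sup_right)), hχD]
    have hle : P ⊔ W' ≤ P ⊔ Q₀ := sup_le le_sup_left hWQ
    have hf := hχ.mono hle
    have hfi : img χ (P ⊔ W') = P ⊔ W' := by
      rw [hf.img_sup, hχW, img_congr fun x hx => hχe x hx, img_autFn]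
    obtain ⟨β, hβ, hβe⟩ := exists_aut_of_fn hf hfi
    have hβχ : ∀ x ∈ P ⊔ W', autFn β x = χ x := fun x hx => (autFn_coe β ⟨x, hx⟩).trans (hβe ⟨x, hx⟩)
    obtain ⟨k, hk⟩ := hloc _ hf.le le_sup_right β hβ
      ((img_congr fun x hx => hβχ x (Subgroup.mem_sup_right hx)).trans hχW)
    exact ⟨k, pow_eq_one_of_semiconj (fn_id (F := F) hP) (fun x hx => Subgroup.mem_sup_left hx)
      (fun x hx => (hβχ x (Subgroup.mem_sup_left hx)).trans (hχe x hx)) hk⟩
  have hDn : S ≤ Subgroup.normalizer (D : Set Ω) := sc_le_normalizer hD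
  by_cases hQ₀1 : Q₀ ≠ ⊥
  · -- pass to the factor system
    have hQn : (Q₀.subgroupOf S).Normal := ⟨fun x hx s => sc_conj hsc₀ s.2 hx⟩
    let θ : S →* S ⧸ Q₀.subgroupOf S := QuotientGroup.mk' _
    obtain ⟨E, hE⟩ := exists_factorSystem (F := F) hsc₀ θ (fun s => QuotientGroup.eq_one_iff s) rfl
    have hker : ∀ x ∈ S, th θ x = 1 ↔ x ∈ Q₀ := fun x hx => factor_ker hE hx
    have hsm := factor_surjectiveMorphism hS hF hsc₀ hE
    have hEs : E.IsSaturated p := surjectiveMorphism_saturated hS hF hsm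
    have hcard : Nat.card θ.range < n := by
      rw [← hn, MonoidHom.range_eq_top.2 (QuotientGroup.mk'_surjective _), Subgroup.card_top,
        (Q₀.subgroupOf S).card_eq_card_quotient_mul_card_subgroup]
      refine lt_mul_of_one_lt_right Nat.card_pos ?_
      rw [Nat.card_congr (Subgroup.subgroupOfEquivOfLe hQ₀.1).toEquiv]
      have := finite_of_le_base hQ₀.1
      exact Subgroup.one_lt_card_iff_ne_bot _ |>.2 hQ₀1
    have hfinr : Finite θ.range := inferInstance
    have hpr : IsPGroup p θ.range := hS.of_surjective θ.rangeRestrict θ.rangeRestrict_surjective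
    set D' := imageAlong θ D with hD'
    have hD'r : D' ≤ θ.range := fun y hy => by
      obtain ⟨z, -, hzS, rfl⟩ := mem_imageAlong.1 hy
      exact th_mem_range hzS
    have hD'sc : E.StronglyClosed D' := by
      refine stronglyClosed_iff_fn.2 ⟨hD'r, fun P' f' hf' y hy hyD => ?_⟩
      obtain ⟨f, hf, he⟩ := surjective_fn hsm hf'
      obtain ⟨x, hx, hxS, rfl⟩ := mem_imageAlong.1 hyD
      have hxP : x ∈ preimageAlong θ P' := mem_preimageAlong.2 ⟨hxS, hy⟩
      rw [he x hxP]
      exact th_mem_imageAlong ((stronglyClosed_iff_fn.1 hD).2 _ _ hf x hxP hx) (hf.mem hxP)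
    set W₀ := centerThompsonAOf D' with hW₀
    set X := preimageAlong θ W₀ with hX
    have hXS : X ≤ S := preimageAlong_le
    have hXn : normalizerIn S X = S := by
      refine inf_eq_left.2 fun s hs => ?_
      have := finite_of_le_base hXS
      refine mem_normalizer_of_map_le fun x hx => ?_
      obtain ⟨hxS, hxW⟩ := mem_preimageAlong.1 hx
      refine mem_preimageAlong.2 ⟨S.mul_mem (S.mul_mem hs hxS) (S.inv_mem hs), ?_⟩
      rw [th_mul (S.mul_mem hs hxS) (S.inv_mem hs), th_mul hs hxS, th_inv hs]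
      have hn' := normalizerIn_le_zjA hpr hD'r
        ⟨th_mem_range (α := θ) hs, sc_le_normalizer hD'sc (th_mem_range (α := θ) hs)⟩
      exact (mem_normalizer_iff'.1 hn'.2).1 _ hxW
    have hXU : F.IsFullyNormalized X := ⟨hXS, fun R _ => hXn.symm ▸ Subgroup.card_le_of_le normalizerIn_le⟩
    have hXQ : ¬ X ≤ Q₀ := fun hle => by
      refine centerThompsonAOf_ne_bot (hpr.to_le hD'r) (fun hbot => hDQ fun x hx => ?_) (?_ : W₀ = ⊥)
      · have h1 : th θ x ∈ D' := th_mem_imageAlong hx (hD.1 hx)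
        rw [hbot, Subgroup.mem_bot] at h1
        exact (hker x (hD.1 hx)).1 h1
      · refine (Subgroup.eq_bot_iff_forall _).2 fun y hy => ?_
        obtain ⟨⟨x, hxS⟩, rfl⟩ := hD'r (centerThompsonAOf_le D' hy)
        have hx' : x ∈ X := mem_preimageAlong.2 ⟨hxS, by rwa [th_apply hxS]⟩
        rw [← th_apply hxS]
        exact (hker x hxS).2 (hle hx')
    have hEloc : LocPAut p E W₀ := by
      intro P' hP' hWP β hβ hβW
      obtain ⟨-, g, hg, hge⟩ := (factor_fn hsc₀ hE).1 ((mem_autGroup_iff_fn hP').1 hβ)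
      have hXP : X ≤ preimageAlong θ P' := fun x hx =>
        mem_preimageAlong.2 ⟨(mem_preimageAlong.1 hx).1, hWP (mem_preimageAlong.1 hx).2⟩
      obtain ⟨s, hs, hse⟩ := conj_of_proper_normalizer hS hF ihF hXU hXn hXQ hg hXP
        ((hg.mono hXP).img_eq_self fun x hx => by
          refine mem_preimageAlong.2 ⟨hg.mem (hXP hx), ?_⟩
          rw [← hge x (hXP hx)]
          exact hβW.le (mem_img_of_mem (mem_preimageAlong.1 hx).2))
      refine pPow_of_conj hpr (th_mem_range (α := θ) hs) fun y hy => ?_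
      obtain ⟨⟨x, hxS⟩, hxe⟩ := hP' hy
      have hxy : th θ x = y := by rw [th_apply hxS]; exact hxe
      subst hxy
      have hxP : x ∈ preimageAlong θ P' := mem_preimageAlong.2 ⟨hxS, hy⟩
      rw [hge x hxP, hse x hxP, th_mul (S.mul_mem hs hxS) (S.inv_mem hs), th_mul hs hxS, th_inv hs]
    have hnE := ihn _ hcard θ.range rfl hpr _ E rfl hEs D' hD'sc hEloc
    by_cases hcent : centralizerIn S Q₀ ≤ Q₀
    · -- constrained: use the model
      obtain ⟨G, _, ι, hG⟩ := exists_model hS ⟨hF, Q₀, hQ₀, normal_centric hQ₀ hcent⟩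
      obtain ⟨pj, hpj, -⟩ := exists_model_proj (hQ := hQ₀) hG
      obtain ⟨hfin, hι, ⟨T, hT⟩, hce⟩ := id hG
      have hpc : IsPGroup p (pCore p G) := LocalEven.SylowIn.isPGroup_pCore G p
      have hpcn := LocalEven.SylowIn.pCore_normal G p
      have hcore_le : pCore p G ≤ (Q₀.subgroupOf S).map ι := by
        have hrange : pCore p G ≤ ι.range := hT ▸ hpc.le_sylow_of_normal T
        have hle := le_core (normal_of_normal_realized hι hrange)
        intro g hg
        obtain ⟨x, rfl⟩ := hrange hg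
        exact ⟨x, hle ⟨x, hg, rfl⟩, rfl⟩
      have hle_core : (Q₀.subgroupOf S).map ι ≤ pCore p G := by
        refine le_sSup ⟨⟨?_⟩, (hS.to_subgroup _).map ι⟩
        rintro _ ⟨x, hx, rfl⟩ g
        refine ⟨⟨aFn (pj g) x, hQ₀.1 (aFn_mem _ hx)⟩, aFn_mem (pj g) hx, ?_⟩
        rw [hpj g x hx, mul_inv_cancel_right]
      let DG := (D.subgroupOf S).map ι
      have hmemD : ∀ {x : S}, ι x ∈ DG ↔ (x : Ω) ∈ D := fun {x} =>
        Subgroup.mem_map_iff_mem hι.1
      have hWG : centerThompsonAOf DG = (W'.subgroupOf S).map ι := by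
        have h1 := centerThompsonAOf_map ι hι.1 (D.subgroupOf S)
        show centerThompsonAOf ((D.subgroupOf S).map ι) = _
        rw [h1]
        congr 1
        apply Subgroup.map_injective S.subtype_injective
        rw [Subgroup.map_subgroupOf_eq_of_le (hW'D.trans hD.1)]
        have := finite_of_le_base hD.1
        rw [hW', ← wOf_zjA' D, ← wOf_zjA (D.subgroupOf S)]
        unfold wOf
        rw [Subgroup.map_map]
        let e : D.subgroupOf S ≃* D := Subgroup.subgroupOfEquivOfLe hD.1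
        show _ = Subgroup.map D.subtype (zjA D)
        rw [← zjA_map _ _ ((hS.to_subgroup _)) e, Subgroup.map_map]
        rfl
      have hTnD : (T : Subgroup G) ≤ Subgroup.normalizer (DG : Set G) := by
        intro t ht
        obtain ⟨s, rfl⟩ := hT.le ht
        refine mem_normalizer_iff'.2 ⟨?_, ?_⟩
        · rintro _ ⟨x, hx, rfl⟩
          exact ⟨s * x * s⁻¹, sc_conj hD s.2 hx, by simp⟩
        · rintro _ ⟨x, hx, rfl⟩
          refine ⟨s⁻¹ * x * s, ?_, by simp⟩
          have h := sc_conj hD (S.inv_mem s.2) (x := (x : Ω)) hx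
          show ((s⁻¹ * x * s : S) : Ω) ∈ D
          simpa using h
      have hDT : DG ≤ (T : Subgroup G) := hT ▸ Subgroup.map_le_range ι _
      have hBn : (DG ⊓ pCore p G).Normal := ⟨by
        rintro _ ⟨⟨x, hx, rfl⟩, hxQ⟩ g
        obtain ⟨y, hy, hye⟩ := hcore_le hxQ
        obtain rfl := hι.1 hye
        have h1 : g * ι y * g⁻¹ = ι ⟨aFn (pj g) y, hQ₀.1 (aFn_mem _ hy)⟩ := by
          rw [hpj g y hy, mul_inv_cancel_right]
        rw [h1]
        exact ⟨hmemD.2 ((stronglyClosed_iff_fn.1 hD).2 _ _ (fn_aFn hQ₀.1 (pj g)) _ hy hx),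
          h1 ▸ hpcn.conj_mem _ hxQ g⟩⟩
      have hN : Subgroup.normalizer (centerThompsonAOf DG : Set G) ≤ T := by
        rw [hWG]
        have hTN : (T : Subgroup G) ≤ Subgroup.normalizer ((W'.subgroupOf S).map ι : Set G) := by
          intro t ht
          obtain ⟨s, rfl⟩ := hT.le ht
          have hn' := normalizerIn_le_zjA hS hD.1 ⟨s.2, hDn s.2⟩
          have hfw := finite_of_le_base (hW'D.trans hD.1)
          refine mem_normalizer_iff'.2 ⟨?_, ?_⟩
          · rintro _ ⟨x, hx, rfl⟩
            exact ⟨s * x * s⁻¹, (mem_normalizer_iff'.1 hn'.2).1 _ hx, by simp⟩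
          · rintro _ ⟨x, hx, rfl⟩
            refine ⟨s⁻¹ * x * s, ?_, by simp⟩
            exact (mem_normalizer_iff'.1 hn'.2).2 _ hx
        have hNp : IsPGroup p (Subgroup.normalizer ((W'.subgroupOf S).map ι : Set G)) := by
          rintro ⟨g, hg⟩
          let P := Q₀ ⊔ W'
          have hPS : P ≤ S := sup_le hQ₀.1 (hW'D.trans hD.1)
          have hgP : ∀ x : P, ∃ y : S, (y : Ω) ∈ P ∧ g * ι ⟨x, hPS x.2⟩ * g⁻¹ = ι y := by
            have h2 : P.subgroupOf S ≤ (((P.subgroupOf S).map ι).comap (MulAut.conj g).toMonoidHom).comap ι := by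
              rw [Subgroup.subgroupOf_sup hQ₀.1 (hW'D.trans hD.1)]
              refine sup_le (fun x hx => ?_) fun x hx => ?_
              · refine ⟨⟨aFn (pj g) x, hQ₀.1 (aFn_mem _ hx)⟩, ?_, ?_⟩
                · exact Subgroup.mem_sup_left (show (⟨aFn (pj g) (x : Ω), hQ₀.1 (aFn_mem _ hx)⟩ : S) ∈ Q₀.subgroupOf S
                    from aFn_mem (pj g) hx)
                · show _ = g * ι x * g⁻¹
                  rw [hpj g x hx, mul_inv_cancel_right]
              · obtain ⟨y, hy, hye⟩ := (Subgroup.mem_normalizer_iff.1 hg _).1 (Subgroup.mem_map_of_mem ι hx)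
                exact ⟨y, Subgroup.mem_sup_right hy, hye⟩
            intro x
            obtain ⟨y, hy, hye⟩ := h2 (x := ⟨x, hPS x.2⟩) x.2
            exact ⟨y, hy, hye.symm⟩
          choose y hyP hye using hgP
          let φ : P →* Ω := MonoidHom.mk' (fun x => (y x : Ω)) fun a b => by
            show ((y (a * b) : S) : Ω) = (y a : S) * (y b : S)
            rw [← Subgroup.coe_mul]
            refine congrArg Subtype.val (hι.1 ?_)
            rw [map_mul, ← hye, ← hye, ← hye]
            show g * ι (⟨a, hPS a.2⟩ * ⟨b, hPS b.2⟩) * g⁻¹ = _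
            rw [map_mul]
            group
          have hφ : φ ∈ F.Hom P := (hι.2 P hPS φ fun x => (y x).2).2 ⟨g, fun x => (hye x).symm⟩
          have hf : Fn F P (ofHom φ) := fn_ofHom hφ
          obtain ⟨α, hα, hαe⟩ := exists_aut_of_fn hf (hf.img_eq_self fun x hx => by
            rw [ofHom_apply φ hx]; exact hyP _)
          have hαy : ∀ x : P, autFn α x = (y x : Ω) := fun x => by
            rw [autFn_coe, hαe, ofHom_apply φ x.2]
            rfl
          have hαW : img (autFn α) W' = W' := by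
            refine (((mem_autGroup_iff_fn hPS).1 hα).mono le_sup_right).img_eq_self fun x hx => ?_
            rw [show autFn α x = _ from hαy ⟨x, Subgroup.mem_sup_right hx⟩]
            obtain ⟨z, hz, hze⟩ := (Subgroup.mem_normalizer_iff.1 hg _).1 (Subgroup.mem_map_of_mem ι
              (show (⟨x, hPS (Subgroup.mem_sup_right hx)⟩ : S) ∈ W'.subgroupOf S from hx))
            exact (show z = y ⟨x, Subgroup.mem_sup_right hx⟩ from hι.1 (hze.trans (hye ⟨x, _⟩))) ▸ hz
          obtain ⟨k, hk⟩ := hloc P hPS le_sup_right α hα hαW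
          have hsem : ∀ q ∈ Q₀, autFn α (id q) = id (autFn (pj g : MulAut Q₀) q) := fun q hq => by
            rw [id, id, hαy ⟨q, Subgroup.mem_sup_left hq⟩]
            refine congrArg Subtype.val (hι.1 (a₂ := ⟨aFn (pj g) q, hQ₀.1 (aFn_mem _ hq)⟩) ?_)
            rw [← hye, hpj g q hq, mul_inv_cancel_right]
          have hpg : pj (g ^ p ^ k) = 1 := by
            rw [map_pow]
            refine Subtype.ext ?_
            rw [SubgroupClass.coe_pow]
            exact pow_eq_one_of_semiconj (fn_id (F := F) hQ₀.1) (fun q hq => Subgroup.mem_sup_left hq) hsem hk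
          obtain ⟨z, -, hz⟩ := model_proj_ker (hQ := hQ₀) (normal_centric hQ₀ hcent) hG hpj hpg
          obtain ⟨j, hj⟩ := hS z
          exact ⟨k + j, Subtype.ext (by
            rw [SubgroupClass.coe_pow, pow_add, pow_mul]
            show (g ^ p ^ k) ^ p ^ j = 1
            rw [hz, ← map_pow, hj, map_one])⟩
        exact (T.3 hNp hTN).le
      have hq : ∀ N : Subgroup G, ∀ [N.Normal], N = pCore p G → HasNormalPComplement p (G ⧸ N) := by
        intro N _ hNe
        have hqs := QuotientGroup.mk'_surjective N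
        refine Fusion.Transfer.npc_of_controls_self (T.mapSurjective hqs) fun a ha g' hga => ?_
        obtain ⟨t, ht, rfl⟩ := (Sylow.coe_mapSurjective hqs T).le ha
        obtain ⟨g, rfl⟩ := hqs g'
        obtain ⟨t', ht', ht'e⟩ := (Sylow.coe_mapSurjective hqs T).le hga
        rw [← map_inv, ← map_mul, ← map_mul] at ht'e
        have hgt : g * t * g⁻¹ ∈ (T : Subgroup G) := by
          have h1 : t'⁻¹ * (g * t * g⁻¹) ∈ N := QuotientGroup.eq.1 ht'e
          have h2 := (T : Subgroup G).mul_mem ht' ((hpc.le_sylow_of_normal T) (hNe ▸ h1))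
          rwa [mul_inv_cancel_left] at h2
        obtain ⟨x, rfl⟩ := hT.le ht
        obtain ⟨y, hy⟩ := hT.le hgt
        let P := Subgroup.zpowers (x : Ω)
        have hPS : P ≤ S := Subgroup.zpowers_le.2 x.2
        have hgP : ∀ z : P, ∃ w : S, ι w = g * ι ⟨z, hPS z.2⟩ * g⁻¹ := fun z => by
          obtain ⟨i, hi⟩ := Subgroup.mem_zpowers_iff.1 z.2
          refine ⟨y ^ i, ?_⟩
          rw [map_zpow, hy, show (⟨z, hPS z.2⟩ : S) = x ^ i from Subtype.ext (by rw [← hi]; simp), map_zpow, conj_zpow]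
        choose w hw using hgP
        let φ : P →* Ω := MonoidHom.mk' (fun z => (w z : Ω)) fun a b => by
          show ((w (a * b) : S) : Ω) = (w a : S) * (w b : S)
          rw [← Subgroup.coe_mul]
          refine congrArg Subtype.val (hι.1 ?_)
          rw [map_mul, hw, hw, hw]
          show g * ι (⟨a, hPS a.2⟩ * ⟨b, hPS b.2⟩) * g⁻¹ = _
          rw [map_mul]
          group
        have hφ : φ ∈ F.Hom P := (hι.2 P hPS φ fun z => (w z).2).2 ⟨g, hw⟩
        obtain ⟨χ, hχ, hχe⟩ := exists_extend_mod hS hF hsc₀ (fn_ofHom hφ)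
        obtain ⟨φ', hφ'⟩ := exists_inducedHom hχ fun z hz h => sc_th_one hsc₀ hker hχ hz h
        have hrng : imageAlong θ (P ⊔ Q₀) ≤ θ.range := fun z hz => by
          obtain ⟨v, -, hvS, rfl⟩ := mem_imageAlong.1 hz
          exact th_mem_range hvS
        have e : preimageAlong θ (imageAlong θ (P ⊔ Q₀)) = P ⊔ Q₀ := by
          refine le_antisymm (fun v hv => ?_) (le_preimageAlong hχ.le)
          obtain ⟨hvS, hvi⟩ := mem_preimageAlong.1 hv
          obtain ⟨z, hz, hzS, he⟩ := mem_imageAlong.1 hvi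
          have : z⁻¹ * v ∈ Q₀ := (hker _ (S.mul_mem (S.inv_mem hzS) hvS)).1 (by
            rw [th_mul (S.inv_mem hzS) hvS, th_inv hzS, he, inv_mul_cancel])
          simpa using (P ⊔ Q₀).mul_mem hz (Subgroup.mem_sup_right this)
        have hfn : Fn E (imageAlong θ (P ⊔ Q₀)) (ofHom φ') :=
          (factor_fn hsc₀ hE).2 ⟨hrng, χ, by rwa [e], by rw [e]; exact hφ'⟩
        obtain ⟨_, ⟨⟨s, rfl⟩, hse⟩⟩ := exists_conj_of_pAut hpr hEs hnE hfn
        refine ⟨QuotientGroup.mk' N (ι s), (Sylow.coe_mapSurjective hqs T).ge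
          (Subgroup.mem_map_of_mem _ (hT.ge ⟨s, rfl⟩)), ?_⟩
        have hxP : (x : Ω) ∈ P ⊔ Q₀ := Subgroup.mem_sup_left (Subgroup.mem_zpowers _)
        have h1 := hse _ (th_mem_imageAlong hxP x.2)
        rw [hφ' _ hxP, th_apply (hχ.mem hxP), th_apply x.2] at h1
        have h2 : θ ⟨χ x, hχ.mem hxP⟩ = θ (s * x * s⁻¹) := by rw [map_mul, map_mul, map_inv]; exact h1
        have h3 := QuotientGroup.eq.1 h2
        have hxz : (x : Ω) ∈ P := Subgroup.mem_zpowers _
        have h4 := hχe _ hxz
        rw [ofHom_apply φ hxz] at h4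
        have hy' : w ⟨x, hxz⟩ = y := hι.1 ((hw ⟨x, hxz⟩).trans hy.symm)
        have h5 : (y : Ω)⁻¹ * ((s * x * s⁻¹ : S) : Ω) ∈ Q₀ := by
          have h6 := Q₀.mul_mem h4 (show ((χ x)⁻¹ * ((s * x * s⁻¹ : S) : Ω)) ∈ Q₀ from h3)
          have h7 : (φ ⟨x, hxz⟩ : Ω) = (y : Ω) := congrArg Subtype.val hy'
          rw [h7] at h6
          simpa [mul_assoc] using h6
        have h8 : ι (y⁻¹ * (s * x * s⁻¹)) ∈ N :=
          hNe ▸ hle_core (Subgroup.mem_map_of_mem ι (show (y⁻¹ * (s * x * s⁻¹) : S) ∈ Q₀.subgroupOf S from h5))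
        rw [← map_inv, ← map_mul, ← map_mul, ← map_inv, ← map_mul, ← map_mul, eq_comm]
        refine QuotientGroup.eq.2 ?_
        rw [map_mul, map_inv, hy, map_mul, map_mul, map_inv] at h8
        simp only [map_mul, map_inv]
        exact h8
      rcases le_pCore_of_zjA hp T DG hDT hTnD hBn hce hN hq with h | htop
      · refine absurd (fun x hx => ?_) hDQ
        obtain ⟨y, hy, hye⟩ := hcore_le (h (Subgroup.mem_map_of_mem ι (show (⟨x, hD.1 hx⟩ : S) ∈ D.subgroupOf S from hx)))
        obtain rfl := hι.1 hye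
        exact hy
      · intro P hP α hα
        obtain ⟨φ, hφ, hφe⟩ := (mem_autGroup_iff_fn hP).1 hα
        obtain ⟨g, hg⟩ := (hι.2 P hP φ fun x => (F.le_of_mem hφ).2 x).1 hφ
        obtain ⟨s, rfl⟩ : g ∈ ι.range := hT ▸ htop ▸ Subgroup.mem_top g
        refine pPow_of_conj hS s.2 fun x hx => ?_
        rw [← hφe ⟨x, hx⟩]
        have h := hg ⟨x, hx⟩
        rw [← map_inv, ← map_mul, ← map_mul] at h
        exact congrArg Subtype.val (hι.1 h)
    · obtain ⟨F₂, hF₂s, hF₂F, -, hF₂m, hF₂i⟩ := exists_innerOn hS hF hQ₀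
      by_cases hall : F ≤ F₂
      · exact pAut_of_factor hS hsc₀ (fun hf => hF₂i (fn_of_le hall hf)) hE hnE
      · have hsc₁ : F.StronglyClosed (Q₀ ⊔ centralizerIn S Q₀) := stronglyClosed_sup_centralizer hS hF hsc₀
        have hN₁ := conj_of_proper_normalizer hS hF ihF
          (fullyNormalized_of_weaklyClosed (weaklyClosed_of_stronglyClosed hsc₁))
          (inf_eq_left.2 (sc_le_normalizer hsc₁)) fun hle => hcent (le_sup_right.trans hle)
        exact pAut_of_frattini hS hF hQ₀ (fun P f hf hle => hN₁ hf hle (sc_img hsc₁ hle hf)) fun P f hf hle hs =>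
          exists_conj_of_pAut hS hF₂s (ihF F₂ hF₂F hall hF₂s) (hF₂m hf hle hs)
  -- trivial core
  push_neg at hQ₀1
  have hD1 : D ≠ ⊥ := fun h => hDQ (h.le.trans bot_le)
  have hDZ : ∀ U : Subgroup Ω, U ≤ S → D ⊓ normalizerIn S U ≠ ⊥ := by
    intro U hUS
    have hN : (D.subgroupOf S).Normal := ⟨fun x hx s => sc_conj hD s.2 hx⟩
    have := hS.isNilpotent
    have hne := CfsgLib.Solvable.FrattiniFitting.inf_center_ne_bot (D.subgroupOf S)
      (fun h => hD1 (by rw [← Subgroup.map_subgroupOf_eq_of_le hD.1, h, Subgroup.map_bot]))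
    intro hbot
    refine hne ((Subgroup.eq_bot_iff_forall _).2 fun z hz => Subtype.ext ?_)
    have hzN : (z : Ω) ∈ D ⊓ normalizerIn S U := ⟨hz.1, centralizerIn_le_normalizerIn
      (mem_centralizerIn.2 ⟨z.2, fun y hy =>
        congrArg Subtype.val (Subgroup.mem_center_iff.1 hz.2 ⟨y, hUS hy⟩)⟩)⟩
    rw [hbot, Subgroup.mem_bot] at hzN
    exact hzN
  have hlev : ∀ k : ℕ, ∀ U : Subgroup Ω, U ≠ ⊥ → F.IsFullyNormalized U →
      Nat.card S - Nat.card (normalizerIn S U) < k →
      ∀ P : Subgroup Ω, U ≤ P → P ≤ normalizerIn S U → ∀ α ∈ F.autGroup P, img (autFn α) U = U →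
        ∃ i, α ^ p ^ i = 1 := by
    intro k
    induction k with
    | zero => exact fun U _ _ h => absurd h (Nat.not_lt_zero _)
    | succ k ih =>
      intro U hU1 hUn hUk P hUP hPR α hα hαU
      set R := normalizerIn S U with hRdef
      have hRS : R ≤ S := normalizerIn_le
      have hPS : P ≤ S := hPR.trans hRS
      have hfα := (mem_autGroup_iff_fn hPS).1 hα
      rcases eq_or_lt_of_le hRS with he | hlt
      · obtain ⟨s, hs, hse⟩ := conj_of_proper_normalizer hS hF ihF hUn he
          (fun hle => hU1 (le_bot_iff.1 (hQ₀1 ▸ hle))) hfα hUP hαU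
        exact pPow_of_conj hS hs hse
      have hfinR := finite_of_le_base hRS
      obtain ⟨M, hM⟩ := exists_normalizerSystem F hUn.1
      have hMs := normalizerSystem_saturated hS hF hUn hM
      have hMD : M.StronglyClosed (D ⊓ R) := stronglyClosed_iff_fn.2 ⟨inf_le_right, fun Q f hf x hx hxD =>
        ⟨(stronglyClosed_iff_fn.1 hD).2 _ _ (hf.of_subsystem (normalizerSystem_sub hM)) x hx hxD.1, hf.mem hx⟩⟩
      have hMloc : LocPAut p M (centerThompsonAOf (D ⊓ R)) := by
        intro P₁ hP₁ hWP₁ α₁ hα₁ hα₁W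
        have hP₁S : P₁ ≤ S := hP₁.trans hRS
        have hα₁F : α₁ ∈ F.autGroup P₁ := (mem_autGroup_iff_fn hP₁S).2
          (((mem_autGroup_iff_fn hP₁).1 hα₁).of_subsystem (normalizerSystem_sub hM))
        set W₁ := centerThompsonAOf (D ⊓ R) with hW₁
        have hW₁S : W₁ ≤ S := (centerThompsonAOf_le _).trans (inf_le_left.trans hD.1)
        have := finite_of_le_base ((inf_le_left : D ⊓ R ≤ D).trans hD.1)
        have hW₁1 : W₁ ≠ ⊥ := by
          rw [hW₁, ← wOf_zjA' (D ⊓ R)]
          exact wOf_ne_bot zjA_ne_bot (hS.to_le (inf_le_left.trans hD.1)) (hDZ U hUn.1)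
        have hbig : R < normalizerIn S W₁ := by
          obtain ⟨s, hs, hsN, hsR⟩ := exists_mem_normalizer_not_mem hS le_rfl hlt
          have hR_le : ∀ r ∈ normalizerIn S R, r ∈ normalizerIn S W₁ := fun r hr => by
            refine normalizerIn_le_zjA hS (inf_le_left.trans hD.1) ⟨hr.1, ?_⟩
            have hn1 := hDn hr.1
            exact Subgroup.inf_normalizer_le_normalizer_inf ⟨hn1, hr.2⟩
          exact lt_of_le_of_ne (fun r hr => hR_le r ⟨hRS hr, Subgroup.le_normalizer hr⟩)
            fun e => hsR (e.ge (hR_le s hsN))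
        obtain ⟨W₂, hW₁₂, hW₂n⟩ := exists_fullyNormalized (F := F) hW₁S
        obtain ⟨hauto, hcen⟩ := fullyNormalized_good hS hF hW₂n
        obtain ⟨c, hc, hcn, hci⟩ := exists_normalizer_map hS hauto (fullyCentralized_receptive hS hF hcen) hW₁₂
        have hN1S : normalizerIn S W₁ ≤ S := normalizerIn_le
        have hcard1 : Nat.card R < Nat.card (normalizerIn S W₁) := by
          have := finite_of_le_base hN1S
          exact card_lt_of_lt' hbig
        have hc2 : Nat.card (normalizerIn S W₁) ≤ Nat.card (normalizerIn S W₂) :=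
          card_le_of_map_le normalizerIn_le hc hcn
        have hle3 : Nat.card (normalizerIn S W₂) ≤ Nat.card S := Subgroup.card_le_of_le normalizerIn_le
        have hW₂1 : W₂ ≠ ⊥ := fun h => hW₁1 (by
          have h1 := isConj_card hW₁₂
          rw [h, Subgroup.card_bot] at h1
          have := finite_of_le_base hW₁S
          exact Subgroup.card_eq_one.1 h1.symm)
        have hP₁N : P₁ ≤ normalizerIn S W₁ := hP₁.trans hbig.le
        obtain ⟨β, hβ, hβe⟩ := exists_transport_aut hc hP₁N hα₁F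
        have hW₂P : W₂ ≤ img c P₁ := hci.ge.trans (img_mono hWP₁)
        have hfix : img (autFn β) W₂ = W₂ := by
          have hsub : img c P₁ ≤ S := (hc.mono hP₁N).img_le_base
          refine (((mem_autGroup_iff_fn hsub).1 hβ).mono hW₂P).img_eq_self fun y hy => ?_
          obtain ⟨x, hx, rfl⟩ := (hc.mono (le_normalizerIn hW₁S)).mem_img.1 (hci.ge hy)
          rw [hβe x (hWP₁ hx)]
          exact hci.le (mem_img_of_mem (hα₁W.le (mem_img_of_mem hx)))
        obtain ⟨i, hi⟩ := ih W₂ hW₂1 hW₂n (by omega) _ hW₂P (img_le fun x hx => hcn x (hP₁N hx)) β hβ hfix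
        exact ⟨i, pow_eq_one_of_semiconj (hc.mono hP₁N) (fun x hx => mem_img_of_mem hx) hβe hi⟩
      refine ihn _ (hn ▸ card_lt_of_lt' hlt) R rfl (hS.to_le hRS) _ M rfl hMs _ hMD hMloc P hPR α ?_
      refine (mem_autGroup_iff_fn hPR).2 ((fn_normalizerSystem hM).2 ⟨hPR, fun x hx => hPR (autFn_mem α hx),
        autFn α, by rwa [sup_eq_left.2 hUP], fun x _ => rfl, hαU⟩)
  intro P hP α hα
  by_cases hP1 : P = ⊥
  · exact ⟨0, mulAut_ext fun x hx => by
      rw [autFn_id hx]
      have h1 := autFn_mem (α ^ p ^ 0) hx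
      subst hP1
      exact (Subgroup.mem_bot.1 h1).trans (Subgroup.mem_bot.1 hx).symm⟩
  obtain ⟨P', hPP', hP'n⟩ := exists_fullyNormalized (F := F) hP
  obtain ⟨hauto, hcen⟩ := fullyNormalized_good hS hF hP'n
  obtain ⟨c, hc, hcn, hci⟩ := exists_normalizer_map hS hauto (fullyCentralized_receptive hS hF hcen) hPP'
  have hPN := le_normalizerIn (S := S) hP
  obtain ⟨β, hβ, hβe⟩ := exists_transport_aut hc hPN hα
  have hP'1 : img c P ≠ ⊥ := fun h => hP1 (by
    have h1 := (hc.mono hPN).card_img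
    rw [h, Subgroup.card_bot] at h1
    have := finite_of_le_base hP
    exact Subgroup.card_eq_one.1 h1.symm)
  have hn' : F.IsFullyNormalized (img c P) := hci.symm ▸ hP'n
  obtain ⟨i, hi⟩ := hlev _ (img c P) hP'1 hn' (Nat.lt_succ_self _) _ le_rfl
    (le_normalizerIn hn'.1) β hβ (img_autFn β)
  exact ⟨i, pow_eq_one_of_semiconj (hc.mono hPN) (fun x hx => mem_img_of_mem hx) hβe hi⟩

end CfsgLib.Fsys
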